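import Cfsg.Agent.SM.Sy.Form

/-!
# SM (S3570), symplectic socles: tools for the frame (helper92)

* `exists_fr`, `exists_fr'` : a frame exists;
* `mem_pre`, `mem_hat`, `fac`, `facL`, `conj_sp`, `conj_A / N / C` : the dictionary;
* `stabC`, `stabH`, `prim` (groups of permutations of the vectors), `eqC`, `eqN`, `eqA` (subgroups of `Sp`) : maximality;
* `cen`, `iota`, `iota_set`, orders, `isoS`, `isoA`, `asN`, `maxN`, `maxC`, `mem_mx`.
-/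

set_option autoImplicit false
set_option linter.unusedSectionVars false
set_option linter.unusedVariables false
set_option maxHeartbeats 400000

namespace Cfsg.Agent.SM.Sy

open Cfsg Equiv Subgroup MulAction Module QuadraticMap Matrix
open Cfsg.Agent.ClassicalGeometry.SympBasic
open Cfsg.Agent.ClassicalGeometry.SympAutSemi
open Cfsg.Agent.H925.Rs (Isos spE prS preS tvE)
open Cfsg.Agent.LieClassical.OrthCore (O E)

section lin

variable {m : ℕ} {F : Type} [Field F]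

theorem ff_apply (u v : VV m F) : ff m F u v = sympForm m F u v := rfl

theorem ff_swap (u v : VV m F) : ff m F u v = - ff m F v u := by
  have h := ff_self (u + v)
  rw [map_add, LinearMap.map_add₂, LinearMap.map_add₂, ff_self, ff_self, zero_add, add_zero] at h
  exact eq_neg_of_add_eq_zero_right h

theorem ff_nd {u : VV m F} (h : ∀ v, ff m F u v = 0) : u = 0 := eq_zero_of_forall_sympForm_right h

theorem ff_nd' {u : VV m F} (h : ∀ v, ff m F v u = 0) : u = 0 := eq_zero_of_forall_sympForm_left h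

theorem mem_Sp {g : GG m F} : g ∈ Sp m F ↔ ∀ u v, ff m F (g u) (g v) = ff m F u v := Iff.rfl

theorem pm_injective : Function.Injective (pm (m := m) (F := F)) := fun _ _ h =>
  LinearEquiv.ext fun v => congrArg (fun z : Perm (VV m F) => z v) h

theorem isSemi_pm {g : GG m F} (hg : g ∈ Sp m F) : IsSemi (pm g) (RingEquiv.refl F) 1 :=
  ⟨fun u v => map_add g u v, fun a v => map_smul g a v, fun u v => (hg u v).trans (one_mul _).symm⟩

theorem exists_pm {g : Perm (VV m F)} (h : IsSemi g (RingEquiv.refl F) 1) : ∃ x ∈ Sp m F, pm x = g := by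
  obtain ⟨A, hA⟩ := exists_rho_eq g h.1 h.2.1 fun u v => (h.2.2 u v).trans (one_mul _)
  exact ⟨(spE A).1, (spE A).2, hA⟩

theorem pm_spE (A : symplecticGroup (Fin m) F) : pm (spE A).1 = rho m F A := rfl

theorem tv_eq (v : VV m F) (c : F) : (tvE v c).1 = tv v c :=
  LinearEquiv.ext fun x => (H925.Rs.tvE_apply v x c).trans (tv_apply v c x).symm

theorem IsSemi.zero {g : Perm (VV m F)} {σ : F ≃+* F} {l : F} (h : IsSemi g σ l) : g 0 = 0 := by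
  have h0 := h.2.1 0 0
  rwa [zero_smul, map_zero σ, zero_smul] at h0

/-- conjugation of `Sp` by a semisimilitude -/
theorem semi_conj {g : Perm (VV m F)} (hg : g ∈ semiSim m F) {x : GG m F} (hx : x ∈ Sp m F) :
    ∃ y ∈ Sp m F, pm y = g * pm x * g⁻¹ := by
  obtain ⟨A, hA⟩ := exists_conj ⟨g, hg⟩ (spE.symm ⟨x, hx⟩)
  refine ⟨(spE A).1, (spE A).2, ?_⟩
  rw [pm_spE, hA, ← pm_spE, MulEquiv.apply_symm_apply]

theorem exists_ff (hm : 1 ≤ m) : ∃ u v : VV m F, ff m F u v = 1 :=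
  ⟨Pi.single (Sum.inr ⟨0, hm⟩) 1, Pi.single (Sum.inl ⟨0, hm⟩) 1, by
    rw [ff_apply, sympForm_single_inr_left, Pi.single_eq_same]⟩

theorem exists_ff_ne {v : VV m F} (hv : v ≠ 0) : ∃ x, ff m F x v = 1 := by
  obtain ⟨x, hx⟩ : ∃ x, ff m F x v ≠ 0 := by
    by_contra h
    push Not at h
    exact hv (ff_nd' h)
  exact ⟨(ff m F x v)⁻¹ • x, by rw [LinearMap.map_smul₂, smul_eq_mul, inv_mul_cancel₀ hx]⟩

/-- the automorphism and the multiplier of a semisimilitude are unique -/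
theorem IsSemi.uniq (hm : 1 ≤ m) {g : Perm (VV m F)} {σ τ : F ≃+* F} {l k : F} (h : IsSemi g σ l) (h' : IsSemi g τ k) :
    σ = τ ∧ l = k := by
  obtain ⟨u, v, huv⟩ := exists_ff (F := F) hm
  have hu : g u ≠ 0 := fun h0 => by
    have h1 : u = 0 := g.injective (h0.trans (IsSemi.zero h).symm)
    rw [h1, LinearMap.map_zero₂] at huv
    exact zero_ne_one huv
  have h1 := (h.2.2 u v).symm.trans (h'.2.2 u v)
  rw [← ff_apply, huv, map_one, map_one, mul_one, mul_one] at h1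
  exact ⟨RingEquiv.ext fun a => smul_left_injective F hu ((h.2.1 a u).symm.trans (h'.2.1 a u)), h1⟩

/-- scalars in `Sp` -/
theorem sq_of_scalar (hm : 1 ≤ m) {x : GG m F} (hx : x ∈ Sp m F) {c : F} (h : ∀ v, x v = c • v) : c * c = 1 := by
  obtain ⟨u, v, huv⟩ := exists_ff (F := F) hm
  have h1 := hx u v
  rwa [h, h, LinearMap.map_smul₂, map_smul, huv, smul_eq_mul, smul_eq_mul, mul_one] at h1

theorem eq_one_of_scalar (hm : 1 ≤ m) (h2 : (2 : F) = 0) {x : GG m F} (hx : x ∈ Sp m F) {c : F} (h : ∀ v, x v = c • v) :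
    x = 1 := by
  have h1 := sq_of_scalar hm hx h
  have h3 : (c - 1) * (c - 1) = 0 := by linear_combination h1 + (1 - c) * h2
  have h4 : c = 1 := sub_eq_zero.1 (mul_self_eq_zero.1 h3)
  exact LinearEquiv.ext fun v => by rw [h, h4, one_smul]; rfl

theorem mx_apply (g : GG m F) (v : VV m F) : (mx g : Matrix _ _ F) *ᵥ v = g v := H449.Reg.cj_apply _ g v

theorem mem_mx {g : GG m F} : mx g ∈ spGL m F ↔ g ∈ Sp m F := by
  refine forall₂_congr fun u v => ?_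
  show sympForm m F ((mx g : Matrix _ _ F) *ᵥ u) ((mx g : Matrix _ _ F) *ᵥ v) = _ ↔ _
  rw [mx_apply, mx_apply]
  rfl

theorem map_mx : (Sp m F).map (mx (m := m) (F := F)).toMonoidHom = spGL m F := by
  ext A
  obtain ⟨g, rfl⟩ := (mx (m := m) (F := F)).surjective A
  exact (mem_map_iff_mem (f := (mx (m := m) (F := F)).toMonoidHom) mx.injective).trans mem_mx.symm

theorem perf_Sp [Fintype F] (hm : 2 ≤ m) (ex : m = 2 → 3 ≤ Fintype.card F) : commutator (Sp m F) = ⊤ := by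
  have h1 := LieClassical.SympPerfect.commutator_eq_top (F := F) (m := m) (by
    rcases hm.eq_or_lt with h | h
    · exact Or.inr (Or.inl ⟨h.symm, ex h.symm⟩)
    · exact Or.inl h)
  have h3 : (⊤ : Subgroup (symplecticGroup (Fin m) F)).map (spE (F := F) (m := m)).toMonoidHom = ⊤ :=
    Subgroup.map_top_of_surjective _ (MulEquiv.surjective (spE (F := F) (m := m)))
  have h2 : (commutator (symplecticGroup (Fin m) F)).map (spE (F := F) (m := m)).toMonoidHom = commutator (Sp m F) := by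
    rw [commutator_def, commutator_def, Subgroup.map_commutator, h3]
  rw [← h2, h1, h3]

/-- a semisimilitude which commutes with all transvections up to sign is a scalar -/
theorem scalar_of_tv (hm : 2 ≤ m) {g : Perm (VV m F)} (hg : g ∈ semiSim m F)
    (h : ∀ v : VV m F, ∃ c : F, ∀ x, g (tv v 1 x) = c • tv v 1 (g x)) : ∃ c : F, ∀ v, g v = c • v := by
  obtain ⟨σ, l, hl, hs⟩ := hg
  have hline : ∀ v, ∃ a : F, g v = a • v := by
    intro v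
    by_cases hv : v = 0
    · exact ⟨0, by rw [hv, IsSemi.zero hs, smul_zero]⟩
    obtain ⟨c, hc⟩ := h v
    have hc' : ∀ x, g x + σ (ff m F x v) • g v = c • (g x + ff m F (g x) v • v) := fun x => by
      have := hc x
      rwa [tv_apply, tv_apply, hs.1, hs.2.1, one_mul, one_mul] at this
    by_cases h1 : c = 1
    · obtain ⟨x, hx⟩ := exists_ff_ne hv
      have h2 := hc' x
      rw [h1, one_smul, hx, map_one, one_smul, add_right_inj] at h2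
      exact ⟨_, h2⟩
    · have h2 := hc' v
      rw [ff_self, map_zero, zero_smul, add_zero, smul_add, smul_smul] at h2
      refine ⟨(1 - c)⁻¹ * (c * ff m F (g v) v), ?_⟩
      have h3 : (1 - c) • g v = (c * ff m F (g v) v) • v := by
        rw [sub_smul, one_smul]
        exact sub_eq_of_eq_add' h2
      rw [mul_smul, ← h3, smul_smul, inv_mul_cancel₀ (sub_ne_zero.2 (Ne.symm h1)), one_smul]
  exact H925.Rs.scalar_of_lines (M := g) hs.1 hline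
    (u₀ := Pi.single (Sum.inr ⟨0, by omega⟩) 1) (v₀ := Pi.single (Sum.inl ⟨0, by omega⟩) 1) (by
      intro a b hab
      have h1 := congrFun hab (Sum.inr ⟨0, by omega⟩)
      have h2 := congrFun hab (Sum.inl ⟨0, by omega⟩)
      simp only [Pi.add_apply, Pi.smul_apply, Pi.zero_apply, smul_eq_mul, Pi.single_eq_same, mul_one, Pi.single_eq_of_ne
        (Sum.inr_ne_inl), Pi.single_eq_of_ne (Sum.inl_ne_inr), mul_zero, add_zero, zero_add] at h1 h2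
      exact ⟨h1, h2⟩)

/-- the stabiliser of a set of vectors -/
def stS (z : Set (VV m F)) : Subgroup (Perm (VV m F)) where
  carrier := {g | ∀ v, g v ∈ z ↔ v ∈ z}
  one_mem' := fun _ => Iff.rfl
  mul_mem' := fun {a b} ha hb v => (ha (b v)).trans (hb v)
  inv_mem' := fun {a} ha v => by rw [← ha, perm_apply_inv_self]

theorem mem_stS_of [Finite F] {z : Set (VV m F)} {g : Perm (VV m F)} (h : ∀ v ∈ z, g v ∈ z) : g ∈ stS z := fun v =>
  ⟨fun hv => by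
    have h1 : Set.BijOn g z z := (Set.Finite.injOn_iff_bijOn_of_mapsTo (Set.toFinite z) h).1 g.injective.injOn
    obtain ⟨w, hw, e⟩ := h1.surjOn hv
    rwa [← g.injective e], h v⟩

theorem mem_NS_of [Finite F] {W : Submodule F (VV m F)} {g : GG m F} (hg : g ∈ Sp m F) (h : ∀ v ∈ W, g v ∈ W) : g ∈ NS W :=
  ⟨hg, fun v => mem_stS_of (g := pm g) (z := (W : Set (VV m F))) h v⟩

/-- `Sp` is irreducible -/
theorem irr_Sp {W : Submodule F (VV m F)} (h0 : W ≠ ⊥) (h1 : W ≠ ⊤) : ∃ g ∈ Sp m F, ∃ w ∈ W, g w ∉ W := by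
  obtain ⟨w, hw, hw0⟩ := (Submodule.ne_bot_iff W).1 h0
  obtain ⟨v, hv⟩ : ∃ v, v ∉ W := by
    by_contra h
    push Not at h
    exact h1 (eq_top_iff.2 fun v _ => h v)
  obtain ⟨g, hg, e⟩ := H925.Rs.trans_vec hw0 (y := v) (by rintro rfl; exact hv W.zero_mem)
  exact ⟨g, hg, w, hw, e ▸ hv⟩

theorem TrF.mono {Y Y' : Subgroup (GG m F)} {Q : QuadraticForm F (VV m F)} (h : TrF Y Q) (hY : Y ≤ Y') : TrF Y' Q :=
  fun g hg => by
    obtain ⟨y, hy, x, hx, e⟩ := h g hg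
    exact ⟨y, hY hy, x, hx, e⟩

end lin

/-- an equivariant injection -/
theorem exists_iota {G Ω Z : Type*} [Group G] (φ : G →* Perm Ω) (ρ : G →* Perm Z) (a : Ω) (z : Z)
    (ht : ∀ b, ∃ g, φ g a = b) (hz : ∀ g, ρ g z = z ↔ φ g a = a) :
    ∃ ι : Ω → Z, Function.Injective ι ∧ ι a = z ∧ ∀ g b, ι (φ g b) = ρ g (ι b) := by
  choose t ht using ht
  have key : ∀ g h : G, ρ g z = ρ h z ↔ φ g a = φ h a := fun g h => by
    have h1 := hz (h⁻¹ * g)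
    rwa [map_mul, map_mul, map_inv, map_inv, Perm.mul_apply, Perm.mul_apply, Perm.inv_eq_iff_eq, Perm.inv_eq_iff_eq] at h1
  refine ⟨fun b => ρ (t b) z, fun b c h => by rw [← ht b, ← ht c]; exact (key _ _).1 h, (hz _).2 (ht a), fun g b => ?_⟩
  show ρ (t (φ g b)) z = ρ g (ρ (t b) z)
  rw [← Perm.mul_apply, ← map_mul, key, ht, map_mul, Perm.mul_apply, ht]

theorem exists_pull {P A M : Type*} [Group P] [Group A] [Group M] (K : Subgroup P) (Ψ : K →* A) (θ : M →* A)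
    (hθ : Function.Injective θ) : ∃ (L : Subgroup P) (hL : L ≤ K) (ψ : L →* M),
      (∀ (g : K) (x : M), θ x = Ψ g → g.1 ∈ L) ∧ ∀ g : L, θ (ψ g) = Ψ ⟨g.1, hL g.2⟩ := by
  let L : Subgroup P := (θ.range.comap Ψ).map K.subtype
  have hL : L ≤ K := map_subtype_le _
  have hL' : ∀ g : L, Ψ (inclusion hL g) ∈ θ.range := by
    rintro ⟨_, g, hg, rfl⟩
    exact hg
  exact ⟨L, hL, (MonoidHom.ofInjective hθ).symm.toMonoidHom.comp ((Ψ.comp (inclusion hL)).codRestrict _ hL'),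
    fun g x h => ⟨g, ⟨x, h⟩, rfl⟩, fun g => congrArg Subtype.val ((MonoidHom.ofInjective hθ).apply_symm_apply ⟨_, hL' g⟩)⟩

section psi

variable {m : ℕ} {F : Type} [Field F]

theorem pm_semi {g : GG m F} (hg : g ∈ Sp m F) : pm g ∈ semiSim m F := ⟨_, _, one_ne_zero, isSemi_pm hg⟩

theorem psi_pm (B A : symplecticGroup (Fin m) F) : Psi m F ⟨pm (spE B).1, pm_semi (spE B).2⟩ (QuotientGroup.mk A) =
    QuotientGroup.mk (B * A * B⁻¹) := by
  have h1 : conjHom m F ⟨pm (spE B).1, pm_semi (spE B).2⟩ A = B * A * B⁻¹ := rho_injective (by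
    rw [rho_conjHom, map_mul, map_mul, map_inv]; rfl)
  rw [Psi_mk, h1]

theorem psi_scalar (g : semiSim m F) (c : F) (hc : ∀ v, g.1 v = c • v) : Psi m F g = 1 := by
  refine MulEquiv.ext fun y => ?_
  obtain ⟨A, rfl⟩ := QuotientGroup.mk_surjective y
  have h1 : conjHom m F g A = A := rho_injective (by
    rw [rho_conjHom, mul_inv_eq_iff_eq_mul]
    refine Perm.ext fun v => ?_
    rw [Perm.mul_apply, Perm.mul_apply, hc, hc, rho_apply, rho_apply, Matrix.mulVec_smul])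
  rw [Psi_mk, h1]
  rfl

theorem scalar_of_psi (hm : 2 ≤ m) (g : semiSim m F) (h2 : Psi m F g = 1) : ∃ c : F, ∀ v, g.1 v = c • v := by
  refine scalar_of_tv hm g.2 fun v => ?_
  have h3 : (QuotientGroup.mk (conjHom m F g (transv v 1)) : PSp m F) = QuotientGroup.mk (transv v 1) := by
    rw [← Psi_mk, h2]
    rfl
  rw [eq_comm, QuotientGroup.eq, LieClassical.SympCenter.mem_center_iff] at h3
  obtain ⟨c, hc⟩ := h3
  refine ⟨c, fun x => ?_⟩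
  have h4 : rho m F ((transv v 1)⁻¹ * conjHom m F g (transv v 1)) (g.1 x) = c • g.1 x := by
    rw [rho_apply, hc, Matrix.smul_mulVec, Matrix.one_mulVec]
  rw [map_mul, map_inv, rho_conjHom, Perm.mul_apply, Perm.inv_eq_iff_eq, Perm.mul_apply, Perm.mul_apply,
    perm_inv_apply_self] at h4
  rw [← tv_eq]
  exact h4.trans (map_smul (tvE v 1).1 c (g.1 x))

theorem exists_scalar {c : F} (hc : c ≠ 0) : ∃ g : semiSim m F, ∀ v, g.1 v = c • v :=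
  ⟨⟨MulAction.toPerm (Units.mk0 c hc), RingEquiv.refl F, c * c, mul_ne_zero hc hc, fun u v => smul_add c u v,
    fun a v => smul_comm c a v, fun u v => by
      show sympForm m F (c • u) (c • v) = c * c * sympForm m F u v
      rw [sympForm_smul_left, sympForm_smul_right, mul_assoc]⟩, fun _ => rfl⟩

end psi

variable {Ω : Type} [Fintype Ω] [DecidableEq Ω] {m : ℕ} {F : Type} [Field F] [Fintype F] {X H T M S : Subgroup (Perm Ω)}

theorem exists_theta (a : AS M S) (e : S ≃* PSp m F) : ∃ θ : M →* MulAut (PSp m F), Function.Injective θ ∧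
    ∀ (x : M) (s t : S), (x : Perm Ω) * s * (x : Perm Ω)⁻¹ = t → θ x (e s) = e t :=
  ⟨(MulAut.congr e).toMonoidHom.comp a.aut, (MulAut.congr e).injective.comp a.aut_injective, fun x s t h => by
    show e (a.aut x (e.symm (e s))) = _
    rw [MulEquiv.symm_apply_apply]
    exact congrArg e (Subtype.ext h)⟩

theorem e_prS (e : S ≃* PSp m F) (A : symplecticGroup (Fin m) F) : e (prS e (spE A)) = QuotientGroup.mk A := by
  rw [H925.Rs.prS_apply, MulEquiv.apply_symm_apply, MulEquiv.symm_apply_apply]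

/-- **A frame exists** if the automorphisms induced by `M` map transvections to transvections. -/
theorem exists_fr' (u : Up X H T M S) (hm : 2 ≤ m) (ex : m = 2 → 3 ≤ Fintype.card F) (e : S ≃* PSp m F)
    (h : ∀ x : M, ∀ v : VV m F, v ≠ 0 → ∀ c : F, c ≠ 0 → ∃ v' : VV m F, v' ≠ 0 ∧ ∃ c' : F, c' ≠ 0 ∧
      (x : Perm Ω) * (prS e (tvE v c) : Perm Ω) * (x : Perm Ω)⁻¹ = prS e (tvE v' c')) :
    ∃ D : Fr m F X H T M S, ∀ g, D.π g = prS e g := by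
  obtain ⟨θ, hinj, hθ⟩ := exists_theta u.socM.as e
  have hsurj : ∀ x : M, ∃ g : semiSim m F, Psi m F g = θ x := fun x =>
    ClassicalGeometry.SympAutExists.exists_semi hm (θ x) fun v hv c hc => by
      obtain ⟨v', hv', c', hc', h1⟩ := h x v hv c hc
      refine ⟨v', hv', c', hc', ?_⟩
      rw [← e_prS e, ← e_prS e]
      exact hθ x _ _ h1
  obtain ⟨L, hL, ψ, hmem, hψ⟩ := exists_pull (semiSim m F) (Psi m F) θ hinj
  have hsp : ∀ g : Sp m F, θ ⟨prS e g, u.socM.le (prS e g).2⟩ = Psi m F ⟨pm g.1, pm_semi g.2⟩ := fun g => by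
    obtain ⟨B, rfl⟩ := spE.surjective g
    refine MulEquiv.ext fun y => ?_
    obtain ⟨A, rfl⟩ := QuotientGroup.mk_surjective y
    rw [psi_pm, ← e_prS e A, ← e_prS e (B * A * B⁻¹)]
    refine hθ _ _ _ ?_
    simp only [map_mul, map_inv, Subgroup.coe_mul, Subgroup.coe_inv]
  have hspL : ∀ g ∈ Sp m F, pm g ∈ L := fun g hg => hmem ⟨pm g, pm_semi hg⟩ _ (hsp ⟨g, hg⟩)
  have hπ : ∀ g : Sp m F, (ψ ⟨pm g.1, hspL g.1 g.2⟩ : Perm Ω) = prS e g := fun g => by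
    have h1 : ψ ⟨pm g.1, hspL g.1 g.2⟩ = ⟨prS e g, u.socM.le (prS e g).2⟩ := hinj ((hψ _).trans (hsp g).symm)
    rw [h1]
  have k1 : ∀ c : F, c ≠ 0 → ∃ g ∈ L, ∀ v, g v = c • v := fun c hc => by
    obtain ⟨g, hg⟩ := exists_scalar (m := m) hc
    exact ⟨g.1, hmem g 1 ((map_one θ).trans (psi_scalar g c hg).symm), hg⟩
  have k2 : (M.subtype.comp ψ).range = M := by
    refine le_antisymm (by rintro _ ⟨g, rfl⟩; exact (ψ g).2) fun x hx => ?_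
    obtain ⟨g, hg⟩ := hsurj ⟨x, hx⟩
    have h1 : ψ ⟨g.1, hmem g _ hg.symm⟩ = ⟨x, hx⟩ := hinj ((hψ _).trans hg)
    exact ⟨⟨g.1, hmem g _ hg.symm⟩, congrArg Subtype.val h1⟩
  have k3 : ∀ g : L, (M.subtype.comp ψ) g = 1 ↔ ∃ c : F, ∀ v, g.1 v = c • v := fun g => by
    refine ⟨fun hg => ?_, fun ⟨c, hc⟩ => ?_⟩
    · have h1 : ψ g = 1 := Subtype.ext hg
      exact scalar_of_psi hm ⟨g.1, hL g.2⟩ (by rw [← hψ, h1, map_one])
    · have h1 : ψ g = 1 := hinj ((hψ g).trans ((psi_scalar _ c hc).trans (map_one θ).symm))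
      exact congrArg Subtype.val h1
  have k4 : ∀ s, s ∈ S ↔ ∃ g : Sp m F, (M.subtype.comp ψ) ⟨pm g.1, hspL g.1 g.2⟩ = s := fun s => by
    refine ⟨fun hs => ?_, ?_⟩
    · obtain ⟨g, hg⟩ := H925.Rs.prS_surjective e ⟨s, hs⟩
      exact ⟨g, (hπ g).trans (congrArg Subtype.val hg)⟩
    · rintro ⟨g, rfl⟩
      have h1 : (ψ ⟨pm g.1, hspL g.1 g.2⟩ : Perm Ω) ∈ S := by
        rw [hπ]
        exact (prS e g).2
      exact h1
  exact ⟨⟨L, M.subtype.comp ψ, u, hm, ex, hL, hspL, k1, k2, k3, k4⟩, hπ⟩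

/-- **A frame exists** unless `m = 2` and `q` is even. -/
theorem exists_fr (u : Up X H T M S) (hm : 2 ≤ m) (ex : m = 2 → 3 ≤ Fintype.card F) (h : 3 ≤ m ∨ (2 : F) ≠ 0)
    (e : S ≃* PSp m F) : ∃ D : Fr m F X H T M S, ∀ g, D.π g = prS e g := by
  refine exists_fr' u hm ex e fun x v hv c hc => ?_
  obtain ⟨v', hv', c', hc', h1⟩ := ClassicalGeometry.SympAutOddA.recog hm h (MulAut.congr e (u.socM.as.aut x)) v hv c hc
  refine ⟨v', hv', c', hc', ?_⟩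
  have h2 : u.socM.as.aut x (prS e (tvE v c)) = prS e (tvE v' c') := by
    apply e.injective
    rw [← e_prS e, ← e_prS e] at h1
    have h3 : MulAut.congr e (u.socM.as.aut x) (e (prS e (tvE v c))) = e (u.socM.as.aut x (e.symm (e (prS e (tvE v c))))) := rfl
    rw [MulEquiv.symm_apply_apply] at h3
    exact h3.symm.trans h1
  exact congrArg Subtype.val h2

namespace Fr

variable (D : Fr m F X H T M S) {Y Z W : Subgroup (Perm Ω)}

include D in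
theorem one : 1 ≤ m := le_trans (by norm_num) D.two

theorem π_apply (g : Sp m F) : D.π g = D.φ ⟨pm g.1, D.sp g.1 g.2⟩ := rfl

theorem mem_pre {g : GG m F} : g ∈ D.pre Y ↔ ∃ h : g ∈ Sp m F, D.π ⟨g, h⟩ ∈ Y :=
  ⟨fun ⟨x, hx, e⟩ => e ▸ ⟨x.2, hx⟩, fun ⟨h, k⟩ => ⟨⟨g, h⟩, k, rfl⟩⟩

theorem mem_pre' (g : Sp m F) : g.1 ∈ D.pre Y ↔ D.π g ∈ Y := D.mem_pre.trans ⟨fun ⟨_, h⟩ => h, fun h => ⟨g.2, h⟩⟩

theorem mem_hat {g : Perm (VV m F)} : g ∈ D.hat Y ↔ ∃ h : g ∈ D.L, D.φ ⟨g, h⟩ ∈ Y :=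
  ⟨fun ⟨x, hx, e⟩ => e ▸ ⟨x.2, hx⟩, fun ⟨h, k⟩ => ⟨⟨g, h⟩, k, rfl⟩⟩

theorem mem_hat' (g : D.L) : g.1 ∈ D.hat Y ↔ D.φ g ∈ Y := D.mem_hat.trans ⟨fun ⟨_, h⟩ => h, fun h => ⟨g.2, h⟩⟩

theorem mem_C {a : Ω} (g : Sp m F) : g.1 ∈ D.C a ↔ D.π g a = a := D.mem_pre' g

theorem mem_BB {a : Ω} (g : D.L) : g.1 ∈ D.BB a ↔ D.φ g a = a := D.mem_hat' g

theorem pre_le : D.pre Y ≤ Sp m F := map_subtype_le _

theorem hat_le : D.hat Y ≤ D.L := map_subtype_le _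

theorem semi {g : Perm (VV m F)} (hg : g ∈ D.L) : ∃ (σ : F ≃+* F) (l : F), l ≠ 0 ∧ IsSemi g σ l := D.le hg

theorem pm_mem_hat {g : GG m F} (hg : g ∈ Sp m F) : pm g ∈ D.hat Y ↔ g ∈ D.pre Y :=
  (D.mem_hat' ⟨pm g, D.sp g hg⟩).trans (D.mem_pre' ⟨g, hg⟩).symm

theorem pm_mem {g : GG m F} (hg : g ∈ D.pre Y) : pm g ∈ D.hat Y := (D.pm_mem_hat (D.pre_le hg)).2 hg

theorem pre_mono (h : Y ≤ Z) : D.pre Y ≤ D.pre Z := map_mono (comap_mono h)

theorem hat_mono (h : Y ≤ Z) : D.hat Y ≤ D.hat Z := map_mono (comap_mono h)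

theorem pre_inf : D.pre (Y ⊓ Z) = D.pre Y ⊓ D.pre Z := by
  ext g
  simp only [mem_inf, D.mem_pre]
  exact ⟨fun ⟨h, h1, h2⟩ => ⟨⟨h, h1⟩, h, h2⟩, fun ⟨⟨h, h1⟩, _, h2⟩ => ⟨h, h1, h2⟩⟩

theorem hat_inf : D.hat (Y ⊓ Z) = D.hat Y ⊓ D.hat Z := by
  ext g
  simp only [mem_inf, D.mem_hat]
  exact ⟨fun ⟨h, h1, h2⟩ => ⟨⟨h, h1⟩, h, h2⟩, fun ⟨⟨h, h1⟩, _, h2⟩ => ⟨h, h1, h2⟩⟩

theorem π_mem (g : Sp m F) : D.π g ∈ S := (D.soc _).2 ⟨g, rfl⟩

theorem π_surj {s : Perm Ω} (hs : s ∈ S) : ∃ g : Sp m F, D.π g = s := (D.soc _).1 hs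

theorem φ_mem (g : D.L) : D.φ g ∈ M := D.ran.le ⟨g, rfl⟩

theorem φ_surj {x : Perm Ω} (hx : x ∈ M) : ∃ g : D.L, D.φ g = x := D.ran.ge hx

theorem π_range : D.π.range = S := le_antisymm (by rintro _ ⟨g, rfl⟩; exact D.π_mem g) fun _ hs => D.π_surj hs

theorem π_eq_one (g : Sp m F) : D.π g = 1 ↔ ∃ c : F, ∀ v, g.1 v = c • v := D.ker ⟨pm g.1, D.sp g.1 g.2⟩

theorem scalar_mem_hat {g : Perm (VV m F)} {c : F} (h : ∀ v, g v = c • v) : g ∈ D.hat Y := by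
  have hc : c ≠ 0 := by
    rintro rfl
    obtain ⟨u, v, huv⟩ := exists_ff (F := F) D.one
    have h1 : u = 0 := g.injective (by rw [h, h, zero_smul, zero_smul])
    rw [h1, LinearMap.map_zero₂] at huv
    exact zero_ne_one huv
  obtain ⟨g', hg', h'⟩ := D.sc c hc
  obtain rfl : g = g' := Perm.ext fun v => (h v).trans (h' v).symm
  exact D.mem_hat.2 ⟨hg', by rw [(D.ker ⟨g, hg'⟩).2 ⟨c, h⟩]; exact Y.one_mem⟩

theorem scalar_mem_pre {g : GG m F} (hg : g ∈ Sp m F) {c : F} (h : ∀ v, g v = c • v) : g ∈ D.pre Y :=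
  (D.pm_mem_hat hg).1 (D.scalar_mem_hat h)

theorem pre_S : D.pre S = Sp m F := le_antisymm D.pre_le fun g hg => (D.mem_pre' ⟨g, hg⟩).2 (D.π_mem _)

theorem hat_M : D.hat M = D.L := le_antisymm D.hat_le fun g hg => (D.mem_hat' ⟨g, hg⟩).2 (D.φ_mem _)

theorem pre_infS : D.pre (Y ⊓ S) = D.pre Y := by rw [D.pre_inf, D.pre_S, inf_eq_left.2 D.pre_le]

theorem pre_infM : D.pre (M ⊓ Y) = D.pre Y :=
  le_antisymm (D.pre_mono inf_le_right) fun g hg =>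
    (D.mem_pre' ⟨g, D.pre_le hg⟩).2 ⟨D.up.socM.le (D.π_mem _), (D.mem_pre' ⟨g, D.pre_le hg⟩).1 hg⟩

theorem hat_infM : D.hat (M ⊓ Y) = D.hat Y := by rw [D.hat_inf, D.hat_M, inf_eq_right.2 D.hat_le]

theorem le_of_pre_le (hY : Y ≤ S) (h : D.pre Y ≤ D.pre Z) : Y ≤ Z := fun y hy => by
  obtain ⟨g, rfl⟩ := D.π_surj (hY hy)
  exact (D.mem_pre' g).1 (h ((D.mem_pre' g).2 hy))

theorem A_le_N : D.A ≤ D.N := D.pre_mono D.up.socH.le

theorem not_Sp_le_N : ¬ Sp m F ≤ D.N := fun h => D.up.not_le (D.le_of_pre_le le_rfl (D.pre_S.le.trans h))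

theorem not_A_le_C (a : Ω) : ¬ D.A ≤ D.C a := fun h =>
  D.up.socH.not_le_stab D.up.prim D.up.two a (D.le_of_pre_le D.up.le h)

theorem N_ne : D.N ≠ Sp m F := fun h => D.not_Sp_le_N h.ge

theorem A_ne : D.A ≠ Sp m F := fun h => D.not_Sp_le_N (h.ge.trans D.A_le_N)

theorem C_ne (a : Ω) : D.C a ≠ Sp m F := fun h => D.not_A_le_C a (D.pre_le.trans h.ge)

/-- `A` is transitive on `Ω` -/
theorem trans (a b : Ω) : ∃ g : Sp m F, g.1 ∈ D.A ∧ D.π g a = b := by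
  obtain ⟨t, ht, e⟩ := D.up.trans a b
  obtain ⟨g, rfl⟩ := D.π_surj (D.up.le ht)
  exact ⟨g, (D.mem_pre' g).2 ht, e⟩

/-- `Sp = A C` -/
theorem fac (a : Ω) {g : GG m F} (hg : g ∈ Sp m F) : ∃ x ∈ D.A, ∃ y ∈ D.C a, g = x * y := by
  obtain ⟨x, hx, e⟩ := D.trans a (D.π ⟨g, hg⟩ a)
  refine ⟨x.1, hx, (x⁻¹ * ⟨g, hg⟩ : Sp m F).1, (D.mem_C _).2 ?_, (mul_inv_cancel_left x.1 g).symm⟩
  rw [map_mul, map_inv, Perm.mul_apply, Perm.inv_eq_iff_eq, e]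

/-- `Sp = C A` -/
theorem fac' (a : Ω) {g : GG m F} (hg : g ∈ Sp m F) : ∃ y ∈ D.C a, ∃ x ∈ D.A, g = y * x := by
  obtain ⟨x, hx, y, hy, e⟩ := D.fac a (inv_mem hg)
  exact ⟨y⁻¹, inv_mem hy, x⁻¹, inv_mem hx, by rw [← _root_.mul_inv_rev, ← e, inv_inv]⟩

theorem trF_C (a : Ω) {Q : QuadraticForm F (VV m F)} (h : D.A ≤ O Q) : TrF (D.C a) Q := fun g hg => by
  obtain ⟨y, hy, x, hx, e⟩ := D.fac' a hg
  exact ⟨y, hy, x, h hx, e⟩

theorem trF_A (a : Ω) {Q : QuadraticForm F (VV m F)} (h : D.C a ≤ O Q) : TrF D.A Q := fun g hg => by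
  obtain ⟨y, hy, x, hx, e⟩ := D.fac a hg
  exact ⟨y, hy, x, h hx, e⟩

/-- `L = (HH ⊓ BB a) Sp` -/
theorem facL (a : Ω) {g : Perm (VV m F)} (hg : g ∈ D.L) : ∃ h ∈ D.HH ⊓ D.BB a, ∃ s ∈ Sp m F, g = h * pm s := by
  obtain ⟨h, hh, s, hs, e⟩ := (D.up.fac a).facH _ (D.φ_mem ⟨g, hg⟩)
  obtain ⟨x, rfl⟩ := D.π_surj hs
  have h1 : D.φ (⟨g, hg⟩ * ⟨pm x.1, D.sp x.1 x.2⟩⁻¹) = h := by rw [map_mul, map_inv, e, ← D.π_apply, mul_inv_cancel_right]
  exact ⟨g * (pm x.1)⁻¹, ⟨(D.mem_hat' (⟨g, hg⟩ * ⟨pm x.1, D.sp x.1 x.2⟩⁻¹)).2 (h1 ▸ hh.1),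
    (D.mem_hat' (⟨g, hg⟩ * ⟨pm x.1, D.sp x.1 x.2⟩⁻¹)).2 (h1 ▸ hh.2.2)⟩, x.1, x.2, (inv_mul_cancel_right g _).symm⟩

/-- `HH = (HH ⊓ BB a) A` -/
theorem facH (a : Ω) {g : Perm (VV m F)} (hg : g ∈ D.HH) : ∃ h ∈ D.HH ⊓ D.BB a, ∃ x ∈ D.A, g = h * pm x := by
  obtain ⟨hL, hg'⟩ := D.mem_hat.1 hg
  obtain ⟨x, hx, e⟩ := D.trans a ((D.φ ⟨g, hL⟩)⁻¹ a)
  refine ⟨g * pm x.1, ⟨mul_mem hg (D.pm_mem (D.A_le_N hx)), (D.mem_BB (⟨g, hL⟩ * ⟨pm x.1, D.sp x.1 x.2⟩)).2 ?_⟩, x.1⁻¹,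
    inv_mem hx, by rw [map_inv, mul_inv_cancel_right]⟩
  rw [map_mul, Perm.mul_apply, ← D.π_apply, e, perm_apply_inv_self]

theorem conj_sp {g : Perm (VV m F)} (hg : g ∈ D.L) {x : GG m F} (hx : x ∈ Sp m F) : ∃ y ∈ Sp m F, pm y = g * pm x * g⁻¹ :=
  semi_conj (D.le hg) hx

theorem π_conj (g : D.L) (x y : Sp m F) (h : pm y.1 = g.1 * pm x.1 * g.1⁻¹) : D.π y = D.φ g * D.π x * (D.φ g)⁻¹ := by
  rw [D.π_apply, D.π_apply, ← map_inv, ← map_mul, ← map_mul]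
  exact congrArg D.φ (Subtype.ext h)

theorem conj_pre (hc : ∀ z ∈ Z, ∀ y ∈ Y, z * y * z⁻¹ ∈ Y) {g : Perm (VV m F)} (hg : g ∈ D.hat Z) {x : GG m F} (hx : x ∈ D.pre Y) :
    ∃ y ∈ D.pre Y, pm y = g * pm x * g⁻¹ := by
  obtain ⟨hL, hg'⟩ := D.mem_hat.1 hg
  obtain ⟨hs, hx'⟩ := D.mem_pre.1 hx
  obtain ⟨y, hy, e⟩ := D.conj_sp hL hs
  exact ⟨y, (D.mem_pre' ⟨y, hy⟩).2 (D.π_conj ⟨g, hL⟩ ⟨x, hs⟩ ⟨y, hy⟩ e ▸ hc _ hg' _ hx'), e⟩

theorem conj_A {g : Perm (VV m F)} (hg : g ∈ D.HH) {x : GG m F} (hx : x ∈ D.A) : ∃ y ∈ D.A, pm y = g * pm x * g⁻¹ :=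
  D.conj_pre D.up.socH.conj hg hx

theorem conj_N {g : Perm (VV m F)} (hg : g ∈ D.HH) {x : GG m F} (hx : x ∈ D.N) : ∃ y ∈ D.N, pm y = g * pm x * g⁻¹ :=
  D.conj_pre (fun _ hz _ hy => mul_mem (mul_mem hz hy) (inv_mem hz)) hg hx

theorem conj_C {a : Ω} {g : Perm (VV m F)} (hg : g ∈ D.BB a) {x : GG m F} (hx : x ∈ D.C a) :
    ∃ y ∈ D.C a, pm y = g * pm x * g⁻¹ :=
  D.conj_pre (fun _ hz _ hy => mul_mem (mul_mem hz hy) (inv_mem hz)) hg hx

theorem N_conj_A {g x : GG m F} (hg : g ∈ D.N) (hx : x ∈ D.A) : g * x * g⁻¹ ∈ D.A := by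
  obtain ⟨y, hy, e⟩ := D.conj_A (D.pm_mem hg) hx
  rw [← map_inv, ← map_mul, ← map_mul, pm_injective.eq_iff] at e
  exact e ▸ hy

/-- maximality pulled back -/
theorem cut (hc : Z ⋖ W) (hW : W ≤ M) {K : Subgroup (Perm (VV m F))} (hK : D.hat Z ≤ K) :
    D.hat W ≤ K ∨ K ⊓ D.hat W ≤ D.hat Z := by
  have h1 : Z ≤ ((K ⊓ D.hat W).subgroupOf D.L).map D.φ := fun z hz => by
    obtain ⟨g, rfl⟩ := D.φ_surj (hW (hc.le hz))
    exact ⟨g, ⟨hK ((D.mem_hat' g).2 hz), (D.mem_hat' g).2 (hc.le hz)⟩, rfl⟩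
  have h2 : ((K ⊓ D.hat W).subgroupOf D.L).map D.φ ≤ W := by
    rintro _ ⟨g, hg, rfl⟩
    exact (D.mem_hat' g).1 hg.2
  rcases hc.eq_or_eq h1 h2 with k | k
  · exact Or.inr fun g hg => D.mem_hat.2 ⟨D.hat_le hg.2, k.le ⟨⟨g, D.hat_le hg.2⟩, hg, rfl⟩⟩
  · refine Or.inl fun g hg => ?_
    obtain ⟨hL, hg'⟩ := D.mem_hat.1 hg
    obtain ⟨x, hx, e⟩ := k.ge hg'
    have h3 : (x⁻¹ * ⟨g, hL⟩ : D.L).1 ∈ D.hat Z := (D.mem_hat' _).2 (by rw [map_mul, map_inv, e, inv_mul_cancel]; exact Z.one_mem)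
    have h4 : x.1 * (x.1⁻¹ * g) ∈ K := K.mul_mem hx.1 (hK h3)
    rwa [mul_inv_cancel_left] at h4

/-- a group `K ≥ BB a` without `Sp` meets `L` in `BB a` -/
theorem stabB (a : Ω) {K : Subgroup (Perm (VV m F))} (hK : D.BB a ≤ K) (hn : ¬ ∀ g ∈ Sp m F, pm g ∈ K) {g : Perm (VV m F)}
    (hg : g ∈ D.L) (h : g ∈ K) : g ∈ D.BB a := by
  rcases D.cut (D.up.fac a).bm le_rfl (K := K) (D.hat_infM.le.trans hK) with k | k
  · exact absurd (fun x hx => k (D.hat_M.ge (D.sp x hx))) hn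
  · exact D.hat_infM.le (k ⟨h, D.hat_M.ge hg⟩)

theorem stabC (a : Ω) {K : Subgroup (Perm (VV m F))} (hK : D.BB a ≤ K) (hn : ¬ ∀ g ∈ Sp m F, pm g ∈ K) {g : GG m F}
    (hg : g ∈ Sp m F) : pm g ∈ K ↔ g ∈ D.C a :=
  ⟨fun h => (D.pm_mem_hat hg).1 (D.stabB a hK hn (D.sp g hg) h), fun h => hK (D.pm_mem h)⟩

/-- a group `K ≥ HH` without `Sp` meets `L` in `HH` -/
theorem stabHH {K : Subgroup (Perm (VV m F))} (hK : D.HH ≤ K) (hn : ¬ ∀ g ∈ Sp m F, pm g ∈ K) {g : Perm (VV m F)}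
    (hg : g ∈ D.L) (h : g ∈ K) : g ∈ D.HH := by
  rcases D.cut D.up.hm le_rfl (K := K) hK with k | k
  · exact absurd (fun x hx => k (D.hat_M.ge (D.sp x hx))) hn
  · exact k ⟨h, D.hat_M.ge hg⟩

theorem stabH {K : Subgroup (Perm (VV m F))} (hK : D.HH ≤ K) (hn : ¬ ∀ g ∈ Sp m F, pm g ∈ K) {g : GG m F}
    (hg : g ∈ Sp m F) : pm g ∈ K ↔ g ∈ D.N :=
  ⟨fun h => (D.pm_mem_hat hg).1 (D.stabHH hK hn (D.sp g hg) h), fun h => hK (D.pm_mem h)⟩

/-- **primitivity of `H`**: a group `K ≥ HH ⊓ BB a` without `A` meets `HH` inside `BB a` -/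
theorem primB (a : Ω) {K : Subgroup (Perm (VV m F))} (hK : D.HH ⊓ D.BB a ≤ K) (hn : ¬ ∀ g ∈ D.A, pm g ∈ K)
    {g : Perm (VV m F)} (hg : g ∈ D.HH) (h : g ∈ K) : g ∈ D.BB a := by
  rcases D.cut (stab_covBy D.up.prim D.up.two a) D.up.ov.2 (K := K) (D.hat_inf.le.trans hK) with k | k
  · exact absurd (fun x hx => k (D.pm_mem (D.A_le_N hx))) hn
  · exact (D.hat_inf.le (k ⟨h, hg⟩)).2

theorem prim (a : Ω) {K : Subgroup (Perm (VV m F))} (hK : D.HH ⊓ D.BB a ≤ K) (hn : ¬ ∀ g ∈ D.A, pm g ∈ K)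
    {g : GG m F} (hg : g ∈ D.N) (h : pm g ∈ K) : g ∈ D.C a :=
  (D.pm_mem_hat (D.pre_le hg)).1 (D.primB a hK hn (D.pm_mem hg) h)

/-- a subspace fixed by `BB a` -/
theorem C_eq_NS (a : Ω) {U : Submodule F (VV m F)} (h0 : U ≠ ⊥) (h1 : U ≠ ⊤) (h : ∀ g ∈ D.BB a, ∀ u ∈ U, g u ∈ U) :
    D.C a = NS U := by
  obtain ⟨g, hg, w, hw, hn⟩ := irr_Sp h0 h1
  have k := fun {x : GG m F} => D.stabC a (K := stS U) (fun x hx => mem_stS_of (h x hx)) (fun k => hn ((k g hg w).2 hw)) (g := x)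
  exact le_antisymm (fun x hx => ⟨D.pre_le hx, (k (D.pre_le hx)).2 hx⟩) fun x hx => (k hx.1).1 hx.2

/-- a subspace fixed by `HH` -/
theorem N_eq_NS {U : Submodule F (VV m F)} (h0 : U ≠ ⊥) (h1 : U ≠ ⊤) (h : ∀ g ∈ D.HH, ∀ u ∈ U, g u ∈ U) : D.N = NS U := by
  obtain ⟨g, hg, w, hw, hn⟩ := irr_Sp h0 h1
  have k := fun {x : GG m F} => D.stabH (K := stS U) (fun x hx => mem_stS_of (h x hx)) (fun k => hn ((k g hg w).2 hw)) (g := x)
  exact le_antisymm (fun x hx => ⟨D.pre_le hx, (k (D.pre_le hx)).2 hx⟩) fun x hx => (k hx.1).1 hx.2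

/-- maximality for subgroups `K` of `Sp` normalised by `hat Z` -/
theorem cutS (a : AS W Y) (hc : Z ⋖ W) (hW : W ≤ M) (hY : Y ≤ S) {K : Subgroup (GG m F)} (h1 : D.pre Y ⊓ D.pre Z ≤ K)
    (h2 : K ≤ D.pre Y) (hn : ∀ g ∈ D.hat Z, ∀ x ∈ K, ∀ y ∈ Sp m F, pm y = g * pm x * g⁻¹ → y ∈ K) :
    K = D.pre Y ⊓ D.pre Z ∨ K = D.pre Y := by
  have e : D.pre ((K.subgroupOf (Sp m F)).map D.π) = K := by
    refine le_antisymm (fun g hg => ?_) fun g hg => (D.mem_pre' ⟨g, D.pre_le (h2 hg)⟩).2 ⟨_, hg, rfl⟩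
    obtain ⟨hs, x, hx, e⟩ := D.mem_pre.1 hg
    have h3 : D.π (x⁻¹ * ⟨g, hs⟩) = 1 := by rw [map_mul, map_inv, e, inv_mul_cancel]
    have h4 := K.mul_mem hx (h1 ⟨(D.mem_pre' _).2 (h3 ▸ Y.one_mem), (D.mem_pre' _).2 (h3 ▸ Z.one_mem)⟩)
    rwa [show (Sp m F).subtype x * (x⁻¹ * ⟨g, hs⟩ : Sp m F).1 = g from mul_inv_cancel_left x.1 g] at h4
  have k := a.eq_or_eq hc (Y := (K.subgroupOf (Sp m F)).map D.π) (fun y hy => by
    obtain ⟨g, rfl⟩ := D.π_surj (hY hy.1)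
    exact ⟨g, h1 ⟨(D.mem_pre' g).2 hy.1, (D.mem_pre' g).2 hy.2⟩, rfl⟩) (by
    rintro _ ⟨g, hg, rfl⟩
    exact (D.mem_pre' g).1 (h2 hg)) (by
    rintro z hz _ ⟨x, hx, rfl⟩
    obtain ⟨g, rfl⟩ := D.φ_surj (hW (hc.le hz))
    obtain ⟨y, hy, e⟩ := D.conj_sp g.2 x.2
    exact ⟨⟨y, hy⟩, hn g.1 ((D.mem_hat' g).2 hz) x.1 hx y hy e, D.π_conj g x ⟨y, hy⟩ e⟩)
  rcases k with k | k
  · exact Or.inl (by rw [← e, k, D.pre_inf])
  · exact Or.inr (by rw [← e, k])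

theorem eqC (a : Ω) {K : Subgroup (GG m F)} (h1 : D.C a ≤ K) (h2 : K ≤ Sp m F)
    (hn : ∀ g ∈ D.BB a, ∀ x ∈ K, ∀ y ∈ Sp m F, pm y = g * pm x * g⁻¹ → y ∈ K) : K = D.C a ∨ K = Sp m F := by
  have k := D.cutS D.up.socM.as (D.up.fac a).bm le_rfl le_rfl (K := K) (inf_le_right.trans (D.pre_infM.le.trans h1))
    (h2.trans D.pre_S.ge) fun g hg => hn g (D.hat_infM.le hg)
  rwa [D.pre_S, D.pre_infM, inf_eq_right.2 D.pre_le] at k

theorem eqN {K : Subgroup (GG m F)} (h1 : D.N ≤ K) (h2 : K ≤ Sp m F)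
    (hn : ∀ g ∈ D.HH, ∀ x ∈ K, ∀ y ∈ Sp m F, pm y = g * pm x * g⁻¹ → y ∈ K) : K = D.N ∨ K = Sp m F := by
  have k := D.cutS D.up.socM.as D.up.hm le_rfl le_rfl (K := K) (inf_le_right.trans h1) (h2.trans D.pre_S.ge) hn
  rwa [D.pre_S, inf_eq_right.2 D.pre_le] at k

theorem eqA (a : Ω) {K : Subgroup (GG m F)} (h1 : D.A ⊓ D.C a ≤ K) (h2 : K ≤ D.A)
    (hn : ∀ g ∈ D.HH ⊓ D.BB a, ∀ x ∈ K, ∀ y ∈ Sp m F, pm y = g * pm x * g⁻¹ → y ∈ K) : K = D.A ⊓ D.C a ∨ K = D.A := by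
  have e : D.A ⊓ D.pre (H ⊓ stabilizer (Perm Ω) a) = D.A ⊓ D.C a := by
    rw [D.pre_inf, ← inf_assoc, inf_eq_left.2 D.A_le_N]
  have k := D.cutS D.up.socH.as (stab_covBy D.up.prim D.up.two a) D.up.ov.2 D.up.le (K := K) (e.le.trans h1) h2
    fun g hg => hn g (D.hat_inf.le hg)
  rwa [e] at k

/-- an element of `L` which commutes with `A` modulo scalars is a scalar -/
theorem cen {g : Perm (VV m F)} (hg : g ∈ D.L) (h : ∀ x ∈ D.A, ∃ c : F, ∀ v, g (x v) = c • x (g v)) :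
    ∃ c : F, ∀ v, g v = c • v := by
  refine (D.ker ⟨g, hg⟩).1 (D.up.cen fun t ht => ?_)
  obtain ⟨x, rfl⟩ := D.π_surj (D.up.le ht)
  obtain ⟨c, hc⟩ := h x.1 ((D.mem_pre' x).2 ht)
  have h1 := (D.ker (⟨g, hg⟩ * ⟨pm x.1, D.sp x.1 x.2⟩ * (⟨pm x.1, D.sp x.1 x.2⟩ * ⟨g, hg⟩)⁻¹)).2 ⟨c, fun v => by
    obtain ⟨w, rfl⟩ := (pm x.1 * g).surjective v
    show g (pm x.1 ((pm x.1 * g)⁻¹ ((pm x.1 * g) w))) = _
    rw [perm_inv_apply_self]
    exact hc w⟩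
  rwa [map_mul, map_inv, mul_inv_eq_one, map_mul, map_mul] at h1

theorem cenSp {g : GG m F} (hg : g ∈ Sp m F) (h : ∀ x ∈ D.A, g * x = x * g) : ∃ c : F, ∀ v, g v = c • v :=
  D.cen (D.sp g hg) fun x hx => ⟨1, fun v => (congrArg (fun z : GG m F => z v) (h x hx)).trans (one_smul F _).symm⟩

/-- `Ω` inside an `L`-set -/
theorem iota (a : Ω) {Z : Type*} (ρ : D.L →* Perm Z) (z : Z) (h1 : ∀ g : D.L, g.1 ∈ D.BB a → ρ g z = z)
    (h2 : ∃ g : Sp m F, ρ ⟨pm g.1, D.sp g.1 g.2⟩ z ≠ z) :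
    ∃ ι : Ω → Z, Function.Injective ι ∧ ι a = z ∧ ∀ g b, ι (D.φ g b) = ρ g (ι b) := by
  refine exists_iota D.φ ρ a z (fun b => ?_) fun g => ⟨fun h => (D.mem_BB g).1 ?_, fun h => h1 g ((D.mem_BB g).2 h)⟩
  · obtain ⟨g, -, e⟩ := D.trans a b
    exact ⟨_, e⟩
  · refine D.stabB a (K := ((stabilizer (Perm Z) z).comap ρ).map D.L.subtype) (fun x hx => ⟨⟨x, D.hat_le hx⟩, h1 _ hx, rfl⟩)
      (fun k => ?_) g.2 ⟨g, h, rfl⟩
    obtain ⟨x, hx⟩ := h2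
    obtain ⟨y, hy, e⟩ := k x.1 x.2
    exact hx ((Subtype.ext e : y = ⟨pm x.1, D.sp x.1 x.2⟩) ▸ hy)

/-- `Ω` as an orbit of sets of vectors (points, subspaces, zero sets of forms) -/
theorem iota_set (a : Ω) (z : Set (VV m F)) (h1 : ∀ g ∈ D.BB a, g '' z = z) (h2 : ∃ g ∈ Sp m F, g '' z ≠ z) :
    ∃ ι : Ω → Set (VV m F), Function.Injective ι ∧ ι a = z ∧ (∀ (g : D.L) b, ι (D.φ g b) = g.1 '' ι b) ∧
      ∀ (g : Sp m F) b, ι (D.π g b) = g.1 '' ι b := by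
  let ρ : Perm (VV m F) →* Perm (Set (VV m F)) :=
    { toFun := fun g => Equiv.Set.congr g
      map_one' := Equiv.ext fun s => Set.image_id s
      map_mul' := fun g h => Equiv.ext fun s => (Set.image_image g h s).symm }
  obtain ⟨g, hg, hz⟩ := h2
  obtain ⟨ι, k1, k2, k3⟩ := D.iota a (ρ.comp D.L.subtype) z (fun g hg => h1 g.1 hg) ⟨⟨g, hg⟩, hz⟩
  exact ⟨ι, k1, k2, k3, fun g b => k3 _ b⟩

/-- `S ≅ PSp` -/
theorem isoS : ∃ e : S ≃* PSp m F, (∀ g, (prS e g : Perm Ω) = D.π g) ∧ ∀ Y, preS e Y = D.pre Y := by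
  let p : symplecticGroup (Fin m) F →* S := (D.π.codRestrict S D.π_mem).comp spE.toMonoidHom
  have hp : Function.Surjective p := fun s => by
    obtain ⟨g, hg⟩ := D.π_surj s.2
    obtain ⟨A, rfl⟩ := spE.surjective g
    exact ⟨A, Subtype.ext hg⟩
  have hk : center (symplecticGroup (Fin m) F) = p.ker := by
    ext A
    rw [LieClassical.SympCenter.mem_center_iff, MonoidHom.mem_ker, Subtype.ext_iff]
    refine Iff.trans (exists_congr fun c => ?_) (D.π_eq_one (spE A)).symm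
    refine ⟨fun h v => by rw [H925.Rs.spE_apply, h, Matrix.smul_mulVec, Matrix.one_mulVec], fun h => ?_⟩
    rw [← Matrix.mulVec_injective.eq_iff]
    funext v
    exact (h v).trans (by rw [Matrix.smul_mulVec, Matrix.one_mulVec])
  have h1 : ∀ g, (prS ((QuotientGroup.quotientMulEquivOfEq hk).trans (QuotientGroup.quotientKerEquivOfSurjective p hp)).symm g :
      Perm Ω) = D.π g := fun g => by
    obtain ⟨A, rfl⟩ := spE.surjective g
    rw [H925.Rs.prS_apply, MulEquiv.symm_apply_apply]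
    rfl
  refine ⟨_, h1, fun Y => le_antisymm (fun g hg => ?_) fun g hg => ?_⟩
  · exact (D.mem_pre' ⟨g, H925.Rs.preS_le hg⟩).2 (h1 _ ▸ (H925.Rs.mem_preS (x := ⟨g, H925.Rs.preS_le hg⟩)).1 hg)
  · exact (H925.Rs.mem_preS (x := ⟨g, D.pre_le hg⟩)).2 (h1 _ ▸ (D.mem_pre' ⟨g, D.pre_le hg⟩).1 hg)

theorem card_pre' (Y : Subgroup (Perm Ω)) : Nat.card (D.pre Y) = Nat.card (Y ⊓ S : Subgroup (Perm Ω)) * Nat.card D.π.ker := by
  have h1 := Subgroup.relIndex_ker D.π (K := Y.comap D.π)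
  have h2 : Nat.card (D.π.ker.subgroupOf (Y.comap D.π)) * D.π.ker.relIndex (Y.comap D.π) = Nat.card (Y.comap D.π) :=
    Subgroup.card_mul_index _
  have hle : D.π.ker ≤ Y.comap D.π := ker_le_comap _ _
  rw [pre, card_map_of_injective (Sp m F).subtype_injective, ← h2, h1, Nat.card_congr (subgroupOfEquivOfLe hle).toEquiv,
    map_comap_eq, D.π_range, inf_comm, mul_comm]

theorem card_pre (hY : Y ≤ S) : Nat.card (D.pre Y) = Nat.card Y * Nat.card D.π.ker := by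
  rw [D.card_pre', inf_eq_left.2 hY]

theorem card_A : Nat.card D.A = Nat.card T * Nat.card D.π.ker := D.card_pre D.up.le

theorem card_S : Nat.card (Sp m F) = Nat.card S * Nat.card D.π.ker := by rw [← D.card_pre le_rfl, D.pre_S]

theorem card_ker : Nat.card D.π.ker ∣ 2 := by
  obtain ⟨e, h1, -⟩ := D.isoS
  have : D.π.ker = (prS e).ker := by
    ext g
    rw [MonoidHom.mem_ker, MonoidHom.mem_ker, ← h1, Subtype.ext_iff]
    rfl
  exact this ▸ H925.Rs.card_ker D.one e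

theorem π_injective (h2 : (2 : F) = 0) : Function.Injective D.π := by
  rw [injective_iff_map_eq_one]
  intro g hg
  obtain ⟨c, hc⟩ := (D.π_eq_one g).1 hg
  exact Subtype.ext (eq_one_of_scalar D.one h2 g.2 hc)

theorem card_ker_two (h2 : (2 : F) = 0) : Nat.card D.π.ker = 1 := by
  rw [(MonoidHom.ker_eq_bot_iff _).2 (D.π_injective h2), card_bot]

theorem card_A_two (h2 : (2 : F) = 0) : Nat.card D.A = Nat.card T := by rw [D.card_A, D.card_ker_two h2, mul_one]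

theorem relIndex_pre (a : Ω) (hY : T ≤ Y) : (D.C a).relIndex (D.pre Y) = Fintype.card Ω := by
  let ρ : D.pre Y →* Perm Ω := D.π.comp (inclusion D.pre_le)
  let _ : MulAction (D.pre Y) Ω := MulAction.compHom Ω ρ
  have h1 : orbit (D.pre Y) a = Set.univ := Set.eq_univ_of_forall fun b => by
    obtain ⟨g, hg, e⟩ := D.trans a b
    exact ⟨⟨g.1, D.pre_mono hY hg⟩, e⟩
  have h2 := index_stabilizer (D.pre Y) a
  rw [h1, Set.ncard_univ, Nat.card_eq_fintype_card] at h2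
  rw [← h2, Subgroup.relIndex]
  congr 1
  ext g
  exact D.mem_C ⟨g.1, D.pre_le g.2⟩

theorem relIndex_A (a : Ω) : (D.C a).relIndex D.A = Fintype.card Ω := D.relIndex_pre a le_rfl

theorem relIndex_N (a : Ω) : (D.C a).relIndex D.N = Fintype.card Ω := D.relIndex_pre a D.up.socH.le

theorem relIndex_C (a : Ω) : (D.C a).relIndex (Sp m F) = Fintype.card Ω := by
  rw [← D.relIndex_pre a D.up.le, D.pre_S]

/-- `|C| n = |Sp|` -/
theorem card_C (a : Ω) : Nat.card (D.C a) * Fintype.card Ω = Nat.card (Sp m F) := by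
  rw [← D.relIndex_C a, ← Nat.card_congr (subgroupOfEquivOfLe (D.pre_le : D.C a ≤ Sp m F)).toEquiv]
  exact card_mul_index _

/-- `|A ⊓ C| n = |A|` -/
theorem card_AC (a : Ω) : Nat.card (D.A ⊓ D.C a : Subgroup (GG m F)) * Fintype.card Ω = Nat.card D.A := by
  rw [← D.relIndex_A a, ← Nat.card_congr (subgroupOfEquivOfLe (inf_le_left : D.A ⊓ D.C a ≤ D.A)).toEquiv, inf_comm,
    inf_subgroupOf_right]
  exact card_mul_index _

/-- `|Sp| |A ⊓ C| = |A| |C|` -/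
theorem card_fac (a : Ω) : Nat.card (Sp m F) * Nat.card (D.A ⊓ D.C a : Subgroup (GG m F)) = Nat.card D.A * Nat.card (D.C a) := by
  rw [← D.card_C a, ← D.card_AC a]
  ring

theorem card_dvd (a : Ω) : Nat.card (Sp m F) ∣ Nat.card D.A * Nat.card (D.C a) := ⟨_, (D.card_fac a).symm⟩

/-- characteristic two: `pre Y ≅ Y` -/
noncomputable def isoPre (h2 : (2 : F) = 0) (hY : Y ≤ S) : D.pre Y ≃* Y :=
  MulEquiv.ofBijective ((D.π.comp (inclusion D.pre_le)).codRestrict Y fun g => (D.mem_pre' ⟨g.1, D.pre_le g.2⟩).1 g.2)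
    ⟨fun _ _ h => inclusion_injective _ (D.π_injective h2 (congrArg Subtype.val h)), fun y => by
      obtain ⟨g, hg⟩ := D.π_surj (hY y.2)
      exact ⟨⟨g.1, (D.mem_pre' g).2 (hg ▸ y.2)⟩, Subtype.ext hg⟩⟩

theorem isoPre_apply (h2 : (2 : F) = 0) (hY : Y ≤ S) (g : D.pre Y) :
    (D.isoPre h2 hY g : Perm Ω) = D.π ⟨g.1, D.pre_le g.2⟩ := rfl

/-- characteristic two: `A ≅ T` -/
noncomputable def isoA (h2 : (2 : F) = 0) : D.A ≃* T := D.isoPre h2 D.up.le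

/-- characteristic two: `N` is almost simple with socle `A` -/
theorem asN (h2 : (2 : F) = 0) : AS D.N D.A := by
  have := D.up.socH.simple
  refine ⟨D.A_le_N, fun g hg x hx => D.N_conj_A hg hx, (D.isoA h2).isSimpleGroup, fun h => D.up.socH.nab ⟨⟨fun a b => ?_⟩⟩,
    fun g hg h => ?_⟩
  · obtain ⟨a, rfl⟩ := (D.isoA h2).surjective a
    obtain ⟨b, rfl⟩ := (D.isoA h2).surjective b
    rw [← map_mul, ← map_mul, h.is_comm.comm]
  · obtain ⟨c, hc⟩ := D.cenSp (D.pre_le hg) h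
    exact eq_one_of_scalar D.one h2 (D.pre_le hg) hc

/-- `q = 2`: `L = Sp` -/
theorem exists_pm_two (hq : Fintype.card F = 2) {g : Perm (VV m F)} (hg : g ∈ D.L) : ∃ x ∈ Sp m F, pm x = g := by
  obtain ⟨σ, l, hl, h⟩ := D.semi hg
  have k : ∀ c : F, c = 0 ∨ c = 1 := fun c => by
    classical
    by_contra hc
    push Not at hc
    have h3 := Finset.card_le_univ ({0, 1, c} : Finset F)
    rw [Finset.card_eq_three.2 ⟨0, 1, c, zero_ne_one, hc.1.symm, hc.2.symm, rfl⟩, hq] at h3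
    omega
  obtain rfl : σ = RingEquiv.refl F := RingEquiv.ext fun c => by rcases k c with rfl | rfl <;> simp
  obtain rfl : l = 1 := (k l).resolve_left hl
  exact exists_pm h

theorem maxN (hq : Fintype.card F = 2) : D.N ⋖ Sp m F := by
  refine ⟨lt_of_le_of_ne D.pre_le D.N_ne, fun K h1 h2 => ?_⟩
  rcases D.eqN h1.le h2.le (fun g hg x hx y hy e => by
    obtain ⟨z, hz, rfl⟩ := D.exists_pm_two hq (D.hat_le hg)
    have h3 := h1.le ((D.pm_mem_hat hz).1 hg)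
    rw [← map_inv, ← map_mul, ← map_mul, pm_injective.eq_iff] at e
    exact e ▸ mul_mem (mul_mem h3 hx) (inv_mem h3)) with k | k
  exacts [h1.ne' k, h2.ne k]

theorem maxC (hq : Fintype.card F = 2) (a : Ω) : D.C a ⋖ Sp m F := by
  refine ⟨lt_of_le_of_ne D.pre_le (D.C_ne a), fun K h1 h2 => ?_⟩
  rcases D.eqC a h1.le h2.le (fun g hg x hx y hy e => by
    obtain ⟨z, hz, rfl⟩ := D.exists_pm_two hq (D.hat_le hg)
    have h3 := h1.le ((D.pm_mem_hat hz).1 hg)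
    rw [← map_inv, ← map_mul, ← map_mul, pm_injective.eq_iff] at e
    exact e ▸ mul_mem (mul_mem h3 hx) (inv_mem h3)) with k | k
  exacts [h1.ne' k, h2.ne k]

include D in
/-- `q = 2`: `M = S` -/
theorem M_eq_two (hq : Fintype.card F = 2) : M = S := le_antisymm (fun x hx => by
  obtain ⟨g, rfl⟩ := D.φ_surj hx
  obtain ⟨y, hy, e⟩ := D.exists_pm_two hq g.2
  exact (congrArg D.φ (Subtype.ext e) : D.π ⟨y, hy⟩ = D.φ g) ▸ D.π_mem ⟨y, hy⟩) D.up.socM.le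

end Fr

end Cfsg.Agent.SM.Sy
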