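import Cfsg.Agent.SM.Sy.Form
import Cfsg.Agent.H890.SpIndex
import Cfsg.Agent.H177.Rg.SpOver
import Cfsg.Agent.ClassicalGeometry.WittQuad
import Cfsg.Agent.H925.Rs.Pair
import Cfsg.Agent.LieClassical.OrthSimple
import Cfsg.Agent.LieClassical.OrthCenter

/-!
# SM (S3570), symplectic socles: the groups `E Q ≤ O Q ≤ Sp` in characteristic two (helper19)

Indices, orders, perfectness, Witt's lemma in `E Q`, overgroups, the isomorphism with `PΩ`.
-/

set_option autoImplicit false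
set_option linter.unusedSectionVars false
set_option linter.unusedVariables false

namespace Cfsg.Agent.SM.Sy

open Cfsg Subgroup Module QuadraticMap
open Cfsg.Agent.ClassicalGeometry.SympBasic
open Cfsg.Agent.LieClassical.OrthCore Cfsg.Agent.LieClassical.OrthTrans Cfsg.Agent.LieClassical
open Cfsg.Agent.H955 (IsPlus res)

variable {m : ℕ} {F : Type} [Field F] [Fintype F] {Q Q' : QuadraticForm F (VV m F)}

theorem card_VV : Nat.card (VV m F) = Fintype.card F ^ (2 * m) := by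
  rw [Module.natCard_eq_pow_finrank (K := F), finrank_VV, Nat.card_eq_fintype_card]

theorem finite_GG : Finite (GG m F) := Finite.of_injective (fun g : GG m F => (g : VV m F → VV m F)) DFunLike.coe_injective

theorem gs_top_sq (h2 : (2 : F) = 0) (hQ : Pol Q) : gs Q ⊤ ^ 2 = ((Fintype.card F : ℤ) ^ m) ^ 2 := by
  rw [gs_sq h2 hQ nd_top, Nat.card_congr (Submodule.topEquiv (R := F) (M := VV m F)).toEquiv, card_VV]
  push_cast
  ring

theorem gs_plus (h2 : (2 : F) = 0) (hQ : Pol Q) (h : IsPlus Q) : gs Q ⊤ = (Fintype.card F : ℤ) ^ m :=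
  (pow_left_inj₀ ((plus_iff h2 hQ).1 h).le (by positivity) two_ne_zero).1 (gs_top_sq h2 hQ)

theorem gs_minus (h2 : (2 : F) = 0) (hQ : Pol Q) (h : ¬ IsPlus Q) : gs Q ⊤ = -(Fintype.card F : ℤ) ^ m := by
  have h1 := (not_plus_iff h2 hQ).1 h
  have h3 : -gs Q ⊤ = (Fintype.card F : ℤ) ^ m :=
    (pow_left_inj₀ (by omega) (by positivity) two_ne_zero).1 (by rw [neg_sq]; exact gs_top_sq h2 hQ)
  omega

/-- the number of vectors with `T0 (Q u)` -/
theorem ncard_t0 (Q : QuadraticForm F (VV m F)) :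
    2 * ({u | T0 (Q u)}.ncard : ℤ) = (Fintype.card F : ℤ) ^ (2 * m) + gs Q ⊤ := by
  classical
  have h1 : ((Fintype.card F : ℤ)) ^ (2 * m) = ∑ _v : VV m F, (1 : ℤ) := by
    rw [Finset.sum_const, Finset.card_univ, ← Nat.card_eq_fintype_card (α := VV m F), card_VV]
    simp
  rw [gs_top, h1, ← Finset.sum_add_distrib, Set.ncard_eq_toFinset_card', Set.toFinset_ofPred, Finset.card_filter]
  push_cast
  rw [Finset.mul_sum]
  refine Finset.sum_congr rfl fun v _ => ?_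
  by_cases h : T0 (Q v)
  · rw [if_pos h, psi_of h]; rfl
  · rw [if_neg h, psi_of_not h]; rfl

theorem relIndex_O (h2 : (2 : F) = 0) (hQ : Pol Q) : (O Q).relIndex (Sp m F) = {u | T0 (Q u)}.ncard := by
  let _ : MulAction (Sp m F) (VV m F → F) :=
    { smul := fun g f v => f (g.1⁻¹ v)
      one_smul := fun f => rfl
      mul_smul := fun g h f => rfl }
  have hs : ∀ (g : Sp m F) (f : VV m F → F) v, (g • f) v = f (g.1⁻¹ v) := fun _ _ _ => rfl
  have h1 : (O Q).subgroupOf (Sp m F) = MulAction.stabilizer (Sp m F) (Q : VV m F → F) := by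
    ext g
    rw [mem_subgroupOf, MulAction.mem_stabilizer_iff, funext_iff, ← inv_mem_iff]
    rfl
  rw [relIndex, h1, MulAction.index_stabilizer, ← Set.ncard_image_of_injective _
    (f := fun u => (ad Q u : VV m F → F)) fun u w h => ad_inj h2 (DFunLike.coe_injective h)]
  congr 1
  ext f
  constructor
  · rintro ⟨g, rfl⟩
    have hg := inv_mem g.2
    obtain ⟨u, hu⟩ := exists_ad h2 hQ (hQ.comp (Q' := Q.comp (g.1⁻¹ : GG m F).toLinearMap) hg fun _ => rfl)
    refine ⟨u, (orb_iff h2 hQ).1 ⟨_, hg, fun v => by rw [← hu]; rfl⟩, ?_⟩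
    beta_reduce
    rw [← hu]
    rfl
  · rintro ⟨u, hu, rfl⟩
    obtain ⟨g, hg, h⟩ := orb_of_t0 h2 hQ hu
    exact ⟨⟨g⁻¹, inv_mem hg⟩, funext h⟩

theorem idx_plus (h2 : (2 : F) = 0) (hQ : Pol Q) (h : IsPlus Q) :
    2 * (O Q).relIndex (Sp m F) = Fintype.card F ^ m * (Fintype.card F ^ m + 1) := by
  have h1 := ncard_t0 Q
  rw [gs_plus h2 hQ h, ← relIndex_O h2 hQ] at h1
  zify
  linear_combination h1

theorem idx_minus (h2 : (2 : F) = 0) (hQ : Pol Q) (h : ¬ IsPlus Q) :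
    2 * (O Q).relIndex (Sp m F) = Fintype.card F ^ m * (Fintype.card F ^ m - 1) := by
  have h1 := ncard_t0 Q
  rw [gs_minus h2 hQ h, ← relIndex_O h2 hQ] at h1
  have h3 : 1 ≤ Fintype.card F ^ m := Nat.one_le_pow _ _ Fintype.card_pos
  zify [h3]
  linear_combination h1

theorem card_Sp : Nat.card (Sp m F) = oSp m (Fintype.card F) := by
  rw [H925.Rs.card_Isos ff_self (fun x h => nd_top x trivial fun w _ => h w) finrank_VV, oSp, pow_two]

theorem card_mul_relIndex' {G : Type*} [Group G] {H K : Subgroup G} (h : H ≤ K) : Nat.card H * H.relIndex K = Nat.card K := by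
  have h1 := relIndex_mul_relIndex (⊥ : Subgroup G) H K bot_le h
  rwa [relIndex_bot_left, relIndex_bot_left] at h1

theorem Pol.good (hQ : Pol Q) (hm : 3 ≤ m) : Good Q := OrthFinite.good_of_finite hQ.nondeg (by rw [finrank_VV]; omega)

theorem Pol.hyp2 (hQ : Pol Q) (h2 : (2 : F) = 0) (hm : 2 ≤ m) {x y : VV m F} (h : Hyp Q x y) : H890.SpParity.Hyp2 Q x y := by
  obtain ⟨a, c, h1, h3, -, -, h5⟩ := exists_perp2 hQ.nondeg (by rw [finrank_VV]; omega) h
  refine ⟨h2, fun b => ?_, hQ.nondeg, h.left, h.right, h.pair, a, ?_, h1, h3⟩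
  · obtain ⟨c, hc⟩ := exists_sqrt h2 b
    exact ⟨c, by rw [pow_two, hc]⟩
  · rintro rfl
    rw [polar_zero_left] at h5
    exact zero_ne_one h5

theorem refl_not_mem (hQ : Pol Q) {v : VV m F} (hv : Q v ≠ 0) : refl Q v hv ∉ E Q := fun h => by
  have h3 := H890.SpParity.odd_refl_E hQ.nondeg (E Q).one_mem hv
  rw [mul_one] at h3
  exact h3 (H890.SpParity.even_E hQ.nondeg h)

/-- reflections are transvections -/
theorem refl_eq_tv (h2 : (2 : F) = 0) (hQ : Pol Q) {v : VV m F} (hv : Q v ≠ 0) : refl Q v hv = tv v (Q v)⁻¹ :=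
  LinearEquiv.ext fun x => by
    rw [refl_apply, tv_apply, hQ, ff_comm h2 v x, sub_eq_iff_eq_add, add_assoc, add_self_VV h2, add_zero]

theorem relIndex_E (h2 : (2 : F) = 0) (hQ : Pol Q) (hm : 2 ≤ m) : (E Q).relIndex (O Q) = 2 := by
  obtain ⟨x, y, h⟩ := exists_hyp_VV hQ hm
  have hh := hQ.hyp2 h2 hm h
  refine relIndex_eq_two_iff_exists_notMem_and'.2 ⟨_, refl_mem_O hh.Qab_ne, refl_not_mem hQ _, fun b hb => ?_⟩
  rcases hh.mem_O_cases hb with h1 | ⟨e, he, rfl⟩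
  · exact Or.inr h1
  · exact Or.inl (by rwa [← mul_assoc, refl_mul_self, one_mul])

/-- `E Q` has index two in `O Q` -/
theorem mul_mem_E_iff (h2 : (2 : F) = 0) (hQ : Pol Q) (hm : 2 ≤ m) {g h : GG m F} (hg : g ∈ O Q) (hh : h ∈ O Q) :
    g * h ∈ E Q ↔ (g ∈ E Q ↔ h ∈ E Q) :=
  mul_mem_iff_of_index_two (H := (E Q).subgroupOf (O Q)) (relIndex_E h2 hQ hm) (a := ⟨g, hg⟩) (b := ⟨h, hh⟩)

theorem refl_mul_refl (h2 : (2 : F) = 0) (hQ : Pol Q) (hm : 2 ≤ m) {v w : VV m F} (hv : Q v ≠ 0) (hw : Q w ≠ 0) :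
    refl Q v hv * refl Q w hw ∈ E Q :=
  (mul_mem_E_iff h2 hQ hm (refl_mem_O hv) (refl_mem_O hw)).2 (iff_of_false (refl_not_mem hQ hv) (refl_not_mem hQ hw))

/-- a group between `E Q` and `O Q` -/
theorem eq_E_or_eq_O (h2 : (2 : F) = 0) (hQ : Pol Q) (hm : 2 ≤ m) {Y : Subgroup (GG m F)} (h1 : E Q ≤ Y) (h3 : Y ≤ O Q) :
    Y = E Q ∨ Y = O Q := by
  by_cases h : Y ≤ E Q
  · exact Or.inl (le_antisymm h h1)
  obtain ⟨g, hg, hn⟩ := SetLike.not_le_iff_exists.1 h
  refine Or.inr (le_antisymm h3 fun x hx => ?_)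
  by_cases h4 : x ∈ E Q
  · exact h1 h4
  · exact (mul_mem_cancel_left hg).1 (h1 ((mul_mem_E_iff h2 hQ hm (h3 hg) hx).2 (iff_of_false hn h4)))

theorem comm_O_le (h2 : (2 : F) = 0) (hQ : Pol Q) (hm : 2 ≤ m) : ⁅O Q, O Q⁆ ≤ E Q := by
  refine commutator_le.2 fun g hg h hh => ?_
  rw [commutatorElement_def, mul_mem_E_iff h2 hQ hm (mul_mem (mul_mem hg hh) (inv_mem hg)) (inv_mem hh),
    mul_mem_E_iff h2 hQ hm (mul_mem hg hh) (inv_mem hg), mul_mem_E_iff h2 hQ hm hg hh, inv_mem_iff, inv_mem_iff]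
  by_cases h1 : g ∈ E Q <;> by_cases h3 : h ∈ E Q <;> simp only [h1, h3, iff_self, iff_false, iff_true, not_true_eq_false, not_false_eq_true]

theorem card_O (h2 : (2 : F) = 0) (hQ : Pol Q) (hm : 2 ≤ m) : Nat.card (O Q) = 2 * Nat.card (E Q) := by
  rw [← card_mul_relIndex' E_le_O, relIndex_E h2 hQ hm, mul_comm]

theorem oSp_plus {m q : ℕ} (hm : 1 ≤ m) (hq : 1 ≤ q) : oSp m q = oP m q * (q ^ m * (q ^ m + 1)) := by
  obtain ⟨k, rfl⟩ := Nat.exists_eq_add_of_le' hm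
  have h1 : q ^ (2 * (k + 1)) - 1 = (q ^ (k + 1) + 1) * (q ^ (k + 1) - 1) := by
    rw [← Nat.sq_sub_sq, one_pow, ← pow_mul, mul_comm]
  rw [oSp, oP, Finset.prod_range_succ, h1, Nat.add_sub_cancel]
  ring

theorem oSp_minus {m q : ℕ} (hm : 1 ≤ m) (hq : 1 ≤ q) : oSp m q = oM m q * (q ^ m * (q ^ m - 1)) := by
  obtain ⟨k, rfl⟩ := Nat.exists_eq_add_of_le' hm
  have h1 : q ^ (2 * (k + 1)) - 1 = (q ^ (k + 1) + 1) * (q ^ (k + 1) - 1) := by
    rw [← Nat.sq_sub_sq, one_pow, ← pow_mul, mul_comm]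
  rw [oSp, oM, Finset.prod_range_succ, h1, Nat.add_sub_cancel]
  ring

theorem card_O_plus (h2 : (2 : F) = 0) (hQ : Pol Q) (hm : 1 ≤ m) (h : IsPlus Q) :
    Nat.card (O Q) = 2 * oP m (Fintype.card F) := by
  have h1 := card_mul_relIndex' (O_le_Sp hQ)
  rw [card_Sp, oSp_plus hm Fintype.card_pos, ← idx_plus h2 hQ h, ← mul_assoc, mul_comm (oP _ _)] at h1
  refine Nat.eq_of_mul_eq_mul_right (Nat.pos_of_ne_zero fun h0 => ?_) h1
  have h3 := idx_plus h2 hQ h
  have h4 : 0 < Fintype.card F ^ m := pow_pos Fintype.card_pos _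
  rw [h0] at h3
  exact absurd h3 (by positivity : (0 : ℕ) < _).ne

theorem card_O_minus (h2 : (2 : F) = 0) (hQ : Pol Q) (hm : 1 ≤ m) (h : ¬ IsPlus Q) :
    Nat.card (O Q) = 2 * oM m (Fintype.card F) := by
  have h1 := card_mul_relIndex' (O_le_Sp hQ)
  rw [card_Sp, oSp_minus hm Fintype.card_pos, ← idx_minus h2 hQ h, ← mul_assoc, mul_comm (oM _ _)] at h1
  refine Nat.eq_of_mul_eq_mul_right (Nat.pos_of_ne_zero fun h0 => ?_) h1
  have h3 := idx_minus h2 hQ h
  have h4 : 1 < Fintype.card F ^ m := Nat.one_lt_pow (by omega) Fintype.one_lt_card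
  rw [h0] at h3
  exact absurd h3 (Nat.mul_pos (by omega) (by omega) : (0 : ℕ) < _).ne

theorem card_E_plus (h2 : (2 : F) = 0) (hQ : Pol Q) (hm : 2 ≤ m) (h : IsPlus Q) : Nat.card (E Q) = oP m (Fintype.card F) := by
  have h1 := card_O h2 hQ hm
  rw [card_O_plus h2 hQ (by omega) h] at h1
  omega

theorem card_E_minus (h2 : (2 : F) = 0) (hQ : Pol Q) (hm : 2 ≤ m) (h : ¬ IsPlus Q) :
    Nat.card (E Q) = oM m (Fintype.card F) := by
  have h1 := card_O h2 hQ hm
  rw [card_O_minus h2 hQ (by omega) h] at h1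
  omega

theorem card_E (h2 : (2 : F) = 0) (hQ : Pol Q) (hm : 2 ≤ m) :
    (IsPlus Q → Nat.card (E Q) = oP m (Fintype.card F)) ∧ (¬ IsPlus Q → Nat.card (E Q) = oM m (Fintype.card F)) :=
  ⟨card_E_plus h2 hQ hm, card_E_minus h2 hQ hm⟩

theorem perf_E (h2 : (2 : F) = 0) (hQ : Pol Q) (hm : 2 ≤ m) (h : 3 ≤ m ∨ 3 ≤ Fintype.card F) : ⁅E Q, E Q⁆ = E Q := by
  rcases h with h | h
  · exact (hQ.good h).E_perfect
  refine le_antisymm (commutator_le.2 fun g hg k hk => mul_mem (mul_mem (mul_mem hg hk) (inv_mem hg)) (inv_mem hk)) ?_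
  obtain ⟨t, h0, h1⟩ : ∃ t : F, t ≠ 0 ∧ t ≠ 1 := by
    classical
    by_contra h3
    push Not at h3
    have h4 : (Finset.univ : Finset F) ⊆ {0, 1} := fun t _ => by
      by_cases h5 : t = 0
      · simp [h5]
      · simp [h3 t h5]
    have h5 := (Finset.card_le_card h4).trans Finset.card_le_two
    rw [Finset.card_univ] at h5
    omega
  conv_lhs => rw [E]
  rw [closure_le]
  rintro _ ⟨x, w, hx, hw, rfl⟩
  by_cases hx0 : x = 0
  · have h3 : siegel Q x w hx hw = 1 := LinearEquiv.ext fun v => by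
      rw [siegel_apply, hx0]
      simp
    rw [h3]
    exact one_mem _
  obtain ⟨y, hy⟩ := exists_hyp hQ.nondeg hx hx0
  -- the torus
  have hv : ∀ a : F, Q (a • x + y) = a := fun a => by
    rw [Q_add, QuadraticMap.map_smul, hx, hy.right, polar_smul_left, hy.pair]
    simp
  have hr : ∀ (a : F) (ha : Q (a • x + y) ≠ 0) (z : VV m F), polar Q x z = 0 → polar Q y z = 0 → refl Q _ ha z = z :=
    fun a ha z h3 h4 => by rw [refl_apply, polar_add_left, polar_smul_left, h3, h4]; simp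
  have ha : Q (t⁻¹ • x + y) ≠ 0 := by rw [hv]; exact inv_ne_zero h0
  have hb : Q ((1 : F) • x + y) ≠ 0 := by rw [hv]; exact one_ne_zero
  obtain ⟨k, hk, hkx, hkz⟩ : ∃ k ∈ E Q, k x = t • x ∧ ∀ z, polar Q x z = 0 → polar Q y z = 0 → k z = z := by
    refine ⟨_, refl_mul_refl h2 hQ hm hb ha, ?_, fun z h3 h4 => ?_⟩
    · have h3 : refl Q _ ha x = -t • y := by
        rw [refl_apply, hv, polar_add_left, polar_smul_left, hy.polar_left, hy.pair', inv_inv, smul_add, smul_smul]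
        simp [h0]
      rw [LinearEquiv.mul_apply, h3, map_smul, refl_apply, hv, polar_add_left, polar_smul_left, hy.pair, hy.polar_right]
      simp
    · rw [LinearEquiv.mul_apply, hr _ ha z h3 h4, hr _ hb z h3 h4]
  let z := (t - 1)⁻¹ • OrthTrans.proj Q x y w
  have hz1 : polar Q x z = 0 := by rw [polar_smul_right, polar_proj_left hy, smul_zero]
  have hz2 : polar Q y z = 0 := by rw [polar_smul_right, polar_proj_right hy, smul_zero]
  have h3 : siegel Q x w hx hw = k * siegel Q x z hx hz1 * k⁻¹ * (siegel Q x z hx hz1)⁻¹ := by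
    have h4 : polar Q x (t • z) = 0 := by rw [polar_smul_right, hz1, smul_zero]
    have h5 : Q (k x) = 0 := by rw [E_le_O hk, hx]
    have h6 : polar Q (k x) (k z) = 0 := by rw [polar_map (E_le_O hk), hz1]
    have h7 : Q (t • x) = 0 := hkx ▸ h5
    have h8 : polar Q (t • x) z = 0 := by rw [polar_smul_left, hz1, smul_zero]
    have h9 : polar Q x (w + z) = 0 := by rw [polar_add_right, hw, hz1, add_zero]
    have h10 : polar Q x (polar Q y w • x) = 0 := by rw [polar_smul_right, hy.polar_left, smul_zero]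
    have h11 : siegel Q x (polar Q y w • x) hx h10 = 1 := LinearEquiv.ext fun v => by
      rw [siegel_apply, QuadraticMap.map_smul, hx, polar_smul_left, smul_smul]
      simp [mul_comm]
    have h12 : w + z = t • z + polar Q y w • x := by
      have h13 : (t - 1) • z = OrthTrans.proj Q x y w := by rw [smul_smul, mul_inv_cancel₀ (sub_ne_zero.2 h1), one_smul]
      rw [OrthTrans.proj, hw, zero_smul, sub_zero, sub_smul, one_smul] at h13
      linear_combination (exp := 1) -h13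
    rw [siegel_conj (E_le_O hk) hx hz1 h5 h6,
      OrthSimple.siegel_congr h5 h6 h7 h8 hkx (hkz z hz1 hz2), OrthSimple.siegel_smul_left hx h7 h8 h4, eq_mul_inv_iff_mul_eq,
      siegel_mul hx hw hz1 h9, OrthSimple.siegel_congr hx h9 hx (h12 ▸ h9) rfl h12, ← siegel_mul hx h4 h10, h11, mul_one]
  rw [SetLike.mem_coe, h3]
  exact commutator_mem_commutator hk (siegel_mem_E hx hz1)

theorem comm_O (h2 : (2 : F) = 0) (hQ : Pol Q) (hm : 2 ≤ m) (h : 3 ≤ m ∨ 3 ≤ Fintype.card F) : ⁅O Q, O Q⁆ = E Q :=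
  le_antisymm (comm_O_le h2 hQ hm) ((perf_E h2 hQ hm h).ge.trans (commutator_mono E_le_O E_le_O))

theorem over_E (h2 : (2 : F) = 0) (hQ : Pol Q) (hm : 3 ≤ m) {Y : Subgroup (GG m F)} (h1 : E Q ≤ Y) (h3 : Y ≤ Sp m F) :
    Y ≤ O Q ∨ Y = Sp m F :=
  (H177.Rg.sp_over_of_finite h2 hQ.nondeg (by rw [finrank_VV]; omega)
    (fun g hg u v => by rw [hQ, hQ]; exact h3 hg u v) h1).imp_right fun h =>
      le_antisymm h3 fun g hg => h g fun u v => by rw [hQ, hQ]; exact hg u v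

/-- Witt's lemma in `O Q` -/
theorem witO (hQ : Pol Q) {k : ℕ} {x y : Fin k → VV m F} (hx : LinearIndependent F x) (hy : LinearIndependent F y)
    (h1 : ∀ i, Q (x i) = Q (y i)) (h3 : ∀ i j, ff m F (x i) (x j) = ff m F (y i) (y j)) : ∃ g ∈ O Q, ∀ i, g (x i) = y i :=
  ClassicalGeometry.WittQuad.extend_family Q (H955.nondegenerate_of_nondeg hQ.nondeg) k x y hx hy h1 fun i j =>
    (hQ _ _).trans ((h3 i j).trans (hQ _ _).symm)

/-- a non-singular vector orthogonal to a small subspace -/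
theorem exists_nonsing_perp (hQ : Pol Q) {U : Submodule F (VV m F)} (h : finrank F U < m) : ∃ b ∈ perp U, Q b ≠ 0 := by
  by_contra h1
  push Not at h1
  have h3 := H955.two_mul_finrank_le hQ.nondeg h1
  have h4 := finrank_perp U
  rw [finrank_VV] at h3
  omega

/-- Witt's lemma in `E Q` -/
theorem witE (h2 : (2 : F) = 0) (hQ : Pol Q) (hm : 2 ≤ m) {k : ℕ} (hk : k < m) {x y : Fin k → VV m F}
    (hx : LinearIndependent F x) (hy : LinearIndependent F y) (h1 : ∀ i, Q (x i) = Q (y i))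
    (h3 : ∀ i j, ff m F (x i) (x j) = ff m F (y i) (y j)) : ∃ g ∈ E Q, ∀ i, g (x i) = y i := by
  obtain ⟨g, hg, h4⟩ := witO hQ hx hy h1 h3
  by_cases h5 : g ∈ E Q
  · exact ⟨g, h5, h4⟩
  obtain ⟨b, hb, h6⟩ := exists_nonsing_perp hQ (U := Submodule.span F (Set.range y))
    (by rw [finrank_span_eq_card hy, Fintype.card_fin]; exact hk)
  refine ⟨_, (mul_mem_E_iff h2 hQ hm (refl_mem_O h6) hg).2 (iff_of_false (refl_not_mem hQ h6) h5), fun i => ?_⟩
  rw [LinearEquiv.mul_apply, h4, refl_apply, hQ, ff_eq_zero_comm.1 (hb _ (Submodule.subset_span ⟨i, rfl⟩))]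
  simp

theorem wit1 (h2 : (2 : F) = 0) (hQ : Pol Q) (hm : 2 ≤ m) {u w : VV m F} (hu : u ≠ 0) (hw : w ≠ 0) (h : Q u = Q w) :
    ∃ g ∈ E Q, g u = w := by
  obtain ⟨g, hg, h1⟩ := witE h2 hQ hm (k := 1) (by omega) (x := ![u]) (y := ![w]) (linearIndependent_unique_iff.2 hu)
    (linearIndependent_unique_iff.2 hw) (fun i => by fin_cases i; exact h)
    fun i j => by fin_cases i; fin_cases j; exact (ff_self u).trans (ff_self w).symm
  exact ⟨g, hg, h1 0⟩

theorem wit2 (h2 : (2 : F) = 0) (hQ : Pol Q) (hm : 3 ≤ m) {u w u' w' : VV m F} (h : LinearIndependent F ![u, w])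
    (h' : LinearIndependent F ![u', w']) (h1 : Q u = Q u') (h3 : Q w = Q w') (h4 : ff m F u w = ff m F u' w') :
    ∃ g ∈ E Q, g u = u' ∧ g w = w' := by
  obtain ⟨g, hg, h5⟩ := witE h2 hQ (by omega) (k := 2) (by omega) h h' (fun i => by fin_cases i; exacts [h1, h3])
    fun i j => by
      fin_cases i <;> fin_cases j
      exacts [(ff_self u).trans (ff_self u').symm, h4, (ff_comm h2 w u).trans (h4.trans (ff_comm h2 u' w')),
        (ff_self w).trans (ff_self w').symm]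
  exact ⟨g, hg, h5 0, h5 1⟩

/-- `E Q` is `Ω` and `PΩ` of any isometric model -/
theorem iso_gen (h2 : (2 : F) = 0) (hQ : Pol Q) (hm : 2 ≤ m) (h : 3 ≤ m ∨ 3 ≤ Fintype.card F) {ι : Type} [Fintype ι]
    [DecidableEq ι] (R : QuadraticForm F (ι → F)) (e : VV m F ≃ₗ[F] (ι → F)) (he : ∀ v, R (e v) = Q v) :
    ∃ (φ : E Q ≃* Omega F (⇑R)) (ψ : E Q ≃* POmega F (⇑R)), (∀ g, ψ g = QuotientGroup.mk (φ g)) ∧
      ∀ (g : E Q) v, (((φ g : isometryGroup F (⇑R)) : GL ι F) : Matrix ι ι F).mulVec (e v) = e (g.1 v) := by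
  let c : GG m F ≃* ((ι → F) ≃ₗ[F] (ι → F)) :=
    { toFun := fun g => e.symm.trans (g.trans e)
      invFun := fun g => e.trans (g.trans e.symm)
      left_inv := fun g => LinearEquiv.ext fun v => by simp
      right_inv := fun g => LinearEquiv.ext fun v => by simp
      map_mul' := fun g k => LinearEquiv.ext fun v => by simp }
  have hc : ∀ g v, c g (e v) = e (g v) := fun g v => by simp [c]
  have h1 : (O Q).map c.toMonoidHom = O R := by
    ext g
    obtain ⟨g, rfl⟩ := c.surjective g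
    refine (mem_map_iff_mem c.injective).trans ⟨fun hg v => ?_, fun hg v => ?_⟩
    · obtain ⟨v, rfl⟩ := e.surjective v
      rw [hc, he, he, hg v]
    · rw [← he, ← hc, hg, he]
  have h3 : (E Q).map c.toMonoidHom = ⁅O R, O R⁆ := by rw [← comm_O h2 hQ hm h, map_commutator, h1]
  let φ : E Q ≃* Omega F (⇑R) :=
    ((c.subgroupMap (E Q)).trans (MulEquiv.subgroupCongr h3)).trans (OrthFinite.omegaEquiv R).symm
  have hR := H955.nondeg_of_equiv e he hQ.nondeg
  have hd : Fintype.card ι = 2 * m := by rw [← finrank_VV (F := F), e.finrank_eq, finrank_fintype_fun_eq_card]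
  obtain ⟨x, y, hxy⟩ := exists_hyp_VV hQ hm
  have h4 := OrthCenter.center_omega_eq_bot_char_two h2 (H955.nondegenerate_of_nondeg hR) (by omega)
    ⟨e x, e.map_ne_zero_iff.2 hxy.left_ne, (he x).trans hxy.left⟩
  refine ⟨φ, φ.trans (MulEquiv.ofBijective (QuotientGroup.mk' _) ⟨?_, QuotientGroup.mk'_surjective _⟩), fun g => rfl,
    fun g v => ?_⟩
  · rw [← MonoidHom.ker_eq_bot_iff, QuotientGroup.ker_mk', h4]
  · rw [← OrthFinite.omegaEquiv_apply, ← hc]
    simp only [φ, MulEquiv.trans_apply, MulEquiv.apply_symm_apply]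
    rfl

theorem iso_plus (h2 : (2 : F) = 0) (hQ : Pol Q) (hm : 2 ≤ m) (h : 3 ≤ m ∨ 3 ≤ Fintype.card F) (hP : IsPlus Q) :
    ∃ (e : VV m F ≃ₗ[F] (Fin m ⊕ Fin m → F)) (φ : E Q ≃* Omega F (quadFormPlus m F)) (ψ : E Q ≃* POmega F (quadFormPlus m F)),
      (∀ v, quadFormPlus m F (e v) = Q v) ∧ (∀ g, ψ g = QuotientGroup.mk (φ g)) ∧
      ∀ (g : E Q) v, ((φ g : isometryGroup F (quadFormPlus m F)) : GL (Fin m ⊕ Fin m) F).val.mulVec (e v) = e (g.1 v) := by
  obtain ⟨e, he⟩ := H955.exists_plus_equiv m Q hQ.nondeg finrank_VV hP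
  have h1 := iso_gen h2 hQ hm h _ e he
  have h3 : ∀ v, (⇑(QuadForms.plusForm m F)) (e v) = Q v := he
  rw [QuadForms.coe_plusForm] at h1 h3
  obtain ⟨φ, ψ, h4, h5⟩ := h1
  exact ⟨e, φ, ψ, h3, h4, h5⟩

theorem iso_minus (h2 : (2 : F) = 0) (hQ : Pol Q) (hm : 2 ≤ m) (h : 3 ≤ m ∨ 3 ≤ Fintype.card F) (hP : ¬ IsPlus Q) {a b : F}
    (hab : ∀ z₁ z₂ : F, z₁ ^ 2 + a * z₁ * z₂ + b * z₂ ^ 2 = 0 → z₁ = 0 ∧ z₂ = 0) :
    ∃ (e : VV m F ≃ₗ[F] ((Fin (m - 1) ⊕ Fin (m - 1)) ⊕ Fin 2 → F)) (φ : E Q ≃* Omega F (quadFormMinus (m - 1) F a b))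
      (ψ : E Q ≃* POmega F (quadFormMinus (m - 1) F a b)),
      (∀ v, quadFormMinus (m - 1) F a b (e v) = Q v) ∧ (∀ g, ψ g = QuotientGroup.mk (φ g)) ∧
      ∀ (g : E Q) v, ((φ g : isometryGroup F (quadFormMinus (m - 1) F a b)) :
        GL ((Fin (m - 1) ⊕ Fin (m - 1)) ⊕ Fin 2) F).val.mulVec (e v) = e (g.1 v) := by
  obtain ⟨e, he⟩ := H955.exists_minus_equiv hab (m - 1) Q hQ.nondeg (by rw [finrank_VV]; omega) hP
  have h1 := iso_gen h2 hQ hm h _ e he
  have h3 : ∀ v, (⇑(QuadForms.minusForm (m - 1) F a b)) (e v) = Q v := he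
  rw [QuadForms.coe_minusForm] at h1 h3
  obtain ⟨φ, ψ, h4, h5⟩ := h1
  exact ⟨e, φ, ψ, h3, h4, h5⟩

theorem simple_E (h2 : (2 : F) = 0) (hQ : Pol Q) (hm : 3 ≤ m) : IsSimpleGroup (E Q) := by
  obtain ⟨-, ψ, -⟩ := iso_gen h2 hQ (by omega) (Or.inl hm) Q (LinearEquiv.refl _ _) fun _ => rfl
  have := OrthFinite.isSimpleGroup_POmega hQ.nondeg (by simp; omega)
  exact ψ.isSimpleGroup

end Cfsg.Agent.SM.Sy
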