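import Cfsg.Agent.H250.EqD.DdN
import Cfsg.Agent.SM.Sy.Api
import Cfsg.Agent.SM.Sy.FormB
import Cfsg.Agent.H902.SameD

/-!
# SM (S3570), symplectic socles: the glue (helper92)

`bnd_of` : `Bnd fS RS` from the boxes.
-/

set_option autoImplicit false
set_option linter.unusedSectionVars false
set_option linter.unusedVariables false

namespace Cfsg.Agent.SM.Sy

open Cfsg Equiv Subgroup Module QuadraticMap
open Cfsg.Agent.LieClassical.OrthCore (O E)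
open Cfsg.Agent.H955 (IsPlus)
open Cfsg.Agent.H902

/-- signature of the row `R3` -/
def Sig3 : Prop := All fun _ _ _ _ Ω _ _ _ _ T _ _ D a => D.R3 a → ∃ e, 2 ≤ e ∧ Nat.card T = oG (2 ^ e) ∧
  Fintype.card Ω = (2 ^ e) ^ 4 * ((2 ^ e) ^ 4 + (2 ^ e) ^ 2 + 1)
/-- signature of the row `R4` -/
def Sig4 : Prop := All fun m _ _ _ Ω _ _ _ _ T _ _ D a => 3 ≤ m → D.R4 a → ∃ b s, 1 ≤ b ∧ s.Prime ∧ 3 ≤ b * s ∧
  Nat.card T = oSp b (2 ^ s) ∧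
    (Fintype.card Ω = 2 ^ (b * s - 1) * (2 ^ (b * s) + 1) ∨ Fintype.card Ω = 2 ^ (b * s - 1) * (2 ^ (b * s) - 1))
/-- signature of the row `R5` -/
def Sig5 : Prop := All fun m F _ _ Ω _ _ _ _ T _ _ D a => D.R5 a → Fintype.card F = 2 ∧ ∃ Q, D.Om Q ∧
  ((IsPlus Q ∧ Nat.card T = oP m 2 ∧ Fintype.card Ω = 2 ^ (m - 1) * (2 ^ m - 1)) ∨
    (¬ IsPlus Q ∧ Nat.card T = oM m 2 ∧ Fintype.card Ω = 2 ^ (m - 1) * (2 ^ m + 1)))
/-- signature of the row `R7` -/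
def Sig7 : Prop := All fun _ _ _ _ Ω _ _ _ _ T _ _ D a => D.R7 a → Nat.card T = 20160 ∧ Fintype.card Ω = 120
/-- signature of the rows `R1`, `R2` -/
def SigO : Prop := All fun m _ _ _ _ _ _ _ _ _ _ _ D a => 3 ≤ m → D.R1 a ∨ D.R2 a →
  (∃ Q, D.Om Q) ∧ 4 ≤ m ∧ (m = 4 → ∀ Q, D.Om Q → ¬ IsPlus Q)

/-- the rows -/
def Rows : Prop := All fun m _ _ _ _ _ _ _ _ _ _ _ D a => 3 ≤ m → D.R1 a ∨ D.R2 a ∨ D.R3 a ∨ D.R4 a ∨ D.R5 a ∨
  D.R6 a 3 6048 28 ∨ D.R6 a 3 6048 36 ∨ D.R6 a 4 1814400 120 ∨ D.R6 a 4 2448 136 ∨ D.R7 a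

theorem rows_of (cla : BoxCLa) (clb : BoxCLb) (clc : BoxCLc) (k1 : BoxK1) (k2a : BoxK2a) (k2b : BoxK2b) (k3q : BoxK3q)
    (k3g : BoxK3g) (k3s : BoxK3s) (k4a : BoxK4a) (k4p : BoxK4p) (k4m : BoxK4m) (k4g : BoxK4g) (k4s : BoxK4s) (rp : BoxResP)
    (rm : BoxResM) : Rows := by
  intro m F _ _ Ω _ _ X H T M S D a hm
  have c3 : D.C3 a → D.R4 a ∨ D.R5 a ∨ D.R6 a 3 6048 28 ∨ D.R6 a 3 6048 36 ∨ D.R6 a 4 1814400 120 ∨ D.R6 a 4 2448 136 :=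
    fun h => by
      obtain ⟨Q, hQ⟩ := k3q m F Ω X H T M S D a h
      rcases k3g m F Ω X H T M S D a hm Q hQ with k | k | k
      · exact Or.inl k
      · exact Or.inr (Or.inl k)
      by_cases h6 : m ≤ 6
      · exact Or.inr (Or.inr (k3s m F Ω X H T M S D a hm h6 Q hQ k))
      by_cases hp : IsPlus Q
      · exact (rp m F D.N Q (by omega) h.1 hQ.2.1 hp D.pre_le D.N_ne k ((D.trF_A a hQ.2.2.le).mono D.A_le_N)).elim
      · exact ((rm m F Ω X H T M S D a (by omega) Q hp).1 hQ k).elim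
  have res : ∀ Q, D.Om Q → Res (D.C a) → D.R7 a := fun Q hQ k => by
    by_cases h3 : m = 3
    · exact k4g m F Ω X H T M S D a h3 Q hQ k
    by_cases h6 : m ≤ 6
    · exact (k4s m F Ω X H T M S D a (by omega) h6 Q hQ k).elim
    by_cases hp : IsPlus Q
    · exact (rp m F (D.C a) Q (by omega) hQ.two hQ.pol hp D.pre_le (D.C_ne a) k
        (D.trF_C a (D.A_le_N.trans hQ.eqN.le))).elim
    · exact ((rm m F Ω X H T M S D a (by omega) Q hp).2 hQ k).elim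
  have h : D.C1 a ∨ D.C2 a ∨ D.C3 a ∨ D.C4 := by
    by_cases hq : Fintype.card F = 2
    · by_cases h6 : m ≤ 6
      · exact clb m F Ω X H T M S D a hm h6 hq
      · exact cla m F Ω X H T M S D a (by omega) fun k => absurd k h6
    · by_cases h4 : m ≤ 4
      · exact clc m F Ω X H T M S D a hm h4 hq
      · exact cla m F Ω X H T M S D a (by omega) fun _ => hq
  rcases h with h | h | h | h
  · exact (k1 m F Ω X H T M S D a h).elim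
  · by_cases h3 : m = 3
    · exact Or.inr (Or.inr (Or.inl (k2b m F Ω X H T M S D a h3 h)))
    · exact (k2a m F Ω X H T M S D a (by omega) h).elim
  · have := c3 h
    tauto
  · obtain ⟨Q, hQ⟩ := k4a m F Ω X H T M S D a h
    by_cases hp : IsPlus Q
    · rcases k4p m F Ω X H T M S D a hm Q hQ hp with k | k | k
      · have := c3 k
        tauto
      · exact Or.inl k
      · have := res Q hQ k
        tauto
    · rcases k4m m F Ω X H T M S D a hm Q hQ hp with k | k | k | k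
      · have := c3 k
        tauto
      · exact Or.inl k
      · exact Or.inr (Or.inl k)
      · have := res Q hQ k
        tauto

namespace Gl

theorem odd_sub {e m : ℕ} (he : 1 ≤ e) (hm : 1 ≤ m) : Odd ((2 ^ e) ^ m - 1) := by
  rw [← pow_mul]
  exact Nat.Even.sub_odd Nat.one_le_two_pow ((Nat.even_pow' (Nat.mul_pos he hm).ne').2 even_two) odd_one

theorem odd_add {e m : ℕ} (he : 1 ≤ e) (hm : 1 ≤ m) : Odd ((2 ^ e) ^ m + 1) := by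
  rw [← pow_mul]
  exact ((Nat.even_pow' (Nat.mul_pos he hm).ne').2 even_two).add_one

theorem gcd4 {x : ℕ} (h : Odd x) : Nat.gcd 4 x = 1 := (Nat.coprime_two_left.2 h).pow_left 2

theorem realP {m e : ℕ} (hm : 4 ≤ m) (he : 1 ≤ e) : Art.Real (.D m) 2 e (oP m (2 ^ e)) :=
  ⟨Nat.prime_two, he, hm, by
    rw [Art.dd, gcd4 (odd_sub he (by omega)), one_mul, oP, mul_assoc]; rfl⟩

theorem realM {m e : ℕ} (hm : 4 ≤ m) (he : 1 ≤ e) : Art.Real (.DD m) 2 e (oM m (2 ^ e)) :=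
  ⟨Nat.prime_two, he, hm, by
    rw [Art.dd, gcd4 (odd_add he (by omega)), one_mul, oM, mul_assoc]; rfl⟩

theorem four_le {s : ℕ} (hs : 2 ≤ s) : 4 ≤ 2 ^ s := Nat.pow_le_pow_right (n := 2) two_pos hs

theorem gcd2 {s : ℕ} (hs : 1 ≤ s) : Nat.gcd 2 (2 ^ s - 1) = 1 := by
  have h := odd_sub hs le_rfl
  rw [pow_one] at h
  exact Nat.coprime_two_left.2 h

theorem realC {b s : ℕ} (hb : 2 ≤ b) (hs : 2 ≤ s) : Art.Real (.C b) 2 s (oSp b (2 ^ s)) :=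
  ⟨Nat.prime_two, by omega, ⟨hb, fun _ => by have := four_le hs; omega⟩, by
    rw [Art.dd, gcd2 (by omega), one_mul, oSp, ← pow_two]; rfl⟩

theorem realL {s : ℕ} (hs : 2 ≤ s) : Art.Real (.L 2) 2 s (oSp 1 (2 ^ s)) :=
  ⟨Nat.prime_two, by omega, ⟨le_rfl, fun _ => four_le hs⟩, by
    rw [Art.dd, gcd2 (by omega), one_mul]; rfl⟩

theorem realG {e : ℕ} (he : 2 ≤ e) : Art.Real .G2 2 e (oG (2 ^ e)) :=
  ⟨Nat.prime_two, by omega, show 3 ≤ 2 ^ e by have := four_le he; omega, by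
    show 1 * _ = (2 ^ e) ^ 6 * (((2 ^ e) ^ 2 - 1) * ((2 ^ e) ^ 6 - 1))
    rw [oG]; ring⟩

/-- the three infinite classes -/
def K0 (t : ℕ) : Prop := ∃ m e, 1 ≤ e ∧ ((5 ≤ m ∧ t = oP m (2 ^ e)) ∨ (4 ≤ m ∧ t = oM m (2 ^ e)))
def K2 (t : ℕ) : Prop := ∃ b s, 1 ≤ b ∧ s.Prime ∧ 3 ≤ b * s ∧ t = oSp b (2 ^ s)
def K3 (t : ℕ) : Prop := ∃ e, 2 ≤ e ∧ t = oG (2 ^ e)
/-- the small orders -/
def Sm (t : ℕ) : Prop := t = 6048 ∨ t = 1814400 ∨ t = 2448 ∨ t = 20160 ∨ t = 25920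

theorem Sm.not {t : ℕ} (h : Sm t) : ¬ 2 ^ 8 ∣ t := by rcases h with rfl | rfl | rfl | rfl | rfl <;> decide

theorem dvd8 {e k x : ℕ} (h : 8 ≤ e * k) : 2 ^ 8 ∣ (2 ^ e) ^ k * x := by
  rw [← pow_mul]
  exact (pow_dvd_pow 2 h).mul_right _

theorem K0.big {t : ℕ} (h : K0 t) : ¬ Sm t := fun k => k.not (by
  obtain ⟨m, e, he, ⟨hm, rfl⟩ | ⟨hm, rfl⟩⟩ := h
  all_goals
    have h1 : 4 * 3 ≤ m * (m - 1) := Nat.mul_le_mul (by omega) (by omega)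
    have h2 := Nat.mul_le_mul he h1
    exact (dvd8 (by omega)).mul_right _)

theorem K3.big {t : ℕ} (h : K3 t) : ¬ Sm t := fun k => k.not (by
  obtain ⟨e, he, rfl⟩ := h
  exact (dvd8 (by omega)).mul_right _)

theorem K2.big {t : ℕ} (h : K2 t) : ¬ Sm t := fun k => by
  obtain ⟨b, s, hb, hs, h3, rfl⟩ := h
  have h2 := hs.two_le
  by_cases h8 : 8 ≤ s * (b * b)
  · exact k.not (dvd8 h8)
  obtain rfl : b = 1 := by
    by_contra h1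
    have h4 : 2 * 2 ≤ b * b := Nat.mul_le_mul (by omega) (by omega)
    have := Nat.mul_le_mul h2 h4
    omega
  have h5 : s < 8 := by omega
  unfold Sm at k
  interval_cases s <;> revert k <;> decide

theorem K0.real {t : ℕ} (h : K0 t) : ∃ m e, (5 ≤ m ∧ Art.Real (.D m) 2 e t) ∨ Art.Real (.DD m) 2 e t := by
  obtain ⟨m, e, he, ⟨hm, rfl⟩ | ⟨hm, rfl⟩⟩ := h
  exacts [⟨m, e, Or.inl ⟨hm, realP (by omega) he⟩⟩, ⟨m, e, Or.inr (realM hm he)⟩]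

theorem K2.real {t : ℕ} (h : K2 t) : ∃ b e, Art.Real (.C b) 2 e t ∨ Art.Real (.L 2) 2 e t := by
  obtain ⟨b, s, hb, hs, h3, rfl⟩ := h
  rcases hb.eq_or_lt with rfl | hb
  exacts [⟨0, s, Or.inr (realL hs.two_le)⟩, ⟨b, s, Or.inl (realC hb hs.two_le)⟩]

theorem K3.real {t : ℕ} (h : K3 t) : ∃ e, Art.Real .G2 2 e t := by
  obtain ⟨e, he, rfl⟩ := h
  exact ⟨e, realG he⟩

theorem same {X Y : Art.Sh} {e f t : ℕ} (h : Art.Real X 2 e t) (h' : Art.Real Y 2 f t) (hs : ¬ Sm t) : X = Y :=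
  (Art.same_char h h').elim And.left fun k => absurd (Or.inr (Or.inr (Or.inr (Or.inl k)))) hs

theorem real8 : Art.Real (.D 4) 2 1 174182400 := ⟨Nat.prime_two, le_rfl, le_refl 4, by decide⟩

theorem n02 {t : ℕ} (h : K0 t) (h' : K2 t) : False := by
  obtain ⟨m, e, ⟨-, k⟩ | k⟩ := h.real <;> obtain ⟨b, f, k' | k'⟩ := h'.real <;> cases same k k' h.big

theorem n03 {t : ℕ} (h : K0 t) (h' : K3 t) : False := by
  obtain ⟨m, e, ⟨-, k⟩ | k⟩ := h.real <;> obtain ⟨f, k'⟩ := h'.real <;> cases same k k' h.big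

theorem n23 {t : ℕ} (h : K2 t) (h' : K3 t) : False := by
  obtain ⟨m, e, k | k⟩ := h.real <;> obtain ⟨f, k'⟩ := h'.real <;> cases same k k' h.big

theorem n08 (h : K0 174182400) : False := by
  obtain ⟨m, e, ⟨hm, k⟩ | k⟩ := h.real <;> cases same k real8 h.big
  omega

theorem n28 (h : K2 174182400) : False := by
  obtain ⟨m, e, k | k⟩ := h.real <;> cases same k real8 h.big

theorem n38 (h : K3 174182400) : False := by
  obtain ⟨e, k⟩ := h.real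
  cases same k real8 h.big

/-- the numerical classes -/
def Cl (t n : ℕ) : ℕ → Prop
  | 0 => K0 t
  | 1 => (t = 20160 ∧ n = 28) ∨ (t = 25920 ∧ n = 36) ∨ (t = 174182400 ∧ n = 120)
  | 2 => K2 t
  | 3 => K3 t
  | 4 => t = 6048 ∧ n = 28
  | 5 => t = 6048 ∧ n = 36
  | 6 => t = 1814400 ∧ n = 120
  | 7 => t = 2448 ∧ n = 136
  | 8 => t = 20160 ∧ n = 120
  | _ => False

theorem Cl.uniq {t n i j : ℕ} (h : Cl t n i) (h' : Cl t n j) : i = j := by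
  have a0 : K0 t → ¬ Sm t ∧ t ≠ 174182400 := fun k => ⟨k.big, fun e => n08 (e ▸ k)⟩
  have a2 : K2 t → ¬ Sm t ∧ t ≠ 174182400 := fun k => ⟨k.big, fun e => n28 (e ▸ k)⟩
  have a3 : K3 t → ¬ Sm t ∧ t ≠ 174182400 := fun k => ⟨k.big, fun e => n38 (e ▸ k)⟩
  have b : ∀ i, Cl t n i → i < 9 := fun i h => by
    by_contra k
    obtain ⟨l, rfl⟩ : ∃ l, i = l + 9 := ⟨i - 9, by omega⟩
    exact h
  have h1 := b i h
  have h2 := b j h'
  unfold Sm at a0 a2 a3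
  interval_cases i <;> interval_cases j <;> simp only [Cl] at h h' <;> first
    | rfl
    | exact (n02 h h').elim
    | exact (n02 h' h).elim
    | exact (n03 h h').elim
    | exact (n03 h' h).elim
    | exact (n23 h h').elim
    | exact (n23 h' h).elim
    | omega
    | (have := a0 h; omega)
    | (have := a0 h'; omega)
    | (have := a2 h; omega)
    | (have := a2 h'; omega)
    | (have := a3 h; omega)
    | (have := a3 h'; omega)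

/-- the properties which are counted -/
def Pp : ℕ → FP
  | 0 => fun m _ _ _ _ _ _ _ _ _ _ _ D a => 4 ≤ m ∧ (m = 4 → ∀ Q, D.Om Q → ¬ IsPlus Q) ∧ (D.R1 a ∨ D.R2 a ∨ D.R5 a)
  | 1 => fun _ _ _ _ _ _ _ _ _ _ _ _ D a => D.R5 a
  | 2 => fun _ _ _ _ _ _ _ _ _ _ _ _ D a => D.R4 a
  | 3 => fun _ _ _ _ _ _ _ _ _ _ _ _ D a => D.R3 a
  | 4 => fun _ _ _ _ _ _ _ _ _ _ _ _ D a => D.R6 a 3 6048 28
  | 5 => fun _ _ _ _ _ _ _ _ _ _ _ _ D a => D.R6 a 3 6048 36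
  | 6 => fun _ _ _ _ _ _ _ _ _ _ _ _ D a => D.R6 a 4 1814400 120
  | 7 => fun _ _ _ _ _ _ _ _ _ _ _ _ D a => D.R6 a 4 2448 136
  | 8 => fun _ _ _ _ _ _ _ _ _ _ _ _ D a => D.R7 a
  | _ => fun _ _ _ _ _ _ _ _ _ _ _ _ _ _ => False

/-- the bounds -/
def kk (i : ℕ) : ℕ := if i < 4 then 2 else 5

theorem card_two {F : Type} [Field F] [Fintype F] (h2 : (2 : F) = 0) : ∃ e, 1 ≤ e ∧ Fintype.card F = 2 ^ e := by
  have := charP_two h2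
  obtain ⟨e, -, he⟩ := FiniteField.card F 2
  exact ⟨e, e.2, he⟩

theorem cls (rows : Rows) (s3 : Sig3) (s4 : Sig4) (s5 : Sig5) (s7 : Sig7) (sO : SigO) :
    All fun m F _ _ Ω _ _ X H T M S D a => 3 ≤ m → ∃ i, Pp i m F Ω X H T M S D a ∧ Cl (Nat.card T) (Fintype.card Ω) i ∧
      RS (Nat.card T) (Fintype.card Ω) (kk i) := by
  intro m F _ _ Ω _ _ X H T M S D a hm
  have c0 : (∃ Q, D.Om Q) → 4 ≤ m → (m = 4 → ∀ Q, D.Om Q → ¬ IsPlus Q) → D.R1 a ∨ D.R2 a ∨ D.R5 a →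
      ∃ i, Pp i m F Ω X H T M S D a ∧ Cl (Nat.card T) (Fintype.card Ω) i ∧ RS (Nat.card T) (Fintype.card Ω) (kk i) := by
    rintro ⟨Q, hQ⟩ h4 hp h
    obtain ⟨e, he, hF⟩ := card_two hQ.two
    have h1 : Nat.card T = Nat.card (E Q) := by rw [← D.card_A_two hQ.two, hQ.eqA]
    by_cases k : IsPlus Q
    · have h2 := h1.trans (card_E_plus hQ.two hQ.pol D.two k)
      have h5 : m ≠ 4 := fun e => hp e Q hQ k
      rw [hF] at h2
      exact ⟨0, ⟨h4, hp, h⟩, ⟨m, e, he, Or.inl ⟨by omega, h2⟩⟩,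
        Or.inl ⟨rfl, Or.inl ⟨m, e, h4, he, Or.inl ⟨h2, fun e => absurd e h5⟩⟩⟩⟩
    · have h2 := h1.trans (card_E_minus hQ.two hQ.pol D.two k)
      rw [hF] at h2
      exact ⟨0, ⟨h4, hp, h⟩, ⟨m, e, he, Or.inr ⟨h4, h2⟩⟩, Or.inl ⟨rfl, Or.inl ⟨m, e, h4, he, Or.inr h2⟩⟩⟩
  rcases rows m F Ω X H T M S D a hm with h | h | h | h | h | h | h | h | h | h
  · obtain ⟨h1, h2, h3⟩ := sO m F Ω X H T M S D a hm (Or.inl h)
    exact c0 h1 h2 h3 (Or.inl h)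
  · obtain ⟨h1, h2, h3⟩ := sO m F Ω X H T M S D a hm (Or.inr h)
    exact c0 h1 h2 h3 (Or.inr (Or.inl h))
  · obtain ⟨e, he, h1, h2⟩ := s3 m F Ω X H T M S D a h
    exact ⟨3, h, ⟨e, he, h1⟩, Or.inl ⟨rfl, Or.inr (Or.inr (Or.inl ⟨e, he, h1, h2⟩))⟩⟩
  · obtain ⟨b, s, hb, hs, h3, h1, h2⟩ := s4 m F Ω X H T M S D a hm h
    exact ⟨2, h, ⟨b, s, hb, hs, h3, h1⟩, Or.inl ⟨rfl, Or.inr (Or.inl ⟨b, s, hb, hs, h3, h1, h2⟩)⟩⟩
  · obtain ⟨-, Q, hQ, k⟩ := s5 m F Ω X H T M S D a h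
    have u : ∀ Q', D.Om Q' → Q' = Q := fun Q' o => uniq hQ.two hQ.pol o.pol D.two (hQ.eqA.ge.trans (D.A_le_N.trans o.eqN.le))
    by_cases h3 : m = 3
    · subst h3
      rcases k with ⟨-, h1, h2⟩ | ⟨-, h1, h2⟩
      · exact ⟨1, h, Or.inl ⟨h1, h2⟩, Or.inl ⟨rfl, Or.inr (Or.inr (Or.inr (Or.inl ⟨h1, h2⟩)))⟩⟩
      · exact ⟨1, h, Or.inr (Or.inl ⟨h1, h2⟩), Or.inl ⟨rfl, Or.inr (Or.inr (Or.inr (Or.inr ⟨h1, h2⟩)))⟩⟩
    rcases k with ⟨k, h1, h2⟩ | ⟨k, h1, h2⟩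
    · by_cases h4 : m = 4
      · subst h4
        exact ⟨1, h, Or.inr (Or.inr ⟨h1, h2⟩), Or.inl ⟨rfl, Or.inl ⟨4, 1, le_rfl, le_rfl, Or.inl ⟨h1, fun _ => h2⟩⟩⟩⟩
      · exact c0 ⟨Q, hQ⟩ (by omega) (fun e => absurd e h4) (Or.inr (Or.inr h))
    · exact c0 ⟨Q, hQ⟩ (by omega) (fun _ Q' o => u Q' o ▸ k) (Or.inr (Or.inr h))
  · exact ⟨4, h, ⟨h.2.1, h.2.2.1⟩, Or.inr ⟨rfl, Or.inl ⟨h.2.1, h.2.2.1⟩⟩⟩
  · exact ⟨5, h, ⟨h.2.1, h.2.2.1⟩, Or.inr ⟨rfl, Or.inr (Or.inl ⟨h.2.1, h.2.2.1⟩)⟩⟩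
  · exact ⟨6, h, ⟨h.2.1, h.2.2.1⟩, Or.inr ⟨rfl, Or.inr (Or.inr (Or.inl ⟨h.2.1, h.2.2.1⟩))⟩⟩
  · exact ⟨7, h, ⟨h.2.1, h.2.2.1⟩, Or.inr ⟨rfl, Or.inr (Or.inr (Or.inr (Or.inl ⟨h.2.1, h.2.2.1⟩)))⟩⟩
  · have h1 := s7 m F Ω X H T M S D a h
    exact ⟨8, h, h1, Or.inr ⟨rfl, Or.inr (Or.inr (Or.inr (Or.inr h1)))⟩⟩

end Gl

open Gl in
/-- **The bound for symplectic socles from the boxes.** -/
theorem bnd_of (twoO : BoxTwoO) (twoE : BoxTwoE) (k1 : BoxK1) (rows : Rows) (s3 : Sig3) (s4 : Sig4) (s5 : Sig5) (s7 : Sig7)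
    (sO : SigO) (cO : CntO) (c5 : Cnt5) (c4 : Cnt4) (c3 : Cnt3) (c6a : Cnt6 3 6048 28) (c6b : Cnt6 3 6048 36)
    (c6c : Cnt6 4 1814400 120) (c6d : Cnt6 4 2448 136) (c7 : Cnt7) : Bnd fS RS := by
  intro Ω _ _ X H T ⟨M₀, h₀⟩
  obtain ⟨a⟩ : Nonempty Ω := Fintype.card_pos_iff.1 (lt_of_lt_of_le two_pos h₀.choose_spec.1.two)
  have key : ∀ M ∈ OvP fS X H T, ∃ i, M ∈ OvR (Pp i) X H T a ∧ Cl (Nat.card T) (Fintype.card Ω) i ∧
      RS (Nat.card T) (Fintype.card Ω) (kk i) := by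
    rintro M ⟨S, u, F, _, _, m, hm, ex, ⟨e⟩⟩
    by_cases h3 : 3 ≤ m
    · obtain ⟨D, -⟩ := exists_fr u hm ex (Or.inl h3) e
      obtain ⟨i, h1, h2⟩ := cls rows s3 s4 s5 s7 sO m F Ω X H T M S D a h3
      exact ⟨i, ⟨S, m, F, inferInstance, inferInstance, D, h3, h1⟩, h2⟩
    obtain rfl : m = 2 := by omega
    by_cases h2 : (2 : F) = 0
    · obtain ⟨k, hk, hF⟩ := card_two h2
      have h4 := ex rfl
      have h6 : 4 ≤ Fintype.card F := by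
        rw [hF] at h4 ⊢
        refine four_le ?_
        by_contra h5
        obtain rfl : k = 1 := by omega
        omega
      exact (twoE Ω X H T M S u ⟨F, inferInstance, inferInstance, h2, h6, ⟨e⟩⟩).elim
    · obtain ⟨D, -⟩ := exists_fr u hm ex (Or.inr h2) e
      exact (k1 2 F Ω X H T M S D a (twoO 2 F Ω X H T M S D a rfl h2)).elim
  obtain ⟨i, -, hi, hR⟩ := key M₀ h₀
  have hs : OvP fS X H T ⊆ OvR (Pp i) X H T a := fun M hM => by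
    obtain ⟨j, h1, h2, -⟩ := key M hM
    exact hi.uniq h2 ▸ h1
  refine ⟨kk i, hR, (Set.ncard_le_ncard hs).trans ?_⟩
  match i, hi with
  | 0, _ => exact cO Ω X H T a
  | 1, _ => exact c5 Ω X H T a
  | 2, _ => exact c4 Ω X H T a
  | 3, _ => exact c3 Ω X H T a
  | 4, _ => exact c6a Ω X H T a
  | 5, _ => exact c6b Ω X H T a
  | 6, _ => exact c6c Ω X H T a
  | 7, _ => exact c6d Ω X H T a
  | 8, _ => exact c7 Ω X H T a
  | _ + 9, h => exact h.elim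

end Cfsg.Agent.SM.Sy
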