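import Cfsg.Agent.SM.Sy.C6C
import Cfsg.Agent.SM.Sy.Glue
import Cfsg.Agent.S0825

/-!
# SM (S3570), symplectic socles, the row `A₈ < Sp₆(2)` of degree 120 (helper42)
-/

set_option autoImplicit false
set_option linter.unusedVariables false
set_option linter.unusedSectionVars false

namespace Cfsg.Agent.SM.Sy.C7

open Cfsg Equiv Subgroup MulAction C6
open Cfsg.Agent.LieClassical
open Cfsg.Agent.LieClassical.OrthCore (O E)

/-- `x + 1` -/
def pc : Perm (Fin 8) := c[0, 1, 2, 3, 4, 5, 6]
/-- `3 x` -/
def pu : Perm (Fin 8) := c[1, 3, 2, 6, 4, 5]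
/-- `1 / x` -/
def pj : Perm (Fin 8) := swap 0 7 * swap 2 4 * swap 3 5
/-- the affine maps -/
def af (p : Fin 7 × Fin 6) : Perm (Fin 8) := pc ^ p.1.val * pu ^ p.2.val
/-- the logarithm -/
def lg (x : Fin 8) : ℕ := List.getD [0, 0, 2, 1, 4, 5, 3, 0] x 0

theorem pc_ord : orderOf pc = 7 := by
  have := Fact.mk Nat.prime_seven
  exact orderOf_eq_prime (by decide +kernel) (by decide +kernel)

theorem pc_pow : ∀ x : Fin 8, x ≠ 7 → (pc ^ x.val) 0 = x := by decide +kernel

theorem pc_tr : ∀ y z : Fin 8, y ≠ 7 → z ≠ 7 → ∃ k : Fin 7, (pc ^ k.val) y = z := by decide +kernel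

theorem pc_seven : ∀ k : Fin 7, (pc ^ k.val) 7 = 7 := by decide +kernel

theorem pu_tr : ∀ z : Fin 8, z ≠ 0 → z ≠ 7 → ∃ e : Fin 6, (pu ^ e.val) z = 1 ∧ (pu ^ e.val) 0 = 0 ∧ (pu ^ e.val) 7 = 7 := by
  decide +kernel

theorem pu_lg : ∀ x : Fin 8, x ≠ 0 → x ≠ 7 → (pu ^ lg x) 1 = x := by decide +kernel

theorem af_of : ∀ (j : Fin 7) (b : Fin 8), b ≠ 7 → (pc ^ j.val) b ≠ b → ∃ p : Fin 7 × Fin 6, af p 7 = 7 ∧
    ∀ x : Fin 8, x ≠ 7 → af p x = ((pc ^ j.val) ^ x.val) b := by decide +kernel

/-- the candidates -/
def cd (p : Fin 7 × Fin 6) (x : Fin 8) : Fin 8 := if x = 7 then 0 else if x = 0 then 7 else (af p ^ lg x) 1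

theorem cd_of : ∀ p : Fin 7 × Fin 6, af p 0 = 0 → (∀ x y, cd p x = cd p y → x = y) →
    (∀ x, cd p x = pj x) ∨ ∀ x, cd p x = swap 0 7 x := by decide +kernel

theorem af_ne : ∀ p : Fin 7 × Fin 6, af p ≠ swap 0 7 * pc * swap 0 7 * pc⁻¹ * swap 0 7 := by decide +kernel

theorem semi {α : Type} {k c d : Perm α} (h : k * c * k⁻¹ = d) (n : ℕ) (x : α) : k ((c ^ n) x) = (d ^ n) (k x) := by
  rw [← h, conj_pow, ← Perm.mul_apply _ k, inv_mul_cancel_right, Perm.mul_apply]

theorem pgl {B : Subgroup (Perm (Fin 8))} (hB : Nat.card B = 336) (hc : pc ∈ B) (hne : ∃ g ∈ B, g 7 ≠ 7) :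
    pu ∈ B ∧ pj ∈ B := by
  have tr : ∀ z, ∃ g : B, B.subtype g 7 = z := fun z => by
    by_cases hz : z = 7
    · exact ⟨1, hz.symm⟩
    · obtain ⟨g, hg, h1⟩ := hne
      obtain ⟨k, hk⟩ := pc_tr _ z h1 hz
      exact ⟨⟨pc ^ k.val * g, B.mul_mem (B.pow_mem hc _) hg⟩, hk⟩
  have h1 := card_St B.subtype 7 tr
  rw [hB, Fintype.card_fin] at h1
  have hK : Nat.card (St B.subtype 7) = 42 := by omega
  have := Fact.mk Nat.prime_seven
  let c : St B.subtype 7 := ⟨⟨pc, hc⟩, pc_seven 1⟩
  have ho : orderOf c = 7 := by rw [← Subgroup.orderOf_coe, ← Subgroup.orderOf_coe]; exact pc_ord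
  obtain ⟨P, hP⟩ := syl_of (p := 7) (k := 1) (by rw [hK]; norm_num) (C := zpowers c) (by rw [Nat.card_zpowers, ho, pow_one])
  have h2 : Nat.card (Sylow 7 (St B.subtype 7)) = 1 := by
    have k1 := P.card_dvd_index
    have k2 := (P : Subgroup (St B.subtype 7)).card_mul_index
    have k3 := card_sylow_modEq_one 7 (St B.subtype 7)
    rw [hK, hP, Nat.card_zpowers, ho] at k2
    rw [hP, show (zpowers c).index = 6 by omega] at k1
    have k4 := Nat.le_of_dvd (by norm_num) k1
    have k5 := Nat.pos_of_dvd_of_pos k1 (by norm_num)
    unfold Nat.ModEq at k3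
    omega
  have h3 : Subsingleton (Sylow 7 (St B.subtype 7)) := (Nat.card_eq_one_iff_unique.1 h2).1
  have h4 : (zpowers c).Normal := hP ▸ P.normal_of_subsingleton
  have aff : ∀ k ∈ B, k 7 = 7 → ∃ p, af p = k := fun k hk h7 => by
    have k1 := h4.conj_mem c (mem_zpowers c) ⟨⟨k, hk⟩, h7⟩
    rw [mem_zpowers_iff_mem_range_orderOf, ho, Finset.mem_image] at k1
    obtain ⟨j, hj, e⟩ := k1
    have k2 : k * pc * k⁻¹ = pc ^ (⟨j, Finset.mem_range.1 hj⟩ : Fin 7).val := (congrArg (fun z => z.1.1) e).symm
    obtain ⟨p, k3, k4⟩ := af_of _ (k 0) (fun e => absurd (k.injective (e.trans h7.symm)) (by decide)) (fun e => by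
      have k5 := semi k2 1 0
      rw [pow_one, pow_one, e] at k5
      exact absurd (k.injective k5) (by decide +kernel))
    refine ⟨p, Perm.ext fun x => ?_⟩
    by_cases hx : x = 7
    · rw [hx, k3, h7]
    · rw [k4 x hx, ← semi k2, pc_pow x hx]
  have hu : pu ∈ B := by
    choose s hs using fun k : St B.subtype 7 => aff k.1.1 k.1.2 k.2
    obtain ⟨k, hk⟩ := ((Nat.bijective_iff_injective_and_card s).2 ⟨fun x y e => Subtype.ext (Subtype.ext (by
      rw [← hs, ← hs, e])), by rw [hK]; simp⟩).2 (0, 1)
    have k1 := hs k
    rw [hk] at k1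
    exact (show af (0, 1) = pu by decide +kernel) ▸ k1 ▸ k.1.2
  refine ⟨hu, ?_⟩
  obtain ⟨⟨g₁, h5⟩, h6⟩ := tr 0
  replace h6 : g₁ 7 = 0 := h6
  obtain ⟨k, h7⟩ := pc_tr 0 (g₁⁻¹ 7) (by decide) fun e => absurd ((Perm.inv_eq_iff_eq.1 e).trans h6) (by decide)
  have h8 : (g₁ * pc ^ k.val) 7 = 0 := by rw [Perm.mul_apply, pc_seven, h6]
  have h9 : (g₁ * pc ^ k.val) 0 = 7 := by rw [Perm.mul_apply, h7, ← Perm.mul_apply, mul_inv_cancel, Perm.one_apply]
  obtain ⟨e, e1, e0, e7⟩ := pu_tr ((g₁ * pc ^ k.val) 1) (fun e => absurd ((g₁ * pc ^ k.val).injective (e.trans h8.symm)) (by decide))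
    fun e => absurd ((g₁ * pc ^ k.val).injective (e.trans h9.symm)) (by decide)
  obtain ⟨g, hg, g7, g0, g1⟩ : ∃ g ∈ B, g 7 = 0 ∧ g 0 = 7 ∧ g 1 = 1 :=
    ⟨pu ^ e.val * (g₁ * pc ^ k.val), B.mul_mem (B.pow_mem hu _) (B.mul_mem h5 (B.pow_mem hc _)),
      by rw [Perm.mul_apply, h8, e0], by rw [Perm.mul_apply, h9, e7], e1⟩
  obtain ⟨p, hp⟩ := aff (g * pu * g⁻¹) (B.mul_mem (B.mul_mem hg hu) (B.inv_mem hg)) (by
    rw [Perm.mul_apply, Perm.mul_apply, Perm.inv_eq_iff_eq.2 g0.symm, show pu 0 = 0 by decide +kernel, g0])
  have k1 : ∀ x, cd p x = g x := fun x => by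
    unfold cd
    split_ifs with k2 k3
    · rw [k2, g7]
    · rw [k3, g0]
    · rw [← g1, ← semi hp.symm, pu_lg x k3 k2]
  rcases cd_of p (by rw [hp, Perm.mul_apply, Perm.mul_apply, Perm.inv_eq_iff_eq.2 g7.symm, show pu 7 = 7 by decide +kernel, g7])
    (fun x y e => g.injective (by rw [← k1, ← k1, e])) with k2 | k2
  · exact (Perm.ext fun x => (k1 x).symm.trans (k2 x) : g = pj) ▸ hg
  · have k3 : swap 0 7 ∈ B := (Perm.ext fun x => (k1 x).symm.trans (k2 x) : g = swap 0 7) ▸ hg
    obtain ⟨q, hq⟩ := aff _ (B.mul_mem (B.mul_mem (B.mul_mem (B.mul_mem k3 hc) k3) (B.inv_mem hc)) k3) (by decide +kernel)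
    exact absurd hq (af_ne q)

/-- five permutations -/
def g8 : Fin 5 → Perm (Fin 8) := ![pc, pu, pj, finRotate 8, swap 0 (finRotate 8 0)]

/-- their tables -/
def t8 : Fin 5 → Fin 8 → Fin 8 := tb 8 [504409776877404673, 505530179192750848, 1692157069230343, 1976943448883713, 506097522914230273]

theorem g8_eq : ∀ s x, g8 s x = t8 s x := by decide +kernel

theorem g8_top : closure (Set.range g8) = ⊤ := eq_top_iff.2 (by
  rw [← Perm.closure_cycle_adjacent_swap (isCycle_finRotate (n := 6)) support_finRotate 0]
  refine closure_mono ?_
  rintro _ (rfl | rfl)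
  exacts [⟨3, rfl⟩, ⟨4, rfl⟩])

/-- a packed word -/
def dg (r : ℕ) [NeZero r] : ℕ → ℕ → List (Fin r)
  | 0, _ => []
  | k + 1, N => if N = 0 then [] else Fin.ofNat r (N % 8 - 1) :: dg r k (N / 8)

/-- packed words -/
def dw (r : ℕ) [NeZero r] (N i : ℕ) : List (Fin r) := dg r 8 (N >>> (24 * i) % 2 ^ 24)

/-- the action on the cosets -/
def s7 : Fin 5 → Fin 120 → Fin 120 := tb 120 [4353606332902760361929327387526886887011700446490479088264712735803519373283198149200748695289719446675820110844146699538345934945719925936332452548550219569453736594434053157345337956854817132498511075425576990656708183892958436114619739150939042180370368577180430372791241938705446142720,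
    2680527046303328579902307416654355472255707232174495414492432860857552414345175866828076165723579268777836464607360578702695234772550360637670698159732447534452140978401735704615705984877417475691416194879462441011697718572960020735559291429403782314182910625717557861213255739419623031040,
    3443687939310177203943454623982085106388270007948614515344173300535787161402562755251155354346432112844204011217311450371979682247193184992637350374791871647895243759929940284573602349431922637212797426670518510518318033226115663685046925690589326814212048369491968194774520422820223320320,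
    4315094332989495160709241969930104201104578542337054881136460460645469794609653375524606114199810294429145675206863726519365064406084247538472374644738226816245665850307837014680099555718278046625787952808061972167474511693050318712398099771511834084594145379361787856475986790890527458305,
    3176458273577150846921723137554513160394706546695081022199391374211681584532844675212611772517227401661133931926779664019503900298649724807934140689122752255282968049649849357693406688887158125114745796182456492298001840212409412546264235772932294744358557735612791607504727683861235893250]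

/-- coset representatives -/
def w7 (i : Fin 120) : List (Fin 5) := dw 5 7574058731692288865393960108996195455403945010440403777370833158095137952557260517866609249168913708963811728530311210747957403940350816105648564780127254698962395559883994732781897555526759601308510202613090631025786992629650975544360248042896427840327963572356564424692984304435979752311005607167329215526916659348682272118780423005127685923485983582122286222793086308807821652620731757798667735812386161639545703341553046569402353775485452297518108694815175175433122392104769111635495403526972275636330181433055355931971949784399435711583877092575923525562081140137552186241167870056444782067499596454819020419050213881685970499652068042330184496196519077326653356318986865002830852494079042633327977819592919245589027973481970814971877280893508675731348408932767378864248625384654103966155977199418353076456385391655484561385380431460222280612637295408287055872 i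

/-- the cocycle -/
def b7 (s : Fin 5) (i : Fin 120) : List (Fin 5) := dw 5 (List.getD [64599148128668917747811295409645987348228587413508331259408129363724029853739019788800635089308801909502432498455876497420806565875385348442409409957240904606185967159028571447645494505639194658142096985249041368143007778304082845650670066139588162980590735651239480170302374426228205926019935143991041608449670117537950919137715634116626715968938599655233805725251783323070655385633714803097517480928086006463271826491697962059662672434650578251167144715365247555324572789462182742471538782370472940656274779386837204909780318628143429402428272342558605631638753423512820105096527980472820472692344533742864456239276521999765289347462074962899212209310937559498795105752956566067776017419818261676567027081517555410556436356824444727375639774761927697163332589147999915274313898844039775640883982611737870653347395927363104071991010743987849937695258566031572993,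
    2126355680094827865777982843269166058750567809510084787352190032918193061674647267987335494943923579226195453826127256880389865922667459687773070698564236112935800037729200656345707021712033913163256995965428658911712386435473233472260023490865910274561061169665540176242528156564778493636674863386610195215505708619082424141635747770400380796839238155211181915697457394573022490954021447867506713599404612886064566668157640490880488163666606989089984437304082620171004646665345076644320071861932921212795905818650608779339093563787511286988931043264818616525485140957883791257111103397278838737254861125219363736752082523066930111669627599213499519667870625730723684995010637128958402649732375541719749228024092478822861499688705862247088882054882786082343968082331051021367762980937394567742213710519624319372929362296475407934351998207833064036459124175793029122,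
    516074333321560517769721217079541098752823506117396923561132988733731123810211117205282061926875446917927254267749030461180719705814618278000448148794408031879572953921655280383283950138183874456267658902574933543516204835256093623990629198644426245361213636464064405053179290370193291271061906503703339202615455045332842267935259811143126777613586003439063924522646742286230530875077277492406516048731402321117241991853619554637113564548880143874645333026699832695789411268434714677612622527011296451800967491950970875335210795419416943690229739390094041042699676579509031157080683645334185305893998600477929289534565988274313303354403232207801779220217335006560542483963665315726749274163621458856142388190547588036040949007130466518015246071165112195922819122256538192477230576804835950148736482655905823769296303597806637967978133869081513294914897072250421251,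
    67633251030462878108204625936601346018753645908507655394158414916363397976780953644565182801209043206445301913999079648990587947359956037962496703614135637292510784855700503827440950684116903698401669762259810563069231733384854844931008419438564340201936717481114574646478940404681450785890111892004035832631812781285828459249805581811842180777222356129139316826191412343645310278617626287697318740544918401019803191405442280252825967970884874198216054330620017524696904472492259365001277181916418062435554203591322465883601406264007635096808211888690259421228234896007006423979053262217092831645636626296224466178360177473930811496068574033342346307999516302414063010076159184157080189458143854469960707359740246283136722572953461198195805215901083224392867019909827775107947776552982327792436486662453939426564907228672588215338471569613969241507306856037482496,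
    18391408052919988559013104207918446984828104524894173809468660136757857111680829686397001616074186028977441688061861118871768868578050212883440107679162454121148939186767572930375343724638631095432336363587036516476333133524433294073514689163569503962286766228743555442142602255605784811207380019607639130916513709823867640692720620518895068318190025165638061633585782930918522770476572419124015726708019328906564055128091897576832403408149947675791471688397065246484965179676528357033657233291610371237153947234644771584757122781963426251940769569439710116846168061122282771383059655330775102993201728157193722391762625800792339517636256558697529489962034260841962872468258784792302439184295275329693989490532949527451777433462447722002172427771831477905011122465159727360681066667680328617979430365467355926027215753817693518817561938307724867427979157345828601856] s 0) i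

/-- the orbits -/
def o7 (i : Fin 120) : ℕ := 76732405052926800120004196248094764701381753926502461250958719928056894562278141580355082049387732145901903242489335934867372362778266278392501285144520091885990178884846072946682751685482558008572453280364649463535988938988219744794616756719335107695652492718847295104172830433564754176 >>> (8 * i.val) % 256

theorem b7_ok : ∀ s i, (∀ l ∈ b7 s i, l.val < 3) ∧ ∀ x, t8 s (ev t8 (w7 i) x) = ev t8 (w7 (s7 s i)) (ev t8 (b7 s i) x) := by
  decide +kernel

theorem o7_ok : ∀ i, o7 i < 5 ∧ ev (fun j : Fin 3 => s7 (j.castLE (by norm_num))) (dw 3 32382152870360073332344443128849123768417215181407831349811340700196820406294589954235814204888211509393061235088131664195638334110681584851950389108146779153093412113106466443400329992280837282241356229347077245841295821086483192661787548707665604978418459588253860819916779043033200103242650249998518035487590399630220093790158473497579875826905592096008033026401201855953040082007959792113300381770795226614444118489912229486350701930341484454164936657981873786377623197656201795121945344253205697274766232828508702200068245779939909566790764294062061508683658551499919612229970405094184086466114750313645385379007274032832914217766872364733230503090583483943510626517667697328653538668537772953144153206606965029835693237993926595201003708778899688482620120818880874738923917683436196053111683448340510610821574631398505484655134707009172061629287598743617536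 i)
    (pk 120 107609325824 (o7 i)) = i := by
  decide +kernel

theorem c7_ok : ∀ c < 32, ¬ c.testBit (o7 0) = true → c.testBit (o7 4) = true →
    (List.finRange 120).countP (fun i => c.testBit (o7 i)) ∣ 12096 → (c = 4 ∨ c = 6) ∧ ¬ c.testBit (o7 14) = true := by
  decide +kernel

variable {Ω : Type} [Fintype Ω] [DecidableEq Ω] {X H T M S : Subgroup (Perm Ω)}

/-- **labelling by cosets** -/
theorem exists_lab2 {G : Type} [Group G] {n r : ℕ} (ρ : G →* Perm Ω) (hn : Fintype.card Ω = n) {a : Ω}
    (ht : ∀ b, ∃ x, ρ x a = b) {g : Fin r → G} (hg : closure (Set.range g) = ⊤) (w : Fin n → G) {i₀ : Fin n} (h0 : w i₀ = 1)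
    {σ : Fin r → Fin n → Fin n} (h : ∀ s i, ∃ b ∈ St ρ a, g s * w i = w (σ s i) * b) :
    ∃ β : Fin n ≃ Ω, β i₀ = a ∧ ∀ s i, ρ (g s) (β i) = β (σ s i) := by
  have key : ∀ s i, ρ (g s) (ρ (w i) a) = ρ (w (σ s i)) a := fun s i => by
    obtain ⟨b, hb, e⟩ := h s i
    rw [← Perm.mul_apply, ← map_mul, e, map_mul, Perm.mul_apply, show ρ b a = a from hb]
  have h1 : ρ (w i₀) a = a := by rw [h0, map_one, Perm.one_apply]
  have h2 : closure (Set.range g) ≤ (H454.Reg.Alt.stab (Finset.univ.image fun i => ρ (w i) a)).comap ρ := (closure_le _).2 (by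
    rintro _ ⟨s, rfl⟩
    refine H454.Reg.Alt.mem_stab_of fun x hx => ?_
    obtain ⟨i, -, rfl⟩ := Finset.mem_image.1 hx
    exact Finset.mem_image.2 ⟨_, Finset.mem_univ _, (key s i).symm⟩)
  refine ⟨Equiv.ofBijective (fun i => ρ (w i) a) ((Fintype.bijective_iff_surjective_and_card _).2
    ⟨fun b => ?_, by rw [Fintype.card_fin, hn]⟩), h1, key⟩
  obtain ⟨x, rfl⟩ := ht b
  obtain ⟨i, -, e⟩ := Finset.mem_image.1 ((h2 (hg.ge (mem_top x)) a).2 (Finset.mem_image.2 ⟨i₀, Finset.mem_univ _, h1⟩))
  exact ⟨i, e⟩

variable {F : Type} [Field F] [Fintype F]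

theorem card_M (D : Fr 3 F X H T M S) (hq : Fintype.card F = 2) : Nat.card M = 1451520 := by
  have h1 := D.card_S
  rw [D.card_ker_two (two_of hq), mul_one, card_Sp, hq] at h1
  rw [D.M_eq_two hq, ← h1]
  decide +kernel

theorem isoH (D : Fr 3 F X H T M S) (hq : Fintype.card F = 2) {Q : QuadraticForm F (VV 3 F)} (h : D.Om Q)
    (hP : H955.IsPlus Q) : Nonempty (Perm (Fin 8) ≃* H) := by
  obtain ⟨g, hg⟩ := H955.exists_plus_equiv 3 Q h.pol.nondeg finrank_VV hP
  obtain ⟨θ⟩ := S0825.result hq
  have h1 : (O Q).map (MulAut.conj (G := GG 3 F) g).toMonoidHom = O (QuadForms.plusForm 3 F) := by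
    ext x
    obtain ⟨x, rfl⟩ := (MulAut.conj (G := GG 3 F) g).surjective x
    refine (mem_map_iff_mem (MulAut.conj (G := GG 3 F) g).injective).trans ⟨fun hx v => ?_, fun hx v => ?_⟩
    · obtain ⟨v, rfl⟩ := g.surjective v
      show QuadForms.plusForm 3 F (g (x (g.symm (g v)))) = _
      rw [g.symm_apply_apply, hg, hg, hx v]
    · have h2 : QuadForms.plusForm 3 F (g (x (g.symm (g v)))) = _ := hx (g v)
      rwa [g.symm_apply_apply, hg, hg] at h2
  have e := OrthFinite.isometryEquiv (QuadForms.plusForm 3 F)
  rw [QuadForms.coe_plusForm] at e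
  exact ⟨θ.symm.trans (e.trans ((MulEquiv.subgroupCongr h1.symm).trans (((MulAut.conj (G := GG 3 F) g).subgroupMap (O Q)).symm.trans
    ((MulEquiv.subgroupCongr h.eqN.symm).trans (D.isoPre h.two (D.M_eq_two hq ▸ D.up.ov.2))))))⟩

theorem lab (u : Up X H T M S) (hn : Fintype.card Ω = 120) (e : Perm (Fin 8) ≃* H) :
    ∃ (β : Fin 120 ≃ Ω) (y : Fin 3 → Perm Ω), (∀ j, y j ∈ H ∧ y j (β 0) = β 0) ∧
      ∀ j i, y j (β i) = β (s7 (j.castLE (by norm_num)) i) := by
  let ρ : Perm (Fin 8) →* Perm Ω := H.subtype.comp e.toMonoidHom
  have inj : Function.Injective ρ := H.subtype_injective.comp e.injective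
  have tr : ∀ a b, ∃ x, ρ x a = b := fun a b => by
    obtain ⟨t, ht, k⟩ := u.trans a b
    obtain ⟨x, hx⟩ := e.surjective ⟨t, u.socH.le ht⟩
    exact ⟨x, (congrArg (fun z : H => z.1 a) hx).trans k⟩
  have h8 : Nat.card (Perm (Fin 8)) = 40320 := by rw [Nat.card_perm, Nat.card_fin]; rfl
  have h3 : ∀ a, Nat.card (St ρ a) = 336 := fun a => by
    have := card_St ρ a (tr a)
    rw [hn, h8] at this
    omega
  obtain ⟨a⟩ : Nonempty Ω := Fintype.card_pos_iff.1 (by omega)
  have := Fact.mk Nat.prime_seven
  obtain ⟨C, hC⟩ := Sylow.exists_subgroup_card_pow_prime (G := St ρ a) 7 (n := 1) (by rw [h3]; norm_num)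
  obtain ⟨g, hg⟩ := conj_syl (p := 7) (k := 1) (by rw [h8]; norm_num) ((card_map_of_injective (St ρ a).subtype_injective).trans hC)
    (D := zpowers pc) (by rw [Nat.card_zpowers, pc_ord, pow_one])
  have hc : pc ∈ St ρ (ρ g a) := mem_St'.2 (map_subtype_le _ ((hg _).1 (mem_zpowers _)))
  obtain ⟨hu, hj⟩ := pgl (h3 _) hc (by
    by_contra k
    push Not at k
    have k1 := card_St (MonoidHom.id (Perm (Fin 8))) 7 fun b => ⟨swap 7 b, swap_apply_left _ _⟩
    have k2 := card_map_of_injective (K := St (MonoidHom.id (Perm (Fin 8))) 7) inj
    rw [h8, Fintype.card_fin] at k1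
    rcases (stab_covBy u.prim u.two (ρ g a)).eq_or_eq (c := (St (MonoidHom.id (Perm (Fin 8))) 7).map ρ) (fun x hx => by
      obtain ⟨z, hz⟩ := e.surjective ⟨x, hx.1⟩
      have k3 : ρ z = x := congrArg Subtype.val hz
      exact ⟨z, k z (by rw [mem_St, k3]; exact hx.2), k3⟩) (by rintro _ ⟨z, -, rfl⟩; exact (e z).2) with k3 | k3
    · have k4 : St (MonoidHom.id (Perm (Fin 8))) 7 ≤ St ρ (ρ g a) := fun z hz => (k3.le ⟨z, hz, rfl⟩).2
      have k5 := card_le_of_le k4
      rw [h3] at k5
      omega
    · rw [k3, ← Nat.card_congr e.toEquiv, h8] at k2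
      omega)
  have hw := wp_ev (MonoidHom.id (Perm (Fin 8))) (P := id) (g := g8) g8_eq
  have h4 : ∀ l : Fin 5, l.val < 3 → g8 l ∈ St ρ (ρ g a) := fun l hl => by
    fin_cases l
    exacts [hc, hu, hj, absurd hl (by decide), absurd hl (by decide)]
  obtain ⟨β, h0, hβ⟩ := exists_lab2 ρ hn (tr (ρ g a)) g8_top (fun i => wp g8 (w7 i)) (i₀ := 0)
    (by rw [show w7 0 = [] by decide +kernel]; rfl) (σ := s7) fun s i =>
    ⟨wp g8 (b7 s i), wp_mem fun l hl => h4 l ((b7_ok s i).1 l hl), Perm.ext fun x => by
      have k1 : ∀ w x, wp g8 w x = ev t8 w x := hw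
      rw [Perm.mul_apply, Perm.mul_apply, k1, k1, k1, g8_eq, (b7_ok s i).2]⟩
  exact ⟨β, fun j => ρ (g8 (j.castLE (by norm_num))), fun j => ⟨(e _).2, h0 ▸ h4 _ j.2⟩, fun j i => hβ _ i⟩

end Cfsg.Agent.SM.Sy.C7

namespace Cfsg.Agent.SM.Sy

open Cfsg Equiv Subgroup MulAction C6 C7

theorem C7.sig : Sig7 := by
  rintro m F _ _ Ω _ _ X H T M S D a ⟨rfl, hq, ⟨Q, hQ, hP⟩, -, hC⟩
  have h1 := D.card_C a
  rw [hC, card_Sp, hq, show oSp 3 2 = 1451520 by decide +kernel] at h1
  refine ⟨?_, by omega⟩
  rw [← D.card_A_two hQ.two, hQ.eqA, card_E_plus hQ.two hQ.pol D.two hP, hq]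
  decide +kernel

theorem cnt7 : Cnt7 := fun Ω _ _ X H T a => by
  classical
  rcases (OvR (fun _ _ _ _ _ _ _ _ _ _ _ _ D a => D.R7 a) X H T a).eq_empty_or_nonempty with e | ⟨M₀, S₀, m, F, _, _, D₀, -, h₀⟩
  · rw [e, Set.ncard_empty]
    exact Nat.zero_le _
  have hn := (C7.sig _ _ _ _ _ _ _ _ D₀ a h₀).2
  obtain ⟨rfl, hq, ⟨Q, hQ, hP⟩, -⟩ := h₀
  obtain ⟨e⟩ := isoH D₀ hq hQ hP
  obtain ⟨β, y, hy, hβ⟩ := lab D₀.up hn e
  refine (D₀.up.sec.ncard_le_of_nbhd (fun a b => let ⟨t, ht, k⟩ := D₀.up.trans a b; ⟨t, D₀.up.socH.le ht, k⟩) (β 0)
    (𝒟 := {{x | (4 : ℕ).testBit (o7 (β.symm x)) = true}, {x | (6 : ℕ).testBit (o7 (β.symm x)) = true}}) ?_).trans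
    ((Set.ncard_insert_le _ _).trans (by rw [Set.ncard_singleton]; norm_num))
  rintro M ⟨S, m, F', _, _, D, -, rfl, hq', -⟩
  have h1 := card_St M.subtype (β 0) fun b => let ⟨t, ht, k⟩ := D.up.trans (β 0) b; ⟨⟨t, D.up.ov.2 (D.up.socH.le ht)⟩, k⟩
  rw [hn, card_M D hq'] at h1
  let U : Finset Ω := Finset.univ.filter fun x => ∃ b : St M.subtype (β 0), b.1.1 (β 4) = x
  have hU : ∀ x, x ∈ U ↔ ∃ b : St M.subtype (β 0), b.1.1 (β 4) = x := fun x => by
    simp only [U, Finset.mem_filter, Finset.mem_univ, true_and]
  have h2 := card_orb (M.subtype.comp (St M.subtype (β 0)).subtype) (β 4) U hU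
  have h3 : ∀ g ∈ M, g (β 0) = β 0 → ∀ x ∈ U, g x ∈ U := fun g hg k x hx => by
    obtain ⟨b, rfl⟩ := (hU x).1 hx
    exact (hU _).2 ⟨⟨⟨g, hg⟩, k⟩ * b, rfl⟩
  obtain ⟨c, hc1, hc2⟩ := exists_code β hβ o7 _ _ o7_ok fun j =>
    H454.Reg.Alt.mem_stab_of (h3 _ (D.up.ov.2 (hy j).1) (hy j).2)
  have h4 := card_lab β (· ∈ U) _ hc2
  rw [Finset.filter_univ_mem] at h4
  have h5 : β 4 ∈ U := (hU _).2 ⟨1, rfl⟩
  obtain ⟨h6, h7⟩ := c7_ok c hc1 (fun k => by
    obtain ⟨b, hb⟩ := (hU _).1 ((hc2 0).2 k)
    exact absurd (β.injective (b.1.1.injective (hb.trans (mem_St.1 b.2).symm))) (by decide)) ((hc2 4).1 h5)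
    (h4 ▸ (show Nat.card (St M.subtype (β 0)) = 12096 by omega) ▸ Dvd.intro_left _ h2)
  refine ⟨D.up.ov, U, ?_, h3, ⟨β 4, h5, β.injective.ne (by decide)⟩, β 14, fun k => h7 ((hc2 14).1 k), β.injective.ne (by decide)⟩
  have h8 : (U : Set Ω) = {x | c.testBit (o7 (β.symm x)) = true} := Set.ext (β.surjective.forall.2 fun i => by
    rw [Set.mem_ofPred_eq, β.symm_apply_apply]
    exact hc2 i)
  rcases h6 with rfl | rfl
  exacts [Or.inl h8, Or.inr h8]

end Cfsg.Agent.SM.Sy
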