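import Cfsg.Agent.SM.Sy.CLcC
import Cfsg.Agent.SM.Sy.Api
import Cfsg.Agent.S0496

/-!
# SM (S3570), symplectic socles: `S = PSp₄(q)`, `q` odd (helper70)
-/

set_option autoImplicit false
set_option linter.unusedSectionVars false
set_option linter.unusedVariables false

namespace Cfsg.Agent.SM.Sy

open Cfsg Cfsg.Geo Equiv Subgroup MulAction Module Matrix
open Cfsg.Agent.ClassicalGeometry.SympBasic
open Cfsg.Agent.H884.El (PP)
open Cfsg.Agent.H402.Rg (Two)
open Cfsg.Agent.H909.Sp4List (I4 T1 T2 T3 T4 T5 T6 T7 ResL)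
open Cfsg.Agent.H909.Sp4Arith Cfsg.Agent.H909.Sp4Geom
open scoped MatrixGroups

namespace CLc

section num

variable {p f q n : ℕ}

theorem cop {x k : ℕ} (h : p ∣ x) (hx : 0 < x) (hk : 0 < k) : Nat.Coprime p (x ^ k - 1) :=
  Nat.Coprime.coprime_dvd_left (h.trans (dvd_pow_self x hk.ne'))
    ((Nat.coprime_self_sub_right (pow_pos hx k)).2 (Nat.coprime_one_right _))

theorem cop1 {x : ℕ} (h : p ∣ x) (hx : 0 < x) : Nat.Coprime p (x - 1) := by
  simpa using cop h hx one_pos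

theorem cop2 {x : ℕ} (h : p ∣ x) : Nat.Coprime p (x + 1) :=
  Nat.Coprime.coprime_dvd_left h (Nat.coprime_self_add_right.2 (Nat.coprime_one_right _))

theorem np (hp : p.Prime) (hq : 0 < q) {c : ℕ} (hc : Nat.Coprime p c) (h : n ∣ q ^ 2 * c) : ¬ p * q ^ 2 ∣ n := fun k =>
  hp.one_lt.ne' (hc.eq_one_of_dvd (Nat.dvd_of_mul_dvd_mul_left (pow_pos hq 2) (mul_comm p _ ▸ k.trans h)))

theorem nq (hp : p.Prime) (hq : q = p ^ f) {e c : ℕ} (hc : Nat.Coprime p c) (he : 0 < e) (he' : e < q) (h : n ∣ q * (e * c)) :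
    ¬ q ^ 2 ∣ n := fun k => by
  have h1 : q ∣ e * c := Nat.dvd_of_mul_dvd_mul_left (by omega : 0 < q) (pow_two q ▸ k.trans h)
  have h2 := Nat.le_of_dvd he ((hq ▸ hc.pow_left f : Nat.Coprime q c).dvd_of_dvd_mul_right h1)
  omega

theorem cube (hp : p.Prime) {a b : ℕ} (h : p ^ 4 ∣ a * b) (ha : ¬ p ^ 2 ∣ a) : p * p ^ 2 ∣ b := by
  by_cases h1 : p ∣ a
  · obtain ⟨c, rfl⟩ := h1
    have h2 : ¬ p ∣ c := fun k => ha (pow_two p ▸ Nat.mul_dvd_mul_left p k)
    have h3 : p ^ 3 ∣ c * b := Nat.dvd_of_mul_dvd_mul_left hp.pos (by rwa [← pow_succ', ← mul_assoc])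
    rw [← pow_succ']
    exact (((Nat.Prime.coprime_iff_not_dvd hp).2 h2).pow_left 3).dvd_of_dvd_mul_left h3
  · rw [← pow_succ']
    exact (pow_dvd_pow p (by norm_num)).trans ((((Nat.Prime.coprime_iff_not_dvd hp).2 h1).pow_left 4).dvd_of_dvd_mul_left h)

theorem three (hq : 3 ≤ q) (h : (q + 1) * (q ^ 2 + 1) ∣ 80640) : q = 3 := by
  have h1 := Nat.le_of_dvd (by norm_num) h
  have h2 : q ≤ 43 := by
    by_contra h2
    have h3 : 44 ^ 2 ≤ q ^ 2 := Nat.pow_le_pow_left (by omega) 2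
    have h4 := Nat.mul_le_mul (show 45 ≤ q + 1 by omega) (show 44 ^ 2 + 1 ≤ q ^ 2 + 1 by omega)
    omega
  interval_cases q <;> first | rfl | exact absurd h (by decide)

end num

variable {F : Type} [Field F] [Fintype F] {p f : ℕ}

theorem lst (hodd : Odd (Fintype.card F)) {N : Subgroup (GL I4 F)} (hN : IsMaximalIn (spGL 2 F) N) :
    T1 N ∨ T2 N ∨ T3 N ∨ T4 N ∨ T5 N ∨ T6 N ∨ T7 N ∨ ResL N :=
  H909.Sp4List.list hodd (fun H h1 h2 => S5788.result hodd H h1 h2) hN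

/-- the small maximal subgroups -/
def Sm (p : ℕ) (N : Subgroup (GL I4 F)) : Prop :=
  Nat.card F = p ∧ ¬ p ^ 2 ∣ Nat.card N ∧ Nat.card N ∣ 80640 ∧ (p = 3 → Nat.card N ∣ 3840)

theorem sm7 (hp : p.Prime) (hp2 : p ≠ 2) (hd : p ∣ Nat.card F) {N : Subgroup (GL I4 F)} (h : T7 N) : Sm p N :=
  have h1 := H97.Sp4Ext.card_T7_dvd h
  ⟨((Nat.prime_dvd_prime_iff_eq hp (prime_of_T7 h)).1 hd).symm, fun k => no_sq_3840 hp hp2 (k.trans h1), h1.trans (by norm_num),
    fun _ => h1⟩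

theorem smR (hp : p.Prime) (hF : Fintype.card F = p ^ f) (hodd : Odd (Fintype.card F)) (hd : p ∣ Nat.card F)
    {N : Subgroup (GL I4 F)} (hN : N ≤ spGL 2 F) (h : ResL N) :
    Sm p N ∨ Nat.card N ∣ 2 * f * (Nat.card F * (Nat.card F ^ 2 - 1)) := by
  obtain ⟨P, p', hc, hp', hch, ⟨⟨e⟩, h1, h2, -⟩ | ⟨⟨e⟩, h1⟩ | ⟨⟨e⟩, -, h1⟩⟩ := h
  · have h3 := H753.ResCard.card_A6 hN hc e
    rw [← Nat.card_eq_fintype_card] at h1
    obtain rfl : p = p' := (Nat.prime_dvd_prime_iff_eq hp hp').1 (h1 ▸ hd)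
    refine Or.inl ⟨h1, fun k => ?_, h3.trans (by norm_num), fun k => by omega⟩
    obtain rfl := five_of_2880 hp h2 ((dvd_pow_self p two_ne_zero).trans (k.trans h3))
    exact absurd (k.trans h3) (by norm_num)
  · have h3 := H753.ResCard.card_A7 hN hc e
    rw [← Nat.card_eq_fintype_card] at h1
    obtain rfl : p = 7 := (Nat.prime_dvd_prime_iff_eq hp (by norm_num)).1 (h1 ▸ hd)
    exact Or.inl ⟨h1, fun k => absurd (k.trans h3) (by norm_num), h3.trans (by norm_num), fun k => by omega⟩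
  · exact Or.inr (H753.ResCard.card_L2 hp hF hodd (by omega) hN hc e)

theorem odd_p (hf : 1 ≤ f) (hF : Fintype.card F = p ^ f) (hodd : Odd (Fintype.card F)) : p ≠ 2 := by
  rintro rfl
  rw [hF] at hodd
  exact absurd ((Nat.odd_pow_iff (by omega)).1 hodd) (by decide)

/-- the `p`-part of a maximal subgroup -/
theorem cls (hp : p.Prime) (hf : 1 ≤ f) (hF : Fintype.card F = p ^ f) (hodd : Odd (Fintype.card F)) {N : Subgroup (GL I4 F)}
    (hN : IsMaximalIn (spGL 2 F) N) : T1 N ∨ ((T2 N ∨ T4 N ∨ 9 ≤ Nat.card F) ∧ ¬ p * Nat.card F ^ 2 ∣ Nat.card N) ∨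
      ¬ Nat.card F ^ 2 ∣ Nat.card N := by
  have h2 := two_ne hodd
  have hp2 := odd_p hf hF hodd
  have hq : Nat.card F = p ^ f := by rw [Nat.card_eq_fintype_card, hF]
  have hd : p ∣ Nat.card F := hq ▸ dvd_pow_self p (by omega)
  have h0 : 0 < Nat.card F := Nat.card_pos
  have h1 : 1 < Nat.card F := Finite.one_lt_card
  have c2 : Nat.Coprime p 2 := (Nat.coprime_primes hp Nat.prime_two).2 hp2
  have sm : Sm p N → ¬ Nat.card F ^ 2 ∣ Nat.card N := fun h => h.1 ▸ h.2.1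
  rcases lst hodd hN with h | h | h | h | h | h | h | h
  · exact Or.inl h
  · refine Or.inr (Or.inl ⟨Or.inl h, np hp h0 (c2.mul_right ((cop hd h0 two_pos).pow_right 2)) (dvd_of_eq ?_)⟩)
    rw [card_of_T2 h2 h, a2]; ring
  · refine Or.inr (Or.inr (nq hp hq (c2.mul_right ((cop1 hd h0).mul_right (cop hd h0 two_pos))) one_pos h1 (dvd_of_eq ?_)))
    rw [card_of_T3 h2 h, a3]; ring
  · refine Or.inr (Or.inl ⟨Or.inr (Or.inl h), np hp h0 (c2.mul_right (cop hd h0 four_pos)) (dvd_of_eq ?_)⟩)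
    rw [card_of_T4 h2 h, a4]; ring
  · refine Or.inr (Or.inr (nq hp hq (c2.mul_right ((cop2 hd).mul_right (cop hd h0 two_pos))) one_pos h1 (dvd_of_eq ?_)))
    rw [card_of_T5 h2 h, a5]; ring
  · obtain ⟨F₀, s, P, ζ, hs, hc, hζ, hP, rfl⟩ := h
    rw [← Nat.card_eq_fintype_card] at hc
    have h3 := H97.Sp4Sub.card_T6_dvd h2 hζ hP
    have h4 : 0 < Nat.card F₀ := Nat.card_pos
    have h5 : p ∣ Nat.card F₀ := hp.dvd_of_dvd_pow (hc ▸ hd)
    have h6 := Nat.le_of_dvd h4 h5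
    have h7 := hp.two_le
    have h8 := hs.two_le
    refine Or.inr (Or.inl ⟨Or.inr (Or.inr ?_), np hp h0 (c2.mul_right ((cop h5 h4 two_pos).mul_right (cop h5 h4 four_pos)))
      (h3.trans ?_)⟩)
    · rw [hc]
      exact le_trans (Nat.pow_le_pow_left (show 3 ≤ Nat.card F₀ by omega) 2) (Nat.pow_le_pow_right h4 h8)
    · rw [hc, ← pow_mul]
      refine Dvd.dvd.trans (dvd_of_eq (by ring)) (Nat.mul_dvd_mul_right (pow_dvd_pow _ (show 4 ≤ s * 2 by omega)) _)
  · exact Or.inr (Or.inr (sm (sm7 hp hp2 hd h)))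
  · rcases smR hp hF hodd hd hN.1.le h with h | h
    · exact Or.inr (Or.inr (sm h))
    · refine Or.inr (Or.inr (nq hp hq (c2.mul_right (cop hd h0 two_pos)) hf (hq ▸ Nat.lt_pow_self hp.one_lt)
        (h.trans (dvd_of_eq ?_))))
      ring

/-- the maximal subgroups with an element of order `r` -/
theorem clsR (hp : p.Prime) (hf : 1 ≤ f) (hF : Fintype.card F = p ^ f) (hodd : Odd (Fintype.card F)) {r : ℕ} (hr : PP p (f * 4) r)
    {M : Subgroup (GL I4 F)} (hM : IsMaximalIn (spGL 2 F) M) (hdvd : r ∣ Nat.card M) : T4 M ∨ Sm p M := by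
  obtain ⟨y, hy, hyr, hy1⟩ := H402.Rg.exists_elt hr.prime hdvd
  have hι : Fintype.card (Fin 2 ⊕ Fin 2) = 4 := by simp
  have hFn : Nat.card F = p ^ f := by rw [Nat.card_eq_fintype_card, hF]
  have hd : p ∣ Nat.card F := hFn ▸ dvd_pow_self p (by omega)
  have hod := H248.Cov.od_of_pp hF hf (by norm_num) hr
  have hrq : PP (Nat.card F) (2 * 2) r := by
    rw [hFn]
    exact H884.El.PP.of_pow hr hf
  have hrd := hod.lt
  have hdec : ∀ (t k : ℕ) (D : Fin t → Submodule F (Fin 2 ⊕ Fin 2 → F)), k < 4 → t < 4 → IsMDecomposition k D →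
      ¬ M ≤ decompositionStabilizer D := by
    intro t k D hk ht hD hH
    have := H884.El.decomp_le hD hH hrq (by omega) hdvd
    omega
  rcases lst hodd hM with ⟨W, h1, h2, rfl⟩ | ⟨D, hD, rfl⟩ | ⟨-, D, hD, -, rfl⟩ | h | ⟨-, K, h1, h2, h3, rfl⟩ |
    ⟨F₀, s, P, ζ, hs, hcard, -, -, rfl⟩ | h7 | h
  · rcases H262.El.irr_of_od (by rw [hι]; exact hod) hyr hy1 W (fun v hv => (H918.mem_subspaceStabilizer.1 hy.1 v).1 hv) with h | h
    · exact (h1 h).elim
    · exact (H262.El.totallySingular_ne_top (by norm_num) h2 h).elim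
  · exact absurd inf_le_left (hdec 2 2 D (by norm_num) (by norm_num) hD.decomp)
  · exact absurd inf_le_left (hdec 2 2 D (by norm_num) (by norm_num) hD)
  · exact Or.inl h
  · exact (H118.BS.no_quad_even (hM.1.le hy) hrq (by decide) (by norm_num) hyr hy1 h1 h2 h3 hy.1).elim
  · exact (H884.El.kill_subfield inf_le_left hs (by rw [Nat.card_eq_fintype_card]; exact hcard) hp hFn hr
      (by rw [hι]; omega) (by omega) hdvd).elim
  · exact Or.inr (sm7 hp (odd_p hf hF hodd) hd h7)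
  · refine Or.inr ((smR hp hF hodd hd hM.1.le h).resolve_right fun h8 => ?_)
    have hlt := hr.lt (by omega)
    rcases hr.prime.dvd_mul.1 (hdvd.trans h8) with h9 | h9
    · have := Nat.le_of_dvd (by omega) h9
      omega
    · rcases hr.prime.dvd_mul.1 h9 with h10 | h10
      · rw [hFn] at h10
        exact hr.not_dvd (by omega) (hr.prime.dvd_of_dvd_pow h10)
      · rw [Nat.card_eq_fintype_card] at h10
        have := Nat.le_of_dvd (by norm_num) ((hod.dvd_iff Fintype.card_pos 2).1 h10)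
        omega

/-- the partner of `Sp₂(q²).2` is parabolic -/
theorem par_T4 (hp : p.Prime) (hf : 1 ≤ f) (hF : Fintype.card F = p ^ f) (hodd : Odd (Fintype.card F)) {M N : Subgroup (GL I4 F)}
    (hP : Pr M N) (hN : IsMaximalIn (spGL 2 F) N) (h : T4 M) : T1 N := by
  have := Fact.mk hp
  have hchar : CharP F p := by
    obtain ⟨p', hp'⟩ := CharP.exists F
    obtain ⟨n, hpp, hn⟩ := FiniteField.card F p'
    have h1 : p' ∣ p ^ f := by rw [← hF, hn]; exact dvd_pow_self _ n.ne_zero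
    rwa [(Nat.prime_dvd_prime_iff_eq hpp hp).1 (hpp.dvd_of_dvd_pow h1)] at hp'
  have hp2 := odd_p hf hF hodd
  have hq : Nat.card F = p ^ f := by rw [Nat.card_eq_fintype_card, hF]
  have h3 := three_le hodd
  have c2 : Nat.Coprime p 2 := (Nat.coprime_primes hp Nat.prime_two).2 hp2
  have h4 : Nat.card F ^ 2 * (Nat.card F ^ 2 - 1) * Nat.card ↥(M ⊓ N) = 2 * Nat.card N := by
    have h5 := hP.card
    rw [card_S, card_of_T4 (two_ne hodd) h, aS, a4] at h5
    refine Nat.eq_of_mul_eq_mul_left (Nat.mul_pos (pow_pos (by omega : 0 < Nat.card F) 2) (pos_sub4 (by omega : 2 ≤ Nat.card F))) ?_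
    linear_combination h5
  have h5 : Nat.card F ^ 2 ∣ Nat.card N :=
    ((hq ▸ c2.pow_left f : Nat.Coprime (Nat.card F) 2).pow_left 2).dvd_of_dvd_mul_left ⟨_, by rw [← h4, mul_assoc]⟩
  rcases cls hp hf hF hodd hN with h6 | ⟨h6, h7⟩ | h6
  · exact h6
  · exfalso
    have hno : ∀ g a, g ∈ spGL 2 F → Two g → a ∈ spGL 2 F → a * g * a⁻¹ ∉ N := fun g a hg h2 ha k => by
      obtain ⟨y, hy, h8⟩ := two_T4 h hg h2
      have h9 := hP.ord hy ha h8 k
      rw [two_ord hp h2] at h9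
      refine h7 ((c2.mul_left ((hq ▸ c2.pow_left f : Nat.Coprime (Nat.card F) 2).pow_left 2)).dvd_of_dvd_mul_left ?_)
      rw [← h4, mul_comm p, mul_assoc]
      exact Nat.mul_dvd_mul_left _ (h9.mul_left _)
    have hno' : ∀ g ∈ N, ¬ Two g := fun g hg h2 => hno g 1 (hP.leY hg) h2 (one_mem _) (by simpa using hg)
    rcases h6 with h6 | h6 | h6
    · obtain ⟨g, hg, h2⟩ := two_T2 h6
      exact hno' g hg h2
    · obtain ⟨g, hg, h2⟩ := exists_two (F := F)
      obtain ⟨y, hy, h8⟩ := two_T4 h6 hg h2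
      exact hno g y hg h2 hy h8
    · rw [Nat.card_eq_fintype_card] at h6 h5 h4
      have h8 := H402.Rg.two_main hF hf (by omega) hp2 hP.leY hno' (b := f) (by rw [← hF]; nlinarith) (by omega)
        (by rwa [pow_add, ← hF, ← pow_two])
      obtain ⟨k, hk⟩ := Nat.exists_eq_add_of_le' (show 3 ≤ Fintype.card F by omega)
      rw [hk, sub2] at h4
      rw [hk, sub1] at h8
      have h9 : (k + 3) ^ 2 * (k + 2) * (k + 4) ∣ (k + 3) ^ 2 * (k + 2) * (2 * (k + 2)) := by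
        refine Dvd.dvd.trans ⟨Nat.card ↥(M ⊓ N), ?_⟩ ((Nat.mul_dvd_mul_left 2 h8).trans (dvd_of_eq (by ring)))
        rw [← h4]; ring
      have h10 := Nat.dvd_of_mul_dvd_mul_left (by positivity) h9
      have h11 : k + 4 ∣ 4 := (Nat.dvd_add_right h10).1 (show k + 4 ∣ 2 * (k + 2) + 4 from ⟨2, by ring⟩)
      have := Nat.le_of_dvd (by norm_num) h11
      omega
  · exact absurd h5 h6

/-- **the factorisations of `Sp₄(q)`, `q` odd** -/
theorem two_core (hp : p.Prime) (hf : 1 ≤ f) (hF : Fintype.card F = p ^ f) (hodd : Odd (Fintype.card F)) {r : ℕ}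
    (hr : PP p (f * 4) r) {X Y : Subgroup (GL I4 F)} (hP : Pr X Y) (hd : r ∣ Nat.card X) :
    (∃ v : I4 → F, v ≠ 0 ∧ ∀ g ∈ Y, ∃ c : F, (g : Matrix I4 I4 F) *ᵥ v = c • v) ∨
      (Nat.card F = 3 ∧ Nat.card X ∣ 3840 ∧ Nat.card Y ∣ 1296) := by
  obtain ⟨M, hM, h1⟩ := H402.Rg.exists_max hP.leX hP.neX
  obtain ⟨N, hN, h2⟩ := H402.Rg.exists_max hP.leY hP.neY
  have hQ := hP.mono hM hN h1 h2
  rcases clsR hp hf hF hodd hr hM (hd.trans (card_dvd_of_le h1)) with h | ⟨h3, h4, h5, h6⟩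
  · obtain ⟨W, h3, h4, rfl⟩ := par_T4 hp hf hF hodd hQ hN h
    have h5 := H262.El.two_mul_finrank_le (m := 2) h4
    have h6 : finrank F W ≠ 0 := fun h => h3 (Submodule.finrank_eq_zero.1 h)
    have h7 : finrank F W ≠ 2 := fun k => not_plane hQ h k h4 inf_le_left
    have h8 : finrank F W ≤ 2 := Nat.le_of_mul_le_mul_left h5 (by norm_num)
    have h9 : finrank F W = 1 := (fun (a : ℕ) (k0 : a ≠ 0) (k2 : a ≠ 2) (k : a ≤ 2) => (by omega : a = 1)) _ h6 h7 h8
    obtain ⟨x, hx, hx0⟩ := W.exists_mem_ne_zero_of_ne_bot h3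
    refine Or.inl ⟨x, hx0, fun g hg => ?_⟩
    obtain ⟨c, hc⟩ := (finrank_eq_one_iff_of_nonzero' (⟨x, hx⟩ : W) (fun h => hx0 (congrArg Subtype.val h))).1 h9
      ⟨_, (H918.mem_subspaceStabilizer.1 (h2 hg).1 x).1 hx⟩
    exact ⟨c, (congrArg Subtype.val hc).symm⟩
  · have h7 := hQ.card
    have h8 := three_le hodd
    rw [card_S, aS, h3] at h7
    have h9 := cube hp (⟨_, by rw [← h7, mul_assoc]⟩ : p ^ 4 ∣ Nat.card M * Nat.card N) h4
    have h10 : T1 N := by
      rcases cls hp hf hF hodd hN with k | k | k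
      · exact k
      · exact absurd (h3 ▸ h9) k.2
      · exact absurd (h3 ▸ (Dvd.intro_left p rfl).trans h9) k
    have h11 := card_T1 h10
    rw [h3] at h11 h8
    obtain ⟨k, rfl⟩ := Nat.exists_eq_add_of_le' h8
    rw [h11, sub2, sub4, sub1] at h7
    have h12 : (k + 3 + 1) * ((k + 3) ^ 2 + 1) * Nat.card ↥(M ⊓ N) = Nat.card M :=
      Nat.eq_of_mul_eq_mul_left (show 0 < (k + 3) ^ 4 * ((k + 2) * (k + 4) * (k + 2)) by positivity) (by linear_combination h7)
    have h13 := three h8 ((Dvd.intro _ h12).trans h5)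
    refine Or.inr ⟨h3.trans h13, (card_dvd_of_le h1).trans (h6 h13), (card_dvd_of_le h2).trans (dvd_of_eq ?_)⟩
    rw [h11, h13]
    norm_num

variable {Ω : Type} [Fintype Ω] [DecidableEq Ω] {X H T M S : Subgroup (Perm Ω)}

theorem ker_two {m : ℕ} (D : Fr m F X H T M S) (h2 : (2 : F) ≠ 0) : Nat.card D.π.ker = 2 := by
  refine ((Nat.dvd_prime Nat.prime_two).1 D.card_ker).resolve_left fun h => ?_
  have h1 : (⟨LinearEquiv.neg F, mem_Sp.2 fun u v => by
      rw [LinearEquiv.neg_apply, LinearEquiv.neg_apply, map_neg, LinearMap.map_neg₂, neg_neg]⟩ : Sp m F) ∈ D.π.ker := (D.π_eq_one _).2 ⟨-1, fun v => by simp⟩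
  rw [card_eq_one.1 h, mem_bot] at h1
  obtain ⟨u, v, huv⟩ := exists_ff (F := F) D.one
  have h3 : -u = u := LinearEquiv.ext_iff.1 (congrArg Subtype.val h1) u
  have h4 : u = 0 := (smul_eq_zero.1 (show (2 : F) • u = 0 by rw [two_smul, ← eq_neg_iff_add_eq_zero, h3])).resolve_left h2
  rw [h4, LinearMap.map_zero₂] at huv
  exact zero_ne_one huv

end CLc

open CLc in
/-- **`S = PSp₄(q)`, `q` odd: the point stabiliser is `P₁`** -/
theorem boxTwoO : BoxTwoO := by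
  intro m F _ _ Ω _ _ X H T M S D a hm h2
  subst hm
  obtain ⟨p, hchar⟩ := CharP.exists F
  obtain ⟨⟨f, hf⟩, hp, hF⟩ := FiniteField.card F p
  replace hF : Fintype.card F = p ^ f := hF
  have hodd : Odd (Fintype.card F) := by
    rw [hF]
    refine (hp.odd_of_ne_two ?_).pow
    rintro rfl
    exact h2 (CharP.cast_eq_zero F 2)
  obtain ⟨r, hr⟩ := H248.Cov.exists_r4 hp hf
  have hP := pr D a
  have hd : r ∣ Nat.card (mm D.A) * Nat.card (mm (D.C a)) := by
    refine Dvd.dvd.trans ?_ hP.dvd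
    rw [card_S, aS, Nat.card_eq_fintype_card]
    exact ((((H248.Cov.od_of_pp hF hf (by norm_num) hr).dvd_iff Fintype.card_pos 4).2 dvd_rfl).mul_left _).mul_left _
  have hk := ker_two D h2
  have hA := D.card_A
  have hAC : 2 ∣ Nat.card ↥(D.A ⊓ D.C a) := by
    rw [← D.pre_inf, D.card_pre', hk]
    exact Dvd.intro_left _ rfl
  have hS : Nat.card F = 3 → Nat.card (Sp 2 F) = 51840 := fun h => by rw [← card_mm, mm_sp, card_S, h]; rfl
  have hT : Nat.card T ≤ 1092 → Nat.card T = 60 ∨ Nat.card T = 168 ∨ Nat.card T = 360 ∨ Nat.card T = 504 ∨ Nat.card T = 660 ∨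
      Nat.card T = 1092 := fun h => by
    have := D.up.socH.simple
    exact S0496.result D.up.socH.nab h
  rw [hk] at hA
  rcases hr.prime.dvd_mul.1 hd with h | h
  · rcases two_core hp hf hF hodd hr hP h with ⟨v, hv, h1⟩ | ⟨h1, h3, h4⟩
    · exact ⟨v, hv, fun g hg => mx_apply g v ▸ h1 _ (mx_mem.2 hg)⟩
    · exfalso
      rw [card_mm] at h3 h4
      have h5 := D.card_fac a
      have h6 : Nat.card D.A ∣ 51840 := hS h1 ▸ card_dvd_of_le D.pre_le
      obtain ⟨k, hk⟩ := hAC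
      obtain ⟨c, hc⟩ := h4
      have h7 : 80 * (k * c) = Nat.card D.A := by
        refine Nat.eq_of_mul_eq_mul_right (Nat.card_pos (α := D.C a)) ?_
        rw [← h5, hS h1, hk, show 51840 = 40 * 1296 from rfl, hc]
        ring
      have h8 : Nat.card D.A ∣ 1920 := Nat.dvd_gcd h3 h6
      have h9 := Nat.le_of_dvd (by norm_num) h8
      rw [hA] at h7 h8 h9
      rcases hT (by omega) with e | e | e | e | e | e <;> rw [e] at h7 h8 <;> omega
  · rcases two_core hp hf hF hodd hr hP.symm h with ⟨v, hv, h1⟩ | ⟨h1, h3, h4⟩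
    · exact (no_point D hv fun g hg => mx_apply g v ▸ h1 _ (mx_mem.2 hg)).elim
    · exfalso
      rw [card_mm, hA] at h4
      have h5 := Nat.le_of_dvd (by norm_num) h4
      rcases hT (by omega) with k | k | k | k | k | k <;> rw [k] at h4 <;> exact absurd h4 (by decide)

end Cfsg.Agent.SM.Sy
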