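import Cfsg.Agent.SM.Sy.Defs

/-!
# SM (S3570), symplectic socles: extension fields (helper24)

* `boxKS`; for `h : Mod K b K' e`: `h.sc` the scalars, `h.ceEquiv : CE K ≃* Sp b K'`, `h.card_CE`, `h.mem_NE`, `h.exists_frob`,
  `h.gal : NE K →* Gal(K'/F)` (onto, kernel `CE K`), `h.card_NE`, `h.mem_CE_of_coprime`, `h.comm_le`; `aext_iff`.
-/

set_option autoImplicit false
set_option linter.unusedSectionVars false

namespace Cfsg.Agent.SM.Sy

open Cfsg Equiv Subgroup Module QuadraticMap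
open Cfsg.Agent.ClassicalGeometry.SympBasic
open Cfsg.Agent.ClassicalGeometry.SympAutSemi (IsSemi)
open Cfsg.Agent.H925.Rs (Isos mem_Isos)

namespace KS

section tr

variable {F K' : Type} [Field F] [Field K'] [Algebra F K'] [Finite K']

theorem finF (K' : Type) [Field K'] [Algebra F K'] [Finite K'] : Finite F :=
  Finite.of_injective _ (algebraMap F K').injective

theorem tr_ext {a b : K'} (h : ∀ k, Algebra.trace F K' (k * a) = Algebra.trace F K' (k * b)) : a = b := by
  have := finF (F := F) K'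
  refine sub_eq_zero.1 ((traceForm_nondegenerate F K').1 _ fun k => ?_)
  rw [Algebra.traceForm_apply, mul_comm, mul_sub, map_sub, h, sub_self]

theorem exists_tr (φ : K' →ₗ[F] F) : ∃ c, ∀ k, φ k = Algebra.trace F K' (k * c) := by
  have := finF (F := F) K'
  refine ⟨((Algebra.traceForm F K').toDual (traceForm_nondegenerate F K')).symm φ, fun k => ?_⟩
  rw [mul_comm, ← Algebra.traceForm_apply, LinearMap.BilinForm.apply_toDual_symm_apply]

theorem tr_gal (σ : K' ≃ₐ[F] K') (a : K') : Algebra.trace F K' (σ a) = Algebra.trace F K' a :=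
  Algebra.trace_eq_of_algEquiv σ a

theorem tr_smul (c : F) (a : K') : Algebra.trace F K' (algebraMap F K' c * a) = c * Algebra.trace F K' a := by
  rw [← Algebra.smul_def, map_smul, smul_eq_mul]

theorem rank_eq [Fintype F] [Fintype K'] {s : ℕ} (hc : Fintype.card K' = Fintype.card F ^ s) : finrank F K' = s := by
  rw [Module.card_eq_pow_finrank (K := F) (V := K')] at hc
  exact Nat.pow_right_injective Fintype.one_lt_card hc

theorem card_gal [Fintype F] [Fintype K'] {s : ℕ} (hc : Fintype.card K' = Fintype.card F ^ s) :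
    Nat.card (K' ≃ₐ[F] K') = s := by
  rw [IsGalois.card_aut_eq_finrank, rank_eq hc]

/-- a space over `K'` with a compatible symplectic form over `F` -/
theorem model {V : Type} [AddCommGroup V] [Module F V] [Module K' V] [IsScalarTower F K' V] [Finite V]
    (f : LinearMap.BilinForm F V) (nd : ∀ u, (∀ v, f u v = 0) → u = 0) (adj : ∀ (k : K') u v, f (k • u) v = f u (k • v))
    (alt : ∀ (k : K') v, f (k • v) v = 0) :
    ∃ (b : ℕ) (e : V ≃ₗ[K'] VV b K'), ∀ u v, f u v = Algebra.trace F K' (ff b K' (e u) (e v)) := by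
  have h1 : ∀ u v : V, ∃ c : K', ∀ k : K', f (k • u) v = Algebra.trace F K' (k * c) := fun u v =>
    exists_tr ((f.flip v).comp ((LinearMap.toSpanSingleton K' V u).restrictScalars F))
  choose B hB using h1
  let B' : LinearMap.BilinForm K' V := LinearMap.mk₂ K' B
    (fun u u' v => tr_ext (F := F) fun k => by rw [mul_add, map_add, ← hB, ← hB, ← hB, smul_add, map_add, LinearMap.add_apply])
    (fun c u v => tr_ext (F := F) fun k => by rw [smul_eq_mul, ← mul_assoc, ← hB, ← hB, smul_smul])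
    (fun u v v' => tr_ext (F := F) fun k => by rw [mul_add, map_add, ← hB, ← hB, ← hB, map_add])
    (fun c u v => tr_ext (F := F) fun k => by rw [smul_eq_mul, ← mul_assoc, ← hB, ← hB, ← adj, smul_smul, mul_comm])
  have hA : B'.IsAlt := fun v => tr_ext (F := F) fun k => by
    rw [mul_zero, map_zero, ← alt k v]
    exact (hB v v k).symm
  have hn : ∀ u, (∀ v, B' u v = 0) → u = 0 := fun u hu => nd u fun v => by
    have h2 := hB u v 1
    rw [one_smul, show B u v = 0 from hu v, mul_zero, map_zero] at h2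
    exact h2
  obtain ⟨b, hb⟩ := H150.even_finrank_of_alt B' hA hn
  obtain ⟨e, he⟩ := ClassicalGeometry.SympIso.exists_linearEquiv_sympForm B' hA hn (hb.trans (two_mul b).symm)
  refine ⟨b, e.symm, fun u v => ?_⟩
  have h2 := hB u v 1
  have h3 := he (e.symm u) (e.symm v)
  rw [e.apply_symm_apply, e.apply_symm_apply] at h3
  rw [one_smul, one_mul] at h2
  rw [h2]
  exact congrArg _ h3

end tr

theorem ff_alt {m : ℕ} {F : Type} [Field F] (v : VV m F) : ff m F v v = 0 := sympForm_self v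

theorem ff_swap {m : ℕ} {F : Type} [Field F] (u v : VV m F) : ff m F u v = -ff m F v u := sympForm_swap u v

theorem ff_nd {m : ℕ} {F : Type} [Field F] (u : VV m F) (h : ∀ v, ff m F u v = 0) : u = 0 :=
  eq_zero_of_forall_sympForm_right h

theorem card_VV (m : ℕ) (F : Type) [Fintype F] : Fintype.card (VV m F) = Fintype.card F ^ (2 * m) := by
  rw [Fintype.card_fun, Fintype.card_sum, Fintype.card_fin, two_mul]

theorem card_Sp (m : ℕ) (F : Type) [Field F] [Fintype F] : Nat.card (Sp m F) = oSp m (Fintype.card F) := by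
  rw [H925.Rs.card_Isos (m := m) ff_alt ff_nd (by rw [finrank_fintype_fun_eq_card, Fintype.card_sum, Fintype.card_fin, two_mul]),
    oSp, pow_two]

theorem exists_ne {m : ℕ} (F : Type) [Field F] (hm : 1 ≤ m) : ∃ v : VV m F, v ≠ 0 :=
  ⟨fun _ => 1, fun h => one_ne_zero (congrFun h (Sum.inl ⟨0, hm⟩))⟩

/-- `f (k v, v) = 0` for a self-adjoint field -/
theorem alt_of {m : ℕ} {F : Type} [Field F] [Fintype F] {K : Subalgebra F (End F (VV m F))} (hK : IsField K)
    (adj : ∀ k ∈ K, ∀ u v, ff m F (k u) v = ff m F u (k v)) {k : End F (VV m F)} (hk : k ∈ K) (v : VV m F) :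
    ff m F (k v) v = 0 := by
  by_cases h2 : (2 : F) = 0
  · let _ : Field K := IsField.toField (R := K) hK
    have : Finite (End F (VV m F)) := Finite.of_injective (fun k : End F (VV m F) => (k : VV m F → VV m F)) DFunLike.coe_injective
    have h3 : Function.Injective fun x : K => x * x := fun x y h => by
      have h4 : (2 : K) = 0 := by rw [← map_ofNat (algebraMap F K) 2, h2, map_zero]
      have h5 : (x - y) * (x - y) = 0 := by
        have h6 : x * x = y * y := h
        linear_combination h6 + (y * y - x * y) * h4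
      exact sub_eq_zero.1 (mul_self_eq_zero.1 h5)
    obtain ⟨j, hj⟩ := Finite.injective_iff_surjective.1 h3 ⟨k, hk⟩
    rw [show k = j.1 * j.1 from (congrArg Subtype.val hj).symm, Module.End.mul_apply, adj _ j.2, ff_alt]
  · have h3 := adj k hk v v
    rw [ff_swap v] at h3
    exact (mul_eq_zero.1 ((two_mul _).trans (add_eq_zero_iff_eq_neg.2 h3))).resolve_left h2

theorem semi_pm {b : ℕ} (F : Type) {K' : Type} [Field F] [Field K'] [Algebra F K'] {x : GG b K'} (hx : x ∈ Sp b K') :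
    IsSemi (pm x) (AlgEquiv.refl : K' ≃ₐ[F] K').toRingEquiv 1 :=
  ⟨x.map_add, x.map_smul, fun u v => (hx u v).trans (one_mul _).symm⟩

end KS

open KS
open scoped commutatorElement

/-- **extension fields** -/
theorem boxKS : BoxKS := by
  intro m F _ _ s K hm hK
  let _ : Field K := IsField.toField (R := K) hK.field
  have : Finite (End F (VV m F)) := Finite.of_injective (fun k : End F (VV m F) => (k : VV m F → VV m F)) DFunLike.coe_injective
  let _ := Fintype.ofFinite K
  obtain ⟨b, e, he⟩ := model (K' := K) (ff m F) ff_nd (fun k => hK.adj k.1 k.2) fun k => alt_of hK.field hK.adj k.2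
  have hc : Fintype.card K = Fintype.card F ^ s := by rw [Module.card_eq_pow_finrank (K := F) (V := K), hK.dim]
  refine ⟨b, K, inferInstance, inferInstance, inferInstance, e.toAddEquiv, ?_, hc, fun c v => ?_, fun k => ⟨fun hk => ?_, ?_⟩, he⟩
  · have h1 := Fintype.card_congr e.toEquiv
    rw [card_VV, card_VV, hc, ← pow_mul] at h1
    have h2 := Nat.pow_right_injective Fintype.one_lt_card h1
    rw [mul_left_comm] at h2
    omega
  · rw [← algebraMap_smul K c v]
    exact e.map_smul _ v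
  · exact ⟨⟨k, hk⟩, fun v => e.map_smul ⟨k, hk⟩ v⟩
  · rintro ⟨c, h⟩
    rw [show k = c.1 from LinearMap.ext fun v => e.injective ((h v).trans (e.map_smul c v).symm)]
    exact c.2

namespace Mod

variable {m b : ℕ} {F K' : Type} [Field F] [Field K'] [Algebra F K'] {K : Subalgebra F (End F (VV m F))}
  {e : VV m F ≃+ VV b K'} (h : Mod K b K' e)
include h

theorem symm_smul (c : F) (w : VV b K') : e.symm (algebraMap F K' c • w) = c • e.symm w :=
  e.injective (by rw [h.smul, e.apply_symm_apply, e.apply_symm_apply])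

/-- the scalars of `K'` -/
def sc (c : K') : End F (VV m F) where
  toFun v := e.symm (c • e v)
  map_add' u v := by rw [map_add, smul_add, map_add]
  map_smul' a v := by rw [h.smul, smul_comm, h.symm_smul, RingHom.id_apply]

theorem e_sc (c : K') (v : VV m F) : e (h.sc c v) = c • e v := e.apply_symm_apply _

theorem sc_mem (c : K') : h.sc c ∈ K := (h.mem _).2 ⟨c, h.e_sc c⟩

theorem mem_iff {k : End F (VV m F)} : k ∈ K ↔ ∃ c, k = h.sc c :=
  (h.mem k).trans (exists_congr fun c => ⟨fun k1 => LinearMap.ext fun v => e.injective ((k1 v).trans (h.e_sc c v).symm),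
    fun k1 v => k1 ▸ h.e_sc c v⟩)

theorem form_sc (c : K') (u v : VV m F) : ff m F (h.sc c u) v = Algebra.trace F K' (c * ff b K' (e u) (e v)) := by
  rw [h.form, h.e_sc, map_smul, LinearMap.smul_apply, smul_eq_mul]

theorem sc_inj (hb : 1 ≤ b) : Function.Injective h.sc := fun c d k => by
  obtain ⟨w, hw⟩ := exists_ne K' hb
  have h1 := h.e_sc c (e.symm w)
  rw [k, h.e_sc, e.apply_symm_apply] at h1
  exact (smul_left_injective K' hw h1).symm

/-- linear maps of `V` as permutations of the model -/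
def cj (_ : Mod K b K' e) : GG m F →* Perm (VV b K') where
  toFun g := (e.symm.toEquiv.trans g.toEquiv).trans e.toEquiv
  map_one' := Equiv.ext fun w => e.apply_symm_apply w
  map_mul' x _ := Equiv.ext fun _ => congrArg (fun z => e (x z)) (e.symm_apply_apply _).symm

theorem cj_apply (g : GG m F) (w : VV b K') : h.cj g w = e (g (e.symm w)) := rfl

theorem cj_e (g : GG m F) (v : VV m F) : h.cj g (e v) = e (g v) := by rw [h.cj_apply, e.symm_apply_apply]

theorem cj_add (g : GG m F) (u v : VV b K') : h.cj g (u + v) = h.cj g u + h.cj g v := by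
  simp only [h.cj_apply, map_add]

theorem cj_inj : Function.Injective h.cj := fun x y k => LinearEquiv.ext fun v => e.injective (by rw [← h.cj_e, k, h.cj_e])

/-- a semilinear map of the model over an automorphism which fixes `F` -/
def dn (x : Perm (VV b K')) {σ : K' ≃ₐ[F] K'} {l : K'} (hx : IsSemi x σ.toRingEquiv l) : GG m F where
  toFun v := e.symm (x (e v))
  invFun v := e.symm (x.symm (e v))
  map_add' u v := by rw [map_add, hx.1, map_add]
  map_smul' a v := by
    rw [h.smul, hx.2.1, RingHom.id_apply, ← h.symm_smul]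
    exact congrArg (fun z => e.symm (z • x (e v))) (σ.commutes a)
  left_inv v := by simp
  right_inv v := by simp

theorem cj_dn (x : Perm (VV b K')) {σ : K' ≃ₐ[F] K'} {l : K'} (hx : IsSemi x σ.toRingEquiv l) : h.cj (h.dn x hx) = x :=
  Equiv.ext fun w => by
    show e (e.symm (x (e (e.symm w)))) = x w
    rw [e.apply_symm_apply, e.apply_symm_apply]

variable [Finite K']

theorem mem_Sp_of_semi {g : GG m F} {σ : K' ≃ₐ[F] K'} (hg : IsSemi (h.cj g) σ.toRingEquiv 1) : g ∈ Sp m F := fun u v => by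
  rw [h.form, h.form, ← h.cj_e, ← h.cj_e, ← tr_gal σ (ff b K' (e u) (e v))]
  exact congrArg _ ((hg.2.2 _ _).trans (one_mul _))

/-- an isometry which is semilinear over `K'` -/
theorem semi_of {g : GG m F} (hg : g ∈ Sp m F) {σ : K' ≃ₐ[F] K'} (k : ∀ c v, g (h.sc c v) = h.sc (σ c) (g v)) :
    IsSemi (h.cj g) σ.toRingEquiv 1 := by
  refine ⟨h.cj_add g, fun c w => ?_, fun u w => tr_ext (F := F) fun c => ?_⟩
  · obtain ⟨v, rfl⟩ := e.surjective w
    rw [← h.e_sc, h.cj_e, h.cj_e, k, h.e_sc]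
    rfl
  · obtain ⟨u, rfl⟩ := e.surjective u
    obtain ⟨w, rfl⟩ := e.surjective w
    obtain ⟨c, rfl⟩ := σ.surjective c
    rw [h.cj_e, h.cj_e, one_mul]
    refine (h.form_sc (σ c) (g u) (g w)).symm.trans ?_
    rw [← k, hg, h.form_sc, ← tr_gal σ, map_mul]
    rfl

theorem sc_of_semi {g : GG m F} {σ : K' ≃+* K'} {l : K'} (hg : IsSemi (h.cj g) σ l) (c : K') (v : VV m F) :
    g (h.sc c v) = h.sc (σ c) (g v) :=
  e.injective (by rw [← h.cj_e, h.e_sc, hg.2.1, h.e_sc, h.cj_e])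

theorem mem_CE {g : GG m F} : g ∈ CE K ↔ IsSemi (h.cj g) (RingEquiv.refl K') 1 :=
  ⟨fun hg => h.semi_of hg.1 (σ := AlgEquiv.refl) fun c v => (hg.2 _ (h.sc_mem c) v).symm, fun hg =>
    ⟨h.mem_Sp_of_semi (σ := AlgEquiv.refl) hg, fun k hk v => by
      obtain ⟨c, rfl⟩ := h.mem_iff.1 hk
      exact (h.sc_of_semi hg c v).symm⟩⟩

theorem mem_NE_of_semi {g : GG m F} {σ : K' ≃ₐ[F] K'} (hg : IsSemi (h.cj g) σ.toRingEquiv 1) : g ∈ NE K := by
  refine ⟨h.mem_Sp_of_semi hg, fun k k' hk => ⟨fun k1 => ?_, fun k1 => ?_⟩⟩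
  · obtain ⟨c, rfl⟩ := h.mem_iff.1 k1
    refine h.mem_iff.2 ⟨σ c, LinearMap.ext fun v => ?_⟩
    obtain ⟨v, rfl⟩ := g.surjective v
    exact (hk v).trans (h.sc_of_semi hg c v)
  · obtain ⟨c, rfl⟩ := h.mem_iff.1 k1
    obtain ⟨c, rfl⟩ := σ.surjective c
    exact h.mem_iff.2 ⟨c, LinearMap.ext fun v => g.injective ((hk v).symm.trans (h.sc_of_semi hg c v).symm)⟩

/-- a linear map which normalises `K` induces an automorphism of `K'` -/
theorem exists_aut (hb : 1 ≤ b) {g : GG m F} (hg : ∀ k ∈ K, ∃ k' ∈ K, ∀ v, k' (g v) = g (k v)) :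
    ∃ σ : K' ≃ₐ[F] K', ∀ c v, g (h.sc c v) = h.sc (σ c) (g v) := by
  have h1 : ∀ c, ∃ d, ∀ v, g (h.sc c v) = h.sc d (g v) := fun c => by
    obtain ⟨k, k1, k2⟩ := hg _ (h.sc_mem c)
    obtain ⟨d, rfl⟩ := h.mem_iff.1 k1
    exact ⟨d, fun v => (k2 v).symm⟩
  choose τ hτ using h1
  have h2 : ∀ {c d}, (∀ v, g (h.sc c v) = h.sc d (g v)) → τ c = d := fun {c d} k => h.sc_inj hb (LinearMap.ext fun v => by
    obtain ⟨v, rfl⟩ := g.surjective v
    rw [← hτ, k])
  have h3 : ∀ c d v, h.sc (c * d) v = h.sc c (h.sc d v) := fun c d v => e.injective (by simp only [h.e_sc, mul_smul])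
  have h4 : ∀ c d v, h.sc (c + d) v = h.sc c v + h.sc d v := fun c d v => e.injective (by simp only [h.e_sc, add_smul, map_add])
  have h5 : ∀ (c : F) v, h.sc (algebraMap F K' c) v = c • v := fun c v => e.injective (by rw [h.e_sc, h.smul])
  let φ : K' →ₐ[F] K' :=
    { toFun := τ
      map_one' := h2 fun v => by rw [← (algebraMap F K').map_one, h5, h5, map_smul]
      map_mul' := fun c d => h2 fun v => by rw [h3, h3, hτ, hτ]
      map_zero' := h2 fun v => by rw [← (algebraMap F K').map_zero, h5, h5, map_smul]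
      map_add' := fun c d => h2 fun v => by rw [h4, h4, map_add, hτ, hτ]
      commutes' := fun c => h2 fun v => by rw [h5, h5, map_smul] }
  exact ⟨AlgEquiv.ofBijective φ (Finite.injective_iff_bijective.1 φ.toRingHom.injective), hτ⟩

theorem mem_NE (hb : 1 ≤ b) {g : GG m F} : g ∈ NE K ↔ ∃ σ : K' ≃ₐ[F] K', IsSemi (h.cj g) σ.toRingEquiv 1 := by
  refine ⟨fun hg => ?_, fun ⟨_, hg⟩ => h.mem_NE_of_semi hg⟩
  obtain ⟨σ, hσ⟩ := h.exists_aut hb (g := g) fun k hk =>
    have h1 : ∀ v, g.conj k (g v) = g (k v) := fun v => by simp [LinearEquiv.conj_apply]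
    ⟨g.conj k, (hg.2 k _ h1).1 hk, h1⟩
  exact ⟨σ, h.semi_of hg.1 hσ⟩

/-- one inclusion suffices -/
theorem mem_NE' (hb : 1 ≤ b) {g : GG m F} (hg : g ∈ Sp m F) (hk : ∀ k ∈ K, ∃ k' ∈ K, ∀ v, k' (g v) = g (k v)) : g ∈ NE K :=
  (h.exists_aut hb hk).elim fun _ hσ => h.mem_NE_of_semi (h.semi_of hg hσ)

theorem semi_unique (hb : 1 ≤ b) {x : Perm (VV b K')} {σ τ : K' ≃+* K'} {l l' : K'} (h1 : IsSemi x σ l) (h2 : IsSemi x τ l') :
    σ = τ := RingEquiv.ext fun c => by
  obtain ⟨w, hw⟩ := exists_ne K' hb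
  obtain ⟨w, rfl⟩ := x.surjective w
  exact smul_left_injective K' hw ((h1.2.1 c w).symm.trans (h2.2.1 c w))

/-- **`CE K ≃ Sp_2b(K')`** -/
noncomputable def ceEquiv : CE K ≃* Sp b K' where
  toFun g := ⟨{ h.cj g.1 with map_add' := h.cj_add g.1, map_smul' := (h.mem_CE.1 g.2).2.1 },
    fun u v => ((h.mem_CE.1 g.2).2.2 u v).trans (one_mul _)⟩
  invFun x := ⟨h.dn (pm x.1) (semi_pm F x.2), h.mem_CE.2 ((h.cj_dn _ (semi_pm F x.2)).symm ▸ semi_pm F x.2)⟩
  left_inv g := Subtype.ext (LinearEquiv.ext fun v => (e.symm_apply_eq.2 (h.cj_e g.1 v)))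
  right_inv x := Subtype.ext (LinearEquiv.ext fun w => DFunLike.congr_fun (h.cj_dn (pm x.1) (semi_pm F x.2)) w)
  map_mul' x y := Subtype.ext (LinearEquiv.ext fun w => DFunLike.congr_fun (h.cj.map_mul x.1 y.1) w)

theorem ceEquiv_apply (g : CE K) (v : VV m F) : (h.ceEquiv g).1 (e v) = e (g.1 v) := h.cj_e g.1 v

theorem ceEquiv_symm_apply (x : Sp b K') (v : VV m F) : e ((h.ceEquiv.symm x).1 v) = x.1 (e v) := e.apply_symm_apply _

theorem pm_ceEquiv (g : CE K) : pm (h.ceEquiv g).1 = h.cj g.1 := rfl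

theorem exists_frob (σ : K' ≃ₐ[F] K') : ∃ g ∈ NE K, IsSemi (h.cj g) σ.toRingEquiv 1 ∧ ∀ v i, e (g v) i = σ (e v i) := by
  have h1 : IsSemi (Equiv.piCongrRight fun _ => σ.toEquiv : Perm (VV b K')) σ.toRingEquiv 1 := by
    refine ⟨fun u v => funext fun i => map_add σ _ _, fun c v => funext fun i => map_mul σ _ _, fun u v => ?_⟩
    simp only [sympForm_eq_sum, one_mul, map_sum, map_sub, map_mul]
    rfl
  have h2 := h.cj_dn _ h1
  refine ⟨h.dn _ h1, h.mem_NE_of_semi (h2.symm ▸ h1), h2.symm ▸ h1, fun v i => ?_⟩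
  rw [← h.cj_e, h2]
  rfl

/-- the automorphism of `K'` induced by an element of `NE K` -/
noncomputable def gal (hb : 1 ≤ b) : NE K →* (K' ≃ₐ[F] K') :=
  MonoidHom.mk' (fun g => ((h.mem_NE hb).1 g.2).choose) fun x y => AlgEquiv.ext fun c => by
    have h1 := ((h.mem_NE hb).1 (x * y).2).choose_spec
    have h2 := (((h.mem_NE hb).1 x.2).choose_spec).mul ((h.mem_NE hb).1 y.2).choose_spec
    rw [← map_mul] at h2
    exact DFunLike.congr_fun (h.semi_unique hb h1 h2) c

theorem gal_semi (hb : 1 ≤ b) (g : NE K) : IsSemi (h.cj g.1) (h.gal hb g).toRingEquiv 1 := ((h.mem_NE hb).1 g.2).choose_spec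

theorem gal_eq (hb : 1 ≤ b) {g : NE K} {σ : K' ≃ₐ[F] K'} {l : K'} (hg : IsSemi (h.cj g.1) σ.toRingEquiv l) : h.gal hb g = σ :=
  AlgEquiv.ext fun c => DFunLike.congr_fun (h.semi_unique hb (h.gal_semi hb g) hg) c

theorem gal_surj (hb : 1 ≤ b) : Function.Surjective (h.gal hb) := fun σ =>
  (h.exists_frob σ).elim fun g hg => ⟨⟨g, hg.1⟩, h.gal_eq hb hg.2.1⟩

theorem gal_eq_one (hb : 1 ≤ b) (g : NE K) : h.gal hb g = 1 ↔ g.1 ∈ CE K :=
  ⟨fun k => h.mem_CE.2 (by have := h.gal_semi hb g; rwa [k] at this), fun k => h.gal_eq hb (σ := 1) (h.mem_CE.1 k)⟩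

theorem CE_le : CE K ≤ NE K := fun _ hg => h.mem_NE_of_semi (σ := AlgEquiv.refl) (h.mem_CE.1 hg)

theorem ker_gal (hb : 1 ≤ b) : (h.gal hb).ker = (CE K).subgroupOf (NE K) := Subgroup.ext (h.gal_eq_one hb)

theorem conj_mem (hb : 1 ≤ b) {g x : GG m F} (hg : g ∈ NE K) (hx : x ∈ CE K) : g * x * g⁻¹ ∈ CE K := by
  have h1 := (h.gal_eq_one hb (⟨g, hg⟩ * ⟨x, h.CE_le hx⟩ * (⟨g, hg⟩ : NE K)⁻¹)).1 (by
    rw [map_mul, map_mul, (h.gal_eq_one hb ⟨x, h.CE_le hx⟩).2 hx, mul_one, map_inv, mul_inv_cancel])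
  rwa [Subgroup.coe_mul, Subgroup.coe_mul, Subgroup.coe_inv] at h1

/-- `NE K / CE K` is abelian -/
theorem comm_le (hb : 1 ≤ b) : ⁅NE K, NE K⁆ ≤ CE K := Subgroup.commutator_le.2 fun x hx y hy =>
  (h.gal_eq_one hb ⁅(⟨x, hx⟩ : NE K), ⟨y, hy⟩⁆).1 (by
    rw [map_commutatorElement, commutatorElement_eq_one_iff_mul_comm]
    exact IsCyclic.isMulCommutative.is_comm.comm _ _)

/-- a perfect subgroup of `NE K` lies in `CE K` -/
theorem le_CE_of_perfect (hb : 1 ≤ b) {Y : Subgroup (GG m F)} (hY : Y ≤ NE K) (hp : ⁅Y, Y⁆ = Y) : Y ≤ CE K :=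
  hp ▸ (Subgroup.commutator_mono hY hY).trans (h.comm_le hb)

end Mod

namespace Mod

variable {m b s : ℕ} {F K' : Type} [Field F] [Fintype F] [Field K'] [Fintype K'] [Algebra F K']
  {K : Subalgebra F (End F (VV m F))} {e : VV m F ≃+ VV b K'} (h : Mod K b K' e) (hc : Fintype.card K' = Fintype.card F ^ s)
include h hc

theorem card_CE : Nat.card (CE K) = oSp b (Fintype.card F ^ s) := by rw [Nat.card_congr h.ceEquiv.toEquiv, card_Sp, hc]

theorem index_CE (hb : 1 ≤ b) : (CE K).relIndex (NE K) = s := by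
  rw [Subgroup.relIndex, ← h.ker_gal hb, Subgroup.index_ker, MonoidHom.range_eq_top.2 (h.gal_surj hb), Subgroup.card_top, card_gal hc]

theorem card_NE (hb : 1 ≤ b) : Nat.card (NE K) = s * oSp b (Fintype.card F ^ s) := by
  rw [← h.card_CE hc, ← ((CE K).subgroupOf (NE K)).index_mul_card, Nat.card_congr (Subgroup.subgroupOfEquivOfLe h.CE_le).toEquiv]
  exact congrArg (· * _) (h.index_CE hc hb)

theorem pow_mem (hb : 1 ≤ b) {g : GG m F} (hg : g ∈ NE K) : g ^ s ∈ CE K := by
  have h1 := (h.gal_eq_one hb ((⟨g, hg⟩ : NE K) ^ s)).1 (by rw [map_pow, ← card_gal hc, pow_card_eq_one'])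
  rwa [Subgroup.coe_pow] at h1

/-- elements of order prime to `s` are `K`-linear -/
theorem mem_CE_of_coprime (hb : 1 ≤ b) {g : GG m F} (hg : g ∈ NE K) {n : ℕ} (hn : g ^ n = 1) (hs : Nat.Coprime n s) :
    g ∈ CE K := by
  refine (h.gal_eq_one hb ⟨g, hg⟩).1 (orderOf_eq_one_iff.1 (Nat.eq_one_of_dvd_coprimes hs (orderOf_dvd_of_pow_eq_one ?_) ?_))
  · rw [← map_pow, show (⟨g, hg⟩ : NE K) ^ n = 1 from Subtype.ext hn, map_one]
  · rw [← card_gal hc]
    exact orderOf_dvd_natCard _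

end Mod

end Cfsg.Agent.SM.Sy
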