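import Cfsg.Agent.SM.Sy.Defs
import Cfsg.Agent.H403.ClassifyEven
import Cfsg.Agent.H955.QMinus

/-!
# SM (S3570), symplectic socles: quadratic forms which polarise to the form, characteristic two (helper19)

The character `psi`, the forms `ad Q u`, Gauss sums, types.
-/

set_option autoImplicit false
set_option linter.unusedSectionVars false
set_option linter.unusedVariables false

namespace Cfsg.Agent.SM.Sy

open Cfsg Subgroup Module QuadraticMap
open Cfsg.Agent.ClassicalGeometry.SympBasic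
open Cfsg.Agent.LieClassical.OrthCore Cfsg.Agent.LieClassical.OrthTrans
open Cfsg.Agent.H955 (IsPlus res)

variable {m : ℕ} {F : Type} [Field F]

/-! ### the character -/

theorem charP_two (h2 : (2 : F) = 0) : CharP F 2 :=
  (CharP.charP_iff_prime_eq_zero Nat.prime_two).2 (by exact_mod_cast h2)

theorem t0_zero : T0 (0 : F) := ⟨0, by ring⟩

theorem t0_self (c : F) : T0 (c * c + c) := ⟨c, rfl⟩

theorem t0_add (h2 : (2 : F) = 0) {a b : F} (ha : T0 a) (hb : T0 b) : T0 (a + b) := by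
  obtain ⟨x, rfl⟩ := ha
  obtain ⟨y, rfl⟩ := hb
  exact ⟨x + y, by linear_combination (x * y) * h2⟩

theorem t0_add_iff (h2 : (2 : F) = 0) {a b : F} (hb : T0 b) : T0 (a + b) ↔ T0 a :=
  ⟨fun h => by
    have h1 := t0_add h2 h hb
    rwa [show a + b + b = a by linear_combination b * h2] at h1, fun h => t0_add h2 h hb⟩

theorem t0_sq (h2 : (2 : F) = 0) {c : F} : T0 (c * c) ↔ T0 c := by
  rw [← t0_add_iff h2 (t0_self c), show c * c + (c * c + c) = c by linear_combination (c * c) * h2]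

theorem t0_map {K : Type} [Field K] (σ : F ≃+* K) {c : F} : T0 (σ c) ↔ T0 c :=
  ⟨fun ⟨x, hx⟩ => ⟨σ.symm x, σ.injective (by simpa using hx)⟩, fun ⟨x, hx⟩ => ⟨σ x, by rw [← hx]; simp⟩⟩

theorem psi_of {c : F} (h : T0 c) : psi c = 1 := if_pos h

theorem psi_of_not {c : F} (h : ¬ T0 c) : psi c = -1 := if_neg h

theorem psi_eq_one {c : F} : psi c = 1 ↔ T0 c :=
  ⟨fun h => by_contra fun h1 => by rw [psi_of_not h1] at h; omega, psi_of⟩

theorem psi_zero : psi (0 : F) = 1 := psi_of t0_zero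

theorem psi_cases (c : F) : psi c = 1 ∨ psi c = -1 := (em (T0 c)).imp psi_of psi_of_not

theorem psi_mul_self (c : F) : psi c * psi c = 1 := by rcases psi_cases c with h | h <;> rw [h] <;> rfl

theorem psi_sq (h2 : (2 : F) = 0) (c : F) : psi (c * c) = psi c := by
  by_cases h : T0 c
  · rw [psi_of h, psi_of ((t0_sq h2).2 h)]
  · rw [psi_of_not h, psi_of_not (mt (t0_sq h2).1 h)]

section fin

variable [Finite F]

theorem exists_sqrt (h2 : (2 : F) = 0) (b : F) : ∃ c : F, c * c = b :=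
  have := charP_two h2
  H403.Classify.exists_sq b

/-- `T0` is a subgroup of index two -/
theorem t0_add_iff' (h2 : (2 : F) = 0) {a b : F} : T0 (a + b) ↔ (T0 a ↔ T0 b) := by
  have := charP_two h2
  have h : ∀ c : F, T0 c ↔ c ∈ (H403.Classify.asMap F).range := fun c =>
    ⟨fun ⟨x, hx⟩ => ⟨x, by rw [H403.Classify.asMap_apply, pow_two, hx]⟩,
      fun ⟨x, hx⟩ => ⟨x, by rw [← hx, H403.Classify.asMap_apply, pow_two]⟩⟩
  rw [h, h, h]
  exact AddSubgroup.add_mem_iff_of_index_two H403.Classify.index_range_asMap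

theorem psi_add (h2 : (2 : F) = 0) (a b : F) : psi (a + b) = psi a * psi b := by
  have h := t0_add_iff' h2 (a := a) (b := b)
  by_cases ha : T0 a <;> by_cases hb : T0 b
  · rw [psi_of ha, psi_of hb, psi_of (by tauto)]; rfl
  · rw [psi_of ha, psi_of_not hb, psi_of_not (by tauto)]; rfl
  · rw [psi_of_not ha, psi_of hb, psi_of_not (by tauto)]; rfl
  · rw [psi_of_not ha, psi_of_not hb, psi_of (by tauto)]; rfl

theorem exists_not_t0 (h2 : (2 : F) = 0) : ∃ c : F, ¬ T0 c := by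
  by_contra h
  push Not at h
  have h1 : Function.Injective fun x : F => x * x + x := Finite.injective_iff_surjective.2 h
  exact zero_ne_one (h1 (show (0 : F) * 0 + 0 = 1 * 1 + 1 by linear_combination -h2))

/-- a non-trivial character sum vanishes -/
theorem sum_psi_eq_zero (h2 : (2 : F) = 0) {A : Type*} [AddCommGroup A] [Fintype A] (φ : A → F)
    (hφ : ∀ a b, φ (a + b) = φ a + φ b) {a₀ : A} (h : ¬ T0 (φ a₀)) : ∑ a, psi (φ a) = 0 := by
  have h1 : ∑ a, psi (φ (a + a₀)) = ∑ a, psi (φ a) := Equiv.sum_comp (Equiv.addRight a₀) fun a => psi (φ a)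
  simp only [hφ, psi_add h2, psi_of_not h, mul_neg, mul_one, Finset.sum_neg_distrib] at h1
  omega

end fin

/-! ### forms -/

theorem ff_self (u : VV m F) : ff m F u u = 0 := sympBilin_isAlt u

theorem ff_comm (h2 : (2 : F) = 0) (u v : VV m F) : ff m F u v = ff m F v u := by
  have h := sympForm_swap u v
  simp only [sympBilin_apply]
  linear_combination h - sympForm m F v u * h2

theorem ff_eq_zero_comm {u v : VV m F} : ff m F u v = 0 ↔ ff m F v u = 0 :=
  ⟨sympBilin_isAlt.isRefl u v, sympBilin_isAlt.isRefl v u⟩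

theorem mem_perp {U : Submodule F (VV m F)} {v : VV m F} : v ∈ perp U ↔ ∀ u ∈ U, ff m F u v = 0 := Iff.rfl

theorem eq_zero_of_ff {u : VV m F} (h : ∀ v, ff m F v u = 0) : u = 0 := eq_zero_of_forall_sympForm_left h

theorem nd_top : Nd (⊤ : Submodule F (VV m F)) := fun u _ h =>
  eq_zero_of_ff fun v => ff_eq_zero_comm.1 (h v trivial)

theorem finrank_VV : finrank F (VV m F) = 2 * m := H955.finrank_plus m

theorem add_self_VV (h2 : (2 : F) = 0) (u : VV m F) : u + u = 0 := by rw [← two_smul F u, h2, zero_smul]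

theorem Nd.isCompl {W : Submodule F (VV m F)} (h : Nd W) : IsCompl W (perp W) := by
  refine LinearMap.BilinForm.isCompl_orthogonal_of_restrict_nondegenerate sympBilin_isAlt.isRefl ⟨fun x hx => ?_, fun x hx => ?_⟩
  · exact Subtype.ext (h x x.2 fun w hw => hx ⟨w, hw⟩)
  · exact Subtype.ext (h x x.2 fun w hw => ff_eq_zero_comm.1 (hx ⟨w, hw⟩))

theorem Nd.exists_add {W : Submodule F (VV m F)} (h : Nd W) (v : VV m F) : ∃ a ∈ W, ∃ b ∈ perp W, a + b = v :=
  Submodule.mem_sup.1 (h.isCompl.sup_eq_top ▸ Submodule.mem_top)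

theorem Nd.perp {W : Submodule F (VV m F)} (h : Nd W) : Nd (perp W) := fun u hu h1 => eq_zero_of_ff fun v => by
  obtain ⟨a, ha, b, hb, rfl⟩ := h.exists_add v
  rw [map_add, LinearMap.add_apply, hu a ha, ff_eq_zero_comm.1 (h1 b hb), add_zero]

theorem perp_perp (W : Submodule F (VV m F)) : perp (perp W) = W :=
  LinearMap.BilinForm.orthogonal_orthogonal (B := ff m F) sympBilin_nondegenerate (fun _ _ => ff_eq_zero_comm.1) W

theorem finrank_perp (W : Submodule F (VV m F)) : finrank F W + finrank F (perp W) = 2 * m := by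
  have h1 : finrank F (perp W) = finrank F (VV m F) - finrank F W :=
    LinearMap.BilinForm.finrank_orthogonal (B := ff m F) sympBilin_nondegenerate W
  have h3 : finrank F W ≤ finrank F (VV m F) := Submodule.finrank_le W
  have h4 := finrank_VV (m := m) (F := F)
  omega

theorem Nd.exists_ff {W : Submodule F (VV m F)} (h : Nd W) {u : VV m F} (hu : u ∈ W) (h0 : u ≠ 0) (c : F) :
    ∃ w ∈ W, ff m F u w = c := by
  obtain ⟨w, hw, h1⟩ : ∃ w ∈ W, ff m F u w ≠ 0 := by
    by_contra h1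
    push Not at h1
    exact h0 (h u hu h1)
  exact ⟨(c * (ff m F u w)⁻¹) • w, W.smul_mem _ hw, by rw [map_smul, smul_eq_mul, mul_assoc, inv_mul_cancel₀ h1, mul_one]⟩

variable {Q Q' : QuadraticForm F (VV m F)}

theorem Pol.add (hQ : Pol Q) (u v : VV m F) : Q (u + v) = Q u + Q v + ff m F u v := by rw [Q_add, hQ]

theorem Pol.nondeg (hQ : Pol Q) : Nondeg Q := fun x h => nd_top x trivial fun w _ => by rw [← hQ, h]

theorem Pol.nondeg_res (hQ : Pol Q) {W : Submodule F (VV m F)} : Nondeg (res Q W) ↔ Nd W := by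
  rw [H955.nondeg_res_iff]
  simp only [hQ _ _]
  rfl

theorem Pol.perp_eq (hQ : Pol Q) (W : Submodule F (VV m F)) : H955.perp Q W = perp W := by
  ext v
  rw [H955.mem_perp, mem_perp]
  simp only [hQ _ _]

theorem O_le_Sp (hQ : Pol Q) : O Q ≤ Sp m F := fun g hg u v => by rw [← hQ, ← hQ, polar_map hg]

theorem E_le_Sp (hQ : Pol Q) : E Q ≤ Sp m F := E_le_O.trans (O_le_Sp hQ)

/-- transport of a form along an isometry -/
theorem Pol.comp (hQ : Pol Q) {g : GG m F} (hg : g ∈ Sp m F) (h : ∀ v, Q (g v) = Q' v) : Pol Q' := fun u v => by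
  rw [← hg u v, ← hQ]
  exact (H955.polar_of_equiv g h u v).symm

/-- an isometry between two forms which polarise to `f` is symplectic -/
theorem mem_Sp_of (hQ : Pol Q) (hQ' : Pol Q') {g : GG m F} (h : ∀ v, Q (g v) = Q' v) : g ∈ Sp m F := fun u v => by
  rw [← hQ, ← hQ']
  exact H955.polar_of_equiv g h u v

theorem pol_plus (h2 : (2 : F) = 0) : Pol (LieClassical.QuadForms.plusForm m F) := fun u v => by
  rw [LieClassical.QuadForms.polar_plusForm, sympBilin_apply, sympForm_eq_sum]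
  refine Finset.sum_congr rfl fun i _ => ?_
  first
    | linear_combination (v (.inl i) * u (.inr i)) * h2
    | linear_combination (u (.inl i) * v (.inr i)) * h2

theorem pol_ad (h2 : (2 : F) = 0) (hQ : Pol Q) (u : VV m F) : Pol (ad Q u) := fun v w => by
  rw [polar, ad_apply, ad_apply, ad_apply, hQ.add, map_add, LinearMap.add_apply]
  linear_combination (ff m F v u * ff m F w u) * h2

theorem ad_zero : ad Q 0 = Q := QuadraticMap.ext fun v => by rw [ad_apply, map_zero, mul_zero, add_zero]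

theorem ad_ad (h2 : (2 : F) = 0) (u w : VV m F) : ad (ad Q u) w = ad Q (u + w) := QuadraticMap.ext fun v => by
  rw [ad_apply, ad_apply, ad_apply, map_add]
  linear_combination (-(ff m F v u * ff m F v w)) * h2

theorem ad_ad_self (h2 : (2 : F) = 0) (u : VV m F) : ad (ad Q u) u = Q := by rw [ad_ad h2, add_self_VV h2, ad_zero]

theorem ad_self (u : VV m F) : ad Q u u = Q u := by rw [ad_apply, ff_self, mul_zero, add_zero]

theorem ad_inj (h2 : (2 : F) = 0) {u w : VV m F} (h : ad Q u = ad Q w) : u = w := by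
  refine sub_eq_zero.1 (eq_zero_of_ff fun v => ?_)
  have h1 : ad Q u v = ad Q w v := by rw [h]
  rw [ad_apply, ad_apply] at h1
  rw [map_sub]
  refine mul_self_eq_zero.1 ?_
  linear_combination h1 + (ff m F v w * ff m F v w - ff m F v u * ff m F v w) * h2

theorem ad_eq_self (h2 : (2 : F) = 0) {u : VV m F} : ad Q u = Q ↔ u = 0 :=
  ⟨fun h => ad_inj h2 (h.trans ad_zero.symm), fun h => h ▸ ad_zero⟩

/-- `ad` is equivariant -/
theorem ad_map {g : GG m F} (hg : g ∈ Sp m F) (h : ∀ v, Q (g v) = Q' v) (u v : VV m F) : ad Q (g u) (g v) = ad Q' u v := by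
  rw [ad_apply, ad_apply, h, hg v u]

theorem mem_O_ad (h2 : (2 : F) = 0) (hQ : Pol Q) {g : GG m F} (hg : g ∈ O Q) {u : VV m F} : g ∈ O (ad Q u) ↔ g u = u := by
  have h1 := ad_map (O_le_Sp hQ hg) hg u
  refine ⟨fun h => ad_inj (Q := Q) h2 (QuadraticMap.ext fun v => ?_), fun h v => ?_⟩
  · obtain ⟨v, rfl⟩ := g.surjective v
    rw [h1, h v]
  · rw [← h1 v, h]

/-- the transvection `v ↦ v + c f(v, u) u` -/
def tv (u : VV m F) (c : F) : GG m F :=
  LinearEquiv.ofLinearMap (LinearMap.id + c • ((ff m F).flip u).smulRight u) (LinearMap.id - c • ((ff m F).flip u).smulRight u)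
    (LinearMap.ext fun v => by simp [sympBilin_isAlt u])
    (LinearMap.ext fun v => by simp [sympBilin_isAlt u])

theorem tv_apply (u : VV m F) (c : F) (v : VV m F) : tv u c v = v + (c * ff m F v u) • u := by
  simp [tv, smul_smul]

theorem tv_mem (u : VV m F) (c : F) : tv u c ∈ Sp m F := fun v w => by
  have h := sympForm_swap u w
  simp only [tv_apply, map_add, map_smul, LinearMap.add_apply, LinearMap.smul_apply, smul_eq_mul, sympBilin_apply,
    sympForm_self]
  linear_combination (c * sympForm m F v u) * h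

theorem Pol.tv (hQ : Pol Q) (u : VV m F) (c : F) (v : VV m F) :
    Q (tv u c v) = Q v + (c * c * Q u + c) * (ff m F v u * ff m F v u) := by
  rw [tv_apply, hQ.add, QuadraticMap.map_smul, map_smul, smul_eq_mul, smul_eq_mul]
  ring

theorem orb_of_t0 (h2 : (2 : F) = 0) (hQ : Pol Q) {u : VV m F} (h : T0 (Q u)) : ∃ g ∈ Sp m F, ∀ v, Q (g v) = ad Q u v := by
  obtain ⟨c, hc⟩ : ∃ c : F, c * c * Q u + c = 1 := by
    obtain ⟨x, hx⟩ := h
    by_cases h0 : x = 0
    · exact ⟨1, by rw [← hx, h0]; ring⟩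
    · refine ⟨x⁻¹, ?_⟩
      rw [← hx]
      field_simp
      linear_combination h2
  exact ⟨tv u c, tv_mem u c, fun v => by rw [hQ.tv, hc, one_mul, ad_apply]⟩

theorem exists_nonsing_mem (hQ : Pol Q) {W : Submodule F (VV m F)} (hW : Nd W) (h0 : W ≠ ⊥) : ∃ w ∈ W, Q w ≠ 0 := by
  obtain ⟨u, hu, h1⟩ := (Submodule.ne_bot_iff W).1 h0
  obtain ⟨w, hw, h3⟩ := hW.exists_ff hu h1 1
  rcases exists_nonsing (Q := Q) ((hQ u w).trans h3) with h | h | h
  exacts [⟨u, hu, h⟩, ⟨w, hw, h⟩, ⟨_, W.add_mem hu hw, h⟩]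

theorem top_ne_bot' (hm : 1 ≤ m) : (⊤ : Submodule F (VV m F)) ≠ ⊥ := fun h => by
  have h1 := finrank_top F (VV m F)
  rw [h, finrank_bot, finrank_VV] at h1
  omega

variable [Finite F]

theorem exists_ad (h2 : (2 : F) = 0) (hQ : Pol Q) (hQ' : Pol Q') : ∃ u, Q' = ad Q u := by
  choose r hr using exists_sqrt h2
  have hinj : ∀ {a b : F}, a * a = b * b → a = b := fun {a b} h =>
    sub_eq_zero.1 (mul_self_eq_zero.1 (by linear_combination h + (b * b - a * b) * h2))
  let l : VV m F →ₗ[F] F :=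
    { toFun := fun v => r (Q v + Q' v)
      map_add' := fun v w => hinj (by
        rw [hr, hQ.add, hQ'.add]
        linear_combination (-1 : F) * hr (Q v + Q' v) - hr (Q w + Q' w) +
          (ff m F v w - r (Q v + Q' v) * r (Q w + Q' w)) * h2)
      map_smul' := fun c v => hinj (by
        rw [hr, QuadraticMap.map_smul, QuadraticMap.map_smul, RingHom.id_apply, smul_eq_mul, smul_eq_mul, smul_eq_mul]
        linear_combination (-(c * c)) * hr (Q v + Q' v)) }
  obtain ⟨u, hu⟩ := (LinearMap.BilinForm.toDual (ff m F) sympBilin_nondegenerate).surjective l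
  refine ⟨u, QuadraticMap.ext fun v => ?_⟩
  have h1 : ff m F u v = r (Q v + Q' v) := by
    rw [← LinearMap.BilinForm.toDual_def sympBilin_nondegenerate, hu]; rfl
  rw [ad_apply, ff_comm h2 v u, h1, hr]
  linear_combination (-Q v) * h2

theorem exists_val (h2 : (2 : F) = 0) (hQ : Pol Q) {W : Submodule F (VV m F)} (hW : Nd W) (h0 : W ≠ ⊥) {c : F}
    (hc : c ≠ 0) : ∃ w ∈ W, Q w = c := by
  obtain ⟨w, hw, h1⟩ := exists_nonsing_mem hQ hW h0
  obtain ⟨a, ha⟩ := exists_sqrt h2 (c * (Q w)⁻¹)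
  exact ⟨a • w, W.smul_mem _ hw, by rw [QuadraticMap.map_smul, ha, smul_eq_mul, mul_assoc, inv_mul_cancel₀ h1, mul_one]⟩

theorem exists_not_t0_mem (h2 : (2 : F) = 0) (hQ : Pol Q) {W : Submodule F (VV m F)} (hW : Nd W) (h0 : W ≠ ⊥) :
    ∃ w ∈ W, ¬ T0 (Q w) := by
  obtain ⟨c, hc⟩ := exists_not_t0 h2
  obtain ⟨w, hw, rfl⟩ := exists_val h2 hQ hW h0 (c := c) (by rintro rfl; exact hc t0_zero)
  exact ⟨w, hw, hc⟩

/-! ### Gauss sums -/

theorem gs_eq (Q : QuadraticForm F (VV m F)) (W : Submodule F (VV m F)) [Fintype W] : gs Q W = ∑ w : W, psi (Q w) :=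
  finsum_eq_sum_of_fintype _

theorem gs_top (Q : QuadraticForm F (VV m F)) [Fintype (VV m F)] : gs Q ⊤ = ∑ v, psi (Q v) := by
  have := Fintype.ofFinite (⊤ : Submodule F (VV m F))
  rw [gs_eq]
  exact Equiv.sum_comp (Submodule.topEquiv (R := F) (M := VV m F)).toEquiv fun v => psi (Q v)

theorem gs_congr {W : Submodule F (VV m F)} (h : ∀ w ∈ W, Q w = Q' w) : gs Q W = gs Q' W :=
  finsum_congr fun w => by rw [h w w.2]

theorem gs_bot : gs Q ⊥ = 1 := by
  rw [gs, finsum_unique, (Submodule.mem_bot F).1 (default : (⊥ : Submodule F (VV m F))).2, map_zero, psi_zero]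

open Classical in
/-- the sum of `psi (f (v, ·))` over a subspace -/
theorem sum_ff (h2 : (2 : F) = 0) (W : Submodule F (VV m F)) [Fintype W] (v : VV m F) :
    ∑ w : W, psi (ff m F w v) = if v ∈ perp W then (Fintype.card W : ℤ) else 0 := by
  split_ifs with h
  · rw [Finset.sum_congr rfl fun (w : W) _ => show psi (ff m F w v) = 1 by rw [h w w.2, psi_zero]]
    simp
  · obtain ⟨c, hc⟩ := exists_not_t0 h2
    obtain ⟨w, hw, h1⟩ : ∃ w ∈ W, ff m F w v ≠ 0 := by
      by_contra h1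
      push Not at h1
      exact h h1
    refine sum_psi_eq_zero h2 (fun w : W => ff m F w v) (fun a b => by simp only [Submodule.coe_add, map_add, LinearMap.add_apply])
      (a₀ := (c * (ff m F w v)⁻¹) • ⟨w, hw⟩) ?_
    simp only [Submodule.coe_smul, map_smul, LinearMap.smul_apply, smul_eq_mul]
    rwa [mul_assoc, inv_mul_cancel₀ h1, mul_one]

theorem gs_sq (h2 : (2 : F) = 0) (hQ : Pol Q) {W : Submodule F (VV m F)} (hW : Nd W) : gs Q W ^ 2 = Nat.card W := by
  classical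
  have := Fintype.ofFinite W
  have h1 : ∀ w : W, psi (Q w) * gs Q W = ∑ v : W, psi (Q v) * psi (ff m F w v) := fun w => by
    rw [gs_eq, ← Equiv.sum_comp (Equiv.addLeft w), Finset.mul_sum]
    refine Finset.sum_congr rfl fun v _ => ?_
    rw [Equiv.coe_addLeft, Submodule.coe_add, hQ.add, psi_add h2, psi_add h2, ← mul_assoc, ← mul_assoc, psi_mul_self, one_mul]
  rw [pow_two]
  nth_rewrite 1 [gs_eq]
  rw [Finset.sum_mul, Finset.sum_congr rfl fun w _ => h1 w, Finset.sum_comm, Finset.sum_eq_single 0]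
  · simp [psi_zero]
  · intro v _ hv
    rw [← Finset.mul_sum, sum_ff h2, if_neg, mul_zero]
    exact fun h => hv (Subtype.ext (hW v v.2 fun w hw => ff_eq_zero_comm.1 (h w hw)))
  · simp

theorem gs_ne_zero (h2 : (2 : F) = 0) (hQ : Pol Q) {W : Submodule F (VV m F)} (hW : Nd W) : gs Q W ≠ 0 := fun h => by
  have h1 := gs_sq h2 hQ hW
  have h3 : 0 < Nat.card W := Nat.card_pos
  rw [h] at h1
  omega

theorem gs_ad (h2 : (2 : F) = 0) (hQ : Pol Q) {W : Submodule F (VV m F)} {u₁ u₂ : VV m F} (h1 : u₁ ∈ W) (h3 : u₂ ∈ perp W) :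
    gs (ad Q (u₁ + u₂)) W = psi (Q u₁) * gs Q W := by
  have := Fintype.ofFinite W
  rw [gs_eq, gs_eq, ← Equiv.sum_comp (Equiv.addRight (⟨u₁, h1⟩ : W)) fun w : W => psi (Q w), Finset.mul_sum]
  refine Finset.sum_congr rfl fun w _ => ?_
  rw [Equiv.coe_addRight, Submodule.coe_add, hQ.add, ad_apply, map_add, h3 w w.2, add_zero, psi_add h2, psi_add h2,
    psi_add h2, psi_sq h2]
  linear_combination (-(psi (Q w) * psi (ff m F w u₁))) * psi_mul_self (Q u₁)

theorem gs_ad_mem (h2 : (2 : F) = 0) (hQ : Pol Q) {W : Submodule F (VV m F)} {u : VV m F} (h1 : u ∈ W) :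
    gs (ad Q u) W = psi (Q u) * gs Q W := by
  rw [← gs_ad h2 hQ h1 (zero_mem _), add_zero]

theorem gs_ad_top (h2 : (2 : F) = 0) (hQ : Pol Q) (u : VV m F) : gs (ad Q u) ⊤ = psi (Q u) * gs Q ⊤ :=
  gs_ad_mem h2 hQ trivial

theorem gs_perp (h2 : (2 : F) = 0) (hQ : Pol Q) {W : Submodule F (VV m F)} (hW : Nd W) :
    gs Q ⊤ = gs Q W * gs Q (perp W) := by
  have := Fintype.ofFinite W
  have := Fintype.ofFinite (perp W)
  have := Fintype.ofFinite (VV m F)
  rw [gs_top, gs_eq, gs_eq, Finset.sum_mul_sum, ← Fintype.sum_prod_type',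
    ← Equiv.sum_comp (Submodule.prodEquivOfIsCompl W (perp W) hW.isCompl).toEquiv]
  refine Finset.sum_congr rfl fun x _ => ?_
  change psi (Q ((x.1 : VV m F) + x.2)) = _
  rw [hQ.add, x.2.2 _ x.1.2, add_zero, psi_add h2]

theorem gs_map (g : GG m F) (h : ∀ v, Q (g v) = Q' v) (W : Submodule F (VV m F)) :
    gs Q (W.map (g : VV m F →ₗ[F] VV m F)) = gs Q' W := by
  have := Fintype.ofFinite W
  have := Fintype.ofFinite (W.map (g : VV m F →ₗ[F] VV m F))
  rw [gs_eq, gs_eq, ← Equiv.sum_comp (g.submoduleMap W).toEquiv]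
  exact Finset.sum_congr rfl fun w _ => congrArg psi (h w)

theorem gs_map_top (g : GG m F) (h : ∀ v, Q (g v) = Q' v) : gs Q ⊤ = gs Q' ⊤ := by
  rw [← gs_map g h, Submodule.map_top, LinearEquiv.range]

/-- the Gauss sum of a plus type subspace -/
theorem gs_pos (h2 : (2 : F) = 0) (hQ : Pol Q) {W : Submodule F (VV m F)} (hW : Nd W) (h : IsPlus (res Q W)) :
    0 < gs Q W := by
  classical
  have := Fintype.ofFinite W
  obtain ⟨U, hU, hd⟩ := h
  have := Fintype.ofFinite U
  have hn := hQ.nondeg_res.2 hW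
  have hp : U = H955.perp (res Q W) U := by
    refine Submodule.eq_of_le_of_finrank_le (fun u hu w hw => H955.polar_eq_zero_of_tsing hU hw hu) ?_
    have := H955.finrank_add_perp hn U
    omega
  let U' := U.map W.subtype
  have := Fintype.ofFinite U'
  have h1 : ∀ u : U', gs Q W = ∑ v : W, psi (Q v) * psi (ff m F u v) := by
    rintro ⟨_, u, hu, rfl⟩
    rw [gs_eq, ← Equiv.sum_comp (Equiv.addLeft u)]
    refine Finset.sum_congr rfl fun v _ => ?_
    have h5 : Q u = 0 := hU u hu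
    rw [Equiv.coe_addLeft, Submodule.coe_add, hQ.add, h5, zero_add, psi_add h2]
    rfl
  have h3 : (Fintype.card U' : ℤ) * gs Q W = ∑ v : W, if v ∈ U then (Fintype.card U' : ℤ) else 0 := by
    rw [← nsmul_eq_mul, ← Finset.card_univ, ← Finset.sum_const, Finset.sum_congr rfl fun u _ => h1 u, Finset.sum_comm]
    refine Finset.sum_congr rfl fun v _ => ?_
    have h4 : (v : VV m F) ∈ perp U' ↔ v ∈ U := by
      conv_rhs => rw [hp]
      refine ⟨fun h w hw => (hQ w v).trans (h w ⟨w, hw, rfl⟩), ?_⟩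
      rintro h _ ⟨w, hw, rfl⟩
      exact (hQ w v).symm.trans (h w hw)
    rw [← Finset.mul_sum, sum_ff h2, Finset.card_univ]
    by_cases hv : v ∈ U
    · have h5 : Q v = 0 := hU v hv
      rw [if_pos hv, if_pos (h4.2 hv), h5, psi_zero, one_mul]
    · rw [if_neg hv, if_neg (mt h4.1 hv), mul_zero]
  have h6 : (0 : ℤ) < Fintype.card U' := by exact_mod_cast Fintype.card_pos
  refine (mul_pos_iff_of_pos_left h6).1 ?_
  rw [h3]
  exact Finset.sum_pos' (fun v _ => by split_ifs <;> omega) ⟨0, Finset.mem_univ _, by rwa [if_pos U.zero_mem]⟩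

theorem Nd.even (h2 : (2 : F) = 0) {W : Submodule F (VV m F)} (hW : Nd W) : Even (finrank F W) := by
  have := charP_two h2
  obtain ⟨k, h | h⟩ := H403.Classify.classify _ ((pol_plus h2).nondeg_res.2 hW)
  · exact ⟨k, by rw [h.finrank]; omega⟩
  · exact ⟨k + 1, by rw [h.finrank]; omega⟩

/-- the type of a non-degenerate subspace -/
theorem plus_iff_on (h2 : (2 : F) = 0) (hQ : Pol Q) {W : Submodule F (VV m F)} (hW : Nd W) :
    IsPlus (res Q W) ↔ 0 < gs Q W := by
  refine ⟨gs_pos h2 hQ hW, fun h => by_contra fun h1 => ?_⟩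
  have h0 : W ≠ ⊥ := by
    rintro rfl
    exact h1 (H955.isPlus_of_finrank_zero (finrank_bot F _))
  obtain ⟨u, hu, h3⟩ := exists_not_t0_mem h2 hQ hW h0
  have h4 := gs_ad_mem h2 hQ hu
  rw [psi_of_not h3] at h4
  have h5 : ¬ IsPlus (res (ad Q u) W) := fun h5 => by
    have := gs_pos h2 (pol_ad h2 hQ u) hW h5
    omega
  obtain ⟨e, he⟩ := H955.exists_equiv_of_isPlus_iff (hQ.nondeg_res.2 hW) ((pol_ad h2 hQ u).nondeg_res.2 hW) (hW.even h2)
    rfl (iff_of_false h1 h5)
  have := Fintype.ofFinite W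
  have h6 : gs (ad Q u) W = gs Q W := by
    rw [gs_eq, gs_eq, ← Equiv.sum_comp e.toEquiv]
    exact Finset.sum_congr rfl fun w _ => congrArg psi (he w)
  omega

theorem plus_iff (h2 : (2 : F) = 0) (hQ : Pol Q) : IsPlus Q ↔ 0 < gs Q ⊤ := by
  rw [← plus_iff_on h2 hQ nd_top]
  exact (H955.isPlus_iff_of_equiv (Q := res Q ⊤) Submodule.topEquiv fun _ => rfl).symm

theorem not_plus_iff (h2 : (2 : F) = 0) (hQ : Pol Q) : ¬ IsPlus Q ↔ gs Q ⊤ < 0 := by
  have := gs_ne_zero h2 hQ nd_top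
  rw [plus_iff h2 hQ]
  omega

theorem orb_iff (h2 : (2 : F) = 0) (hQ : Pol Q) {u : VV m F} : (∃ g ∈ Sp m F, ∀ v, Q (g v) = ad Q u v) ↔ T0 (Q u) := by
  refine ⟨fun ⟨g, _, h⟩ => psi_eq_one.1 ?_, orb_of_t0 h2 hQ⟩
  have h1 := gs_map_top g h
  rw [gs_ad_top h2 hQ] at h1
  exact mul_right_cancel₀ (gs_ne_zero h2 hQ nd_top) (by rw [← h1, one_mul])

theorem plus_ad (h2 : (2 : F) = 0) (hQ : Pol Q) {u : VV m F} : IsPlus (ad Q u) ↔ (IsPlus Q ↔ T0 (Q u)) := by
  have h1 := gs_ne_zero h2 hQ nd_top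
  rw [plus_iff h2 hQ, plus_iff h2 (pol_ad h2 hQ u), gs_ad_top h2 hQ]
  by_cases h : T0 (Q u)
  · rw [psi_of h, one_mul]; tauto
  · rw [psi_of_not h, iff_false_intro h, iff_false]; omega

/-- forms of the same type are conjugate under `Sp` -/
theorem orb_iff_plus (h2 : (2 : F) = 0) (hQ : Pol Q) (hQ' : Pol Q') :
    (∃ g ∈ Sp m F, ∀ v, Q (g v) = Q' v) ↔ (IsPlus Q ↔ IsPlus Q') := by
  obtain ⟨u, rfl⟩ := exists_ad h2 hQ hQ'
  rw [orb_iff h2 hQ, plus_ad h2 hQ]
  tauto

theorem exists_hyp_VV (hQ : Pol Q) (hm : 2 ≤ m) : ∃ x y, Hyp Q x y := by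
  obtain ⟨x, h0, hx⟩ := H955.exists_singular Q (by rw [finrank_VV]; omega)
  obtain ⟨y, hy⟩ := exists_hyp hQ.nondeg hx h0
  exact ⟨x, y, hy⟩

theorem nofix (hQ : Pol Q) (hm : 2 ≤ m) {u : VV m F} (h : ∀ g ∈ E Q, g u = u) : u = 0 := by
  have key : ∀ x y, Hyp Q x y → polar Q x u = 0 := fun x y hh => by
    obtain ⟨a, c, h1, -, h3, -, h5⟩ := exists_perp2 hQ.nondeg (by rw [finrank_VV]; omega) hh
    have h6 := congrArg (polar Q c) (h _ (siegel_mem_E hh.left h1))
    rw [siegel_apply, polar_sub_right, polar_sub_right, polar_add_right, polar_smul_right, polar_smul_right,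
      polar_smul_right, polar_comm Q c a, h5, polar_comm Q c x, h3] at h6
    simpa using h6
  obtain ⟨x, y, hh⟩ := exists_hyp_VV hQ hm
  refine hQ.nondeg u fun v => ?_
  rw [polar_comm]
  refine sing_induction hh (P := fun v => polar Q v u = 0) (fun a c ha hc => by rw [polar_add_left, ha, hc, add_zero])
    (fun a ha => ?_) v
  by_cases h0 : a = 0
  · rw [h0, polar_zero_left]
  · obtain ⟨b, hb⟩ := exists_hyp hQ.nondeg ha h0
    exact key a b hb

theorem uniq (h2 : (2 : F) = 0) (hQ : Pol Q) (hQ' : Pol Q') (hm : 2 ≤ m) (h : E Q ≤ O Q') : Q' = Q := by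
  obtain ⟨u, rfl⟩ := exists_ad h2 hQ hQ'
  exact (ad_eq_self h2).2 (nofix hQ hm fun g hg => (mem_O_ad h2 hQ (E_le_O hg)).1 (h hg))

end Cfsg.Agent.SM.Sy
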