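import Cfsg.Agent.SM.Sy.Red
import Cfsg.Agent.SM.Sy.Form
import Cfsg.Agent.H918.Transv
import Cfsg.Agent.H883.Bridge
import Cfsg.Agent.S2141

/-!
# SM (S3570), symplectic socles: the factorisation `Sp = A C` on matrices and the reduction of `BoxCLc` (helper70)
-/

set_option autoImplicit false
set_option linter.unusedSectionVars false
set_option linter.unusedVariables false

namespace Cfsg.Agent.SM.Sy

open Cfsg Cfsg.Geo Equiv Subgroup MulAction Module Matrix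
open Cfsg.Agent.ClassicalGeometry.SympBasic Cfsg.Agent.ClassicalGeometry.SympAutSemi
open Cfsg.Agent.H925.Rs (Isos)
open Cfsg.Agent.H884.El (PP)
open Cfsg.Agent.LieClassical.OrthCore (O E)
open scoped MatrixGroups

namespace CLc

/-- the order formula of a factorisation -/
theorem card_fac {G : Type} [Group G] [Finite G] {S X Y : Subgroup G} (hX : X ≤ S) (hY : Y ≤ S)
    (h : ∀ g ∈ S, ∃ x ∈ X, ∃ y ∈ Y, g = x * y) : Nat.card S * Nat.card ↥(X ⊓ Y) = Nat.card X * Nat.card Y := by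
  have k : ∀ Z : Subgroup G, Y.relIndex Z = (orbit Z ((1 : G) : G ⧸ Y)).ncard := fun Z => by
    rw [← index_stabilizer, relIndex]
    congr 1
    ext u
    rw [mem_stabilizer_iff, mem_subgroupOf]
    show _ ↔ (((u : G) * 1 : G) : G ⧸ Y) = ((1 : G) : G ⧸ Y)
    rw [eq_comm, QuotientGroup.eq, inv_one, one_mul, mul_one]
  have e : Y.relIndex X = Y.relIndex S := by
    rw [k, k]
    congr 1
    ext x
    constructor
    · rintro ⟨t, rfl⟩
      exact ⟨⟨t, hX t.2⟩, rfl⟩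
    · rintro ⟨s, rfl⟩
      obtain ⟨t, ht, b, hb, e⟩ := h s s.2
      refine ⟨⟨t, ht⟩, ?_⟩
      show ((t * 1 : G) : G ⧸ Y) = (((s : G) * 1 : G) : G ⧸ Y)
      rw [QuotientGroup.eq, e]
      simpa using hb
  have h1 := Fac.card_mul S Y
  rw [inf_eq_right.2 hY] at h1
  rw [← h1, ← Fac.card_mul X Y, e]
  ring

variable {m : ℕ} {F : Type} [Field F] [Fintype F]

/-- a factorisation of `Sp` -/
structure Pr (X Y : Subgroup (GL (Fin m ⊕ Fin m) F)) : Prop where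
  leX : X ≤ spGL m F
  leY : Y ≤ spGL m F
  neX : X ≠ spGL m F
  neY : Y ≠ spGL m F
  fac : ∀ g ∈ spGL m F, ∃ x ∈ X, ∃ y ∈ Y, g = x * y

variable {X' Y' : Subgroup (GL (Fin m ⊕ Fin m) F)}

theorem Pr.symm (h : Pr X' Y') : Pr Y' X' :=
  ⟨h.leY, h.leX, h.neY, h.neX, fun g hg => by
    obtain ⟨x, hx, y, hy, e⟩ := h.fac g⁻¹ (inv_mem hg)
    exact ⟨y⁻¹, inv_mem hy, x⁻¹, inv_mem hx, by rw [← _root_.mul_inv_rev, ← e, inv_inv]⟩⟩

theorem Pr.card (h : Pr X' Y') : Nat.card (spGL m F) * Nat.card ↥(X' ⊓ Y') = Nat.card X' * Nat.card Y' :=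
  card_fac h.leX h.leY h.fac

theorem Pr.dvd (h : Pr X' Y') : Nat.card (spGL m F) ∣ Nat.card X' * Nat.card Y' := Dvd.intro _ h.card

theorem Pr.mono (h : Pr X' Y') {M N : Subgroup (GL (Fin m ⊕ Fin m) F)} (hM : IsMaximalIn (spGL m F) M)
    (hN : IsMaximalIn (spGL m F) N) (h1 : X' ≤ M) (h2 : Y' ≤ N) : Pr M N :=
  ⟨hM.1.le, hN.1.le, hM.1.ne, hN.1.ne, fun g hg => by
    obtain ⟨x, hx, y, hy, e⟩ := h.fac g hg
    exact ⟨x, h1 hx, y, h2 hy, e⟩⟩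

/-- an element which is conjugate into both factors -/
theorem Pr.ord (h : Pr X' Y') {g a b : GL (Fin m ⊕ Fin m) F} (ha : a ∈ spGL m F) (hb : b ∈ spGL m F)
    (h1 : a * g * a⁻¹ ∈ X') (h2 : b * g * b⁻¹ ∈ Y') : orderOf g ∣ Nat.card ↥(X' ⊓ Y') := by
  obtain ⟨x, hx, y, hy, e⟩ := h.fac (a * b⁻¹) (mul_mem ha (inv_mem hb))
  have e1 : x⁻¹ * (a * g * a⁻¹) * x = y * (b * g * b⁻¹) * y⁻¹ := by
    have e2 : a = x * y * b := by rw [← e]; group
    rw [e2]; group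
  have h3 : y * (b * g * b⁻¹) * y⁻¹ ∈ X' ⊓ Y' :=
    mem_inf.2 ⟨e1 ▸ X'.mul_mem (X'.mul_mem (X'.inv_mem hx) h1) hx, Y'.mul_mem (Y'.mul_mem hy h2) (Y'.inv_mem hy)⟩
  have h4 := orderOf_dvd_natCard (⟨_, h3⟩ : ↥(X' ⊓ Y'))
  rw [Subgroup.orderOf_mk, show y * (b * g * b⁻¹) * y⁻¹ = MulAut.conj (y * b) g by rw [MulAut.conj_apply]; group,
    MulEquiv.orderOf_eq] at h4
  exact h4

/-- groups of linear maps as groups of matrices -/
noncomputable def mm (Y : Subgroup (GG m F)) : Subgroup (GL (Fin m ⊕ Fin m) F) := Y.map (mx (m := m) (F := F)).toMonoidHom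

theorem mem_mm {Y : Subgroup (GG m F)} {g : GL (Fin m ⊕ Fin m) F} : g ∈ mm Y ↔ mx.symm g ∈ Y := mem_map_equiv

theorem mx_mem {Y : Subgroup (GG m F)} {g : GG m F} : mx g ∈ mm Y ↔ g ∈ Y := by
  rw [mem_mm, MulEquiv.symm_apply_apply]

theorem symm_apply (g : GL (Fin m ⊕ Fin m) F) (v : VV m F) :
    (mx (m := m) (F := F)).symm g v = (g : Matrix (Fin m ⊕ Fin m) (Fin m ⊕ Fin m) F) *ᵥ v := rfl

theorem mx_apply (g : GG m F) (v : VV m F) : (mx g : Matrix (Fin m ⊕ Fin m) (Fin m ⊕ Fin m) F) *ᵥ v = g v := by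
  rw [← symm_apply, MulEquiv.symm_apply_apply]

theorem card_mm (Y : Subgroup (GG m F)) : Nat.card (mm Y) = Nat.card Y := card_map_of_injective mx.injective

theorem mm_sp : mm (Sp m F) = spGL m F := Subgroup.ext fun g => mem_mm.trans Iff.rfl

theorem mm_le {Y Z : Subgroup (GG m F)} (h : Y ≤ Z) : mm Y ≤ mm Z := map_mono h

/-- reducible -/
def Rdc (Y : Subgroup (GL (Fin m ⊕ Fin m) F)) : Prop :=
  ∃ W : Submodule F (Fin m ⊕ Fin m → F), W ≠ ⊥ ∧ W ≠ ⊤ ∧ Y ≤ subspaceStabilizer W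

/-- orthogonal -/
def Qd (Y : Subgroup (GL (Fin m ⊕ Fin m) F)) : Prop :=
  (2 : F) = 0 ∧ ∃ Q : (Fin m ⊕ Fin m → F) → F, IsNondegenerateQuadraticForm Q ∧
    (∀ u v, QuadraticMap.polar Q u v = sympForm m F u v) ∧ Y ≤ isometryGroup F Q

theorem Qd.le {Y : Subgroup (GG m F)} (h : Qd (mm Y)) : (2 : F) = 0 ∧ ∃ Q, Pol Q ∧ Y ≤ O Q := by
  obtain ⟨h2, Q, h3, h4, h5⟩ := h
  obtain ⟨Q, rfl, -⟩ := H883.Bridge.exists_quadraticForm h3
  refine ⟨h2, Q, h4, fun g hg v => ?_⟩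
  have h6 := LieClassical.OrthFinite.mem_isometryGroup_iff.1 (h5 (mx_mem.2 hg)) v
  rwa [mx_apply] at h6

theorem nd0 (x : VV m F) (h : ∀ y, ff m F x y = 0) : x = 0 := eq_zero_of_ff fun v => ff_eq_zero_comm.1 (h v)

/-- small invariant subspaces are fixed -/
theorem fix_of {r : ℕ} (hm : 3 ≤ m) (hr : PP (Nat.card F) (2 * m - 2) r) {y : GG m F} (hy : y ^ r = 1)
    {U : Submodule F (VV m F)} (hU : finrank F U ≤ 2) (h : ∀ u ∈ U, y u ∈ U) : U ≤ H951.fx (y : End F (VV m F)) := by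
  by_cases h1 : y = 1
  · intro u _
    rw [h1]
    exact H951.mem_fx.2 rfl
  obtain ⟨-, h2, h3, -⟩ := H925.Rs.blk hr (by omega) (by rw [finrank_VV]; omega) hy h1
  refine (h3 U h).resolve_right fun h4 => ?_
  have := Submodule.finrank_mono h4
  omega

/-- a reducible group with an element of order `r` fixes a point or a non-degenerate plane -/
theorem low {r : ℕ} (hm : 3 ≤ m) (hr : PP (Nat.card F) (2 * m - 2) r) {Y : Subgroup (GG m F)} (hY : Y ≤ Sp m F)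
    (hd : r ∣ Nat.card Y) (h : Rdc (mm Y)) : ∃ U : Submodule F (VV m F), (∀ g ∈ Y, ∀ u ∈ U, g u ∈ U) ∧
      (finrank F U = 1 ∨ (finrank F U = 2 ∧ Nd U)) := by
  obtain ⟨W, h0, h1, hW⟩ := h
  have hW' : ∀ g ∈ Y, ∀ u ∈ W, g u ∈ W := fun g hg u hu => by
    rw [← mx_apply]
    exact (H918.mem_subspaceStabilizer.1 (hW (mx_mem.2 hg)) u).1 hu
  obtain ⟨y, hy, hyr, hy1⟩ := H925.Rs.exists_elt hr.prime hd
  obtain ⟨h2, h3, h4, -⟩ := H925.Rs.blk hr (by omega) (by rw [finrank_VV]; omega) hyr hy1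
  rw [finrank_VV] at h2
  replace h2 : finrank F (H951.fx (y : End F (VV m F))) = 2 := (fun (a : ℕ) (h : a + (2 * m - 2) = 2 * m) => (by omega : a = 2)) _ h2
  obtain ⟨U, hU0, hU, hU2⟩ : ∃ U : Submodule F (VV m F), U ≠ ⊥ ∧ (∀ g ∈ Y, ∀ u ∈ U, g u ∈ U) ∧ finrank F U ≤ 2 := by
    rcases h4 W (hW' y hy) with h5 | h5
    · exact ⟨W, h0, hW', (Submodule.finrank_mono h5).trans h2.le⟩
    · have h6 := Submodule.finrank_mono h5
      have h7 := finrank_perp W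
      refine ⟨perp W, fun h8 => h1 ?_, fun g hg u hu w hw => ?_, by omega⟩
      · rw [h8, finrank_bot] at h7
        exact Submodule.eq_top_of_finrank_eq (by rw [finrank_VV]; omega)
      · have h8 : ff m F (g⁻¹ w) u = 0 := hu _ (hW' g⁻¹ (inv_mem hg) w hw)
        have h9 := hY hg (g⁻¹ w) u
        rw [h8, show g (g⁻¹ w) = w from g.apply_symm_apply w] at h9
        exact h9
  refine ⟨U, hU, ?_⟩
  have h5 : finrank F U ≠ 0 := fun h5 => hU0 (Submodule.finrank_eq_zero.1 h5)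
  by_cases h6 : finrank F U = 1
  · exact Or.inl h6
  refine Or.inr ⟨by omega, fun u hu h7 => ?_⟩
  have h8 : U = H951.fx (y : End F (VV m F)) :=
    Submodule.eq_of_le_of_finrank_eq (fix_of hm hr hyr hU2 (hU y hy)) ((by omega : finrank F U = 2).trans h2.symm)
  have h9 := H925.Rs.nd_fx (B := ff m F) ff_self nd0 hr (by omega) (hY hy) hyr
  rw [← h8] at h9
  by_contra h10
  obtain ⟨v, hv, h11⟩ := h9 u hu h10
  exact h11 (h7 v hv)

/-- the minimal index -/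
theorem idx (hm : 3 ≤ m) (hq : 3 ≤ Fintype.card F) {Y : Subgroup (GG m F)} (hne : ¬ Sp m F ≤ Y)
    (hZ : ∀ g ∈ Sp m F, (∃ c : F, ∀ v, g v = c • v) → g ∈ Y) : 364 ≤ Y.relIndex (Sp m F) := by
  set e : (⊤ : Subgroup (PSp m F)) ≃* PSp m F := topEquiv
  set φ : Sp m F →* PSp m F := e.toMonoidHom.comp (H925.Rs.prS e) with hφ
  have hs : Function.Surjective φ := e.surjective.comp (H925.Rs.prS_surjective e)
  have hk : φ.ker ≤ Y.subgroupOf (Sp m F) := fun g hg =>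
    hZ g g.2 (H925.Rs.prS_eq_one (e := e) (e.injective (hg.trans (map_one e).symm)))
  have h1 := (S2141.result (F := F) rfl m (by omega) hq (by omega)).1 ((Y.subgroupOf (Sp m F)).map φ) fun h => hne fun g hg => by
    have h2 := comap_map_eq_self hk
    rw [h, comap_top] at h2
    exact (h2.le (mem_top (⟨g, hg⟩ : Sp m F)) : (⟨g, hg⟩ : Sp m F) ∈ Y.subgroupOf (Sp m F))
  rw [index_map, sup_eq_left.2 hk, MonoidHom.range_eq_top.2 hs, index_top, mul_one] at h1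
  refine le_trans ?_ h1
  obtain ⟨k, hk⟩ := Nat.exists_eq_add_of_le' hq
  rw [hk, Nat.le_div_iff_mul_le (by omega)]
  have h2 : (k + 3) ^ 6 ≤ (k + 3) ^ (2 * m) := Nat.pow_le_pow_right (by omega) (by omega)
  have h3 : 364 * (k + 2) + 1 ≤ (k + 3) ^ 6 := by
    have : (k + 3) ^ 6 = 364 * (k + 2) + 1 + (k ^ 6 + 18 * k ^ 5 + 135 * k ^ 4 + 540 * k ^ 3 + 1215 * k ^ 2 + 1094 * k) := by ring
    omega
  show 364 * (k + 2) ≤ _
  omega

variable {Ω : Type} [Fintype Ω] [DecidableEq Ω] {X H T M S : Subgroup (Perm Ω)} (D : Fr m F X H T M S)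

theorem mem_pre' {Y : Subgroup (Perm Ω)} {g : Sp m F} : g.1 ∈ D.pre Y ↔ D.π g ∈ Y :=
  ⟨fun ⟨x, hx, e⟩ => (Subtype.ext e : x = g) ▸ hx, fun h => ⟨g, h, rfl⟩⟩

theorem pre_le (Y : Subgroup (Perm Ω)) : D.pre Y ≤ Sp m F := map_subtype_le _

theorem pi_mem (g : Sp m F) : D.π g ∈ S := (D.soc _).2 ⟨g, rfl⟩

theorem pi_surj {s : Perm Ω} (hs : s ∈ S) : ∃ g, D.π g = s := (D.soc s).1 hs

theorem pi_one {g : Sp m F} : D.π g = 1 ↔ ∃ c : F, ∀ v, g.1 v = c • v := D.ker ⟨pm g.1, D.sp g.1 g.2⟩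

theorem sc_mem (Y : Subgroup (Perm Ω)) (g : GG m F) (hg : g ∈ Sp m F) (h : ∃ c : F, ∀ v, g v = c • v) : g ∈ D.pre Y :=
  (mem_pre' D (g := ⟨g, hg⟩)).2 (((pi_one D (g := ⟨g, hg⟩)).2 h).symm ▸ one_mem Y)

theorem not_le {Y : Subgroup (Perm Ω)} (h : ¬ S ≤ Y) : ¬ Sp m F ≤ D.pre Y := fun k => h fun s hs => by
  obtain ⟨g, rfl⟩ := pi_surj D hs
  exact (mem_pre' D).1 (k g.2)

theorem notA : ¬ Sp m F ≤ D.A := not_le D fun h => D.up.not_le (h.trans D.up.socH.le)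

theorem notC (a : Ω) : ¬ Sp m F ≤ D.C a := not_le D fun h => (D.up.fac a).nB (le_inf D.up.socM.le h)

theorem fac (a : Ω) (g : GG m F) (hg : g ∈ Sp m F) : ∃ x ∈ D.A, ∃ y ∈ D.C a, g = x * y := by
  obtain ⟨t, ht, b, hb, e⟩ := (D.up.fac a).fac _ (pi_mem D ⟨g, hg⟩)
  obtain ⟨x, rfl⟩ := pi_surj D (D.up.le ht)
  refine ⟨x, (mem_pre' D).2 ht, (x⁻¹ * ⟨g, hg⟩ : Sp m F), (mem_pre' D).2 ?_, by simp⟩
  rw [D.π.map_mul, D.π.map_inv, e, inv_mul_cancel_left]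
  exact hb.2

theorem pr (a : Ω) : Pr (mm D.A) (mm (D.C a)) := by
  have k : ∀ Y : Subgroup (GG m F), ¬ Sp m F ≤ Y → mm Y ≠ spGL m F := fun Y h e => h fun g hg => by
    rw [← mx_mem, e, ← mm_sp, mx_mem]
    exact hg
  refine ⟨(mm_le (pre_le D _)).trans mm_sp.le, (mm_le (pre_le D _)).trans mm_sp.le, k _ (notA D), k _ (notC D a), fun g hg => ?_⟩
  obtain ⟨x, hx, y, hy, e⟩ := fac D a (mx.symm g) hg
  exact ⟨mx x, mx_mem.2 hx, mx y, mx_mem.2 hy, by rw [← map_mul, ← e, MulEquiv.apply_symm_apply]⟩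

/-- `HH` normalises `A` -/
theorem conjA {g : Perm (VV m F)} (hg : g ∈ D.HH) {s : GG m F} (hs : s ∈ D.A) : ∃ s' ∈ D.A, pm s' = g * pm s * g⁻¹ := by
  obtain ⟨h1, h2⟩ := (Rd.mem_pre D).1 hs
  obtain ⟨s', h3, e⟩ := Rd.exists_conj (Rd.hat_le D hg) h1
  obtain ⟨g1, g2⟩ := (Rd.mem_hat D).1 hg
  obtain ⟨s1, s2⟩ := (Rd.mem_hat D).1 h2
  refine ⟨s', (Rd.mem_pre D).2 ⟨h3, (Rd.mem_hat D).2 ⟨D.sp s' h3, ?_⟩⟩, e⟩
  rw [show (⟨pm s', D.sp s' h3⟩ : D.L) = ⟨g, g1⟩ * ⟨pm s, s1⟩ * ⟨g, g1⟩⁻¹ from Subtype.ext e, D.φ.map_mul, D.φ.map_mul,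
    D.φ.map_inv]
  exact D.up.socH.conj _ g2 _ s2

theorem pm_inj : Function.Injective (pm (m := m) (F := F)) := fun a b h => LinearEquiv.ext fun v => Equiv.ext_iff.1 h v

/-- the fixed space of a set of linear maps which is normalised by `HH` -/
theorem fix_top {N : Set (GG m F)} (hN : ∀ g ∈ D.HH, ∀ s ∈ N, ∃ s' ∈ N, pm s' = g * pm s * g⁻¹) {x : VV m F} (hx : x ≠ 0)
    (h : ∀ s ∈ N, s x = x) : ∀ s ∈ N, s = 1 := by
  let U : Submodule F (VV m F) :=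
    { carrier := {v | ∀ s ∈ N, s v = v}
      add_mem' := fun ha hb s hs => by rw [map_add, ha s hs, hb s hs]
      zero_mem' := fun s _ => map_zero s
      smul_mem' := fun c v hv s hs => by rw [map_smul, hv s hs] }
  rcases redH D U (fun g hg w hw s hs => by
    obtain ⟨s', h1, e⟩ := hN g⁻¹ (inv_mem hg) s hs
    have h2 : s' w = g⁻¹ (s (g w)) := Equiv.ext_iff.1 e w
    rw [hw s' h1] at h2
    exact (Perm.eq_inv_iff_eq.1 h2).symm) with h1 | h1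
  · exact absurd (h1.le (h : x ∈ U)) hx
  · exact fun s hs => LinearEquiv.ext fun v => h1.ge (Submodule.mem_top : v ∈ ⊤) s hs

/-- `A` fixes no point -/
theorem no_point {x : VV m F} (hx : x ≠ 0) : ¬ ∀ g ∈ D.A, ∃ c : F, g x = c • x := fun h => by
  have h1 := fix_top D (N := {s | ∃ a ∈ D.A, ∃ b ∈ D.A, s = a * b * a⁻¹ * b⁻¹}) (by
    rintro g hg _ ⟨a, ha, b, hb, rfl⟩
    obtain ⟨a', ha', e1⟩ := conjA D hg ha
    obtain ⟨b', hb', e2⟩ := conjA D hg hb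
    refine ⟨_, ⟨a', ha', b', hb', rfl⟩, ?_⟩
    simp only [map_mul, map_inv, e1, e2]
    group) hx (by
    rintro _ ⟨a, ha, b, hb, rfl⟩
    obtain ⟨c, hc⟩ := h a⁻¹ (inv_mem ha)
    obtain ⟨d, hd⟩ := h b⁻¹ (inv_mem hb)
    have e1 : a⁻¹ (b⁻¹ x) = b⁻¹ (a⁻¹ x) := by rw [hd, hc, map_smul, map_smul, hd, hc, smul_comm]
    show a (b (a⁻¹ (b⁻¹ x))) = x
    rw [e1, show b (b⁻¹ (a⁻¹ x)) = a⁻¹ x from b.apply_symm_apply _]
    exact a.apply_symm_apply x)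
  refine D.up.socH.nab ⟨⟨fun s t => Subtype.ext ?_⟩⟩
  obtain ⟨a, ha⟩ := pi_surj D (D.up.le s.2)
  obtain ⟨b, hb⟩ := pi_surj D (D.up.le t.2)
  have h2 := h1 _ ⟨a.1, (mem_pre' D).2 (ha ▸ s.2), b.1, (mem_pre' D).2 (hb ▸ t.2), rfl⟩
  have h3 : a * b = b * a := Subtype.ext (by
    have h4 : a.1 * b.1 = (a.1 * b.1 * a.1⁻¹ * b.1⁻¹) * (b.1 * a.1) := by group
    rw [h2, one_mul] at h4
    exact h4)
  show s.1 * t.1 = t.1 * s.1
  rw [← ha, ← hb, ← map_mul, h3, map_mul]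

/-- `A` is irreducible when it has an element of order `r` -/
theorem not_rdc {r : ℕ} (hm : 3 ≤ m) (hr : PP (Nat.card F) (2 * m - 2) r) (hd : r ∣ Nat.card D.A) : ¬ Rdc (mm D.A) := fun h => by
  obtain ⟨U, hU, h1⟩ := low hm hr (pre_le D _) hd h
  obtain ⟨y, hy, hyr, hy1⟩ := H925.Rs.exists_elt hr.prime hd
  obtain ⟨x, hx, hx0⟩ := U.exists_mem_ne_zero_of_ne_bot fun h2 => by
    rw [h2, finrank_bot] at h1
    omega
  refine hy1 (fix_top D (N := {s | s ∈ D.A ∧ s ^ r = 1}) ?_ hx0 ?_ y ⟨hy, hyr⟩)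
  · rintro g hg s ⟨h2, h3⟩
    obtain ⟨s', h4, e⟩ := conjA D hg h2
    refine ⟨s', ⟨h4, pm_inj ?_⟩, e⟩
    rw [map_pow, e, conj_pow, ← map_pow, h3, map_one, mul_one, mul_inv_cancel]
  · rintro s ⟨h2, h3⟩
    exact H951.mem_fx.1 (fix_of hm hr h3 (by omega) (hU s h2) hx)

theorem point_of {Y : Subgroup (GG m F)} {U : Submodule F (VV m F)} (hU : ∀ g ∈ Y, ∀ u ∈ U, g u ∈ U) (h : finrank F U = 1) :
    ∃ x : VV m F, x ≠ 0 ∧ ∀ g ∈ Y, ∃ c : F, g x = c • x := by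
  obtain ⟨x, hx, hx0⟩ := U.exists_mem_ne_zero_of_ne_bot fun h2 => by
    rw [h2, finrank_bot] at h
    omega
  refine ⟨x, hx0, fun g hg => ?_⟩
  obtain ⟨c, hc⟩ := (finrank_eq_one_iff_of_nonzero' (⟨x, hx⟩ : U) (fun h => hx0 (congrArg Subtype.val h))).1 h ⟨_, hU g hg x hx⟩
  exact ⟨c, (congrArg Subtype.val hc).symm⟩

/-- the matrix statement behind `BoxCLc` -/
def Core (m : ℕ) : Prop :=
  ∀ (F : Type) [Field F] [Fintype F] (p f r : ℕ) (X Y : Subgroup (GL (Fin m ⊕ Fin m) F)), p.Prime → 1 ≤ f →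
    Fintype.card F = p ^ f → 3 ≤ Fintype.card F → PP p (f * (2 * m - 2)) r → Pr X Y → r ∣ Nat.card Y →
    Rdc Y ∨ Qd Y ∨ Nat.card Y ≤ 240

theorem small (hm : 3 ≤ m) (hq : 3 ≤ Fintype.card F) {Y Z : Subgroup (GG m F)} (h : Pr (mm Y) (mm Z)) (hY : Y ≤ Sp m F)
    (hne : ¬ Sp m F ≤ Y) (hZ : ∀ g ∈ Sp m F, (∃ c : F, ∀ v, g v = c • v) → g ∈ Y) : ¬ Nat.card (mm Z) ≤ 240 := fun h1 => by
  have hf : Finite (GG m F) := H925.Rs.finite_end
  have h2 := idx hm hq hne hZ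
  have h3 := Fac.card_mul (Sp m F) Y
  have h4 := Nat.le_of_dvd (Nat.mul_pos Nat.card_pos Nat.card_pos) h.dvd
  rw [inf_eq_right.2 hY] at h3
  rw [← mm_sp, card_mm, card_mm, ← h3] at h4
  have := Nat.le_of_mul_le_mul_left h4 Nat.card_pos
  omega

/-- **the reduction** -/
theorem cases_of (hc : Core m) (hm : 3 ≤ m) (hm4 : m ≤ 4) (hq : Fintype.card F ≠ 2) (a : Ω) :
    D.C1 a ∨ D.C2 a ∨ D.C3 a ∨ D.C4 := by
  obtain ⟨p, hchar⟩ := CharP.exists F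
  obtain ⟨⟨f, hf⟩, hp, hF⟩ := FiniteField.card F p
  replace hF : Fintype.card F = p ^ f := hF
  have h3 : 3 ≤ Fintype.card F := by
    have := Fintype.one_lt_card (α := F)
    omega
  obtain ⟨r, hr⟩ : ∃ r, PP p (f * (2 * m - 2)) r := H884.El.exists_pp hp.two_le
    (le_trans (by omega) (Nat.le_mul_of_pos_left _ hf)) (by
      rintro ⟨rfl, h⟩
      have h1 : f = 1 := by
        by_contra h1
        have := Nat.mul_le_mul (show 2 ≤ f by omega) (show 4 ≤ 2 * m - 2 by omega)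
        omega
      exact hq (by rw [hF, h1, pow_one]))
  have hrq : PP (Nat.card F) (2 * m - 2) r := by
    rw [Nat.card_eq_fintype_card, hF]
    exact hr.of_pow hf
  have hP := pr D a
  have hd : r ∣ Nat.card (mm D.A) * Nat.card (mm (D.C a)) := by
    refine Dvd.dvd.trans ?_ hP.dvd
    rw [← mm_sp, card_mm, H925.Rs.card_Isos (B := ff m F) ff_self nd0 finrank_VV]
    refine Dvd.dvd.mul_left (Dvd.dvd.trans ?_ (Finset.dvd_prod_of_mem _ (Finset.mem_range.2 (show m - 2 < m by omega)))) _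
    rw [← Nat.card_eq_fintype_card, hrq.dvd_iff Nat.card_pos]
    exact Dvd.intro 1 (by omega)
  rcases hr.prime.dvd_mul.1 hd with h | h
  · rcases hc F p f r _ _ hp hf hF h3 hr hP.symm h with h1 | h1 | h1
    · exact absurd h1 (not_rdc D hm hrq (card_mm D.A ▸ h))
    · exact Or.inr (Or.inr (Or.inr h1.le))
    · exact absurd h1 (small hm h3 hP.symm (pre_le D _) (notC D a) (sc_mem D _))
  · rcases hc F p f r _ _ hp hf hF h3 hr hP h with h1 | h1 | h1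
    · obtain ⟨U, hU, h2 | h2⟩ := low hm hrq (pre_le D _) (card_mm (D.C a) ▸ h) h1
      · exact Or.inl (point_of hU h2)
      · exact Or.inr (Or.inl ⟨U, h2.1, h2.2, fun g hg => ⟨pre_le D _ hg, fun v =>
          ⟨fun k => by simpa using hU g⁻¹ (inv_mem hg) _ k, hU g hg v⟩⟩⟩)
    · exact Or.inr (Or.inr (Or.inl h1.le))
    · exact absurd h1 (small hm h3 hP (pre_le D _) (notA D) (sc_mem D _))

end CLc

end Cfsg.Agent.SM.Sy
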