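import Cfsg.Agent.SM.U.Pt
import Cfsg.Agent.SM.Mat.Tool
import Cfsg.Agent.S5785

/-!
# SM (S3570), `T = PSU₄(q)`, `q = 2 ^ a ≥ 4` : the point stabiliser does not lie in a group of order `d |SU₃(q)|` (helper74)
-/

set_option autoImplicit false
set_option linter.unusedSectionVars false

namespace Cfsg.Agent.SM.Sy.G6

open Cfsg Cfsg.Geo Subgroup Module Matrix
open Cfsg.Agent.LieClassical.HermBasic Cfsg.Agent.LieClassical.HermSiegel
open Cfsg.Agent.H674.SUBlock (pr pr_surjective)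
open Cfsg.Agent.H918 (suHom SUg)
open Cfsg.Agent.H89.Reg (ne_zero_of_ns exists_move comap_ne_top card_dvd_comap Pm)
open Cfsg.Agent.SM.U

section geo

variable {F : Type} [Field F] [Fintype F] {n q : ℕ}

/-- a product of two quasi-reflections -/
theorem exists_rr (hF : Fintype.card F = q ^ 2) {y z : Fin n → F} (hy : hermForm n F q y y ≠ 0)
    (hz : hermForm n F q z z ≠ 0) {b : F} (hb : b * b ^ q = 1) :
    ∃ g : SU n F q, ∀ v, ∃ u, u = v + ((b⁻¹ - 1) / hermForm n F q z z * hermForm n F q v z) • z ∧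
      act g v = u + ((b - 1) / hermForm n F q y y * hermForm n F q u y) • y := by
  have hb0 : b ≠ 0 := by
    rintro rfl
    rw [zero_mul] at hb
    exact zero_ne_one hb
  have h1 : b ^ (q + 1) = 1 := by rw [pow_succ', hb]
  have h2 : b⁻¹ ^ (q + 1) = 1 := by rw [inv_pow, h1, inv_one]
  have h3 : H876.reflGL hF y b hy h1 * H876.reflGL hF z b⁻¹ hz h2 ∈ SUg n F q := by
    refine mem_inf.2 ⟨(GU n F q).mul_mem (H876.reflGL_mem hF hy h1) (H876.reflGL_mem hF hz h2), ?_⟩
    rw [H876.mem_specialLinear_iff, Units.val_mul, det_mul, H876.reflGL_det, H876.reflGL_det,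
      mul_inv_cancel₀ hb0]
  obtain ⟨g, hg⟩ := H918.exists_suHom h3
  refine ⟨g, fun v => ⟨_, rfl, ?_⟩⟩
  have h4 : act g v = ((suHom n F q g : GL (Fin n) F) : Matrix (Fin n) (Fin n) F) *ᵥ v := rfl
  rw [h4, hg, Units.val_mul, ← mulVec_mulVec, H876.reflGL_mulVec, H876.reflGL_mulVec]

theorem exists_t (hF : Fintype.card F = q ^ 2) (hq : 3 ≤ q) : ∃ t : F, t ≠ 0 ∧ t * t ^ q ≠ 1 := by
  by_contra h
  push Not at h
  have h1 := Nat.card_le_card_of_injective (fun x : Fˣ => (⟨x, h x x.ne_zero⟩ : {x : F // x * x ^ q = 1}))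
    fun x y e => Units.ext (congrArg Subtype.val e)
  rw [card_norm_eq_one hF, Nat.card_units, Nat.card_eq_fintype_card, hF] at h1
  have h2 : 3 * q ≤ q ^ 2 := by nlinarith
  omega

/-- a subspace whose stabiliser fixes one of its nonsingular points -/
theorem eq_span (hF : Fintype.card F = q ^ 2) (hq : 3 ≤ q) {W : Submodule F (Fin n → F)} {w : Fin n → F}
    (hw : hermForm n F q w w ≠ 0) (hW : w ∈ W) (h : ∀ g ∈ Sb q W, ∃ c : F, act g w = c • w) : W = F ∙ w := by
  refine le_antisymm (fun v hv => ?_) ((Submodule.span_singleton_le_iff_mem _ _).2 hW)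
  by_contra hn
  obtain ⟨u, hu, h1, h2⟩ : ∃ u ∈ W, hermForm n F q u w = 0 ∧ u ≠ 0 := by
    refine ⟨v + (-(hermForm n F q v w / hermForm n F q w w)) • w, W.add_mem hv (W.smul_mem _ hW), ?_, fun h0 => hn ?_⟩
    · rw [herm_add_left, herm_smul_left, neg_mul, div_mul_cancel₀ _ hw, add_neg_cancel]
    · rw [neg_smul, add_neg_eq_zero] at h0
      exact Submodule.mem_span_singleton.2 ⟨_, h0.symm⟩
  have h3 := herm_eq_zero_swap hF h1
  have h4 : ∀ t : F, hermForm n F q (w + t • u) (w + t • u) = hermForm n F q w w + t * t ^ q * hermForm n F q u u := fun t => by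
    rw [herm_add_left, herm_add_right hF, herm_add_right hF, herm_smul_left, herm_smul_left, herm_smul_right, herm_smul_right,
      h1, h3]
    ring
  obtain ⟨t, ht, h5⟩ : ∃ t : F, t ≠ 0 ∧ hermForm n F q (w + t • u) (w + t • u) ≠ 0 := by
    by_cases h6 : hermForm n F q w w + hermForm n F q u u = 0
    · obtain ⟨t, h7, h8⟩ := exists_t hF hq
      refine ⟨t, h7, fun h9 => ?_⟩
      rw [h4] at h9
      have h10 : (1 - t * t ^ q) * hermForm n F q w w = 0 := by linear_combination h9 - (t * t ^ q) * h6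
      exact h8 (sub_eq_zero.1 ((mul_eq_zero.1 h10).resolve_right hw)).symm
    · exact ⟨1, one_ne_zero, by rwa [h4, one_pow, one_mul, one_mul]⟩
  obtain ⟨b, hb1, hb⟩ := exists_b hF
  have hb0 : b ≠ 0 := by
    rintro rfl
    rw [zero_mul] at hb1
    exact zero_ne_one hb1
  obtain ⟨g, hg⟩ := exists_rr hF h5 hw hb1
  have hx : w + t • u ∈ W := W.add_mem hW (W.smul_mem _ hu)
  obtain ⟨c, hc⟩ := h g (mem_Sb_of fun x hx' => by
    obtain ⟨y, rfl, e⟩ := hg x
    rw [e]
    exact W.add_mem (W.add_mem hx' (W.smul_mem _ hW)) (W.smul_mem _ hx))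
  obtain ⟨y, hy, e⟩ := hg w
  rw [div_mul_cancel₀ _ hw, sub_smul, one_smul, add_sub_cancel] at hy
  rw [hc, hy, herm_smul_left, herm_add_right hF w, herm_smul_right, h3, mul_zero, add_zero] at e
  have h6 : (b - 1) / hermForm n F q (w + t • u) (w + t • u) * (b⁻¹ * hermForm n F q w w) ≠ 0 :=
    mul_ne_zero (div_ne_zero (sub_ne_zero.2 fun h7 => hb (by rw [h7, one_mul])) h5) (mul_ne_zero (inv_ne_zero hb0) hw)
  generalize (b - 1) / hermForm n F q (w + t • u) (w + t • u) * (b⁻¹ * hermForm n F q w w) = s at e h6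
  refine not_mem_span hw h2 h1 (Submodule.mem_span_singleton.2 ⟨(s * t)⁻¹ * (c - b⁻¹ - s), ?_⟩)
  have h7 : (c - b⁻¹ - s) • w = (s * t) • u := by
    rw [sub_smul, sub_smul, e, smul_add, smul_smul]
    abel
  rw [mul_smul, h7, smul_smul, inv_mul_cancel₀ (mul_ne_zero h6 ht), one_smul]

/-- the span of the nonsingular points fixed by `X` -/
def fs (X : Subgroup (PSU n F q)) : Submodule F (Fin n → F) :=
  Submodule.span F {v | hermForm n F q v v ≠ 0 ∧ X ≤ Pt q v}

theorem le_st (hF : Fintype.card F = q ^ 2) (hn : 3 ≤ n) (X : Subgroup (PSU n F q)) : X ≤ St q (fs X) := by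
  refine (le_St hF hn).2 fun g hg v hv => ?_
  induction hv using Submodule.span_induction with
  | mem x hx =>
    obtain ⟨c, hc⟩ := (le_Pt hF hn).1 hx.2 g hg
    rw [hc]
    exact Submodule.smul_mem _ _ (Submodule.subset_span hx)
  | zero => rw [act_zero]; exact Submodule.zero_mem _
  | add x y _ _ hx hy => rw [act_add]; exact Submodule.add_mem _ hx hy
  | smul c x _ hx => rw [act_smul]; exact Submodule.smul_mem _ _ hx

theorem inv_st (hF : Fintype.card F = q ^ 2) (hn : 4 ≤ n) {X : Subgroup (PSU n F q)} {β : MulAut (PSU n F q)} (h : Fx β X) :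
    ∀ x ∈ St q (fs X), β x ∈ St q (fs X) := by
  obtain ⟨b, ρ, φ, s⟩ := exists_sl hF (by omega) (by omega) β
  have h1 : fs X ≤ s.pb (fs X) := Submodule.span_le.2 fun v hv => Submodule.subset_span ⟨s.ns.2 hv.1, fun x hx => by
    obtain ⟨y, rfl⟩ := β.surjective x
    exact (s.pt hF (by omega)).2 (hv.2 ((h y).2 hx))⟩
  refine s.st hF (by omega) fun v => ⟨fun hv => ?_, fun hv => h1 hv⟩
  have h3 : Set.MapsTo φ (fs X) (fs X) := fun v hv => h1 hv
  have h2 : Set.BijOn φ (fs X) (fs X) := (Set.Finite.injOn_iff_bijOn_of_mapsTo (Set.toFinite _) h3).1 s.inj.injOn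
  obtain ⟨w, hw, e⟩ := h2.surjOn hv
  rwa [← s.inj e]

theorem comm_of_top (hF : Fintype.card F = q ^ 2) (hn : 3 ≤ n) {X : Subgroup (PSU n F q)} (h : fs X = ⊤) :
    ∀ x ∈ X, ∀ y ∈ X, x * y = y * x := by
  intro x hx y hy
  obtain ⟨g, rfl⟩ := pr_surjective x
  obtain ⟨k, rfl⟩ := pr_surjective y
  rw [← map_mul, ← map_mul]
  refine congrArg _ (ext_act fun v => ?_)
  have hv : v ∈ fs X := h ▸ Submodule.mem_top
  induction hv using Submodule.span_induction with
  | mem v hv =>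
    obtain ⟨c, hc⟩ := (le_Pt hF hn).1 hv.2 g hx
    obtain ⟨d, hd⟩ := (le_Pt hF hn).1 hv.2 k hy
    rw [act_mul, act_mul, hc, hd, act_smul, act_smul, hc, hd, smul_comm]
  | zero => rw [act_zero, act_zero]
  | add u v _ _ hu hv => rw [act_add, act_add, hu, hv]
  | smul c u _ hu => rw [act_smul, act_smul, hu]

theorem top_of_st (hF : Fintype.card F = q ^ 2) (hn : 3 ≤ n) {W : Submodule F (Fin n → F)} {w : Fin n → F}
    (hw : hermForm n F q w w ≠ 0) (hW : w ∈ W) (h : St q W = ⊤) : W = ⊤ := by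
  rw [eq_top_iff, ← (Pi.basisFun F (Fin n)).span_eq, Submodule.span_le]
  rintro _ ⟨i, rfl⟩
  have h1 : hermForm n F q (Pi.single i 1) (Pi.single i 1) ≠ 0 := by
    rw [herm_single_left, Pi.single_eq_same, one_pow, one_mul]
    exact one_ne_zero
  obtain ⟨g, c, hc, e⟩ := exists_move hF (by omega) hw h1
  have h2 : act g w ∈ W := ((mem_St hF hn).1 (h ▸ mem_top _) w).1 hW
  rw [e] at h2
  rw [Pi.basisFun_apply]
  exact (W.smul_mem_iff hc).1 h2

end geo

variable {Γ : Type} [Group Γ] [Finite Γ] {M S H T B : Subgroup Γ} {K : Type} [Field K] [Fintype K] {n q : ℕ}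

/-- a point stabiliser which fixes a nonsingular point is its full stabiliser -/
theorem eq_Pt (f : Fac M S H T B) (hK : Fintype.card K = q ^ 2) (hq : 3 ≤ q) (hn : 4 ≤ n) (e : T ≃* PSU n K q)
    {w : Fin n → K} (hw : hermForm n K q w w ≠ 0) (h : im e B ≤ Pt q w) : im e B = Pt q w := by
  have h3 : 3 ≤ n := by omega
  have hW : w ∈ fs (im e B) := Submodule.subset_span ⟨hw, h⟩
  have h1 : T ⊓ B ≤ pb e (St q (fs (im e B))) := fun x hx => by
    obtain ⟨y, rfl⟩ := exists_symm e hx.1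
    exact (mem_pb e).2 (le_st hK h3 _ ((mem_im e).2 hx.2))
  rcases f.mid h1 (pb_le e _) (fun m hm => pb_conj f.asH e hm.1
    (inv_st hK hn (fx_cjm _ e _ (le_normalizer hm.2)))) with k | k
  · have h2 : St q (fs (im e B)) ≤ im e B := fun x hx => (mem_im e).2 (k.le ((mem_pb e).2 hx)).2
    have h4 := eq_span hK hq hw hW fun g hg => (mem_Pt hK h3).1 (h (h2 ((mem_St hK h3).2 hg)))
    rw [h4] at h2
    exact le_antisymm h h2
  · have h2 : St q (fs (im e B)) = ⊤ := eq_top_iff.2 fun x _ => (mem_pb e).1 (k.ge (e.symm x).2)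
    refine (f.not_comm fun x hx y hy => ?_).elim
    obtain ⟨x, rfl⟩ := exists_symm e hx.1
    obtain ⟨y, rfl⟩ := exists_symm e hy.1
    rw [← coe_mul, ← coe_mul, ← map_mul, ← map_mul,
      comm_of_top hK h3 (top_of_st hK h3 hw hW h2) y ((mem_im e).2 hy.2) x ((mem_im e).2 hx.2)]

/-- **the unitary case** -/
theorem killU (f : Fac M S H T B) {a d : ℕ} (ha : 2 ≤ a) (hK : Fintype.card K = (2 ^ a) ^ 2) (e : T ≃* PSU 4 K (2 ^ a))
    {D : Subgroup Γ} (h1 : T ⊓ B ≤ D) (h2 : D ≤ T) (hd : d ≤ a) (hc : (2 ^ a) ^ 3 + 1 ∣ Nat.card D)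
    (hi : d * D.relIndex T = (2 ^ a) ^ 3 * ((2 ^ a) ^ 4 - 1)) : False := by
  have h4 : 2 ^ 2 ≤ 2 ^ a := Nat.pow_le_pow_right (by norm_num) ha
  have h5 : a < 2 ^ a := Nat.lt_two_pow_self
  obtain ⟨l, l1, l2, -, -⟩ := H251.GeoU.exists_big (p := 2) (f := a) (m := 3) Nat.prime_two (by omega) le_rfl (by decide)
    (by omega)
  have hl : Pm 2 a 3 l := ⟨l1, l2⟩
  have h6 : 0 < (2 ^ a) ^ 4 - 1 := Nat.sub_pos_of_lt (Nat.one_lt_pow (by norm_num) (by omega))
  have hX : im e D ≠ ⊤ := fun h => by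
    rw [← index_im e, h, index_top, mul_one] at hi
    have h7 : 2 ^ a ≤ (2 ^ a) ^ 3 := Nat.le_self_pow (by norm_num) _
    have h8 : (2 ^ a) ^ 3 ≤ (2 ^ a) ^ 3 * ((2 ^ a) ^ 4 - 1) := Nat.le_mul_of_pos_right _ h6
    omega
  have hBD : im e B ≤ im e D := fun x hx => (mem_im e).2 (h1 ⟨(e.symm x).2, (mem_im e).1 hx⟩)
  rcases H533.Reg.even_gen hK Nat.prime_two (by omega) le_rfl (by decide) rfl hl (comap_ne_top hX)
    ((((hl.dvd_add (by omega) (by norm_num)).trans hc).trans (card_im e h2).symm.dvd).trans (card_dvd_comap _)) with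
    ⟨w, hw, h⟩ | ⟨Y, hY, -, hres⟩
  · have h7 : im e D ≤ Pt (2 ^ a) w := (le_Pt hK (by norm_num)).2 h
    have h8 := eq_Pt f hK (by omega) le_rfl e hw (hBD.trans h7)
    have h9 := index_Pt hK (by norm_num) hw
    rw [if_pos (by decide), ← le_antisymm h7 (h8.ge.trans hBD), index_im, show 4 - 1 = 3 from rfl, ← hi] at h9
    have h10 : 0 < D.relIndex T := Nat.pos_of_ne_zero fun h0 => by
      rw [h0, mul_zero] at hi
      exact absurd hi (Nat.mul_pos (by positivity) h6).ne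
    have h11 := Nat.eq_of_mul_eq_mul_right h10 h9
    omega
  · obtain ⟨-, -, hp, -⟩ := S5785.result _ hK Y hY hres
    have h7 := (Nat.Prime.eq_one_of_pow hp)
    omega

end Cfsg.Agent.SM.Sy.G6
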