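import Cfsg.Agent.S0713
import Mathlib.GroupTheory.SpecificGroups.Alternating
import Mathlib.GroupTheory.Perm.Cycle.PossibleTypes
import Mathlib.GroupTheory.IndexNormal
import Mathlib.GroupTheory.Sylow

/-!
# SM (S3570), symplectic socles: subgroups of symmetric groups with a long cycle of prime length (helper47)

* `jor` : Jordan's theorem on the long orbit;
* `alt_idx` : a subgroup of `A_k` of index prime to `p`, `r` has index dividing `k! / p!`;
* `ten` : subgroups of `S₁₀` of order 30240 or 15120 have a normal subgroup of order three.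
-/

set_option autoImplicit false
set_option linter.unusedSectionVars false

namespace Cfsg.Agent.SM.Sy.Rj

open Equiv Equiv.Perm Subgroup MulAction

variable {α : Type} [Fintype α] [DecidableEq α] {B : Subgroup (Perm α)} {g h : Perm α} {x : α} {p r : ℕ}

theorem orbit_cyc (hc : g.IsCycle) (hx : x ∈ g.support) : orbit (zpowers g) x = (g.support : Set α) := by
  ext y
  constructor
  · rintro ⟨⟨_, i, rfl⟩, rfl⟩
    exact zpow_apply_mem_support.2 hx
  · intro hy
    obtain ⟨i, hi⟩ := hc.exists_zpow_eq (mem_support.1 hx) (mem_support.1 hy)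
    exact ⟨⟨_, i, rfl⟩, hi⟩

theorem supp_sub (hh : h ∈ B) (hc : h.IsCycle) {y : α} (hy : y ∈ h.support) (hy' : y ∈ orbit B x) :
    (h.support : Set α) ⊆ orbit B x := fun z hz => by
  obtain ⟨i, hi⟩ := hc.exists_zpow_eq (mem_support.1 hy) (mem_support.1 hz)
  obtain ⟨b, rfl⟩ := hy'
  exact ⟨⟨h ^ i, B.zpow_mem hh i⟩ * b, hi⟩

theorem prim (hg : g ∈ B) (hc : g.IsCycle) (hp : g.support.card = p) (pp : p.Prime) (hn : Fintype.card α < 2 * p)
    (hx : x ∈ g.support) : IsPreprimitive (toPermHom B (orbit B x)).range (orbit B x) := by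
  have h1 : Nat.card (orbit (zpowers g) x) = p := by
    rw [orbit_cyc hc hx, Nat.card_coe_set_eq, Set.ncard_coe_finset, hp]
  have h2 : IsPreprimitive (zpowers g) (orbit (zpowers g) x) := IsPreprimitive.of_prime_card (h1 ▸ pp)
  have h3 : IsPretransitive (toPermHom B (orbit B x)).range (orbit B x) := ⟨fun a b => by
    obtain ⟨c, hc⟩ := exists_smul_eq B a b
    exact ⟨⟨_, c, rfl⟩, hc⟩⟩
  have hle : zpowers g ≤ B := zpowers_le.2 hg
  let φ : zpowers g → (toPermHom B (orbit B x)).range := fun z => ⟨_, ⟨z.1, hle z.2⟩, rfl⟩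
  let f : orbit (zpowers g) x →ₑ[φ] orbit B x :=
    { toFun := fun y => ⟨y.1, by obtain ⟨_, z, rfl⟩ := y; exact ⟨⟨z.1, hle z.2⟩, rfl⟩⟩
      map_smul' := fun _ _ => rfl }
  refine IsPreprimitive.of_card_lt (f := f) ?_
  have h4 : Function.Injective f := fun a b e => Subtype.ext (congrArg (fun z : orbit B x => z.1) e)
  rw [Set.ncard_range_of_injective h4, h1]
  exact lt_of_le_of_lt ((Nat.card_le_card_of_injective _ Subtype.val_injective).trans Nat.card_eq_fintype_card.le) hn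

/-- **Jordan's theorem on the long orbit** -/
theorem jor (hg : g ∈ B) (hc : g.IsCycle) (hp : g.support.card = p) (pp : p.Prime) (hn : Fintype.card α < 2 * p)
    (hx : x ∈ g.support) (hh : h ∈ B) (hc' : h.IsCycle) (hr : h.support.card = r) (pr : r.Prime)
    {y : α} (hy : y ∈ h.support) (hy' : y ∈ orbit B x) (h3 : r + 3 ≤ (orbit B x).ncard) :
    (orbit B x).ncard.factorial ∣ 2 * Nat.card B := by
  classical
  have : Fintype (orbit B x) := Fintype.ofFinite _
  have hk : Fintype.card (orbit B x) = (orbit B x).ncard := by rw [← Nat.card_eq_fintype_card, Nat.card_coe_set_eq]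
  have hs := supp_sub hh hc' hy hy'
  have two := pr.two_le
  let ρ := toPermHom B (orbit B x)
  have k1 : ∀ z : orbit B x, ρ ⟨h, hh⟩ z ≠ z ↔ h z ≠ z := fun z => not_congr Subtype.ext_iff
  have k2 : (ρ ⟨h, hh⟩).IsCycle := ⟨⟨y, hy'⟩, (k1 _).2 (mem_support.1 hy), fun z hz => by
    obtain ⟨i, hi⟩ := hc'.exists_zpow_eq (mem_support.1 hy) ((k1 z).1 hz)
    exact ⟨i, by rw [← map_zpow]; exact Subtype.ext hi⟩⟩
  have k3 : (ρ ⟨h, hh⟩).support.card = r := by
    rw [← hr]
    refine Finset.card_bij (fun z _ => z.1) (fun z hz => mem_support.2 ((k1 z).1 (mem_support.1 hz)))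
      (fun _ _ _ _ e => Subtype.ext e) fun z hz => ⟨⟨z, hs hz⟩, mem_support.2 ((k1 _).2 (mem_support.1 hz)), rfl⟩
  have k4 := S0713.result ρ.range (prim hg hc hp pp hn hx) pr (by omega) (by omega) k2 k3 ⟨_, rfl⟩
  have : Nontrivial (orbit B x) := Fintype.one_lt_card_iff_nontrivial.1 (by omega)
  rw [← hk, ← Fintype.card_perm, ← Nat.card_eq_fintype_card, ← two_mul_nat_card_alternatingGroup]
  exact Nat.mul_dvd_mul_left 2 ((card_dvd_of_le k4).trans (card_range_dvd ρ))

/-- a subgroup of index prime to `p` contains a conjugate of each element of order `p` -/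
theorem exists_conj {S : Type*} [Group S] [Finite S] (C : Subgroup S) (pp : p.Prime) (hp : ¬ p ∣ C.index) {s : S}
    (hs : orderOf s = p) : ∃ t : S, t⁻¹ * s * t ∈ C := by
  have := Fact.mk pp
  have h1 : IsPGroup p (zpowers s) := IsPGroup.of_card (n := 1) (by rw [Nat.card_zpowers, hs, pow_one])
  obtain ⟨q, hq⟩ := h1.nonempty_fixed_point_of_prime_not_dvd_card (S ⧸ C) hp
  induction q using QuotientGroup.induction_on with
  | H t =>
    have h4 : ((s * t : S) : S ⧸ C) = t := hq ⟨s, mem_zpowers s⟩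
    exact ⟨t, by have := QuotientGroup.eq.1 h4.symm; rwa [← mul_assoc] at this⟩

theorem cyc_mem {S : Type*} [Group S] {k : ℕ} (e : S ≃* alternatingGroup (Fin k)) (C : Subgroup S) (pp : p.Prime)
    (h2 : Odd p) (hk : p ≤ k) (hp : ¬ p ∣ C.index) :
    ∃ c ∈ C.map ((alternatingGroup (Fin k)).subtype.comp e.toMonoidHom), c.IsCycle ∧ c.support.card = p := by
  have : Finite S := Finite.of_equiv _ e.symm.toEquiv
  obtain ⟨c, hc⟩ := (exists_with_cycleType_iff (Fin k) (m := {p})).2 ⟨by simpa using hk, by simpa using pp.two_le⟩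
  have h1 : c.IsCycle := card_cycleType_eq_one.1 (by rw [hc]; rfl)
  have h3 : c.support.card = p := by rw [← sum_cycleType, hc]; rfl
  have h4 : c ∈ alternatingGroup (Fin k) := by rw [mem_alternatingGroup, h1.sign, h3, h2.neg_one_pow, neg_neg]
  obtain ⟨t, ht⟩ := exists_conj C pp hp (s := e.symm ⟨c, h4⟩) (by rw [MulEquiv.orderOf_eq, Subgroup.orderOf_mk, h1.orderOf, h3])
  have h5 : ((alternatingGroup (Fin k)).subtype.comp e.toMonoidHom) (t⁻¹ * e.symm ⟨c, h4⟩ * t) =
      (e t : Perm (Fin k))⁻¹ * c * (e t : Perm (Fin k))⁻¹⁻¹ := by simp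
  exact ⟨_, ⟨_, ht, h5⟩, h1.conj, by rw [card_support_conj, h3]⟩

/-- **subgroups of `A_k` of index prime to `p` and `r`** -/
theorem alt_idx {S : Type*} [Group S] {k : ℕ} (e : S ≃* alternatingGroup (Fin k)) (C : Subgroup S) (pp : p.Prime)
    (pr : r.Prime) (h2 : Odd r) (h3 : r + 3 ≤ p) (hk : p ≤ k) (h4 : k < p + r) (hp : ¬ p ∣ C.index) (hr : ¬ r ∣ C.index) :
    C.index * p.factorial ∣ k.factorial := by
  have two := pr.two_le
  obtain ⟨g, hg, g1, g2⟩ := cyc_mem e C pp (pp.odd_of_ne_two (by omega)) hk hp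
  obtain ⟨h, hh, h1, h5⟩ := cyc_mem e C pr h2 (by omega) hr
  obtain ⟨x, hx⟩ : (g.support ∩ h.support).Nonempty := by
    rw [← Finset.card_pos]
    have k1 := Finset.card_union_add_card_inter g.support h.support
    have k2 := Finset.card_le_univ (g.support ∪ h.support)
    rw [Fintype.card_fin] at k2
    omega
  rw [Finset.mem_inter] at hx
  have k3 : p ≤ (orbit (C.map ((alternatingGroup (Fin k)).subtype.comp e.toMonoidHom)) x).ncard := by
    rw [← g2, ← Set.ncard_coe_finset]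
    exact Set.ncard_le_ncard (supp_sub hg g1 hx.1 (mem_orbit_self x))
  have k4 := jor hg g1 g2 pp (by rw [Fintype.card_fin]; omega) hx.1 hh h1 h5 pr hx.2 (mem_orbit_self x) (by omega)
  have hinj : Function.Injective ((alternatingGroup (Fin k)).subtype.comp e.toMonoidHom) :=
    fun a b h => e.injective (Subtype.ext h)
  rw [card_map_of_injective hinj] at k4
  have : Nontrivial (Fin k) := Fin.nontrivial_iff_two_le.2 (by omega)
  have k5 : C.index * (2 * Nat.card C) = k.factorial := by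
    rw [mul_left_comm, index_mul_card, Nat.card_congr e.toEquiv, two_mul_nat_card_alternatingGroup, Nat.card_perm,
      Nat.card_eq_fintype_card, Fintype.card_fin]
  exact k5 ▸ Nat.mul_dvd_mul_left _ ((Nat.factorial_dvd_factorial k3).trans k4)

theorem fix_of (hh : h ∈ B) (pr : r.Prime) (hr : orderOf h = r) {y : α} (hy : y ∉ orbit B x)
    (hlt : Fintype.card α < (orbit B x).ncard + r) : h y = y := by
  have h1 : (orbit (zpowers h) y).ncard ∣ r := by
    rw [← index_stabilizer, ← hr, ← Nat.card_zpowers]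
    exact index_dvd_card _
  have h2 : orbit (zpowers h) y ⊆ (orbit B x)ᶜ := by
    rintro _ ⟨z, rfl⟩ ⟨b, hb⟩
    exact hy ⟨(⟨z.1, zpowers_le.2 hh z.2⟩ : B)⁻¹ * b, by
      show z.1⁻¹ (b.1 x) = y
      exact Perm.inv_eq_iff_eq.2 hb⟩
  have h3 := Set.ncard_le_ncard h2
  have h4 := Set.ncard_add_ncard_compl (orbit B x)
  rw [Nat.card_eq_fintype_card] at h4
  obtain ⟨w, hw⟩ := Set.ncard_eq_one.1 ((pr.eq_one_or_self_of_dvd _ h1).resolve_right (by omega))
  have h5 : y ∈ orbit (zpowers h) y := mem_orbit_self y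
  have h6 : h y ∈ orbit (zpowers h) y := ⟨⟨h, mem_zpowers h⟩, rfl⟩
  rw [hw] at h5 h6
  exact h6.trans h5.symm

/-- **subgroups of `S₁₀` of index 120, 240** -/
theorem ten (hn : Fintype.card α = 10) (hB : Nat.card B = 30240 ∨ Nat.card B = 15120) :
    ∃ z ∈ B, orderOf z = 3 ∧ (∀ b ∈ B, b * z * b⁻¹ ∈ zpowers z) ∧ ∃ y ∈ B, orderOf y = 7 ∧ y * z = z * y := by
  classical
  have p7 : Nat.Prime 7 := by norm_num
  have elt : ∀ (K : Subgroup B) (l : ℕ), l.Prime → l ∣ Nat.card K → ∃ u ∈ K, orderOf (u : Perm α) = l := fun K l hl hd => by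
    have := Fact.mk hl
    obtain ⟨u, hu⟩ := exists_prime_orderOf_dvd_card' l hd
    exact ⟨u.1, u.2, by rw [Subgroup.orderOf_coe, Subgroup.orderOf_coe, hu]⟩
  obtain ⟨g, -, g0⟩ := elt ⊤ 7 p7 (by rw [card_top]; rcases hB with k | k <;> rw [k] <;> norm_num)
  have g1 : g.1.IsCycle := isCycle_of_prime_order' (g0 ▸ p7) (by omega)
  have g2 : g.1.support.card = 7 := g1.orderOf.symm.trans g0
  obtain ⟨x, hx⟩ : g.1.support.Nonempty := Finset.card_pos.1 (by omega)
  have k1 := supp_sub g.2 g1 hx (mem_orbit_self x)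
  have k2 := Set.ncard_le_ncard k1
  rw [Set.ncard_coe_finset, g2] at k2
  have k4 := Set.ncard_add_ncard_compl (orbit B x)
  rw [Nat.card_eq_fintype_card, hn] at k4
  have k5 : ¬ Nat.factorial 8 ∣ 2 * Nat.card B := by rcases hB with k | k <;> rw [k] <;> decide
  have k3 : (orbit B x).ncard = 7 := by
    by_contra hne
    by_cases h10 : (orbit B x).ncard = 10
    · exact k5 ((Nat.factorial_dvd_factorial (by omega)).trans
        (jor g.2 g1 g2 p7 (by omega) hx g.2 g1 g2 p7 hx (mem_orbit_self x) (by omega)))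
    obtain ⟨u, -, u0⟩ := elt ⊤ 5 Nat.prime_five (by rw [card_top]; rcases hB with k | k <;> rw [k] <;> norm_num)
    obtain ⟨w, hw⟩ : (orbit B x)ᶜ.Nonempty := Set.nonempty_of_ncard_ne_zero (by omega)
    have u1 : u.1.IsCycle := isCycle_of_prime_order (u0 ▸ Nat.prime_five) (by
      rw [u0]
      refine lt_of_lt_of_eq (Finset.card_lt_univ_of_notMem (x := w) ?_) hn
      exact notMem_support.2 (fix_of u.2 Nat.prime_five u0 hw (by omega)))
    have u2 : u.1.support.card = 5 := u1.orderOf.symm.trans u0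
    obtain ⟨y, hy⟩ : u.1.support.Nonempty := Finset.card_pos.1 (by omega)
    exact k5 ((Nat.factorial_dvd_factorial (by omega)).trans (jor g.2 g1 g2 p7 (by omega) hx u.2 u1 u2 Nat.prime_five hy
      (by_contra fun k => mem_support.1 hy (fix_of u.2 Nat.prime_five u0 k (by omega))) (by omega)))
  let ρ := toPermHom B (orbit B x)
  have inv : ∀ (b : B) (y : α), b.1 y ∈ (orbit B x)ᶜ ↔ y ∈ (orbit B x)ᶜ := fun b y =>
    not_congr ⟨fun ⟨c, hc⟩ => ⟨b⁻¹ * c, Perm.inv_eq_iff_eq.2 hc⟩, fun ⟨c, hc⟩ => ⟨b * c, congrArg b.1 hc⟩⟩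
  let σ : ρ.ker →* Perm ((orbit B x)ᶜ : Set α) :=
    { toFun := fun b => b.1.1.subtypePerm (inv b.1)
      map_one' := Perm.ext fun _ => rfl
      map_mul' := fun _ _ => Perm.ext fun _ => rfl }
  have fx : ∀ b ∈ ρ.ker, ∀ y ∈ orbit B x, b.1 y = y := fun b hb y hy =>
    congrArg (fun c : Perm (orbit B x) => (c ⟨y, hy⟩).1) hb
  have k6 : Nat.card ρ.ker ∣ 6 := by
    have := card_dvd_of_injective σ ((injective_iff_map_eq_one σ).2 fun b hb => Subtype.ext (Subtype.ext (Perm.ext fun y => by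
      by_cases hy : y ∈ orbit B x
      · exact fx _ b.2 y hy
      · exact congrArg (fun c : Perm ((orbit B x)ᶜ : Set α) => (c ⟨y, hy⟩).1) hb)))
    rwa [Nat.card_perm, Nat.card_coe_set_eq, show (orbit B x)ᶜ.ncard = 3 by omega] at this
  have k7 : 3 ∣ Nat.card ρ.ker := by
    have h1 : ρ.ker.index ∣ 5040 := by
      have := card_subgroup_dvd_card ρ.range
      rwa [Nat.card_perm, Nat.card_coe_set_eq, k3, ← index_ker] at this
    have h2 : 3 * 5040 ∣ Nat.card ρ.ker * 5040 :=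
      Dvd.dvd.trans (by rcases hB with k | k <;> rw [k] <;> norm_num) (ρ.ker.card_mul_index ▸ Nat.mul_dvd_mul_left _ h1)
    exact Nat.dvd_of_mul_dvd_mul_right (by norm_num) h2
  obtain ⟨z, hz, z0⟩ := elt ρ.ker 3 Nat.prime_three k7
  refine ⟨z.1, z.2, z0, fun b hb => ?_, g.1, g.2, g0, Disjoint.commute fun y => ?_⟩
  · let w : ρ.ker := ⟨⟨b, hb⟩ * z * ⟨b, hb⟩⁻¹, ρ.normal_ker.conj_mem z hz _⟩
    have h1 := (zpowers (⟨z, hz⟩ : ρ.ker)).card_mul_index
    rw [Nat.card_zpowers, Subgroup.orderOf_mk, ← Subgroup.orderOf_coe, z0] at h1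
    have h2 : (zpowers (⟨z, hz⟩ : ρ.ker)).index ∣ 2 := Nat.dvd_of_mul_dvd_mul_left (by norm_num : 0 < 3) (h1 ▸ k6)
    have h3 : w ^ 2 ∈ zpowers (⟨z, hz⟩ : ρ.ker) := by
      rcases (Nat.dvd_prime Nat.prime_two).1 h2 with k | k
      · rw [index_eq_one.1 k]; trivial
      · exact sq_mem_of_index_two k w
    obtain ⟨i, hi⟩ := pow_mem h3 2
    refine ⟨i, (congrArg (fun c : ρ.ker => c.1.1) hi).trans ?_⟩
    show ((b * z.1 * b⁻¹) ^ 2) ^ 2 = _
    rw [← pow_mul, conj_pow, show 2 * 2 = 3 + 1 from rfl, pow_succ, ← z0, pow_orderOf_eq_one, one_mul]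
  · by_cases hy : y ∈ orbit B x
    · exact Or.inr (fx z hz y hy)
    · exact Or.inl (by_contra fun k => hy (k1 (mem_support.2 k)))

end Cfsg.Agent.SM.Sy.Rj
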