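import Cfsg.Agent.SM.Sy.CLb
import Cfsg.Agent.SM.Sy.ResJ

/-!
# SM (S3570), `S = Sp_2m(2)`, `3 ≤ m ≤ 6`, `S_a = O(Q)`, `H` residual: `boxK3s : BoxK3s` (helper55)
-/

set_option autoImplicit false
set_option linter.unusedSectionVars false
set_option linter.unusedVariables false
set_option linter.style.haveILetI false

namespace Cfsg.Agent.SM.Sy

namespace K34s

open Cfsg Cfsg.Geo Equiv Subgroup Module MulAction CLb
open Cfsg.Agent.LieClassical.OrthCore (O E)
open Cfsg.Agent.H955 (IsPlus)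
open scoped MatrixGroups

theorem as_uniq {Γ : Type} [Group Γ] {Y A B : Subgroup Γ} (a : AS Y A) (b : AS Y B) : A = B :=
  le_antisymm (a.le_of_conj b.le (fun g hg => b.conj g (a.le hg)) b.ne_bot)
    (b.le_of_conj a.le (fun g hg => a.conj g (b.le hg)) a.ne_bot)

theorem as_dvd {Γ G : Type} [Group Γ] [Group G] {Y A : Subgroup Γ} (a : AS Y A) (e : A ≃* G) :
    Nat.card Y ∣ Nat.card (MulAut G) :=
  Nat.card_congr (MulAut.congr e).toEquiv ▸ card_dvd_of_injective a.aut a.aut_injective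

theorem as_perm {Γ : Type} [Group Γ] {Y A : Subgroup Γ} (a : AS Y A) {n : ℕ} (h4 : 4 ≤ n) (h6 : n ≠ 6)
    (e : A ≃* alternatingGroup (Fin n)) : ∃ φ : Y →* Perm (Fin n), Function.Injective φ :=
  ⟨(MulEquiv.ofBijective _ (S2119.result n h4 h6)).symm.toMonoidHom.comp ((MulAut.congr e).toMonoidHom.comp a.aut),
    (MulEquiv.ofBijective _ (S2119.result n h4 h6)).symm.injective.comp ((MulAut.congr e).injective.comp a.aut_injective)⟩

theorem card_alt {A : Type} [Group A] {n : ℕ} (e : A ≃* alternatingGroup (Fin (n + 2))) : 2 * Nat.card A = (n + 2).factorial := by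
  rw [Nat.card_congr e.toEquiv, two_mul_nat_card_alternatingGroup, Nat.card_perm, Nat.card_fin]

/-- the subgroups of `A₁₄` of index prime to 11 and to 5 or 7 -/
theorem idx14 {A : Type} [Group A] (e : A ≃* alternatingGroup (Fin 14)) (C : Subgroup A)
    (h : C.index ∣ 4032 ∨ C.index ∣ 4160) : C.index ∣ 2184 := by
  refine Nat.dvd_of_mul_dvd_mul_right (Nat.factorial_pos 11) ?_
  rcases h with h | h
  · exact Rj.alt_idx e C (p := 11) (r := 5) (by decide) (by decide) (by decide) (by decide) (by decide) (by decide)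
      (fun k => absurd (k.trans h) (by decide)) fun k => absurd (k.trans h) (by decide)
  · exact Rj.alt_idx e C (p := 11) (r := 7) (by decide) (by decide) (by decide) (by decide) (by decide) (by decide)
      (fun k => absurd (k.trans h) (by decide)) fun k => absurd (k.trans h) (by decide)

variable {m : ℕ} {F : Type} [Field F] [Fintype F] {Y : Subgroup (GG m F)} {P : Subgroup (GL (Fin m ⊕ Fin m) F)}

/-- the core as a group of linear maps -/
noncomputable def co (P : Subgroup (GL (Fin m ⊕ Fin m) F)) : Subgroup (GG m F) := P.comap (mx (m := m) (F := F)).toMonoidHom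

theorem mem_co {g : GG m F} : g ∈ co P ↔ mx g ∈ P := Iff.rfl

theorem mem_mp {g : GG m F} : mx g ∈ Y.map (mx (m := m) (F := F)).toMonoidHom ↔ g ∈ Y :=
  mem_map_iff_mem (f := (mx (m := m) (F := F)).toMonoidHom) mx.injective

theorem co_le (h : IsResidualCore (Y.map (mx (m := m) (F := F)).toMonoidHom) P) : co P ≤ Y := fun _ hg => mem_mp.1 (h.le hg)

theorem sc_one (hm : 1 ≤ m) (h2 : (2 : F) = 0) {g : GG m F} (hg : g ∈ Sp m F) (h : mx g ∈ scalars (Fin m ⊕ Fin m) F) : g = 1 := by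
  obtain ⟨c, hc⟩ := (mem_scalars_iff _).1 h
  exact eq_one_of_scalar hm h2 hg (c := c) fun v => by rw [← mx_apply, hc, Matrix.smul_mulVec, Matrix.one_mulVec]

theorem core (hm : 1 ≤ m) (h2 : (2 : F) = 0) (hY : Y ≤ Sp m F) (h : IsResidualCore (Y.map (mx (m := m) (F := F)).toMonoidHom) P) :
    AS Y (co P) ∧ Nonempty (co P ≃* P ⧸ (scalars (Fin m ⊕ Fin m) F).subgroupOf P) := by
  let ψ : co P →* P := ((mx (m := m) (F := F)).toMonoidHom.comp (co P).subtype).codRestrict P fun g => g.2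
  have hb : Function.Bijective ((QuotientGroup.mk' ((scalars (Fin m ⊕ Fin m) F).subgroupOf P)).comp ψ) := by
    refine ⟨(injective_iff_map_eq_one _).2 fun g hg => Subtype.ext (sc_one hm h2 (hY (co_le h g.2)) ?_), fun x => ?_⟩
    · exact (QuotientGroup.eq_one_iff (ψ g)).1 hg
    · obtain ⟨x, rfl⟩ := QuotientGroup.mk'_surjective _ x
      exact ⟨⟨mx.symm x.1, mem_co.2 (by rw [MulEquiv.apply_symm_apply]; exact x.2)⟩,
        congrArg (QuotientGroup.mk' _) (Subtype.ext (mx.apply_symm_apply x.1))⟩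
  let e := MulEquiv.ofBijective _ hb
  haveI := h.simple
  refine ⟨⟨co_le h, fun g hg x hx => mem_co.2 ?_, e.isSimpleGroup, fun k => h.nonabelian ⟨⟨fun a b => ?_⟩⟩, fun g hg k => ?_⟩, ⟨e⟩⟩
  · rw [map_mul, map_mul, map_inv]
    exact h.normal _ (mem_mp.2 hg) _ hx
  · obtain ⟨a, rfl⟩ := e.surjective a
    obtain ⟨b, rfl⟩ := e.surjective b
    rw [← map_mul, ← map_mul, k.is_comm.comm]
  · refine sc_one hm h2 (hY hg) (h.centralizer_scalar _ (mem_mp.2 hg) fun x hx => ?_)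
    obtain ⟨x, rfl⟩ := (mx (m := m) (F := F)).surjective x
    rw [← map_mul, k x hx, map_mul, mul_inv_cancel_right, mul_inv_cancel]
    exact one_mem _

theorem ty3 {Y A : Subgroup (GG 3 F)} (hq : Fintype.card F = 2) (hY : Y ⋖ Sp 3 F) (h : Res Y) (a : AS Y A) : Nat.card A = 6048 := by
  obtain ⟨P, p, hP, -, hc, h⟩ := S5806.result _ (maxIn hY) h
  obtain rfl := p_eq hq hc
  obtain ⟨b, ⟨ε⟩⟩ := core (by decide) (two hq) hY.le hP
  rw [hq] at h
  rcases h with h | h | h | h | ⟨⟨K, _, _, hK, ⟨e⟩⟩, -⟩ | h | h | h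
  iterate 4 omega
  · have h1 := S0280.result (q := 3) (hK.trans (by norm_num)) 3 (by norm_num)
    simp [Finset.prod_range_succ, Nat.even_iff] at h1
    rw [as_uniq a b, Nat.card_congr (ε.trans e).toEquiv]
    omega
  all_goals omega

theorem ty4 {Y : Subgroup (GG 4 F)} (hq : Fintype.card F = 2) (hY : Y ⋖ Sp 4 F) (h : Res Y) :
    ∃ A, AS Y A ∧ ((Nat.card A = 2448 ∧ Nat.card Y ∣ 4896) ∨ Nonempty (A ≃* alternatingGroup (Fin 10))) := by
  obtain ⟨P, p, hP, -, hc, h⟩ := S5824.result _ (maxIn hY) h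
  obtain rfl := p_eq hq hc
  obtain ⟨b, ⟨ε⟩⟩ := core (by decide) (two hq) hY.le hP
  rw [hq] at h
  rcases h with h | h | ⟨⟨e⟩, -⟩ | ⟨⟨e⟩, -⟩ | h | h
  iterate 2 omega
  · haveI : Fact (Nat.Prime 17) := ⟨by decide⟩
    have h1 := ClassicalGeometry.PSL2Basic.card_PSL2_odd (F := ZMod 17) (by rw [ZMod.card]; decide)
    rw [ZMod.card, ← Nat.card_congr (ε.trans e).toEquiv] at h1
    exact ⟨_, b, Or.inl ⟨by omega, (as_dvd b (ε.trans e)).trans
      (dvd_of_eq (aut_l2 (p := 17) (f := 1) (by decide) le_rfl (ZMod.card 17) (by decide)))⟩⟩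
  · exact ⟨_, b, Or.inr ⟨ε.trans e⟩⟩
  · omega
  · exact absurd h.2 (by decide)

theorem ty6 {Y : Subgroup (GG 6 F)} (hq : Fintype.card F = 2) (hY : Y ⋖ Sp 6 F) (h : Res Y) :
    ∃ A, AS Y A ∧ ((Nat.card A = 7800 ∧ Nat.card Y ∣ 31200) ∨ Nonempty (A ≃* alternatingGroup (Fin 14))) := by
  obtain ⟨P, p, hP, -, hc, h⟩ := S5869.result _ (maxIn hY) h
  obtain rfl := p_eq hq hc
  obtain ⟨b, ⟨ε⟩⟩ := core (by decide) (two hq) hY.le hP
  rw [hq] at h
  rcases h with h | h | ⟨⟨K, _, _, hK, ⟨e⟩⟩, -⟩ | h | h | ⟨⟨e⟩, -⟩ | h | h | h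
  iterate 2 omega
  · have h1 := ClassicalGeometry.PSL2Basic.card_PSL2_odd (F := K) (by rw [hK]; decide)
    rw [hK, ← Nat.card_congr (ε.trans e).toEquiv] at h1
    exact ⟨_, b, Or.inl ⟨by omega, (as_dvd b (ε.trans e)).trans
      (dvd_of_eq (aut_l2 (p := 5) (f := 2) (by decide) (by decide) hK (by decide)))⟩⟩
  · omega
  · exact absurd h.2.2.1 (by decide)
  · exact ⟨_, b, Or.inr ⟨ε.trans e⟩⟩
  all_goals omega

variable {Ω : Type} [Fintype Ω] [DecidableEq Ω] {X H T M S : Subgroup (Perm Ω)}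

theorem deg (D : Fr m F X H T M S) (a : Ω) {Q : QuadraticMap F (VV m F) F} (h : D.Fo a Q) :
    2 * Fintype.card Ω = 2 ^ m * (2 ^ m + 1) ∨ 2 * Fintype.card Ω = 2 ^ m * (2 ^ m - 1) := by
  rw [← D.relIndex_C a, h.2.2]
  by_cases k : IsPlus Q
  · exact Or.inl (h.1 ▸ idx_plus (two h.1) h.2.1 k)
  · exact Or.inr (h.1 ▸ idx_minus (two h.1) h.2.1 k)

end K34s

open K34s CLb in
theorem boxK3s : BoxK3s := by
  intro m F _ _ Ω _ _ X H T M S D a h3 h6 Q hQ hR
  have hq := hQ.1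
  have hn := deg D a hQ
  have hA := D.asN (two hq)
  have hT := D.card_A_two (two hq)
  have hd : Fintype.card Ω ∣ Nat.card D.A := Dvd.intro_left _ (D.card_AC a)
  rcases (show m = 3 ∨ m = 4 ∨ m = 5 ∨ m = 6 by omega) with rfl | rfl | rfl | rfl
  · have h := ty3 hq (D.maxN hq) hR hA
    rcases hn with k | k
    · exact Or.inr (Or.inl ⟨rfl, hT ▸ h, by omega, Q, hQ⟩)
    · exact Or.inl ⟨rfl, hT ▸ h, by omega, Q, hQ⟩
  · obtain ⟨A, b, h⟩ := ty4 hq (D.maxN hq) hR
    obtain rfl := as_uniq hA b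
    rcases h with ⟨h, -⟩ | ⟨⟨e⟩⟩
    · rcases hn with k | k
      · exact Or.inr (Or.inr (Or.inr ⟨rfl, hT ▸ h, by omega, Q, hQ⟩))
      · rw [h, show Fintype.card Ω = 120 by omega] at hd
        exact absurd hd (by decide)
    · have h : Nat.card D.A = 1814400 := Nat.eq_of_mul_eq_mul_left two_pos (card_alt (n := 8) e)
      rcases hn with k | k
      · rw [h, show Fintype.card Ω = 136 by omega] at hd
        exact absurd hd (by decide)
      · exact Or.inr (Or.inr (Or.inl ⟨rfl, hT ▸ h, by omega, Q, hQ⟩))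
  · exact (res5 hq (D.maxN hq) hR).elim
  · exfalso
    have k : Fintype.card Ω = 2080 ∨ Fintype.card Ω = 2016 := by omega
    obtain ⟨A, b, h⟩ := ty6 hq (D.maxN hq) hR
    obtain rfl := as_uniq hA b
    rcases h with ⟨h, -⟩ | ⟨⟨e⟩⟩
    · rcases k with k | k <;> rw [h, k] at hd <;> exact absurd hd (by decide)
    · have h1 := idx14 e ((D.C a).subgroupOf D.A)
      rw [show ((D.C a).subgroupOf D.A).index = Fintype.card Ω from D.relIndex_A a] at h1
      rcases k with k | k <;> rw [k] at h1 <;> exact absurd (h1 (by decide)) (by decide)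

end Cfsg.Agent.SM.Sy
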