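import Cfsg.Agent.SM.Sy.Defs

/-!
# SM (S3570), symplectic socles: invariant subspaces (`redC`, `redH`) (helper45)
-/

set_option autoImplicit false
set_option linter.unusedSectionVars false
set_option linter.unusedVariables false

namespace Cfsg.Agent.SM.Sy

open Cfsg Equiv Subgroup MulAction Module
open Cfsg.Agent.ClassicalGeometry.SympBasic Cfsg.Agent.ClassicalGeometry.SympAutSemi
open Cfsg.Agent.H925.Rs (Isos tvE tvE_apply spE spE_apply)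

namespace Rd

variable {m : ℕ} {F : Type} [Field F]

/-- the permutations which keep a set of vectors -/
def sw (W : Set (VV m F)) : Subgroup (Perm (VV m F)) where
  carrier := {g | ∀ v, g v ∈ W ↔ v ∈ W}
  one_mem' _ := Iff.rfl
  mul_mem' ha hb _ := (ha _).trans (hb _)
  inv_mem' {g} h v := by simpa using (h (g⁻¹ v)).symm

theorem le_sw {W : Set (VV m F)} {Y : Subgroup (Perm (VV m F))} (h : ∀ g ∈ Y, ∀ w ∈ W, g w ∈ W) : Y ≤ sw W :=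
  fun g hg v => ⟨fun k => by simpa using h g⁻¹ (Y.inv_mem hg) _ k, h g hg v⟩

theorem tv_apply (v x : VV m F) (c : F) : (tvE v c).1 x = x + (c * ff m F x v) • v := tvE_apply v x c

theorem sp_trans {x y : VV m F} (hx : x ≠ 0) (hy : y ≠ 0) : ∃ g ∈ Sp m F, g x = y := by
  obtain ⟨A, -, h⟩ := exists_transvGroup_mulVec_eq hx hy
  exact ⟨_, (spE A).2, h⟩

theorem exists_ne {x : VV m F} (hx : x ≠ 0) : ∃ y, ff m F x y = 1 := by
  obtain ⟨y, h, -⟩ := exists_both_ne_zero hx hx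
  exact ⟨(sympForm m F x y)⁻¹ • y, by rw [map_smul, smul_eq_mul]; exact inv_mul_cancel₀ h⟩

theorem semi_zero {g : Perm (VV m F)} {σ : F ≃+* F} {l : F} (h : IsSemi g σ l) : g 0 = 0 := by
  simpa using h.2.1 0 0

theorem semi_ne {g : Perm (VV m F)} (h : g ∈ semiSim m F) {v : VV m F} (hv : v ≠ 0) : g v ≠ 0 := by
  obtain ⟨σ, l, -, h⟩ := h
  exact semi_zero h ▸ g.injective.ne hv

theorem semi_perp {g : Perm (VV m F)} (h : g ∈ semiSim m F) (u v : VV m F) : ff m F (g u) (g v) = 0 ↔ ff m F u v = 0 := by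
  obtain ⟨σ, l, hl, h⟩ := h
  exact (congrArg (· = 0) (h.2.2 u v)).to_iff.trans (by simp [hl])

/-- semisimilitudes normalise `Sp` -/
theorem exists_conj {g : Perm (VV m F)} (h : g ∈ semiSim m F) {s : GG m F} (hs : s ∈ Sp m F) :
    ∃ s' ∈ Sp m F, pm s' = g * pm s * g⁻¹ := by
  obtain ⟨B, hB⟩ := ClassicalGeometry.SympAutSemi.exists_conj ⟨g, h⟩ (spE.symm ⟨s, hs⟩)
  refine ⟨_, (spE B).2, hB.trans ?_⟩
  congr 2
  exact Equiv.ext (H925.Rs.spE_symm_apply ⟨s, hs⟩)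

theorem conj_tv {g : Perm (VV m F)} {σ : F ≃+* F} {l : F} (hl : l ≠ 0) (h : IsSemi g σ l) (v : VV m F) (c : F) :
    g * pm (tvE v c).1 * g⁻¹ = pm (tvE (g v) (σ c * l⁻¹)).1 :=
  (rho_conjHom ⟨g, σ, l, hl, h⟩ (transv v c)).symm.trans (congrArg (rho m F) (conjHom_transv _ hl h v c))

theorem perp_perp (W : Submodule F (VV m F)) : perp (perp W) = W :=
  LinearMap.BilinForm.orthogonal_orthogonal (B := ff m F) sympBilin_nondegenerate sympBilin_isAlt.isRefl W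

theorem perp_inv {Y : Subgroup (Perm (VV m F))} (hY : Y ≤ semiSim m F) {W : Submodule F (VV m F)}
    (h : ∀ g ∈ Y, ∀ w ∈ W, g w ∈ W) : ∀ g ∈ Y, ∀ w ∈ perp W, g w ∈ perp W := fun g hg w hw u hu => by
  have h1 := (semi_perp (hY hg) _ _).2 (hw _ (h g⁻¹ (Y.inv_mem hg) u hu))
  rwa [perm_apply_inv_self] at h1

theorem ff_self (v : VV m F) : ff m F v v = 0 := sympForm_self v

theorem ff_symm {u v : VV m F} (h : ff m F u v = 0) : ff m F v u = 0 := sympBilin_isAlt.isRefl _ _ h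

theorem tv_mem {W : Submodule F (VV m F)} {z : VV m F} (hz : z ∈ W ∨ z ∈ perp W) (c : F) : (tvE z c).1 ∈ NS W :=
  ⟨(tvE z c).2, fun v => by
    rw [tv_apply]
    rcases hz with hz | hz
    · exact W.add_mem_iff_left (W.smul_mem _ hz)
    · refine ⟨fun h => ?_, fun h => by rwa [show ff m F v z = 0 from hz v h, mul_zero, zero_smul, add_zero]⟩
      have h1 : ff m F _ z = 0 := hz _ h
      rw [map_add, map_smul, LinearMap.add_apply, LinearMap.smul_apply, ff_self, smul_zero, add_zero] at h1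
      rwa [h1, mul_zero, zero_smul, add_zero] at h⟩

/-- a transvection is not a scalar -/
theorem tv_ne (hm : 2 ≤ m) {z : VV m F} (hz : z ≠ 0) {c : F} : ¬ ∀ v, (tvE z 1).1 v = c • v := fun h => by
  obtain ⟨y, hy⟩ := exists_ne hz
  have h1 : c = 1 := smul_left_injective F hz (by simpa [tv_apply] using (h z).symm)
  have h2 := h y
  rw [h1, tv_apply, one_smul, one_mul, add_eq_left, smul_eq_zero, or_iff_left hz] at h2
  exact one_ne_zero (hy.symm.trans (sympBilin_isAlt.isRefl _ _ h2))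

variable {Ω : Type} [Fintype Ω] [DecidableEq Ω] [Fintype F] {X H T M S : Subgroup (Perm Ω)} (D : Fr m F X H T M S)

theorem mem_hat {Y : Subgroup (Perm Ω)} {g : Perm (VV m F)} : g ∈ D.hat Y ↔ ∃ h : g ∈ D.L, D.φ ⟨g, h⟩ ∈ Y :=
  ⟨fun ⟨x, hx, e⟩ => e ▸ ⟨x.2, hx⟩, fun ⟨h, k⟩ => ⟨⟨g, h⟩, k, rfl⟩⟩

theorem mem_pre {Y : Subgroup (Perm Ω)} {g : GG m F} : g ∈ D.pre Y ↔ g ∈ Sp m F ∧ pm g ∈ D.hat Y :=
  ⟨fun ⟨x, hx, e⟩ => e ▸ ⟨x.2, (mem_hat D).2 ⟨D.sp _ x.2, hx⟩⟩, fun ⟨h, k⟩ => ⟨⟨g, h⟩, ((mem_hat D).1 k).2, rfl⟩⟩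

theorem hat_le {Y : Subgroup (Perm Ω)} : D.hat Y ≤ semiSim m F := (map_subtype_le _).trans D.le

theorem phi_mem (g : D.L) : D.φ g ∈ M := D.ran.le ⟨g, rfl⟩

theorem exists_phi {x : Perm Ω} (hx : x ∈ M) : ∃ g, D.φ g = x := by rwa [← D.ran] at hx

theorem hat_inf (Y : Subgroup (Perm Ω)) : D.hat (M ⊓ Y) = D.hat Y := Subgroup.ext fun g => by
  simp only [mem_hat, mem_inf, phi_mem, true_and]

theorem pre_inf (Y : Subgroup (Perm Ω)) : D.pre (M ⊓ Y) = D.pre Y := Subgroup.ext fun g => by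
  simp only [mem_pre, hat_inf]

/-- `hat Z` normalises `pre Z` -/
theorem conj_pre {Z : Subgroup (Perm Ω)} {g : Perm (VV m F)} (hg : g ∈ D.hat Z) {s : GG m F} (hs : s ∈ D.pre Z) :
    ∃ s' ∈ D.pre Z, pm s' = g * pm s * g⁻¹ := by
  obtain ⟨h1, h2⟩ := (mem_pre D).1 hs
  obtain ⟨s', h3, e⟩ := exists_conj (hat_le D hg) h1
  exact ⟨s', (mem_pre D).2 ⟨h3, e ▸ mul_mem (mul_mem hg h2) (inv_mem hg)⟩, e⟩

/-- **maximality** -/
theorem stab {Z : Subgroup (Perm Ω)} (hZ : Z ⋖ M) {Y : Subgroup (Perm (VV m F))} (h1 : D.hat Z ≤ Y)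
    (h2 : ¬ ∀ g ∈ Sp m F, pm g ∈ Y) {g : Perm (VV m F)} (hg : g ∈ D.L) (hY : g ∈ Y) : g ∈ D.hat Z := by
  rcases hZ.eq_or_eq (c := (Y.subgroupOf D.L).map D.φ) (fun z hz => by
    obtain ⟨x, rfl⟩ := exists_phi D (hZ.le hz)
    exact ⟨x, h1 ⟨x, hz, rfl⟩, rfl⟩) ((map_le_range _ _).trans D.ran.le) with h | h
  · exact (mem_hat D).2 ⟨hg, h ▸ ⟨⟨g, hg⟩, hY, rfl⟩⟩
  · refine absurd (fun s hs => ?_) h2
    obtain ⟨y, hy, e⟩ : D.φ ⟨_, D.sp s hs⟩ ∈ (Y.subgroupOf D.L).map D.φ := h.symm ▸ phi_mem D _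
    have h3 : (y⁻¹ * ⟨_, D.sp s hs⟩ : D.L).1 ∈ Y := h1 ⟨y⁻¹ * ⟨_, D.sp s hs⟩, by
      rw [SetLike.mem_coe, mem_comap, D.φ.map_mul, D.φ.map_inv, e, inv_mul_cancel]; exact one_mem _, rfl⟩
    simpa using Y.mul_mem hy h3

theorem stabB (a : Ω) {Y : Subgroup (Perm (VV m F))} (h1 : D.BB a ≤ Y)
    (h2 : ¬ ∀ g ∈ Sp m F, pm g ∈ Y) {g : Perm (VV m F)} (hg : g ∈ D.L) (hY : g ∈ Y) : g ∈ D.BB a :=
  (hat_inf D _).le (stab D (D.up.fac a).bm ((hat_inf D _).le.trans h1) h2 hg hY)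

theorem not_sw {W : Submodule F (VV m F)} (h0 : W ≠ ⊥) (h1 : W ≠ ⊤) : ¬ ∀ g ∈ Sp m F, pm g ∈ sw (W : Set (VV m F)) := fun h => by
  obtain ⟨w, hw, hw0⟩ := W.exists_mem_ne_zero_of_ne_bot h0
  refine h1 (eq_top_iff.2 fun y _ => ?_)
  rcases eq_or_ne y 0 with rfl | hy
  · exact W.zero_mem
  obtain ⟨g, hg, rfl⟩ := sp_trans hw0 hy
  exact (h g hg w).2 hw

theorem pre_eq {Z : Subgroup (Perm Ω)} (hZ : Z ⋖ M) {W : Submodule F (VV m F)} (h0 : W ≠ ⊥) (h1 : W ≠ ⊤)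
    (h : ∀ g ∈ D.hat Z, ∀ w ∈ W, g w ∈ W) : D.pre Z = NS W :=
  Subgroup.ext fun g => (mem_pre D).trans (and_congr_right fun hg =>
    ⟨fun k => le_sw h k, stab D hZ (le_sw h) (not_sw h0 h1) (D.sp g hg)⟩)

end Rd

open Rd

variable {m : ℕ} {F : Type} [Field F] {Ω : Type} [Fintype Ω] [DecidableEq Ω] [Fintype F] {X H T M S : Subgroup (Perm Ω)}
  (D : Fr m F X H T M S)

/-- an invariant subspace of `M_a` -/
theorem eq_NS (a : Ω) {W : Submodule F (VV m F)} (h0 : W ≠ ⊥) (h1 : W ≠ ⊤) (h : ∀ g ∈ D.BB a, ∀ w ∈ W, g w ∈ W) :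
    D.C a = NS W :=
  (pre_inf D _).symm.trans (pre_eq D (D.up.fac a).bm h0 h1 ((hat_inf D _).symm ▸ h))

theorem redC (a : Ω) {W : Submodule F (VV m F)} (h0 : W ≠ ⊥) (h1 : W ≠ ⊤) (h : ∀ g ∈ D.BB a, ∀ w ∈ W, g w ∈ W) :
    ∃ W' : Submodule F (VV m F), W' ≤ W ∧ W' ≠ ⊥ ∧ W' ≠ ⊤ ∧ (Ti W' ∨ Nd W') ∧ (∀ g ∈ D.BB a, ∀ w ∈ W', g w ∈ W') ∧
      D.C a = NS W' := by
  by_cases h2 : W ⊓ perp W = ⊥
  · exact ⟨W, le_rfl, h0, h1, .inr fun u hu k => (Submodule.eq_bot_iff _).1 h2 u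
      ⟨hu, fun w hw => sympBilin_isAlt.isRefl _ _ (k w hw)⟩, h, eq_NS D a h0 h1 h⟩
  · have h3 : W ⊓ perp W ≠ ⊤ := fun k => h1 (top_le_iff.1 (k.ge.trans inf_le_left))
    have h4 : ∀ g ∈ D.BB a, ∀ w ∈ W ⊓ perp W, g w ∈ W ⊓ perp W := fun g hg w hw =>
      ⟨h g hg w hw.1, perp_inv (hat_le D) h g hg w hw.2⟩
    exact ⟨_, inf_le_left, h2, h3, .inl fun u hu w hw => hw.2 u hu.1, h4, eq_NS D a h2 h3 h4⟩

/-- **`H` is irreducible** -/
theorem redH (W : Submodule F (VV m F)) (h : ∀ g ∈ D.HH, ∀ w ∈ W, g w ∈ W) : W = ⊥ ∨ W = ⊤ := by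
  by_contra! h0
  have h1 := pre_eq D D.up.hm h0.1 h0.2 h
  have h2 : ∀ z c, z ∈ W ∨ z ∈ perp W → D.π (tvE z c) ∈ H := fun z c hz =>
    ((mem_hat D).1 ((mem_pre D).1 (h1.ge (tv_mem hz c))).2).2
  have h3 : ∀ z, z ≠ 0 → D.π (tvE z 1) ≠ 1 := fun z hz k => by
    obtain ⟨c, hc⟩ := (D.ker _).1 k
    exact tv_ne D.two hz hc
  obtain ⟨w, hw, hw0⟩ := W.exists_mem_ne_zero_of_ne_bot h0.1
  obtain ⟨z, hz, hz0⟩ := (perp W).exists_mem_ne_zero_of_ne_bot fun k => h0.2 (by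
    rw [← perp_perp W, k]; exact LinearMap.BilinForm.orthogonal_bot)
  have h4 := D.up.socH.as.le_of_conj (N := H ⊓ centralizer {x | ∃ z ∈ perp W, ∃ c, x = D.π (tvE z c)}) inf_le_left
    (fun t ht x hx => ⟨H.mul_mem (H.mul_mem (D.up.socH.le ht) hx.1) (H.inv_mem (D.up.socH.le ht)), by
      rintro _ ⟨z, hz, c, rfl⟩
      obtain ⟨g, hg⟩ := exists_phi D (D.up.ov.2 (H.inv_mem (D.up.socH.le ht)))
      obtain ⟨σ, l, hl, hs⟩ := D.le g.2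
      have h5 := hx.2 _ ⟨_, perp_inv (hat_le D) h g ⟨g, show D.φ g ∈ H from hg ▸ H.inv_mem (D.up.socH.le ht), rfl⟩ z hz, σ c * l⁻¹, rfl⟩
      have h6 : D.π (tvE (g.1 z) (σ c * l⁻¹)) = t⁻¹ * D.π (tvE z c) * t := by
        rw [← inv_inv t, ← hg, inv_inv, ← D.φ.map_inv]
        exact (congrArg D.φ (Subtype.ext (conj_tv hl hs z c).symm)).trans ((D.φ.map_mul _ _).trans
          (congrArg (· * _) (D.φ.map_mul _ _)))
      rw [h6] at h5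
      calc _ = t * (t⁻¹ * D.π (tvE z c) * t * x) * t⁻¹ := by group
        _ = _ := by rw [h5]; group⟩)
    fun k => h3 w hw0 (mem_bot.1 (k ▸ ⟨h2 w 1 (.inl hw), by
      rintro _ ⟨z, hz, c, rfl⟩
      rw [← map_mul, ← map_mul]
      refine congrArg D.π (Subtype.ext (LinearEquiv.ext fun v => ?_))
      have h5 : ff m F w z = 0 := hz w hw
      show (tvE z c).1 ((tvE w 1).1 v) = (tvE w 1).1 ((tvE z c).1 v)
      simp only [tv_apply, map_add, map_smul, h5, ff_symm h5, mul_zero, zero_smul, add_zero]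
      exact add_right_comm _ _ _⟩))
  exact h3 z hz0 (D.up.cen fun t ht => (h4 ht).2 _ ⟨z, hz, 1, rfl⟩)

end Cfsg.Agent.SM.Sy
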