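import Cfsg.Agent.SM.Sy.Form
import Cfsg.Agent.SM.Sy.Red

/-!
# SM (S3570), symplectic socles, `T = Ω(Q)`: subspaces, pairs, subfields (helper22)

`boxK4Red`, `boxK4Dec`, `boxDecT`, `boxK4Sub`.
-/

set_option autoImplicit false
set_option linter.unusedSectionVars false
set_option linter.unusedVariables false

namespace Cfsg.Agent.SM.Sy

open Cfsg Subgroup MulAction Module QuadraticMap
open Equiv (Perm)
open Cfsg.Agent.ClassicalGeometry.SympBasic Cfsg.Agent.ClassicalGeometry.SympAutSemi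
open Cfsg.Agent.LieClassical.OrthCore Cfsg.Agent.LieClassical.OrthTrans
open Cfsg.Agent.H955 (IsPlus res)

namespace K4R

open Rd

variable {m : ℕ} {F : Type} [Field F] {Q : QuadraticForm F (VV m F)}

theorem trans (h2 : (2 : F) = 0) (hQ : Pol Q) {Y : Subgroup (GG m F)} (hY : TrF Y Q) {u : VV m F} (hu : T0 (Q u)) :
    ∃ y ∈ Y, ∀ v, Q (y v) = ad Q u v := by
  obtain ⟨g, hg, h⟩ := orb_of_t0 h2 hQ hu
  obtain ⟨y, hy, x, hx, e⟩ := hY g⁻¹ (inv_mem hg)
  refine ⟨y⁻¹, inv_mem hy, fun v => ?_⟩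
  rw [← h, show g = x⁻¹ * y⁻¹ by rw [← mul_inv_rev, ← e, inv_inv]]
  exact (inv_mem hx (y⁻¹ v)).symm

theorem sq_inj (h2 : (2 : F) = 0) {a b : F} (h : a * a = b * b) : a = b :=
  sub_eq_zero.1 (mul_self_eq_zero.1 (by linear_combination h + (b * b - a * b) * h2))

theorem map_eq {g : GG m F} {U W : Submodule F (VV m F)} (h : ∀ v, g v ∈ W ↔ v ∈ U) :
    U.map (g : VV m F →ₗ[F] VV m F) = W := by
  ext v
  obtain ⟨v, rfl⟩ := g.surjective v
  rw [h]
  exact ⟨fun ⟨w, hw, e⟩ => g.injective e ▸ hw, fun k => ⟨v, k, rfl⟩⟩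

theorem perp_ne_bot {W : Submodule F (VV m F)} (h : W ≠ ⊤) : perp W ≠ ⊥ := fun k => h (by
  rw [← Rd.perp_perp W, k]; exact LinearMap.BilinForm.orthogonal_bot)

/-- a singular vector which is not orthogonal to `w` -/
theorem exists_sing (hQ : Pol Q) (hm : 2 ≤ m) {w : VV m F} [Finite F] (hw : w ≠ 0) (c : F) :
    ∃ u, Q u = 0 ∧ ff m F w u = c := by
  obtain ⟨x, y, hh⟩ := exists_hyp_VV hQ hm
  obtain ⟨u, hu, h⟩ : ∃ u, Q u = 0 ∧ ff m F w u ≠ 0 := by
    by_contra! h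
    exact hw (eq_zero_of_ff fun v => ff_symm (sing_induction hh (P := fun v => ff m F w v = 0)
      (fun a c ha hc => by rw [map_add, ha, hc, add_zero]) h v))
  exact ⟨(c * (ff m F w u)⁻¹) • u, by rw [QuadraticMap.map_smul, hu, smul_zero],
    by rw [map_smul, smul_eq_mul, mul_assoc, inv_mul_cancel₀ h, mul_one]⟩

/-- `E Q` moves every totally isotropic subspace -/
theorem not_fix (hQ : Pol Q) (hm : 3 ≤ m) [Finite F] {W : Submodule F (VV m F)} (hW : Ti W) (h0 : W ≠ ⊥) :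
    ¬ ∀ g ∈ E Q, ∀ w ∈ W, g w ∈ W := fun h => by
  obtain ⟨w, hw, hw0⟩ := W.exists_mem_ne_zero_of_ne_bot h0
  obtain ⟨x, hx, h1⟩ := exists_sing hQ (by omega) hw0 1
  have h3 : polar Q x w = 1 := by rw [polar_comm, hQ, h1]
  -- `W` contains `a + c x` for all `a ⊥ x`
  have h4 : ∀ a, polar Q x a = 0 → ∃ c : F, a + c • x ∈ W := fun a ha => by
    refine ⟨-(polar Q a w + Q a), ?_⟩
    have h5 := W.sub_mem (h _ (siegel_mem_E hx ha) w hw) hw
    rw [siegel_apply, h3] at h5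
    convert h5 using 1
    module
  obtain ⟨y, hy⟩ := exists_hyp hQ.nondeg hx (by rintro rfl; simp at h1)
  obtain ⟨a, b, h5, -, h6, -, h7⟩ := exists_perp2 hQ.nondeg (by rw [finrank_VV]; omega) hy
  obtain ⟨c, hc⟩ := h4 a h5
  obtain ⟨d, hd⟩ := h4 b h6
  have h8 := hW _ hc _ hd
  rw [← hQ, polar_add_left, polar_add_right, polar_add_right, polar_smul_left, polar_smul_left, polar_smul_right,
    polar_smul_right, h7, h6, polar_comm Q a x, h5, hQ, ff_self] at h8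
  simp at h8

theorem exists_nonsing (hQ : Pol Q) {W : Submodule F (VV m F)} (h : m < finrank F W) : ∃ w ∈ W, Q w ≠ 0 := by
  by_contra! k
  have h1 : W ≤ perp W := fun w hw u hu => by
    have h3 := hQ.add u w
    rw [k _ (W.add_mem hu hw), k u hu, k w hw, add_zero, zero_add] at h3
    exact h3.symm
  have h3 := Submodule.finrank_mono h1
  have h4 := finrank_perp W
  omega

variable [Finite F]

/-- flipping two orthogonal non-degenerate subspaces -/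
theorem flip (h2 : (2 : F) = 0) (hQ : Pol Q) {Y : Subgroup (GG m F)} (hY : TrF Y Q) {U W : Submodule F (VV m F)}
    (hU : Nd U) (hW : Nd W) (h0 : U ≠ ⊥) (h1 : W ≠ ⊥) (h : W ≤ perp U) :
    ∃ y ∈ Y, ∃ u ∈ U, ∃ w ∈ W, (∀ v, Q (y v) = ad Q (u + w) v) ∧ gs (ad Q (u + w)) U = - gs Q U ∧
      gs (ad Q (u + w)) W = - gs Q W := by
  obtain ⟨u, hu, h3⟩ := exists_not_t0_mem h2 hQ hU h0
  obtain ⟨w, hw, h4⟩ := exists_not_t0_mem h2 hQ hW h1
  obtain ⟨y, hy, e⟩ := trans h2 hQ hY (u := u + w) (by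
    rw [hQ.add, h hw u hu, add_zero, t0_add_iff' h2]; tauto)
  refine ⟨y, hy, u, hu, w, hw, e, by rw [gs_ad h2 hQ hu (h hw), psi_of_not h3, neg_one_mul], ?_⟩
  rw [add_comm, gs_ad h2 hQ hw (fun z hz => ff_symm (h hz u hu)), psi_of_not h4, neg_one_mul]

theorem not_nd (h2 : (2 : F) = 0) (hQ : Pol Q) {Y : Subgroup (GG m F)} (hY : TrF Y Q) {W : Submodule F (VV m F)}
    (hW : Nd W) (h0 : W ≠ ⊥) (h1 : W ≠ ⊤) : ¬ Y ≤ NS W := fun h => by
  obtain ⟨y, hy, u, -, w, -, e, h3, -⟩ := flip h2 hQ hY hW hW.perp h0 (perp_ne_bot h1) le_rfl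
  have h4 := gs_map y e W
  rw [map_eq (h hy).2, h3] at h4
  exact gs_ne_zero h2 hQ hW (by omega)

theorem not_plus (h2 : (2 : F) = 0) (hQ : Pol Q) {Y : Subgroup (GG m F)} (hY : TrF Y Q) {W : Submodule F (VV m F)}
    (hW : Nd W) (h0 : W ≠ ⊥) (h1 : W ≠ ⊤) (h : Y ≤ NW W (perp W)) : ¬ IsPlus Q := by
  obtain ⟨y, hy, u, -, w, -, e, h3, -⟩ := flip h2 hQ hY hW hW.perp h0 (perp_ne_bot h1) le_rfl
  have h4 := gs_map y e W
  have h5 := gs_ne_zero h2 hQ hW
  rcases (h hy).2 with k | k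
  · rw [map_eq fun v => (k v).1, h3] at h4
    omega
  · rw [map_eq fun v => (k v).2, h3] at h4
    rw [not_plus_iff h2 hQ, gs_perp h2 hQ hW, h4, mul_neg, neg_lt_zero]
    exact mul_self_pos.2 h5

/-- the singular vectors of a totally isotropic subspace -/
def zs (hQ : Pol Q) {W : Submodule F (VV m F)} (hW : Ti W) : Submodule F (VV m F) where
  carrier := {w | w ∈ W ∧ Q w = 0}
  zero_mem' := ⟨W.zero_mem, map_zero Q⟩
  add_mem' {a b} ha hb := ⟨W.add_mem ha.1 hb.1, by rw [hQ.add, ha.2, hb.2, hW a ha.1 b hb.1]; simp⟩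
  smul_mem' c a ha := ⟨W.smul_mem c ha.1, by rw [QuadraticMap.map_smul, ha.2, smul_zero]⟩

theorem zs_ne (h2 : (2 : F) = 0) (hQ : Pol Q) (hm : 2 ≤ m) {Y : Subgroup (GG m F)} (hY : TrF Y Q)
    {W : Submodule F (VV m F)} (hW : Ti W) (h0 : W ≠ ⊥) (h : Y ≤ NS W) : zs hQ hW ≠ ⊥ := by
  obtain ⟨w, hw, hw0⟩ := W.exists_mem_ne_zero_of_ne_bot h0
  obtain ⟨c, hc⟩ := exists_sqrt h2 (Q w)
  obtain ⟨u, hu, h1⟩ := exists_sing hQ hm hw0 c
  obtain ⟨y, hy, e⟩ := trans h2 hQ hY (u := u) (hu ▸ t0_zero)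
  refine (Submodule.ne_bot_iff _).2 ⟨y w, ⟨((h hy).2 w).2 hw, ?_⟩, (map_ne_zero_iff _ y.injective).2 hw0⟩
  rw [e, ad_apply, h1, hc]
  linear_combination Q w * h2

/-- a reflection which fixes the singular vectors of `W`, but not `W` -/
theorem exists_refl (h2 : (2 : F) = 0) (hQ : Pol Q) (hm : 2 ≤ m) {Y : Subgroup (GG m F)} (hY : TrF Y Q)
    {W : Submodule F (VV m F)} (hW : Ti W) (h0 : W ≠ ⊥) (h : Y ≤ NS W) :
    ∃ g ∈ O Q, (∀ w ∈ zs hQ hW, g w = w) ∧ g ∉ NS W := by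
  obtain ⟨w, hw, h1⟩ : ∃ w ∈ W, Q w ≠ 0 := by
    by_contra! k
    obtain ⟨w, hw, hw0⟩ := W.exists_mem_ne_zero_of_ne_bot h0
    obtain ⟨u, hu, h1⟩ := exists_sing hQ hm hw0 1
    obtain ⟨y, hy, e⟩ := trans h2 hQ hY (u := u) (hu ▸ t0_zero)
    have h3 := e w
    rw [k _ (((h hy).2 w).2 hw), ad_apply, k w hw, h1] at h3
    simp at h3
  obtain ⟨x, hx, h3⟩ : ∃ x ∈ perp (zs hQ hW), ff m F w x * ff m F w x = Q w := by
    obtain ⟨x, hx, h3⟩ : ∃ x ∈ perp (zs hQ hW), ff m F x w ≠ 0 := by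
      by_contra! k
      exact h1 ((Rd.perp_perp (zs hQ hW)).le k).2
    obtain ⟨c, hc⟩ := exists_sqrt h2 (Q w)
    refine ⟨(c * (ff m F x w)⁻¹) • x, Submodule.smul_mem _ _ hx, ?_⟩
    rw [map_smul, smul_eq_mul, mul_assoc c, ff_comm h2 w x, inv_mul_cancel₀ h3, mul_one, hc]
  have h4 : Q x ≠ 0 := fun k => by
    obtain ⟨y, hy, e⟩ := trans h2 hQ hY (u := x) (k ▸ t0_zero)
    obtain ⟨v, rfl⟩ := y.surjective w
    have hv : v ∈ W := ((h hy).2 v).1 hw
    obtain ⟨c, hc⟩ := exists_sqrt h2 (Q v * (Q (y v))⁻¹)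
    have h5 : Q v = c * c * Q (y v) := by rw [hc, mul_assoc, inv_mul_cancel₀ h1, mul_one]
    have h6 : ff m F (v + c • y v) x = 0 := hx _ ⟨W.add_mem hv (W.smul_mem c hw), by
      rw [hQ.add, hW v hv _ (W.smul_mem c hw), QuadraticMap.map_smul, smul_eq_mul, ← h5]
      linear_combination Q v * h2⟩
    rw [map_add, map_smul, LinearMap.add_apply, LinearMap.smul_apply, smul_eq_mul] at h6
    refine h1 ?_
    rw [e, ad_apply, h5, ← h3]
    linear_combination (ff m F v x - c * ff m F (y v) x) * h6 + (c * ff m F (y v) x) ^ 2 * h2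
  refine ⟨refl Q x h4, refl_mem_O h4, fun z hz => ?_, fun k => ?_⟩
  · rw [refl_apply, polar_comm, hQ, hx z hz, mul_zero, zero_smul, sub_zero]
  · have h5 := hW w hw _ ((k.2 w).2 hw)
    rw [refl_apply, map_sub, map_smul, ff_self, polar_comm, hQ, smul_eq_mul, mul_assoc, h3, zero_sub, neg_eq_zero] at h5
    exact mul_ne_zero (inv_ne_zero h4) h1 h5

/-- three or more orthogonal summands -/
theorem not_dec (hm : 1 ≤ m) (h2 : (2 : F) = 0) (hQ : Pol Q) {Y : Subgroup (GG m F)} {t k : ℕ}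
    {U : Fin t → Submodule F (VV m F)} (ht : 3 ≤ t) (h : Dec t k Y U) : ¬ TrF Y Q := fun hY => by
  obtain ⟨h1, h3, h4, h5⟩ := h
  have h0 : ∀ i, U i ≠ ⊥ := fun i e => top_ne_bot' hm (h4 ▸ iSup_eq_bot.2 fun j =>
    Submodule.finrank_eq_zero.1 (by rw [(h1 j).2, ← (h1 i).2, e, finrank_bot]))
  have h6 : ∀ i j, gs Q (U i) = gs Q (U j) ∨ gs Q (U i) = - gs Q (U j) := fun i j => sq_eq_sq_iff_eq_or_eq_neg.1 (by
    have := Fintype.ofFinite F
    rw [gs_sq h2 hQ (h1 i).1, gs_sq h2 hQ (h1 j).1, Module.natCard_eq_pow_finrank (K := F) (V := U i),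
      Module.natCard_eq_pow_finrank (K := F) (V := U j), (h1 i).2, (h1 j).2])
  obtain ⟨i, j, hij, e⟩ : ∃ i j, i ≠ j ∧ gs Q (U i) = gs Q (U j) := by
    rcases h6 ⟨0, by omega⟩ ⟨1, by omega⟩ with a | a
    · exact ⟨_, _, by simp, a⟩
    rcases h6 ⟨0, by omega⟩ ⟨2, by omega⟩ with b | b
    · exact ⟨_, _, by simp, b⟩
    exact ⟨⟨1, by omega⟩, ⟨2, by omega⟩, by simp, by omega⟩
  obtain ⟨y, hy, u, hu, w, hw, h7, h8, h9⟩ := flip h2 hQ hY (h1 i).1 (h1 j).1 (h0 i) (h0 j) (h3 j i hij.symm)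
  choose p hp using h5 y hy
  have hinj : Function.Injective p := fun a b k => by
    by_contra hab
    have h10 : U a = U b := Submodule.map_injective_of_injective y.injective ((hp a).trans (k ▸ (hp b).symm))
    obtain ⟨z, hz, hz0⟩ := (U a).exists_mem_ne_zero_of_ne_bot (h0 a)
    exact hz0 ((h1 a).1 z hz fun v hv => h3 b a (Ne.symm hab) (h10 ▸ hv) z hz)
  have h10 : ∑ l, gs (ad Q (u + w)) (U l) = ∑ l, gs Q (U l) := by
    rw [← Equiv.sum_comp (Equiv.ofBijective p (Finite.injective_iff_bijective.1 hinj)) fun l => gs Q (U l)]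
    exact Finset.sum_congr rfl fun l _ => by rw [← gs_map y h7, hp]; rfl
  rw [← sub_eq_zero, ← Finset.sum_sub_distrib, Fintype.sum_eq_add i j hij fun l hl => by
    have h11 := gs_ad h2 hQ (zero_mem (U l)) (Submodule.add_mem _ (h3 i l hl.1.symm hu) (h3 j l hl.2.symm hw))
    rw [zero_add, map_zero, psi_zero, one_mul] at h11
    exact sub_eq_zero.2 h11, h8, h9] at h10
  exact gs_ne_zero h2 hQ (h1 i).1 (by omega)

/-- the form `Q (u + w) = f (u, w)` of a pair of complementary totally isotropic subspaces -/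
theorem exists_form (h2 : (2 : F) = 0) {U W : Submodule F (VV m F)} (h : IsCompl U W) (hU : Ti U) (hW : Ti W) :
    ∃ Q : QuadraticForm F (VV m F), Pol Q ∧ ∀ u ∈ U, ∀ w ∈ W, Q (u + w) = ff m F u w := by
  let B : LinearMap.BilinForm F (VV m F) := (ff m F).compl₁₂ (U.projection W h) (W.projection U h.symm)
  have h1 : ∀ u ∈ U, ∀ w ∈ W, ∀ u' ∈ U, ∀ w' ∈ W, B (u + w) (u' + w') = ff m F u w' := fun u hu w hw u' hu' w' hw' => by
    show ff m F (U.projection W h (u + w)) (W.projection U h.symm (u' + w')) = _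
    rw [(U.projection W h).map_add, (W.projection U h.symm).map_add, Submodule.projection_apply_of_mem_left h hu,
      Submodule.projection_apply_of_mem_right h hw, Submodule.projection_apply_of_mem_left h.symm hw',
      Submodule.projection_apply_of_mem_right h.symm hu', add_zero, zero_add]
  have h3 : ∀ v, ∃ u ∈ U, ∃ w ∈ W, u + w = v := fun v => Submodule.mem_sup.1 (h.sup_eq_top ▸ Submodule.mem_top)
  refine ⟨LinearMap.BilinMap.toQuadraticMap B, fun v v' => ?_, fun u hu w hw => h1 u hu w hw u hu w hw⟩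
  obtain ⟨u, hu, w, hw, rfl⟩ := h3 v
  obtain ⟨u', hu', w', hw', rfl⟩ := h3 v'
  rw [LinearMap.BilinMap.polar_toQuadraticMap, h1 u hu w hw u' hu' w' hw', h1 u' hu' w' hw' u hu w hw]
  simp only [map_add, LinearMap.add_apply, hU u hu u' hu', hW w hw w' hw', ff_comm h2 w u', zero_add, add_zero]
  exact add_comm _ _

/-- the twisted form -/
theorem exists_tw (h2 : (2 : F) = 0) (hQ : Pol Q) {σ : Perm (VV m F)} {τ : F ≃+* F} (h : IsSemi σ τ 1) :
    ∃ u, ∀ v, Q (σ v) = τ (ad Q u v) := by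
  have h1 : ∀ x y, τ.symm (Q (σ (x + y))) = τ.symm (Q (σ x)) + τ.symm (Q (σ y)) + ff m F x y := fun x y => by
    rw [h.1, hQ.add, map_add, map_add, show ff m F (σ x) (σ y) = τ (ff m F x y) from (h.2.2 x y).trans (one_mul _),
      τ.symm_apply_apply]
  let Q' : QuadraticForm F (VV m F) :=
    { toFun := fun v => τ.symm (Q (σ v))
      toFun_smul := fun a v => by
        rw [h.2.1, QuadraticMap.map_smul, smul_eq_mul, smul_eq_mul, map_mul, map_mul, τ.symm_apply_apply]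
      exists_companion' := ⟨ff m F, h1⟩ }
  obtain ⟨u, hu⟩ := exists_ad h2 hQ (Q' := Q') fun x y => by
    rw [polar]
    exact (congrArg (· - Q' x - Q' y) (h1 x y)).trans (by
      show Q' x + Q' y + _ - _ - _ = _
      ring)
  exact ⟨u, fun v => by rw [← hu]; exact (τ.apply_symm_apply _).symm⟩

theorem sub_zero' (h2 : (2 : F) = 0) (hQ : Pol Q) (hm : 2 ≤ m) {Y : Subgroup (GG m F)} (hY : TrF Y Q) {σ : Perm (VV m F)}
    {τ : F ≃+* F} (h : IsSemi σ τ 1) (h1 : ∀ v, Q (σ v) = τ (Q v)) (h3 : ∀ y ∈ Y, ∀ v, σ (y v) = y (σ v)) :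
    τ = RingEquiv.refl F := by
  have h4 : ∀ x, Q x = 0 → σ x = x := fun x hx => by
    obtain ⟨y, hy, e⟩ := trans h2 hQ hY (u := x) (hx ▸ t0_zero)
    refine sub_eq_zero.1 (eq_zero_of_ff fun v => ?_)
    obtain ⟨v, rfl⟩ := σ.surjective v
    have h5 := e (σ v)
    rw [← h3 y hy, h1, e, ad_apply, ad_apply, h1, map_add, map_mul, add_right_inj] at h5
    rw [map_sub, show ff m F (σ v) (σ x) = τ (ff m F v x) from (h.2.2 v x).trans (one_mul _), sq_inj h2 h5, sub_self]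
  obtain ⟨x, h0, hx⟩ := H955.exists_singular Q (by rw [finrank_VV]; omega)
  refine RingEquiv.ext fun c => smul_left_injective F h0 ?_
  have h5 := h4 (c • x) (by rw [QuadraticMap.map_smul, hx, smul_zero])
  rwa [h.2.1, h4 x hx] at h5

theorem sub_ne (h2 : (2 : F) = 0) (hQ : Pol Q) (hm : 3 ≤ m) {σ : Perm (VV m F)} {τ : F ≃+* F} (h : IsSemi σ τ 1)
    {u : VV m F} (h1 : ∀ v, Q (σ v) = τ (ad Q u v)) (h3 : ∀ g ∈ O Q, g u = u → ∀ v, σ (g v) = g (σ v)) :
    τ = RingEquiv.refl F := by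
  have h4 : ∀ w, Q w ≠ 0 → ff m F w u = 0 → ∃ l : F, σ w = l • w ∧ l * l * Q w = τ (Q w) := fun w hw k => by
    obtain ⟨v, hv⟩ := exists_ne (x := w) (by rintro rfl; exact hw (map_zero Q))
    have h5 := h3 _ (refl_mem_O hw) (by rw [refl_apply, hQ, k, mul_zero, zero_smul, sub_zero]) v
    rw [refl_apply, refl_apply, hQ w v, hv, mul_one, sub_eq_add_neg, ← neg_smul, h.1, h.2.1, sub_eq_add_neg, ← neg_smul,
      add_right_inj] at h5
    have h6 : τ (-(Q w)⁻¹) ≠ 0 := by simpa using hw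
    have h7 := (inv_smul_eq_iff₀ h6).2 h5.symm
    rw [smul_smul] at h7
    refine ⟨_, h7.symm, ?_⟩
    have h8 := h1 w
    rwa [← h7, QuadraticMap.map_smul, ad_apply, k, mul_zero, add_zero] at h8
  obtain ⟨x, h0, hx, h5⟩ := LieClassical.OrthFinite.exists_sing_perp (Q := Q) ![u] (by rw [finrank_VV]; omega)
  have h6 : ff m F x u = 0 := ff_symm ((hQ u x).symm.trans (h5 0))
  obtain ⟨w, hw, h7⟩ := exists_nonsing hQ (W := perp (Submodule.span F (Set.range ![u, x]))) (by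
    have := finrank_perp (Submodule.span F (Set.range ![u, x]))
    have := (finrank_range_le_card (R := F) ![u, x]).trans_eq (Fintype.card_fin 2)
    rw [Set.finrank] at this
    omega)
  have h8 : ff m F w u = 0 := ff_symm (hw u (Submodule.subset_span ⟨0, rfl⟩))
  have h9 : ff m F w x = 0 := ff_symm (hw x (Submodule.subset_span ⟨1, rfl⟩))
  obtain ⟨l, hl, e⟩ := h4 w h7 h8
  have h10 : ∀ c : F, τ c • σ x = (l * c) • x := fun c => by
    have h11 : Q (w + c • x) = Q w := by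
      rw [hQ.add, QuadraticMap.map_smul, hx, map_smul, h9, smul_zero, add_zero, smul_zero, add_zero]
    obtain ⟨l', hl', e'⟩ := h4 (w + c • x) (h11 ▸ h7) (by
      rw [map_add, map_smul, LinearMap.add_apply, LinearMap.smul_apply, h6, h8, smul_zero, add_zero])
    rw [h11, ← e] at e'
    rwa [sq_inj h2 (mul_right_cancel₀ h7 e'), h.1, h.2.1, hl, smul_add, add_right_inj, smul_smul] at hl'
  have h11 := h10 1
  rw [map_one, one_smul, mul_one] at h11
  have h12 : l ≠ 0 := by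
    rintro rfl
    exact h0 (σ.injective (by rw [h11, zero_smul, semi_zero h]))
  refine RingEquiv.ext fun c => mul_left_cancel₀ h12 (smul_left_injective F h0 ?_)
  have h13 := h10 c
  rwa [h11, smul_smul, mul_comm] at h13

end K4R

namespace K4R

open Rd

variable {m : ℕ} {F : Type} [Field F] {Ω : Type} [Fintype Ω] [DecidableEq Ω] [Fintype F] {X H T M S : Subgroup (Perm Ω)}
  (D : Fr m F X H T M S) (a : Ω) {Q : QuadraticForm F (VV m F)}

theorem fac {g : GG m F} (hg : g ∈ Sp m F) : ∃ s ∈ D.A, ∃ c ∈ D.C a, g = s * c := by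
  obtain ⟨t, ht, e⟩ := D.up.trans a (D.π ⟨g, hg⟩ a)
  obtain ⟨s, rfl⟩ := (D.soc t).1 (D.up.le ht)
  refine ⟨s, ⟨s, ht, rfl⟩, s.1⁻¹ * g, ⟨s⁻¹ * ⟨g, hg⟩, ?_, rfl⟩, by group⟩
  show D.π (s⁻¹ * ⟨g, hg⟩) a = a
  rw [map_mul, map_inv, Perm.mul_apply, ← e]
  exact (D.π s).symm_apply_apply a

theorem trF (h : D.Om Q) : TrF (D.C a) Q := fun g hg => by
  obtain ⟨s, hs, c, hc, e⟩ := fac D a (inv_mem hg)
  exact ⟨c⁻¹, inv_mem hc, s⁻¹, inv_mem (E_le_O (h.eqA ▸ hs)), by rw [← mul_inv_rev, ← e, inv_inv]⟩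

/-- primitivity of `H` -/
theorem prim {Y : Subgroup (Perm (VV m F))} (h1 : D.HH ⊓ D.BB a ≤ Y) (h2 : ¬ ∀ g ∈ D.A, pm g ∈ Y) {g : GG m F}
    (hg : g ∈ D.N) (hY : pm g ∈ Y) : g ∈ D.C a := by
  obtain ⟨hs, hg⟩ := (mem_pre D).1 hg
  obtain ⟨hL, hg⟩ := (mem_hat D).1 hg
  rcases (D.up.fac a).pr.eq_or_eq (c := H ⊓ (Y.subgroupOf D.L).map D.φ) (fun z hz => by
    obtain ⟨x, rfl⟩ := exists_phi D hz.2.1
    exact ⟨hz.1, x, h1 ⟨⟨x, hz.1, rfl⟩, ⟨x, hz.2.2, rfl⟩⟩, rfl⟩) inf_le_left with h | h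
  · exact (mem_pre D).2 ⟨hs, (mem_hat D).2 ⟨hL, (h.le ⟨hg, ⟨_, hL⟩, hY, rfl⟩).2.2⟩⟩
  · refine absurd (fun s hs => ?_) h2
    obtain ⟨h3, h4⟩ := (mem_hat D).1 ((mem_pre D).1 hs).2
    obtain ⟨y, hy, e⟩ := (h.ge (D.up.socH.le h4)).2
    have h5 : D.φ (y⁻¹ * ⟨_, h3⟩) = 1 := by rw [D.φ.map_mul, D.φ.map_inv, e, inv_mul_cancel]
    have h6 : (y⁻¹ * ⟨_, h3⟩ : D.L).1 ∈ Y := h1 ⟨⟨y⁻¹ * ⟨_, h3⟩, by
      rw [SetLike.mem_coe, mem_comap, h5]; exact one_mem _, rfl⟩, ⟨y⁻¹ * ⟨_, h3⟩, by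
      rw [SetLike.mem_coe, mem_comap, h5]; exact one_mem _, rfl⟩⟩
    simpa using Y.mul_mem hy h6

/-- the stabiliser in `O Q` of a totally isotropic subspace fixed by `H_a` -/
theorem mem_C (hm : 3 ≤ m) (h : D.Om Q) {W : Submodule F (VV m F)} (hW : Ti W) (h0 : W ≠ ⊥)
    (h1 : ∀ g ∈ D.HH ⊓ D.BB a, ∀ w ∈ W, g w ∈ W) {g : GG m F} (hg : g ∈ O Q) (h3 : ∀ w ∈ W, g w = w) : g ∈ D.C a :=
  prim D a (le_sw h1) (fun k => not_fix h.pol hm hW h0 fun s hs w hw => (k s (h.eqA ▸ hs) w).2 hw) (h.eqN ▸ hg)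
    (le_sw (Y := zpowers (pm g)) (fun x hx w hw => by
      rwa [show x w = w from smul_eq_self_of_mem_zpowers hx (show pm g • w = w from h3 w hw)]) (mem_zpowers _))

theorem pm_mem {g : GG m F} (hg : g ∈ D.C a) : pm g ∈ D.BB a := ((mem_pre D).1 hg).2

theorem C_le : D.C a ≤ Sp m F := fun _ hg => ((mem_pre D).1 hg).1

theorem semi_pm {g : GG m F} (hg : g ∈ Sp m F) : IsSemi (pm g) (RingEquiv.refl F) 1 :=
  ⟨g.map_add, g.map_smul, fun u v => (hg u v).trans (one_mul _).symm⟩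

/-- the permutations which keep a pair of sets of vectors -/
def sw2 (U W : Set (VV m F)) : Subgroup (Perm (VV m F)) where
  carrier := {g | (∀ v, (g v ∈ U ↔ v ∈ U) ∧ (g v ∈ W ↔ v ∈ W)) ∨ ∀ v, (g v ∈ U ↔ v ∈ W) ∧ (g v ∈ W ↔ v ∈ U)}
  one_mem' := Or.inl fun _ => ⟨Iff.rfl, Iff.rfl⟩
  mul_mem' := by
    rintro a b (h1 | h1) (h2 | h2)
    · exact Or.inl fun v => ⟨(h1 (b v)).1.trans (h2 v).1, (h1 (b v)).2.trans (h2 v).2⟩
    · exact Or.inr fun v => ⟨(h1 (b v)).1.trans (h2 v).1, (h1 (b v)).2.trans (h2 v).2⟩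
    · exact Or.inr fun v => ⟨(h1 (b v)).1.trans (h2 v).2, (h1 (b v)).2.trans (h2 v).1⟩
    · exact Or.inl fun v => ⟨(h1 (b v)).1.trans (h2 v).2, (h1 (b v)).2.trans (h2 v).1⟩
  inv_mem' := by
    rintro a (h1 | h1)
    · refine Or.inl fun v => ?_
      have h := h1 (a⁻¹ v)
      rw [show a (a⁻¹ v) = v from a.apply_symm_apply v] at h
      exact ⟨h.1.symm, h.2.symm⟩
    · refine Or.inr fun v => ?_
      have h := h1 (a⁻¹ v)
      rw [show a (a⁻¹ v) = v from a.apply_symm_apply v] at h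
      exact ⟨h.2.symm, h.1.symm⟩

theorem iff_of_maps {g : Perm (VV m F)} {U W : Submodule F (VV m F)} (h : finrank F U = finrank F W)
    (h1 : ∀ u ∈ U, g u ∈ W) (v : VV m F) : g v ∈ W ↔ v ∈ U := by
  have h2 : g '' U = W := Set.eq_of_subset_of_ncard_le (by rintro _ ⟨u, hu, rfl⟩; exact h1 u hu) (by
    rw [Set.ncard_image_of_injective _ g.injective]
    exact le_of_eq (show Nat.card W = Nat.card U by
      rw [Module.natCard_eq_pow_finrank (K := F) (V := W), Module.natCard_eq_pow_finrank (K := F) (V := U), h]))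
  rw [← SetLike.mem_coe, ← h2]
  exact g.injective.mem_set_image

end K4R

open K4R Rd

theorem boxK4Red : BoxK4Red := fun m F _ _ Ω _ _ X H T M S D a hm Q h W hW => by
  by_contra! h0
  obtain ⟨W', -, h1, h3, h4 | h4, h5, e⟩ := redC D a h0.1 h0.2 hW
  · obtain ⟨g, hg, h6, h7⟩ := exists_refl h.two h.pol (by omega) (trF D a h) h4 h1 e.le
    refine h7 (e.le (mem_C D a hm h (W := zs h.pol h4) (fun u hu w hw => h4 u hu.1 w hw.1)
      (zs_ne h.two h.pol (by omega) (trF D a h) h4 h1 e.le) (fun x hx w hw => ⟨h5 x hx.2 w hw.1, ?_⟩) hg h6))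
    obtain ⟨σ, l, -, h8⟩ := hat_le D hx.1
    rw [h.sem x hx.1 σ l h8, hw.2, map_zero, mul_zero]
  · exact not_nd h.two h.pol (trF D a h) h4 h1 h3 e.le

theorem boxDecT : BoxDecT := fun m F _ _ Y Q t k U hm h2 hQ _ ht h => not_dec hm h2 hQ ht h

theorem boxK4Dec : BoxK4Dec := fun m F _ _ Ω _ _ X H T M S D a hm Q h U W hU hW hc h1 h3 => by
  have h4 : D.BB a ≤ sw2 U W := fun g hg => (h3 g hg).imp
    (fun k v => ⟨iff_of_maps rfl k.1 v, iff_of_maps rfl k.2 v⟩)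
    fun k v => ⟨iff_of_maps (hW.trans hU.symm) k.2 v, iff_of_maps (hU.trans hW.symm) k.1 v⟩
  rcases h1 with ⟨h1, rfl⟩ | ⟨h1, h5⟩
  · have h0 : U ≠ ⊥ := by
      rintro rfl
      rw [finrank_bot] at hU
      omega
    have h5 : U ≠ ⊤ := by
      rintro rfl
      rw [finrank_top, finrank_VV] at hU
      omega
    have e : D.C a = NW U (perp U) := Subgroup.ext fun g => (mem_pre D).trans (and_congr_right fun hg =>
      ⟨fun k => h4 k, stabB D a h4 (fun k => ?_) (D.sp g hg)⟩)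
    · exact .inr ⟨Q, U, h, not_plus h.two h.pol (trF D a h) h1 h0 h5 e.le, hU, h1, e⟩
    obtain ⟨u, hu, hu0⟩ := U.exists_mem_ne_zero_of_ne_bot h0
    obtain ⟨w, hw, hw0⟩ := (perp U).exists_mem_ne_zero_of_ne_bot (perp_ne_bot h5)
    have h6 : u + w ∉ U := fun e => hw0 (Submodule.disjoint_def.1 hc.disjoint w ((U.add_mem_iff_right hu).1 e) hw)
    have h7 : u + w ∉ perp U := fun e => hu0 (Submodule.disjoint_def.1 hc.disjoint u hu (((perp U).add_mem_iff_left hw).1 e))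
    obtain ⟨s, hs, e⟩ := sp_trans hu0 (y := u + w) fun e => h6 (e ▸ U.zero_mem)
    rcases k s hs with k | k
    · exact h6 (e ▸ (k u).1.2 hu)
    · exact h7 (e ▸ (k u).2.2 hu)
  · obtain ⟨Q', h6, h7⟩ := exists_form h.two hc h1 h5
    refine .inl ⟨h.two, Q', h6, fun g hg v => ?_⟩
    obtain ⟨u, hu, w, hw, rfl⟩ : ∃ u ∈ U, ∃ w ∈ W, u + w = v := Submodule.mem_sup.1 (hc.sup_eq_top ▸ Submodule.mem_top)
    rw [h7 u hu w hw, map_add]
    rcases h3 _ (pm_mem D a hg) with k | k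
    · exact (h7 _ (k.1 u hu) _ (k.2 w hw)).trans (C_le D a hg u w)
    · rw [add_comm]
      exact (h7 _ (k.2 w hw) _ (k.1 u hu)).trans ((C_le D a hg w u).trans (ff_comm h.two w u))

theorem boxK4Sub : BoxK4Sub := fun m F _ _ Ω _ _ X H T M S D a hm Q h σ τ h0 hs k => by
  obtain ⟨u, hu⟩ := exists_tw h.two h.pol hs
  have h1 : ∀ g ∈ D.C a, ∀ v, σ (g v) = g (σ v) := fun g hg v =>
    congrArg (fun x : Perm (VV m F) => x v) (k _ (pm_mem D a hg) _ (semi_pm (C_le D a hg)))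
  rcases eq_or_ne u 0 with rfl | h3
  · exact h0 (sub_zero' h.two h.pol (by omega) (trF D a h) hs (by simpa only [ad_zero] using hu) h1)
  refine h0 (sub_ne h.two h.pol hm hs hu fun g hg e => h1 g (mem_C D a hm h (W := Submodule.span F {u}) ?_
    (by simpa using h3) ?_ hg ?_))
  · intro x hx y hy
    obtain ⟨c, rfl⟩ := Submodule.mem_span_singleton.1 hx
    obtain ⟨d, rfl⟩ := Submodule.mem_span_singleton.1 hy
    simp only [map_smul, LinearMap.smul_apply, Rd.ff_self, smul_zero]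
  · intro x hx y hy
    obtain ⟨d, rfl⟩ := Submodule.mem_span_singleton.1 hy
    obtain ⟨ρ, l, hl, h4⟩ := hat_le D hx.1
    obtain ⟨c, hc⟩ := exists_sqrt h.two l⁻¹
    have hc0 : c ≠ 0 := by
      rintro rfl
      exact inv_ne_zero hl (by simpa using hc.symm)
    obtain ⟨s, hsL, h5⟩ := D.sc c hc0
    have h6 : D.φ ⟨s, hsL⟩ = 1 := (D.ker _).2 ⟨c, h5⟩
    have h7 : s * x ∈ D.HH ⊓ D.BB a :=
      mul_mem ⟨(mem_hat D).2 ⟨hsL, h6 ▸ one_mem _⟩, (mem_hat D).2 ⟨hsL, h6 ▸ one_mem _⟩⟩ hx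
    have h8 : IsSemi (s * x) ρ 1 := ⟨fun a b => by simp only [Perm.mul_apply, h5, h4.1, smul_add],
      fun a b => by simp only [Perm.mul_apply, h5, h4.2.1, smul_comm c], fun a b => by
        show ff m F (s (x a)) (s (x b)) = _
        rw [h5, h5, map_smul, map_smul, LinearMap.smul_apply, show ff m F (x a) (x b) = _ from h4.2.2 a b, smul_eq_mul,
          smul_eq_mul, ← mul_assoc, hc, ← mul_assoc, inv_mul_cancel₀ hl]⟩
    have h9 : ∀ v, σ ((s * x) v) = (s * x) (σ v) := fun v => congrArg (fun x : Perm (VV m F) => x v) (k _ h7.2 ρ h8)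
    have h10 : ∀ c, τ (ρ c) = ρ (τ c) := fun c => smul_left_injective F (semi_ne ⟨τ, 1, one_ne_zero, hs⟩
      (semi_ne (hat_le D h7.1) h3)) (by
        have h11 := h9 (c • u)
        rwa [h8.2.1, hs.2.1, hs.2.1, h8.2.1, ← h9] at h11)
    have h11 : (s * x) u = u := sub_eq_zero.1 (eq_zero_of_ff fun v => by
      obtain ⟨v, rfl⟩ := (s * x).surjective v
      have h12 := hu ((s * x) v)
      rw [h9, h.sem _ h7.1 ρ 1 h8, hu, one_mul, ← h10, τ.injective.eq_iff, ad_apply, ad_apply, h.sem _ h7.1 ρ 1 h8, one_mul,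
        map_add, add_right_inj, map_mul] at h12
      rw [map_sub, show ff m F ((s * x) v) ((s * x) u) = ρ (ff m F v u) from (h8.2.2 v u).trans (one_mul _),
        sq_inj h.two h12, sub_self])
    rw [Perm.mul_apply, h5] at h11
    rw [h4.2.1, ← (inv_smul_eq_iff₀ hc0).2 h11.symm]
    exact Submodule.smul_mem _ _ (Submodule.smul_mem _ _ (Submodule.mem_span_singleton_self u))
  · intro y hy
    obtain ⟨d, rfl⟩ := Submodule.mem_span_singleton.1 hy
    rw [map_smul, e]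

end Cfsg.Agent.SM.Sy
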