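import Cfsg.Agent.SM.Sy.G6L
import Cfsg.Agent.SM.Sy.G6U
import Cfsg.Agent.SM.Sy.Asch
import Cfsg.Agent.SM.Sy.K3s
import Cfsg.Agent.SM.Sy.K4R
import Cfsg.Agent.SM.Sy.CLcA
import Cfsg.Agent.SM.Sy.Glue
import Cfsg.Agent.H96.Rg.SixRes
import Cfsg.Agent.H488.PsuTwo
import Cfsg.Agent.S0302
import Cfsg.Agent.S0303

/-!
# SM (S3570), `T = Ω₆^±(q)`, `S_a` residual in `Sp₆(q)` : `boxK4g : BoxK4g`, `sig7 : Sig7` (helper74)
-/

set_option autoImplicit false
set_option linter.unusedSectionVars false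
set_option linter.unusedVariables false

namespace Cfsg.Agent.SM.Sy

open Cfsg Cfsg.Geo Equiv Subgroup Module MulAction
open Cfsg.Agent.LieClassical.OrthCore (O E)
open Cfsg.Agent.H955 (IsPlus)

namespace G6

theorem exists_ab (K : Type) [Field K] [Finite K] :
    ∃ a b : K, ∀ z₁ z₂ : K, z₁ ^ 2 + a * z₁ * z₂ + b * z₂ ^ 2 = 0 → z₁ = 0 ∧ z₂ = 0 := by
  have h1 : ¬ Function.Surjective (fun x : K => x ^ 2 - x) := fun h =>
    zero_ne_one ((Finite.injective_iff_surjective (f := fun x : K => x ^ 2 - x)).2 h (by simp : (0 : K) ^ 2 - 0 = 1 ^ 2 - 1))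
  obtain ⟨c, hc⟩ := not_forall.1 h1
  refine ⟨-1, -c, fun z₁ z₂ h => ?_⟩
  have h2 : z₂ = 0 := by
    by_contra h0
    refine hc ⟨z₁ / z₂, ?_⟩
    simp only
    field_simp
    linear_combination h
  rw [h2] at h
  exact ⟨pow_eq_zero_iff two_ne_zero |>.1 (by linear_combination h), h2⟩

/-- a small subgroup of `U₃(3).2` of order divisible by 27 -/
theorem syl_one {Γ Z : Type} [Group Γ] [Finite Γ] [Group Z] [Finite Z] [Fact (Nat.Prime 3)] {C P : Subgroup Γ} (h : AS C P)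
    (hi : Nat.card C ∣ Nat.card P * 2) (ti : ∀ R R' : Sylow 3 P, R ≠ R' → (R : Subgroup P) ⊓ R' = ⊥) (ι : Z →* Γ)
    (hι : Function.Injective ι) (hC : ∀ z, ι z ∈ C) (h1 : 3 ^ 3 ∣ Nat.card Z) (h2 : Nat.card Z ≤ 216) :
    Nat.card (Sylow 3 Z) = 1 := by
  have hN : (P.subgroupOf C).Normal := ⟨fun x hx g => h.conj g g.2 x hx⟩
  have h3 : (P.subgroupOf C).index ∣ 2 := by
    rw [← card_mul_relIndex' h.le] at hi
    exact Nat.dvd_of_mul_dvd_mul_left Nat.card_pos hi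
  have key : ∀ R : Sylow 3 Z, ∃ R' : Sylow 3 P, (R : Subgroup Z) = ((R' : Subgroup P).map P.subtype).comap ι := fun R => by
    obtain ⟨R', hR⟩ := ((R.isPGroup'.map ι).comap_subtype (K := P)).exists_le_sylow
    refine ⟨R', (R.is_maximal' ((R'.isPGroup'.map _).comap_of_injective ι hι) fun x hx => ?_).symm⟩
    obtain ⟨k, hk⟩ := R.isPGroup' ⟨x, hx⟩
    obtain ⟨j, hj⟩ : Odd (3 ^ k) := Odd.pow (by decide)
    obtain ⟨c, hc⟩ := h3
    have h4 : ι x ^ 2 ∈ P := by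
      rw [hc, pow_mul]
      exact P.pow_mem ((P.subgroupOf C).pow_index_mem ⟨ι x, hC x⟩) c
    have h5 : ι x ^ (2 * j + 1) = 1 := by
      rw [← hj, ← map_pow, show x ^ 3 ^ k = 1 from congrArg Subtype.val hk, map_one]
    rw [pow_succ, pow_mul, mul_eq_one_iff_inv_eq] at h5
    have h6 : ι x ∈ P := h5 ▸ P.inv_mem (P.pow_mem h4 j)
    exact ⟨⟨ι x, h6⟩, hR ⟨x, hx, rfl⟩, rfl⟩
  refine Nat.card_eq_one_iff_unique.2 ⟨⟨fun R₁ R₂ => ?_⟩, inferInstance⟩
  obtain ⟨S₁, e₁⟩ := key R₁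
  obtain ⟨S₂, e₂⟩ := key R₂
  by_cases e : S₁ = S₂
  · exact Sylow.ext (by rw [e₁, e₂, e])
  exfalso
  have h4 : (R₂ : Subgroup Z) ⊓ R₁ = ⊥ := by
    rw [e₁, e₂, ← comap_inf, ← map_inf _ _ _ P.subtype_injective, ti _ _ (Ne.symm e), Subgroup.map_bot, MonoidHom.comap_bot,
      (MonoidHom.ker_eq_bot_iff ι).2 hι]
  have h5 := Fac.card_mul (R₂ : Subgroup Z) R₁
  rw [h4, card_bot, one_mul] at h5
  have h6 := relIndex_le_of_le_right (H := (R₁ : Subgroup Z)) (le_top (a := (R₂ : Subgroup Z))) index_ne_zero_of_finite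
  rw [relIndex_top_right, h5] at h6
  have h7 := Nat.mul_le_mul (Nat.le_of_dvd Nat.card_pos (R₁.pow_dvd_card_of_pow_dvd_card h1))
    ((Nat.le_of_dvd Nat.card_pos (R₂.pow_dvd_card_of_pow_dvd_card h1)).trans h6)
  rw [card_mul_index] at h7
  omega

variable {Ω : Type} [Fintype Ω] [DecidableEq Ω] {m : ℕ} {F : Type} [Field F] [Fintype F] {X H T M S : Subgroup (Perm Ω)}

/-- the intersection of `T` with an overgroup of `S_a` -/
theorem exists_Z (D : Fr m F X H T M S) (a : Ω) (h2 : (2 : F) = 0) {Y : Subgroup (GG m F)} (h1 : D.C a ≤ Y) (h3 : Y ≤ Sp m F) :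
    ∃ Z, T ⊓ (M ⊓ stabilizer (Perm Ω) a) ≤ Z ∧ Z ≤ T ∧ Nat.card Z * Z.relIndex T = Nat.card T ∧
      Nat.card (Sp m F) = Z.relIndex T * Nat.card Y := by
  have := finite_GG (m := m) (F := F)
  set Z := T ⊓ (Y.subgroupOf (Sp m F)).map D.π with hZ
  have h4 : D.pre ((Y.subgroupOf (Sp m F)).map D.π) = Y := by
    rw [Fr.pre, comap_map_eq_self_of_injective (D.π_injective h2), map_subgroupOf_eq_of_le h3]
  have h5 := D.card_pre (Y := Z) (inf_le_left.trans D.up.le)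
  rw [D.card_ker_two h2, mul_one, hZ, D.pre_inf, h4, ← hZ] at h5
  have h6 := CLc.card_fac (X := D.A) (Y := Y) D.pre_le h3 fun g hg => by
    obtain ⟨x, hx, y, hy, e⟩ := D.fac a hg
    exact ⟨x, hx, y, h1 hy, e⟩
  have h7 := card_mul_relIndex' (inf_le_left : Z ≤ T)
  refine ⟨Z, fun x hx => ⟨hx.1, ?_⟩, inf_le_left, h7, ?_⟩
  · obtain ⟨g, rfl⟩ := D.π_surj (D.up.le hx.1)
    exact ⟨g, h1 ((D.mem_C g).2 hx.2.2), rfl⟩
  · rw [h5, D.card_A_two h2, ← h7, mul_comm, mul_assoc] at h6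
    exact Nat.eq_of_mul_eq_mul_left Nat.card_pos h6

theorem card_plus (D : Fr 3 F X H T M S) {Q : QuadraticForm F (VV 3 F)} (hQ : D.Om Q) (hP : IsPlus Q) :
    Nat.card T = Fintype.card F ^ 6 * (Fintype.card F ^ 3 - 1) * ((Fintype.card F ^ 2 - 1) * (Fintype.card F ^ 4 - 1)) := by
  rw [← D.card_A_two hQ.two, hQ.eqA, card_E_plus hQ.two hQ.pol D.two hP]
  simp [oP, Finset.prod_range_succ]

theorem card_minus (D : Fr 3 F X H T M S) {Q : QuadraticForm F (VV 3 F)} (hQ : D.Om Q) (hP : ¬ IsPlus Q) :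
    Nat.card T = Fintype.card F ^ 6 * (Fintype.card F ^ 3 + 1) * ((Fintype.card F ^ 2 - 1) * (Fintype.card F ^ 4 - 1)) := by
  rw [← D.card_A_two hQ.two, hQ.eqA, card_E_minus hQ.two hQ.pol D.two hP]
  simp [oM, Finset.prod_range_succ]

theorem card_six : Nat.card (Sp 3 F) =
    Fintype.card F ^ 9 * ((Fintype.card F ^ 2 - 1) * (Fintype.card F ^ 4 - 1) * (Fintype.card F ^ 6 - 1)) := by
  rw [card_Sp]
  simp [oSp, Finset.prod_range_succ]

theorem iso_L (D : Fr 3 F X H T M S) {Q : QuadraticForm F (VV 3 F)} (hQ : D.Om Q) (hP : IsPlus Q) :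
    Nonempty (T ≃* Matrix.ProjectiveSpecialLinearGroup (Fin 4) F) := by
  obtain ⟨-, -, ψ, -⟩ := iso_plus hQ.two hQ.pol D.two (Or.inl le_rfl) hP
  obtain ⟨e⟩ := S0302.result (F := F)
  exact ⟨(((D.isoA hQ.two).symm.trans (MulEquiv.subgroupCongr hQ.eqA)).trans ψ).trans e⟩

/-- a maximal overgroup of `S_a` is residual -/
theorem res_max (D : Fr 3 F X H T M S) (a : Ω) {Q : QuadraticForm F (VV 3 F)} (hQ : D.Om Q) (hR : Res (D.C a))
    {Y : Subgroup (GG 3 F)} (h1 : D.C a ≤ Y) (hY : Y ⋖ Sp 3 F) : Res Y := by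
  rcases boxAsch 3 F Y D.two D.ex hQ.two hY.le hY.ne with ⟨W, h2, h3, h⟩ | ⟨t, k, U, ht, h⟩ | ⟨s, K, h2, h⟩ | h | ⟨Q', h2, h⟩ | h
  · exact (hR.not_red ⟨W, h2, h3, fun g hg => h g (h1 hg)⟩).elim
  · exfalso
    rcases ht.eq_or_lt with rfl | h3
    · have h2 := CLb.dec_dim h Finset.univ
      rw [Finset.sup_univ_eq_iSup, h.2.2.1, finrank_top, finrank_VV, Finset.card_univ, Fintype.card_fin] at h2
      obtain ⟨c, hc⟩ := (h.1 0).1.even hQ.two
      rw [(h.1 0).2] at hc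
      omega
    · exact boxDecT 3 F Y Q t k U D.one hQ.two hQ.pol hY.le h3 h
        ((D.trF_C a (hQ.eqA.le.trans LieClassical.OrthCore.E_le_O)).mono h1)
  · exact (hR.not_NE D.one h2 (h1.trans h)).elim
  · exact (hR.not_sub (h.mono h1)).elim
  · exact (hR.not_O h2 (h1.trans h)).elim
  · exact h

/-- `q ≥ 4` -/
theorem big (D : Fr 3 F X H T M S) (a : Ω) {Q : QuadraticForm F (VV 3 F)} (hQ : D.Om Q) (hR : Res (D.C a)) :
    Fintype.card F = 2 := by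
  have := finite_GG (m := 3) (F := F)
  have hc := charP_two hQ.two
  obtain ⟨⟨f, hf⟩, -, hF⟩ := FiniteField.card F 2
  replace hF : Fintype.card F = 2 ^ f := hF
  by_contra hq
  have hf2 : 2 ≤ f := by
    by_contra h
    obtain rfl : f = 1 := by omega
    exact hq hF
  have h4 : 2 ^ 2 ≤ 2 ^ f := Nat.pow_le_pow_right (by norm_num) hf2
  obtain ⟨Y, h1, hY⟩ := exists_le_covBy_of_lt (lt_of_le_of_ne D.pre_le (D.C_ne a))
  obtain ⟨P, p, hP, -, hp, h⟩ := S5806.result _ (CLb.maxIn hY) (res_max D a hQ hR h1 hY)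
  obtain rfl : p = 2 := CharP.eq F hp hc
  have h9 : Fintype.card F ≠ 9 := fun e => by
    have h5 : 2 ∣ Fintype.card F := hF ▸ dvd_pow_self 2 hf.ne'
    omega
  obtain ⟨b, ⟨ε⟩⟩ := K34s.core D.one hQ.two hY.le hP
  obtain ⟨e⟩ : Nonempty ((P ⧸ (scalars (Fin 3 ⊕ Fin 3) F).subgroupOf P) ≃* Lie.G2 F) := by
    rcases h with h | h | h | h | h | h | h | h
    iterate 7 omega
    exact h.1
  have h5 := (K34s.as_dvd b (ε.trans e)).trans (H96.Rg.aut_g2 hf2 hF)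
  obtain ⟨d, hd⟩ := card_dvd_of_le b.le
  rw [Nat.card_congr (ε.trans e).toEquiv, H638.G2Iso.card_G2, Nat.card_eq_fintype_card (α := F), hF] at hd
  have p2 : 0 < (2 ^ f) ^ 2 - 1 := Nat.sub_pos_of_lt (Nat.one_lt_pow (by norm_num) (by omega))
  have p4 : 0 < (2 ^ f) ^ 4 - 1 := Nat.sub_pos_of_lt (Nat.one_lt_pow (by norm_num) (by omega))
  have p6 : 0 < (2 ^ f) ^ 6 - 1 := Nat.sub_pos_of_lt (Nat.one_lt_pow (by norm_num) (by omega))
  have p0 : 0 < (2 ^ f) ^ 6 * ((2 ^ f) ^ 2 - 1) * ((2 ^ f) ^ 6 - 1) := by positivity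
  rw [hd] at h5
  have h6 : d ≤ f := Nat.le_of_dvd hf (Nat.dvd_of_mul_dvd_mul_left p0 h5)
  obtain ⟨Z, z1, z2, z3, z4⟩ := exists_Z D a hQ.two h1 hY.le
  have h7 : d * Z.relIndex T = (2 ^ f) ^ 3 * ((2 ^ f) ^ 4 - 1) := by
    rw [card_six, hF, hd] at z4
    exact Nat.eq_of_mul_eq_mul_left p0 (by linear_combination z4.symm)
  have h8 : ∀ c, Nat.card T = (2 ^ f) ^ 6 * c * (((2 ^ f) ^ 2 - 1) * ((2 ^ f) ^ 4 - 1)) →
      (2 ^ f) ^ 3 * c * ((2 ^ f) ^ 2 - 1) ∣ Nat.card Z := fun c h => ⟨d, Nat.eq_of_mul_eq_mul_left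
    (show 0 < (2 ^ f) ^ 3 * ((2 ^ f) ^ 4 - 1) by positivity) (by
      rw [h] at z3
      linear_combination d * z3 + Nat.card Z * h7.symm)⟩
  by_cases hP : IsPlus Q
  · obtain ⟨e'⟩ := iso_L D hQ hP
    exact killL (D.up.fac a) hf2 hF e' z1 z2 h6 (h8 _ (hF ▸ card_plus D hQ hP)) h7
  · have : Fact (Nat.Prime 2) := ⟨Nat.prime_two⟩
    let _ := Fintype.ofFinite (GaloisField 2 (f * 2))
    have hK : Fintype.card (GaloisField 2 (f * 2)) = (2 ^ f) ^ 2 := by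
      rw [← Nat.card_eq_fintype_card, GaloisField.card 2 _ (by omega), pow_mul]
    obtain ⟨x, y, hxy⟩ := exists_ab F
    obtain ⟨-, -, ψ, -⟩ := iso_minus hQ.two hQ.pol D.two (Or.inl le_rfl) hP hxy
    obtain ⟨e'⟩ := S0303.result hF hK x y hxy
    exact killU (D.up.fac a) hf2 hK ((((D.isoA hQ.two).symm.trans (MulEquiv.subgroupCongr hQ.eqA)).trans ψ).trans e') z1 z2 h6
      (((Dvd.intro_left _ rfl).mul_right _).trans (h8 _ (hF ▸ card_minus D hQ hP))) h7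

end G6

open G6 in
theorem boxK4g : BoxK4g := by
  rintro m F _ _ Ω _ _ X H T M S D a rfl Q hQ hR
  have := finite_GG (m := 3) (F := F)
  have hq := big D a hQ hR
  have hY := D.maxC hq a
  obtain ⟨P, p, hP, -, hp, h⟩ := S5806.result _ (CLb.maxIn hY) hR
  obtain rfl := CLb.p_eq hq hp
  obtain ⟨b, ⟨ε⟩⟩ := K34s.core D.one hQ.two hY.le hP
  obtain ⟨K, _, _, hK, ⟨e⟩⟩ : ∃ (K : Type) (_ : Field K) (_ : Fintype K), Fintype.card K = 9 ∧
      Nonempty ((P ⧸ (scalars (Fin 3 ⊕ Fin 3) F).subgroupOf P) ≃* PSU 3 K 3) := by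
    rw [hq] at h
    rcases h with h | h | h | h | h | h | h | h
    iterate 4 omega
    · exact h.1
    all_goals omega
  have h1 := K34s.ty3 hq hY hR b
  have h2 := CLb.res3 hq hY hR
  obtain ⟨d, hd⟩ := card_dvd_of_le b.le
  rw [h1] at hd
  have h3 : d = 1 ∨ d = 2 := (Nat.dvd_prime Nat.prime_two).1
    (Nat.dvd_of_mul_dvd_mul_left (by norm_num : 0 < 6048) (hd ▸ h2))
  have f := D.up.fac a
  have h4 := D.card_C a
  rw [card_six, hq, hd] at h4
  have h5 := Fac.card_mul T (M ⊓ stabilizer (Perm Ω) a)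
  have h6 := D.up.relIndex a
  rw [h6] at h5
  by_cases hp : IsPlus Q
  · refine ⟨rfl, hq, ⟨Q, hQ, hp⟩, hR, ?_⟩
    rcases h3 with rfl | rfl
    · rw [card_plus D hQ hp, hq, show Fintype.card Ω = 240 by omega] at h5
      have h7 := f.syl_num 7 0 12 (by norm_num) (by omega) (by norm_num) (by decide)
      omega
    · exact hd
  · exfalso
    have : Fact (Nat.Prime 3) := ⟨Nat.prime_three⟩
    have : CharP K 3 := charP_of_card_eq_prime_pow (f := 2) hK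
    rw [card_minus D hQ hp, hq] at h5
    have h7 : T ⊓ (M ⊓ stabilizer (Perm Ω) a) ≤ S := inf_le_left.trans D.up.le
    have h8 : (Fintype.card Ω = 240 ∧ Nat.card ↥(T ⊓ (M ⊓ stabilizer (Perm Ω) a)) = 108) ∨
        (Fintype.card Ω = 120 ∧ Nat.card ↥(T ⊓ (M ⊓ stabilizer (Perm Ω) a)) = 216) := by
      rcases h3 with rfl | rfl
      · rw [show Fintype.card Ω = 240 by omega] at h5
        omega
      · rw [show Fintype.card Ω = 120 by omega] at h5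
        omega
    have h9 := f.syl (p := 3) (by omega) (syl_one b (by rw [h1]; exact h2) (H488.PsuTwo.ti hK (ε.trans e))
      ((D.pre _).subtype.comp (D.isoPre hQ.two h7).symm.toMonoidHom)
      ((D.pre _).subtype_injective.comp (D.isoPre hQ.two h7).symm.injective)
      (fun z => D.pre_mono (inf_le_right.trans inf_le_right) ((D.isoPre hQ.two h7).symm z).2) (by omega) (by omega))
    rw [h6, Nat.ModEq] at h9
    omega

theorem sig7 : Sig7 := by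
  rintro m F _ _ Ω _ _ X H T M S D a ⟨rfl, hq, ⟨Q, hQ, hp⟩, -, h⟩
  have h1 := D.card_C a
  rw [G6.card_six, hq, h] at h1
  exact ⟨by rw [G6.card_plus D hQ hp, hq]; norm_num, by omega⟩

end Cfsg.Agent.SM.Sy
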