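import Cfsg.Agent.SM.Sy.CLa1
import Cfsg.Agent.SM.Sy.FormB

/-!
# SM (S3570), symplectic socles: the four cases for `m ≥ 5` (helper92)
-/

set_option autoImplicit false
set_option linter.unusedSectionVars false
set_option linter.unusedVariables false

namespace Cfsg.Agent.SM.Sy

open Cfsg Equiv Subgroup Module QuadraticMap
open Cfsg.Agent.H925.Rs (RedG OmE)
open Cfsg.Agent.LieClassical.OrthCore (O E)

variable {Ω : Type} [Fintype Ω] [DecidableEq Ω] {m : ℕ} {F : Type} [Field F] [Fintype F] {X H T M S : Subgroup (Perm Ω)}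

namespace CLa

theorem pr (D : Fr m F X H T M S) (a : Ω) : Pr D.A (D.C a) := ⟨D.pre_le, D.pre_le, D.A_ne, D.C_ne a, fun _ hg => D.fac a hg⟩

theorem om {Z : Subgroup (GG m F)} (hm : 3 ≤ m) (hZ : Z ≤ Sp m F) (hn : Z ≠ Sp m F) (h : OmE (ff m F) Z) :
    (2 : F) = 0 ∧ ∃ Q, Pol Q ∧ Z ≤ O Q := by
  obtain ⟨h2, Q, hQ, h⟩ := h
  exact ⟨h2, Q, hQ, (over_E h2 hQ hm h hZ).resolve_right hn⟩

/-- `A` fixes no subspace of a plane which contains all small invariant subspaces -/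
theorem not_redA (D : Fr m F X H T M S) {U W : Submodule F (VV m F)} (hU : finrank F U = 2) (hm : 2 ≤ m → U ≠ ⊤) (h0 : W ≠ ⊥)
    (hW : W ≤ U) (h : ∀ g ∈ D.A, ∀ w ∈ W, g w ∈ W)
    (hle : ∀ W : Submodule F (VV m F), finrank F W ≤ 2 → (∀ g ∈ D.A, ∀ w ∈ W, g w ∈ W) → W ≤ U) : False := by
  let P : Set (VV m F) := {v | ∃ b : Fin 2 → VV m F, ∀ x ∈ D.A, x v ∈ Submodule.span F (Set.range b)}
  have semi : ∀ g ∈ D.HH, ∀ s t : Set (VV m F), (∀ v ∈ s, g v ∈ Submodule.span F t) → ∀ v ∈ Submodule.span F s,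
      g v ∈ Submodule.span F t := fun g hg s t hs v hv => by
    obtain ⟨σ, l, -, k⟩ := D.semi (D.hat_le hg)
    induction hv using Submodule.span_induction with
    | mem v hv => exact hs v hv
    | zero => rw [IsSemi.zero k]; exact Submodule.zero_mem _
    | add u v _ _ hu hv => rw [k.1]; exact Submodule.add_mem _ hu hv
    | smul c v _ hv => rw [k.2.1]; exact Submodule.smul_mem _ _ hv
  have hP : Submodule.span F P ≤ U := Submodule.span_le.2 (by
    rintro v ⟨b, hb⟩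
    refine hle (Submodule.span F {w | ∃ x ∈ D.A, x v = w}) ?_ (fun g hg w hw => ?_) (Submodule.subset_span ⟨1, one_mem _, rfl⟩)
    · refine (Submodule.finrank_mono (Submodule.span_le.2 ?_)).trans ((finrank_range_le_card b).trans (Fintype.card_fin 2).le)
      rintro _ ⟨x, hx, rfl⟩
      exact hb x hx
    · refine semi (pm g) (D.pm_mem (D.A_le_N hg)) _ _ ?_ w hw
      rintro _ ⟨x, hx, rfl⟩
      exact Submodule.subset_span ⟨g * x, mul_mem hg hx, rfl⟩)
  rcases redH D (Submodule.span F P) (fun g hg => semi g hg _ _ (by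
    rintro v ⟨b, hb⟩
    refine Submodule.subset_span ⟨g ∘ b, fun x hx => ?_⟩
    obtain ⟨y, hy, e⟩ := D.conj_A (inv_mem hg) hx
    have h1 : x (g v) = g (y v) := by
      have h2 : y v = g⁻¹ (x (g⁻¹⁻¹ v)) := congrArg (fun z : Perm (VV m F) => z v) e
      rw [h2, inv_inv, ClassicalGeometry.SympAutSemi.perm_apply_inv_self]
    rw [h1]
    refine semi g hg _ _ ?_ _ (hb y hy)
    rintro _ ⟨i, rfl⟩
    exact Submodule.subset_span ⟨i, rfl⟩)) with k | k
  · refine h0 (eq_bot_iff.2 fun w hw => k.le (Submodule.subset_span ?_))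
    let b := Module.finBasisOfFinrankEq F U hU
    refine ⟨fun i => b i, fun x hx => ?_⟩
    have h1 := Submodule.mem_map_of_mem (f := U.subtype) (b.mem_span ⟨x w, hW (h x hx w hw)⟩)
    rwa [Submodule.map_span, ← Set.range_comp] at h1
  · exact hm D.two (top_le_iff.1 (k.ge.trans hP))

theorem goodA (D : Fr m F X H T M S) (hm : 3 ≤ m) (h : Good D.A) : D.C4 := by
  rcases h with h | ⟨h, h'⟩
  · exact om hm D.pre_le D.A_ne h
  · obtain ⟨U, hU, -, ⟨W, h0, hW, h1⟩, h2⟩ := red D.pre_le hm h h'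
    refine (not_redA D hU (fun _ k => ?_) h0 hW h1 h2).elim
    rw [k, finrank_top, finrank_VV] at hU
    omega

theorem goodC (D : Fr m F X H T M S) (a : Ω) (hm : 3 ≤ m) (h : Good (D.C a)) : D.C1 a ∨ D.C2 a ∨ D.C3 a := by
  rcases h with h | ⟨h, h'⟩
  · exact Or.inr (Or.inr (om hm D.pre_le (D.C_ne a) h))
  obtain ⟨U, hU, hn, ⟨W, h0, hW, h1⟩, -⟩ := red D.pre_le hm h h'
  by_cases e : W = U
  · exact Or.inr (Or.inl ⟨U, hU, hn, fun g hg => mem_NS_of (D.pre_le hg) (e ▸ h1 g hg)⟩)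
  have h2 := Submodule.finrank_lt_finrank_of_lt (lt_of_le_of_ne hW e)
  obtain ⟨x, hx, hx0⟩ := (Submodule.ne_bot_iff W).1 h0
  have h3 : Submodule.span F {x} = W := Submodule.eq_of_le_of_finrank_le ((Submodule.span_singleton_le_iff_mem x W).2 hx)
    (by rw [finrank_span_singleton hx0]; omega)
  refine Or.inl ⟨x, hx0, fun g hg => ?_⟩
  obtain ⟨c, hc⟩ := Submodule.mem_span_singleton.1 (h3.ge (h1 g hg x hx))
  exact ⟨c, hc.symm⟩

end CLa

open CLa in
theorem boxCLa_of (hP : H659.CovCore.S5948Stmt.{0}) (h14 : Box14) : BoxCLa := by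
  intro m F _ _ Ω _ _ X H T M S D a hm h6
  have key : Good D.A ∨ Good (D.C a) → D.C1 a ∨ D.C2 a ∨ D.C3 a ∨ D.C4 := fun h => h.elim
    (fun h => Or.inr (Or.inr (Or.inr (goodA D (by omega) h)))) fun h => (goodC D a (by omega) h).imp_right (Or.imp_right Or.inl)
  by_cases h7 : m = 7 ∧ Nat.card F = 2
  · obtain ⟨rfl, hF⟩ := h7
    have h2 : (2 : F) = 0 := by
      have h5 := Nat.cast_card_eq_zero F
      rw [← Nat.card_eq_fintype_card, hF] at h5
      exact_mod_cast h5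
    rcases (pr D a).seven hP h14 hF with (h | h) | h | h
    exacts [key (Or.inl h), Or.inr (Or.inr (Or.inr ⟨h2, h⟩)), key (Or.inr h), Or.inr (Or.inr (Or.inl ⟨h2, h⟩))]
  · refine key ((pr D a).main hP hm fun k e => ?_)
    rcases k.eq_or_lt with k | k
    · exact h7 ⟨k, e⟩
    · exact h6 (by omega) (Nat.card_eq_fintype_card.symm.trans e)

end Cfsg.Agent.SM.Sy
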