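import Cfsg.Agent.H2.Rb.Ref
import Cfsg.Agent.SM.Sy.ResJ

/-!
# SM (S3570), symplectic socles: `GL₁₈(2)`, groups with a subgroup of index `2⁸ · 513` (helper47)

The cross-characteristic part follows `H2/Rb/Nineteen.lean`.
-/

set_option autoImplicit false
set_option exponentiation.threshold 2000
set_option linter.unusedVariables false

universe u v w

namespace Cfsg.Agent.SM.Sy.R19

open Cfsg Cfsg.Geo Cfsg.Agent.H912.Bd Cfsg.Agent.H912.Five Cfsg.Agent.H915.LD Cfsg.Agent.OrdDiv Matrix
open Cfsg.Agent.H902 Cfsg.Agent.H902.Names Cfsg.Agent.H203.LS Cfsg.Agent.H936.List12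
open Cfsg.Agent.H2.Rb Cfsg.Agent.H2.Rb.Cx Cfsg.Agent.H2.Rb.C100 Cfsg.Agent.NotCT

section cl

variable {F : Type u} [Field F] {r : ℕ} {T : Type v} [Group T] [Finite T] [IsSimpleGroup T]

theorem p19 : Nat.Prime 19 := by norm_num

/-- classical groups in cross characteristic, degree at most 18, order divisible by 19 and 27 -/
theorem cross19_cl (hna : ¬ IsMulCommutative T) (hd : 19 ∣ Nat.card (MulAut T)) (h27 : 27 ∣ Nat.card (MulAut T)) (hr : r.Prime) (hrF : (r : F) ≠ 0)
    (h : PR F 18 r T)
    (hT : Cfsg.IsPSLChar r T ∨ Cfsg.IsPSpChar r T ∨ Cfsg.IsPSUChar r T ∨ Cfsg.IsPOmegaOddChar r T ∨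
      Cfsg.IsPOmegaPlusChar r T ∨ Cfsg.IsPOmegaMinusChar r T) : False := by
  have hrr : Fact r.Prime := ⟨hr⟩
  have hnum : ∀ q j : ℕ, 2 ≤ q → 4 ≤ j → (q - 1) * q ^ j ≤ 18 → q = 2 ∧ j = 4 := by
    intro q j hq hj hle
    have h2 : q = 2 := by
      by_contra hcon
      have h1 : 3 ^ 4 ≤ q ^ j := (Nat.pow_le_pow_left (by omega) 4).trans (Nat.pow_le_pow_right (by omega) hj)
      have h2 : 1 * 3 ^ 4 ≤ (q - 1) * q ^ j := Nat.mul_le_mul (by omega) h1
      omega
    subst h2
    refine ⟨rfl, ?_⟩
    by_contra hcon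
    have h1 : 2 ^ 5 ≤ 2 ^ j := Nat.pow_le_pow_right (by omega) (by omega)
    omega
  have hpow : ∀ (K : Type) [Field K] [Fintype K] [CharP K r], ∃ k, Fintype.card K = r ^ k := by
    intro K _ _ _
    obtain ⟨k, -, hk⟩ := FiniteField.card K r
    exact ⟨k, hk⟩
  rcases hT with ⟨K, _, _, _, m, hm, hm2, ⟨e⟩⟩ | ⟨K, _, _, _, m, hm, hm2, ⟨e⟩⟩ | ⟨K, _, _, _, m, q, hq, hm, hmq, ⟨e⟩⟩ |
    ⟨K, _, _, hc, m, hm, ho, ⟨e⟩⟩ | ⟨K, _, _, hc, m, hm, ⟨e⟩⟩ | ⟨K, _, _, hc, m, a, b, hm, hab, ⟨e⟩⟩
  · -- linear
    have hq : 2 ≤ Fintype.card K := Fintype.one_lt_card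
    have hK : IsL m (Fintype.card K) T := ⟨K, inferInstance, inferInstance, rfl, ⟨e⟩⟩
    by_cases h2 : m = 2
    · subst h2
      have hle : (Fintype.card K - 1) / Nat.gcd 2 (Fintype.card K - 1) ≤ 18 := by
        refine H203.BdSL2.bd_of_sl2 hr rfl hrF (e.symm.toMonoidHom.comp (QuotientGroup.mk' _)) ?_ 18 h
        intro x hx
        have h1 : e.symm (QuotientGroup.mk' _ x) = 1 := hx
        rw [MulEquiv.map_eq_one_iff, QuotientGroup.mk'_apply, QuotientGroup.eq_one_iff] at h1
        exact h1
      have h3 : Fintype.card K ≤ 37 := by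
        have h5 := Nat.gcd_dvd_right 2 (Fintype.card K - 1)
        rcases (Nat.dvd_prime Nat.prime_two).1 (Nat.gcd_dvd_left 2 (Fintype.card K - 1)) with h4 | h4
        · rw [h4] at hle
          omega
        · rw [h4] at hle h5
          omega
      have hfit := dv_L p19 (by norm_num) hd hna le_rfl hm2 (by omega) hK
      obtain ⟨j, hj⟩ := hpow K
      have h4 : Fintype.card K = 19 ∨ Fintype.card K = 37 := by
        rw [sz_L2'] at hfit
        clear hK hle e
        generalize Fintype.card K = q at *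
        by_contra hne
        have hne18 : q ≠ 18 := by
          rintro rfl
          exact not_pp hr Nat.prime_two Nat.prime_three (by norm_num) (by rw [← hj]; norm_num) (by rw [← hj]; norm_num)
        have hne20 : q ≠ 20 := by
          rintro rfl
          exact not_pp hr Nat.prime_two Nat.prime_five (by norm_num) (by rw [← hj]; norm_num) (by rw [← hj]; norm_num)
        clear hj hm2
        interval_cases q <;> first | omega | (revert hfit; decide +kernel)
      rcases h4 with h4 | h4 <;> rw [h4] at hK <;> rw [card_aut_L2 (by norm_num) (by norm_num) hK] at h27 <;>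
        exact absurd h27 (by norm_num)
    · exfalso
      have hm3 : 3 ≤ m := by omega
      have hle : Fintype.card K ^ (m - 1) - 1 ≤ 18 := (bd_psl (F := F) hr hrF hm3 inferInstance).congr e 18 h
      set q := Fintype.card K with hqdef
      have h6 : m ≤ 5 := by
        by_contra hcon
        have h1 : 2 ^ 5 ≤ q ^ (m - 1) := (Nat.pow_le_pow_left hq 5).trans (Nat.pow_le_pow_right (by omega) (by omega))
        omega
      have h7 : q ≤ 4 := by
        by_contra hcon
        have h1 : 5 ^ 2 ≤ q ^ (m - 1) := (Nat.pow_le_pow_left (by omega) 2).trans (Nat.pow_le_pow_right (by omega) (by omega))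
        omega
      have hfit := dv_L p19 (by norm_num) hd hna hm hm2 (by omega) hK
      clear_value q
      clear hqdef hK h2 hle
      interval_cases m <;> interval_cases q <;> exact absurd hfit (by decide +kernel)
  · -- symplectic
    exfalso
    have hq2 : 2 ≤ Fintype.card K := Fintype.one_lt_card
    have hK : IsS m (Fintype.card K) T := ⟨K, inferInstance, inferInstance, rfl, ⟨e⟩⟩
    have hle : (Fintype.card K ^ m - 1) / 2 ≤ 18 := H175.BdSp.bd_psp (F := F) hr rfl (by omega) hrF e 18 h
    set q := Fintype.card K with hqdef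
    have h4 : m ≤ 5 := by
      by_contra hcon
      have h1 : 2 ^ 6 ≤ q ^ m := (Nat.pow_le_pow_left hq2 6).trans (Nat.pow_le_pow_right (by omega) (by omega))
      omega
    have hqle : q ≤ 6 := by
      by_contra hcon
      have h1 : 7 ^ 2 ≤ q ^ m := (Nat.pow_le_pow_left (by omega) 2).trans (Nat.pow_le_pow_right (by omega) (by omega))
      omega
    have hfit := dv_S p19 (by norm_num) hd hna hm hm2 (by omega) hK
    clear_value q
    clear hqdef hK
    interval_cases m <;> interval_cases q <;>
      first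
      | exact absurd hfit (by decide +kernel)
      | (norm_num at hle)
  · -- unitary
    exfalso
    have hq2 : 2 ≤ q := by
      have h1 : 1 < Fintype.card K := Fintype.one_lt_card
      rw [hq] at h1
      by_contra hcon
      interval_cases q <;> simp at h1
    have hle : (q - 1) * q ^ (m - 2) ≤ 18 := H175.BdSU.bd_psu (F := F) hr hq hm hrF e 18 h
    have hK : IsU m q T := ⟨K, inferInstance, inferInstance, hq, ⟨e⟩⟩
    have h5 : m ≤ 6 := by
      by_contra hcon
      have h1 : 2 ^ 5 ≤ q ^ (m - 2) := (Nat.pow_le_pow_left hq2 5).trans (Nat.pow_le_pow_right (by omega) (by omega))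
      have h2 : 1 * 2 ^ 5 ≤ (q - 1) * q ^ (m - 2) := Nat.mul_le_mul (by omega) h1
      omega
    have hqle : q ≤ 5 := by
      by_contra hcon
      have h1 : 6 ^ 1 ≤ q ^ (m - 2) := (Nat.pow_le_pow_left (by omega) 1).trans (Nat.pow_le_pow_right (by omega) (by omega))
      have h2 : 5 * 6 ^ 1 ≤ (q - 1) * q ^ (m - 2) := Nat.mul_le_mul (by omega) h1
      omega
    have hfit := dv_U p19 (by norm_num) hd hna hm hmq (by omega) hK
    clear hK hq e
    interval_cases m <;> interval_cases q <;>
      first
      | exact hmq ⟨rfl, rfl⟩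
      | exact absurd hfit (by decide +kernel)
      | (norm_num at hle)
  · exfalso
    have hq : 2 ≤ Fintype.card K := Fintype.one_lt_card
    have hq3 : 3 ≤ Fintype.card K := by
      obtain ⟨t, ht⟩ := ho
      omega
    obtain ⟨f, hf⟩ := hpow K
    have h2 : (2 : K) ≠ 0 := by
      intro h0
      have h1 : r = 2 := by
        have h3 : r ∣ 2 := (CharP.cast_eq_zero_iff K r 2).1 (by exact_mod_cast h0)
        exact (Nat.prime_dvd_prime_iff_eq hr Nat.prime_two).1 h3
      subst h1
      rw [hf] at ho hq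
      rcases Nat.eq_zero_or_pos f with h3 | h3
      · subst h3; norm_num at hq
      · exact (Nat.not_even_iff_odd.2 ho) ((Nat.even_pow.2 ⟨even_two, by omega⟩))
    have h3 := (H203.OrthHeis.bd_pomega_odd_heis (F := F) hr hrF hf h2 hm).congr e 18 h
    have h4 : 3 ^ 3 ≤ Fintype.card K ^ (2 * m - 3) :=
      (Nat.pow_le_pow_left hq3 3).trans (Nat.pow_le_pow_right (by omega) (by omega))
    have h5 : 2 * 3 ^ 3 ≤ (Fintype.card K - 1) * Fintype.card K ^ (2 * m - 3) := Nat.mul_le_mul (by omega) h4
    omega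
  · exfalso
    obtain ⟨f, hf⟩ := hpow K
    have h3 := (H203.OrthHeis.bd_pomega_plus_heis (F := F) hr hrF hf hm).congr e 18 h
    obtain ⟨h4, h5⟩ := hnum _ _ Fintype.one_lt_card (by omega) h3
    have h6 : m = 4 := by omega
    subst h6
    exact absurd (dv_OP p19 (by norm_num) hd hna le_rfl (by norm_num) ⟨K, inferInstance, inferInstance, h4, ⟨e⟩⟩)
      (by decide +kernel)
  · exfalso
    obtain ⟨f, hf⟩ := hpow K
    have h3 := (H203.OrthHeis.bd_pomega_minus_heis (F := F) hr hrF hf hm hab).congr e 18 h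
    obtain ⟨h4, h5⟩ := hnum _ _ Fintype.one_lt_card (by omega) h3
    have h6 : m = 4 := by omega
    subst h6
    have h7 := dv_OM p19 (by norm_num) hd hna le_rfl (by rw [h4]; norm_num) hab e
    rw [h4] at h7
    exact absurd h7 (by decide +kernel)

end cl

section lie

variable {F : Type u} [Field F] [Finite F]

/-- groups of Lie type in cross characteristic -/
theorem cross19 (h2F : (2 : F) = 0) {P : Subgroup (Matrix.GeneralLinearGroup (Fin 18) F)} (hC : Core P)
    (hd : 19 ∣ Nat.card (MulAut (Soc P))) (h27 : 27 ∣ Nat.card (MulAut (Soc P))) {r : ℕ} (hr : r.Prime) (hrF : (r : F) ≠ 0)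
    (h : IsLieTypeChar r (Soc P)) : False := by
  have hs : IsSimpleGroup (Soc P) := hC.simple
  have hna := hC.nonabelian
  have hr2 : r ≠ 2 := by
    rintro rfl
    exact hrF (by exact_mod_cast h2F)
  rcases classical_or_exc h with hcl | hexc
  · rcases noR_of_lieTypeChar.{u} hr h with hm | hm
    · exfalso
      rcases hm with ⟨rfl, hm⟩ | ⟨rfl, hm⟩
      · exact hr2 rfl
      · rcases hm with hm | hm | hm | hm
        · exact absurd (dv_L p19 (by norm_num) hd hna (by norm_num) (by norm_num) (by norm_num) hm) (by decide +kernel)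
        · exact absurd (dv_U p19 (by norm_num) hd hna (by norm_num) (by norm_num) (by norm_num) hm) (by decide +kernel)
        · exact absurd (dv_OO p19 (by norm_num) hd hna (by norm_num) (by norm_num) (by decide) hm) (by decide +kernel)
        · exact absurd (dv_G2 p19 (by norm_num) hd hna (by norm_num) (by norm_num) hm) (by decide +kernel)
    · exact cross19_cl hna hd h27 hr hrF (PR.of_noR hm P hC.perfect (MulEquiv.refl _)) hcl
  · exfalso
    have key : ∀ {d : ℕ} {T' : Type} [Group T'], LS.{0, u, u} r d T' → (Soc P ≃* T') → d ≤ 18 := by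
      intro d T' _ hls e'
      exact le_of_ls' hC hrF hls ⟨e'⟩
    rcases hexc with ⟨K, _, _, _, h⟩ | ⟨K, _, _, _, q, hq, h⟩ | ⟨rfl, -⟩ | ⟨rfl, -⟩ | ⟨rfl, K, _, _, m, hm, hK, ⟨e'⟩⟩
    · have : Fact r.Prime := ⟨hr⟩
      have hq2 : 2 ≤ Nat.card K := by
        rw [Nat.card_eq_fintype_card]
        exact Fintype.one_lt_card
      rcases h with ⟨h3, ⟨e'⟩⟩ | ⟨⟨e'⟩⟩ | ⟨⟨e'⟩⟩ | ⟨⟨e'⟩⟩ | ⟨⟨e'⟩⟩
      · have hG : H912.Bd.IsG2 (Fintype.card K) (Soc P) := ⟨K, inferInstance, inferInstance, rfl, ⟨e'⟩⟩
        by_cases h4 : Fintype.card K = 4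
        · rw [h4] at hG
          exact absurd (dv_G2 p19 (by norm_num) hd hna (by norm_num) (by norm_num) hG) (by decide +kernel)
        · have h1 := key (G2.ls K (by rw [Nat.card_eq_fintype_card]; omega)
            (by rw [Nat.card_eq_fintype_card]; exact h4)) e'
          rw [Nat.card_eq_fintype_card] at h1
          have h5 : Fintype.card K < 6 := by
            by_contra hcon
            have h6 : 5 * 6 ≤ (Fintype.card K - 1) * Fintype.card K := Nat.mul_le_mul (by omega) (by omega)
            omega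
          have hfit := dv_G2 p19 (by norm_num) hd hna h3 (by omega) hG
          clear hG e' hq2 h1
          generalize Fintype.card K = q at *
          interval_cases q
          · exact absurd hfit (by decide +kernel)
          · exact absurd rfl h4
          · exact absurd hfit (by decide +kernel)
      · have h2 : (2 : K) ≠ 0 := by
          intro h0
          have h5 : r ∣ 2 := (CharP.cast_eq_zero_iff K r 2).1 (by exact_mod_cast h0)
          exact hr2 ((Nat.prime_dvd_prime_iff_eq hr Nat.prime_two).1 h5)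
        have h1 := key (F4odd.ls_odd K h2) e'
        have h3 : 3 ≤ Nat.card K := by
          by_contra hcon
          have h4 : Nat.card K = 2 := by omega
          apply h2
          have h5 : ((Nat.card K : ℕ) : K) = 0 := by
            rw [Nat.card_eq_fintype_card]
            exact Nat.cast_card_eq_zero K
          rw [h4] at h5
          exact_mod_cast h5
        have := mul_pow_ge h3 (le_refl 4)
        omega
      · have h1 := key (E6.ls K) e'
        have := mul_pow_ge' hq2 (show 6 ≤ 10 by norm_num)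
        omega
      · have h1 := key (E7.ls K) e'
        have := mul_pow_ge' hq2 (show 6 ≤ 16 by norm_num)
        omega
      · have h1 := key (E8.ls K) e'
        have := mul_pow_ge' hq2 (show 6 ≤ 28 by norm_num)
        omega
    · have hq2 : 2 ≤ q := hq.two_le
      rcases h with ⟨hK, ⟨e'⟩⟩ | ⟨hK, ⟨e'⟩⟩
      · have h1 := key (TwE6.ls hq hK) e'
        have := mul_pow_ge' hq2 (le_refl 6)
        omega
      · have h1 := key (TwD4.ls hq hK) e'
        by_cases h3 : 3 ≤ q
        · have := mul_pow_ge h3 (le_refl 4)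
          omega
        · have h2 : q = 2 := by omega
          subst h2
          exact absurd (dv_TD4 p19 (by norm_num) hd hna hq hK (by norm_num) e') (by decide +kernel)
    · exact hr2 rfl
    · exact hr2 rfl
    · have h1 := key (LS.ree hm hK) e'
      rw [Nat.card_eq_fintype_card, hK] at h1
      have h2 : 3 ^ 3 ≤ 3 ^ (2 * m + 1) := Nat.pow_le_pow_right (by norm_num) (by omega)
      omega

end lie

section rest

variable {F : Type} [Field F] [Finite F]

theorem spor19 (hq : Nat.card F = 2) {P : Subgroup (GL (Fin 18) F)} (h : Row 18 19 P) (h27 : 27 ∣ Nat.card (MulAut (Soc P)))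
    (hs : IsSporadicGroup (Soc P)) : False := by
  have hC := h.core
  have key := fun {N : ℕ} (hN : Nat.card (Soc P) = N) => dvd_of_spor p19 (by norm_num) hC hs (h.dvd_card (MulEquiv.refl _)) hN
  rcases id hs with hh | hh | hh | hh | hh | hh | hh | hh | hh | hh | hh | hh | hh | hh | hh | hh | hh | hh | hh | hh | hh | hh | hh | hh | hh | hh
  · exact absurd (key (Orders.m11 hh)) (by decide +kernel)
  · exact absurd (key (Orders.m12 hh)) (by decide +kernel)
  · exact absurd (key (Orders.m22 hh)) (by decide +kernel)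
  · exact absurd (key (Orders.m23 hh)) (by decide +kernel)
  · exact absurd (key (Orders.m24 hh)) (by decide +kernel)
  · have h2 : IsSimpleGroup (Soc P) := hC.simple
    have h6 := H934.OutB.card_out_mul (Soc P) hC.nonabelian
    have h7 := H489.card_out_sporadic hs
    have h8 : 0 < Nat.card (MulAut (Soc P)) := Nat.card_pos
    rw [← h6, Orders.j1 hh] at h27 h8
    omega
  · exact absurd (key (Orders.j2 hh)) (by decide +kernel)
  · exact absurd (j3_two hq hC hh) (by norm_num)
  · exact absurd (key (Orders.j4 hh)) (by decide +kernel)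
  · exact absurd (key (Orders.co1 hh)) (by decide +kernel)
  · exact absurd (key (Orders.co2 hh)) (by decide +kernel)
  · exact absurd (key (Orders.co3 hh)) (by decide +kernel)
  · exact absurd (key (Orders.mcl hh)) (by decide +kernel)
  · exact absurd (key (Orders.hs hh)) (by decide +kernel)
  · exact absurd (key (Orders.suz hh)) (by decide +kernel)
  · exact absurd (key (Orders.he hh)) (by decide +kernel)
  · exact absurd (key (Orders.ru hh)) (by decide +kernel)
  · exact hh.elim fun e => absurd (on_two hq hC e) (by norm_num)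
  · exact absurd (key (Orders.ly hh)) (by decide +kernel)
  · exact absurd (key (Orders.fi22 hh)) (by decide +kernel)
  · exact absurd (key (Orders.fi23 hh)) (by decide +kernel)
  · exact absurd (key (Orders.fi24 hh)) (by decide +kernel)
  · have h1 := card_soc_dvd P
    rw [Orders.hn hh, hq] at h1
    exact absurd h1 (by decide +kernel)
  · exact absurd (th_le h hh) (by norm_num)
  · exact b_kill hh (Or.inl hq) (by norm_num)
  · exact m_kill h hh

theorem idx {G : Type*} [Group G] [Finite G] {P R : Subgroup G} (B : Subgroup G) (h : P ≤ R)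
    (hn : ∀ x ∈ R, ∀ y ∈ P, x * y * x⁻¹ ∈ P) : B.relIndex P ∣ B.relIndex R ∧ B.relIndex R ∣ B.relIndex P * P.relIndex R := by
  have : (P.subgroupOf R).Normal := ⟨fun y hy x => hn x x.2 y hy⟩
  refine ⟨?_, ?_⟩
  · have e1 := Subgroup.relIndex_mul_relIndex (B ⊓ P) P R inf_le_right h
    have e2 := Subgroup.relIndex_mul_relIndex (B ⊓ P) (B ⊓ R) R (inf_le_inf_left B h) inf_le_right
    have e3 := Subgroup.relIndex_dvd_index_of_normal (P.subgroupOf R) ((B ⊓ R).subgroupOf R)
    rw [Subgroup.relIndex_subgroupOf inf_le_right, ← Subgroup.inf_relIndex_right P,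
      show P ⊓ (B ⊓ R) = B ⊓ P by rw [inf_comm B R, ← inf_assoc, inf_eq_left.2 h, inf_comm]] at e3
    obtain ⟨c, hc⟩ := e3
    have h0 : (B ⊓ P).relIndex (B ⊓ R) ≠ 0 := Subgroup.index_ne_zero_of_finite
    rw [Subgroup.inf_relIndex_right, ← e2, Subgroup.inf_relIndex_right, show P.relIndex R = _ from hc, mul_left_comm] at e1
    exact ⟨c, (Nat.eq_of_mul_eq_mul_left (Nat.pos_of_ne_zero h0) e1).symm⟩
  · rw [← Subgroup.inf_relIndex_right B P, Subgroup.relIndex_mul_relIndex _ _ _ inf_le_right h]
    exact Subgroup.relIndex_dvd_of_le_left R inf_le_left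

theorem alt19 (hq : Nat.card F = 2) {P R B : Subgroup (GL (Fin 18) F)} (h : Row 18 19 P) (hPR : P ≤ R)
    (hn : ∀ x ∈ R, ∀ y ∈ P, x * y * x⁻¹ ∈ P) (hB : B.relIndex R = 131328) (hT : IsAlternating (Soc P)) : False := by
  obtain ⟨p, hpF⟩ := CharP.exists F
  have hp : Fact p.Prime := ⟨CharP.char_is_prime F p⟩
  have := Fintype.ofFinite F
  have hd : 19 ∣ Nat.card (MulAut (Soc P)) := h.dvd_card (MulEquiv.refl _)
  obtain ⟨m, hm, ⟨e⟩⟩ := hT
  by_cases h6 : m = 6
  · subst h6
    rw [Nat.card_congr (MulAut.congr e).toEquiv, H38.Ppd.card_aut_six] at hd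
    exact absurd hd (by norm_num)
  have h4 : Nat.card (MulAut (Soc P)) = m.factorial := by
    rw [Nat.card_congr (MulAut.congr e).toEquiv,
      ← Nat.card_congr (Equiv.ofBijective _ (Cfsg.Agent.S2119.result m (by omega) h6)),
      Nat.card_eq_fintype_card, Fintype.card_perm, Fintype.card_fin]
  rw [h4] at hd
  have h19 : 19 ≤ m := (Nat.Prime.dvd_factorial p19).1 hd
  have h20 : m ≤ 20 := by
    have h2 := Cfsg.Agent.S2653.result p 18 m P ((scalars (Fin 18) F).subgroupOf P) ⟨e⟩ (by omega)
    split_ifs at h2 <;> omega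
  have h0 : (scalars (Fin 18) F).subgroupOf P = ⊥ :=
    Subgroup.card_eq_one.1 (Nat.coprime_zero_right _ |>.1 (scalars_coprime hq P 0))
  let e' : P ≃* alternatingGroup (Fin m) :=
    (QuotientGroup.quotientBot.symm.trans (QuotientGroup.quotientMulEquivOfEq h0.symm)).trans e
  have hnt : Nontrivial (Fin m) := Fin.nontrivial_iff_two_le.2 (by omega)
  have h2 : 2 * Nat.card P = m.factorial := by
    rw [Nat.card_congr e'.toEquiv, Nat.card_eq_fintype_card, two_mul_card_alternatingGroup, Fintype.card_perm,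
      Fintype.card_fin]
  have h3 : P.relIndex R ∣ 2 := by
    have k1 := card_dvd_of_row h hn
    have k2 := Subgroup.relIndex_mul_relIndex (⊥ : Subgroup (GL (Fin 18) F)) P R bot_le hPR
    rw [Subgroup.relIndex_bot_left, Subgroup.relIndex_bot_left] at k2
    rw [hq, show 2 - 1 = 1 from rfl, one_mul, h4, ← h2, ← k2, mul_comm 2] at k1
    exact Nat.dvd_of_mul_dvd_mul_left Nat.card_pos k1
  obtain ⟨k1, k2⟩ := idx B hPR hn
  rw [hB] at k1 k2
  have k3 := Rj.alt_idx e' (B.subgroupOf P) (p := 17) (r := 13) (by norm_num) (by norm_num) (by decide) (by norm_num) (by omega)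
    (by omega) (fun k => absurd (k.trans k1) (by norm_num)) fun k => absurd (k.trans k1) (by norm_num)
  have k4 : B.relIndex P * Nat.factorial 17 ∣ 6840 * Nat.factorial 17 :=
    (k3.trans (Nat.factorial_dvd_factorial h20)).trans (dvd_of_eq (by norm_num [Nat.factorial]))
  exact absurd (k2.trans (Nat.mul_dvd_mul (Nat.dvd_of_mul_dvd_mul_right (Nat.factorial_pos 17) k4) h3)) (by norm_num)

/-- **`GL₁₈(2)`** -/
theorem main (hKS : ∀ (T : Type) [Group T] [Finite T] [IsSimpleGroup T], IsKnownSimple' T) (hq : Nat.card F = 2)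
    (R B : Subgroup (GL (Fin 18) F)) (hB : B.relIndex R = 131328) (hirr : ActsIrreducibly (matrixSet R)) : Concl 18 18 R := by
  have h1 : 131328 ∣ Nat.card R := hB ▸ Subgroup.relIndex_dvd_card B R
  refine concl_of (p := 2) (f := 1) (k := 18) (r := 19) (l := 19) Nat.prime_two (by rw [hq]; norm_num) (by norm_num)
    (by norm_num) (by norm_num) p19 (by norm_num) (by rw [ord_2_19]) (Or.inl hq) (by norm_num) R (Dvd.dvd.trans (by norm_num) h1)
    p19 (Or.inl (by norm_num)) hirr fun P hPR hPn h => ?_
  have hC := h.core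
  have hs : IsSimpleGroup (Soc P) := hC.simple
  have hna := hC.nonabelian
  have hd : 19 ∣ Nat.card (MulAut (Soc P)) := h.dvd_card (MulEquiv.refl _)
  have h27 : 27 ∣ Nat.card (MulAut (Soc P)) := by
    have h4 := h1.trans (card_dvd_of_row h hPn)
    rw [hq, show 2 - 1 = 1 from rfl, one_mul] at h4
    exact Dvd.dvd.trans (by norm_num) h4
  have h2F : (2 : F) = 0 := by
    have := Fintype.ofFinite F
    have h5 : ((Nat.card F : ℕ) : F) = 0 := by
      rw [Nat.card_eq_fintype_card]
      exact Nat.cast_card_eq_zero F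
    rw [hq] at h5
    exact_mod_cast h5
  rcases H912.Known.known_split (hKS (Soc P)) (H912.Known.not_primeCyclic hC.nonabelian) with hT | ⟨r, hr, hT⟩ | hT | hT
  · exact (alt19 hq h hPR hPn hB hT).elim
  · by_cases hrF : (r : F) = 0
    · have hrp : CharP F r := (CharP.charP_iff_prime_eq_zero hr).2 hrF
      have : Fact r.Prime := ⟨hr⟩
      rcases Row.nat_def' h r hT with h1 | hG | ⟨-, K, _, _, hK, ⟨e⟩⟩
      · exact h1
      · exact absurd (dv_G2 p19 (by norm_num) hd hna (by norm_num) (by norm_num) hG) (by decide +kernel)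
      · exact absurd (dv_TD4 p19 (by norm_num) hd hna Nat.prime_two.isPrimePow hK (by norm_num) e) (by decide +kernel)
    · exact (cross19 h2F hC hd h27 hr hrF hT).elim
  · exact (tits_kill p19 (by norm_num) hC hd hT).elim
  · exact (spor19 hq h h27 hT).elim

end rest

end Cfsg.Agent.SM.Sy.R19
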