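import Cfsg.Agent.SM.Sy.Asch
import Cfsg.Agent.SM.Sy.CLa
import Cfsg.Agent.SM.Sy.Res19

/-!
# SM (S3570), symplectic socles: residual groups are not transitive on the forms of plus type, `m ≥ 7` (helper47)
-/

set_option autoImplicit false
set_option linter.unusedSectionVars false
set_option linter.unusedVariables false

namespace Cfsg.Agent.SM.Sy

namespace Rp

open Cfsg Cfsg.Geo Subgroup Module Matrix
open Cfsg.Agent.H925.Rs Cfsg.Agent.H884.El Cfsg.Agent.H449.Reg
open Cfsg.Agent.LieClassical.OrthCore (O E)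
open Cfsg.Agent.H955 (IsPlus)

variable {m : ℕ} {F : Type} [Field F] [Fintype F] {Y : Subgroup (GG m F)} {Q : QuadraticForm F (VV m F)}

theorem not_aext (h : Res Y) {s : ℕ} : ¬ AExt s Y := by
  rintro ⟨n, φ, K, hs, hK, hle⟩
  obtain ⟨P, hP⟩ := h.core
  refine H918.not_le_subalgebraNormalizer (G := P.map (cj φ).toMonoidHom) (by rw [← map_commutator, hP.perf])
    ⟨H545.Rs.irr_of φ hP.not_red, fun A hA => ?_⟩ hs.two_le hK ((map_mono hP.le).trans hle)
  obtain ⟨c, hc⟩ := hP.abs (Asch.tp φ A) fun g hg v => φ.injective (by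
    rw [Asch.tp_apply, ← cj_apply', ← cj_apply', Asch.tp_apply, mulVec_mulVec, mulVec_mulVec,
      hA (cj φ g : Matrix _ _ F) ⟨_, ⟨g, hg, rfl⟩, rfl⟩])
  refine ⟨c, Matrix.toLin'.injective (LinearMap.ext fun v => ?_)⟩
  obtain ⟨v, rfl⟩ := φ.surjective v
  rw [Matrix.toLin'_apply, Matrix.toLin'_apply, ← Asch.tp_apply, hc, map_smul, smul_mulVec, one_mulVec]

theorem not_omE (hm : 3 ≤ m) (hY : Y ≤ Sp m F) (hne : Y ≠ Sp m F) (h : Res Y) : ¬ OmE (ff m F) Y := fun k =>
  let ⟨_, _, h1, h2⟩ := CLa.om hm hY hne k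
  h.not_O h1 h2

/-- the index of a form stabiliser in a transitive group -/
theorem relIndex_eq (hY : Y ≤ Sp m F) (h : TrF Y Q) : (O Q).relIndex Y = (O Q).relIndex (Sp m F) := by
  refine Nat.card_congr (Equiv.ofBijective (Quotient.map' (inclusion hY) fun a b k => ?_) ⟨fun a b k => ?_, fun a => ?_⟩)
  · rw [QuotientGroup.leftRel_apply] at k ⊢
    exact k
  · obtain ⟨a, rfl⟩ := QuotientGroup.mk_surjective a
    obtain ⟨b, rfl⟩ := QuotientGroup.mk_surjective b
    have k1 : (QuotientGroup.mk (inclusion hY a) : Sp m F ⧸ (O Q).subgroupOf (Sp m F)) = QuotientGroup.mk (inclusion hY b) := k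
    have k2 := QuotientGroup.eq.1 k1
    exact QuotientGroup.eq.2 k2
  · obtain ⟨a, rfl⟩ := QuotientGroup.mk_surjective a
    obtain ⟨y, hy, x, hx, e⟩ := h a.1 a.2
    refine ⟨QuotientGroup.mk ⟨y, hy⟩, QuotientGroup.eq.2 ?_⟩
    show y⁻¹ * a.1 ∈ O Q
    rwa [e, inv_mul_cancel_left]

end Rp

open Cfsg Subgroup Module
open Cfsg.Agent.H925.Rs Cfsg.Agent.H884.El Cfsg.Agent.H449.Reg
open Cfsg.Agent.LieClassical.OrthCore (O E)

/-- **a residual group is not transitive on the forms of plus type**, `m ≥ 7` -/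
theorem boxResP : BoxResP := by
  intro m F _ _ Y Q hm h2 hQ hp hY hne h hT
  have := charP_two h2
  obtain ⟨⟨f, hf⟩, -, hq⟩ := FiniteField.card F 2
  change Fintype.card F = 2 ^ f at hq
  have hF : Nat.card F = 2 ^ f := Nat.card_eq_fintype_card.trans hq
  have h1 := idx_plus h2 hQ hp
  rw [← Rp.relIndex_eq hY hT, hq] at h1
  have h3 : (O Q).relIndex Y ∣ Nat.card Y := relIndex_dvd_card _ _
  have hn : ¬ Isos (ff m F) ≤ Y := fun k => hne (le_antisymm hY k)
  have kill : ∀ {X : Prop}, (∃ s, s.Prime ∧ AExt s Y) ∨ OmE (ff m F) Y ∨ X → X := fun k =>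
    (k.resolve_left fun ⟨_, _, k⟩ => Rp.not_aext h k).resolve_left (Rp.not_omE (by omega) hY hne h)
  by_cases h9 : f = 1 ∧ m = 9
  · obtain ⟨rfl, rfl⟩ := h9
    let φ : VV 9 F ≃ₗ[F] (Fin 18 → F) :=
      LinearEquiv.ofFinrankEq _ _ (by rw [finrank_VV, Module.finrank_fintype_fun_eq_card, Fintype.card_fin])
    have k := R19.main (fun _ _ _ _ => S0000.result) hF (Y.map (cj φ).toMonoidHom) ((O Q).map (cj φ).toMonoidHom)
      (by rw [relIndex_map_map_of_injective _ _ (cj φ).injective]; omega) (H545.Rs.irr_of φ h.not_red)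
    exact kill (H545.Rs.conv (X := False) φ (by norm_num) h2 ff_self CLa.nd hY hn
      (k.imp (fun ⟨s, E, k1, k2, k3⟩ => ⟨s, E, k1, k2, k3⟩) (Or.imp_right (Or.imp_right (Or.imp_right Or.inl)))))
  by_cases h10 : f = 1 ∧ m = 10
  · obtain ⟨rfl, rfl⟩ := h10
    rw [show (O Q).relIndex Y = 524800 by omega] at h3
    exact absurd (h3.trans (kill (small41_abs hF finrank_VV ff_self CLa.nd hY hn (Dvd.dvd.trans (by norm_num) h3) h.not_red)))
      (by norm_num)
  obtain ⟨r, a, G⟩ := CLa.gd Nat.prime_two hf (i := m) (by omega) (fun k => by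
    have := (Nat.Prime.pow_eq_iff Nat.prime_two).1 k
    omega) fun k => absurd (k ▸ dvd_pow_self 2 (by omega : f ≠ 0)) (by norm_num)
  have ht : PP (Nat.card F) (2 * m) r := pp_q hf (by omega) hF G.pp
  have h4 : r ^ a ∣ (2 ^ f) ^ m + 1 := by
    have k1 := G.dvd
    rw [show (2 ^ f) ^ (2 * m) - 1 = ((2 ^ f) ^ m + 1) * ((2 ^ f) ^ m - 1) by
      rw [← Nat.sq_sub_sq, one_pow, ← pow_mul, ← pow_mul, ← pow_mul, mul_comm m 2]] at k1
    refine Nat.Coprime.dvd_of_dvd_mul_right (Nat.Coprime.pow_left a ((Nat.Prime.coprime_iff_not_dvd ht.prime).2 fun k => ?_)) k1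
    have := Nat.le_of_dvd (by omega) ((ht.dvd_iff (one_lt_q F).le m).1 (hF ▸ k))
    omega
  have h5 : r ^ a ∣ Nat.card Y := by
    have k1 := ht.lt (by omega)
    have k2 : (r ^ a).Coprime 2 := Nat.Coprime.pow_left a ((Nat.coprime_primes ht.prime Nat.prime_two).2 (by omega))
    exact (k2.dvd_of_dvd_mul_left (h1 ▸ h4.mul_left _)).trans h3
  obtain ⟨g, hg, ho⟩ := CLa.exists_ord ht (by omega) (by omega) h5
  rcases list' S5948.result ff_self CLa.nd Nat.prime_two hf hF hY hn G (by rw [finrank_VV]; omega)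
    (by rw [finrank_VV]) (by rw [finrank_VV]; omega) hg ho with k | ⟨s, -, -, k⟩ | k
  exacts [h.not_red k, Rp.not_aext h k, Rp.not_omE (by omega) hY hne h k]

end Cfsg.Agent.SM.Sy
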