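import Cfsg.Agent.SM.Sy.K3s
import Cfsg.Agent.SM.Sy.ResP
import Cfsg.Agent.SM.Sy.K4R
import Cfsg.Agent.S0245
import Cfsg.Agent.S0246
import Cfsg.Agent.S0814

/-!
# SM (S3570), `T = Ω(Q)`, `S_a` residual, `4 ≤ m ≤ 6`: `boxK4s : BoxK4s` (helper55)
-/

set_option autoImplicit false
set_option linter.unusedSectionVars false
set_option linter.unusedVariables false
set_option linter.style.haveILetI false

namespace Cfsg.Agent.SM.Sy

namespace K34s

open Cfsg Cfsg.Geo Equiv Subgroup Module MulAction CLb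
open Cfsg.Agent.LieClassical.OrthCore (O E E_le_O)
open Cfsg.Agent.H955 (IsPlus)
open Cfsg.Agent.H884.El (PP)
open Cfsg.Agent.H951 (fx cm mem_fx)
open scoped MatrixGroups commutatorElement

variable {m : ℕ} {F : Type} [Field F] [Fintype F] {C Y : Subgroup (GG m F)} {Q : QuadraticForm F (VV m F)}

/-- the overgroups of a residual group which is transitive on forms are residual -/
theorem res_up (hm : 2 ≤ m) (ex : m = 2 → 3 ≤ Fintype.card F) (h2 : (2 : F) = 0) (hQ : Pol Q) (hC : Res C) (ht : TrF C Q)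
    (h : C ≤ Y) (hY : Y ≤ Sp m F) (hne : Y ≠ Sp m F) : Res Y := by
  obtain ⟨P, hP⟩ := hC.core
  rcases boxAsch m F Y hm ex h2 hY hne with ⟨W, w0, w1, k⟩ | ⟨t, k, U, h3, h4⟩ | ⟨s, K, hK, k⟩ | k | ⟨Q', h3, k⟩ | k
  · exact (hC.not_red ⟨W, w0, w1, fun g hg => k g (h hg)⟩).elim
  · rcases h3.eq_or_lt with rfl | h3
    · obtain ⟨d1, -, -, d⟩ := K4C.dec_two (by omega) h4
      have h5 : ⁅P, P⁆ ≤ NS (U 0) := commutator_le.2 fun a ha b hb => by
        have ha := h (hP.le ha)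
        have hb := h (hP.le hb)
        refine ⟨hY (mul_mem (mul_mem (mul_mem ha hb) (inv_mem ha)) (inv_mem hb)), fun v => ?_⟩
        obtain ⟨w, rfl⟩ := (b * a).surjective v
        rw [← LinearEquiv.mul_apply, commutatorElement_def, mul_assoc (a * b), mul_assoc (a * b), ← mul_inv_rev, inv_mul_cancel,
          mul_one, LinearEquiv.mul_apply, LinearEquiv.mul_apply]
        rcases d a ha with ⟨a1, a2⟩ | ⟨a1, a2⟩ <;> rcases d b hb with ⟨b1, b2⟩ | ⟨b1, b2⟩ <;> simp only [a1, a2, b1, b2]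
      rw [hP.perf] at h5
      rcases hP.irr (U 0) fun g hg w hw => ((h5 hg).2 w).2 hw with e | e <;> rw [e] at d1
      · rw [finrank_bot] at d1
        omega
      · rw [finrank_top, finrank_VV] at d1
        omega
    · exact (K4R.not_dec (by omega) h2 hQ h3 h4 (ht.mono h)).elim
  · exact (hC.not_NE (by omega) hK (h.trans k)).elim
  · exact (hC.not_sub (k.mono h)).elim
  · exact (hC.not_O h3 (h.trans k)).elim
  · exact k

theorem aut_s45 {K : Type} [Field K] [Fintype K] (hK : Fintype.card K = 5) : Nat.card (MulAut (PSp 2 K)) = 9360000 := by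
  haveI : Fact (Nat.Prime 5) := ⟨by decide⟩
  have h1 := card_mul_index (center ↥(Matrix.symplecticGroup (Fin 2) K))
  rw [S0245.result hK 2, S0246.result hK 2 (by decide)] at h1
  have h3 : 2 * Nat.card (PSp 2 K) = 9360000 := h1
  rw [S0814.result 5 1 le_rfl hK 2 le_rfl (by decide), ← h3]
  rfl

theorem big (h4 : 4 ≤ m) (h6 : m ≤ 6) (h2 : (2 : F) = 0) (hq : Fintype.card F ≠ 2) (hQ : Pol Q) (hY : Y ⋖ Sp m F) (h : Res Y) :
    ¬ TrF Y Q := fun ht => by
  rcases (show m = 4 ∨ m = 5 ∨ m = 6 by omega) with rfl | rfl | rfl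
  · obtain ⟨P, p, -, -, hc, h⟩ := S5824.result _ (maxIn hY) h
    obtain rfl : p = 2 := CharP.eq F hc (charP_two h2)
    rcases h with h | h | h | h | h | h
    iterate 5 omega
    exact (ClassicalGeometry.PSL2Basic.two_ne_zero_iff_odd F).2 h.2 h2
  · obtain ⟨P, p, -, -, hc, h⟩ := S5845.result _ (maxIn hY) h
    obtain rfl : p = 2 := CharP.eq F hc (charP_two h2)
    omega
  · obtain ⟨P, p, hP, -, hc, h⟩ := S5869.result _ (maxIn hY) h
    obtain rfl : p = 2 := CharP.eq F hc (charP_two h2)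
    obtain ⟨b, ⟨ε⟩⟩ := core (by decide) h2 hY.le hP
    rcases h with h | h | h | ⟨⟨K, _, _, hK, ⟨e⟩⟩, h⟩ | h | h | ⟨-, h⟩ | h | h
    iterate 3 omega
    · have h1 := (relIndex_dvd_card (O Q) Y).trans ((as_dvd b (ε.trans e)).trans (dvd_of_eq (aut_s45 hK)))
      have h3 : Fintype.card F = 4 := by omega
      rw [Rp.relIndex_eq hY.le ht] at h1
      by_cases k : IsPlus Q
      · have := idx_plus h2 hQ k
        rw [h3] at this
        rw [show (O Q).relIndex (Sp 6 F) = 8390656 by omega] at h1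
        exact absurd h1 (by decide)
      · have := idx_minus h2 hQ k
        rw [h3] at this
        rw [show (O Q).relIndex (Sp 6 F) = 8386560 by omega] at h1
        exact absurd h1 (by decide)
    · omega
    · omega
    · have := FiniteField.cast_card_eq_zero F
      rw [h] at this
      exact one_ne_zero (α := F) (by linear_combination this - h2)
    all_goals omega

theorem dvd_fpf {k r : ℕ} {y : GG m F} {W : Submodule F (VV m F)} (hr : PP (Nat.card F) k r) (hk : 2 ≤ k) (hy : y ^ r = 1)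
    (hi : ∀ w ∈ W, y w ∈ W) (h : ∀ w ∈ W, y w = w → w = 0) : k ∣ finrank F W := by
  let x := rs (iv_zpowers hi) ⟨y, mem_zpowers y⟩
  have h2 : x ^ r = 1 := by
    rw [← map_pow, show (⟨y, mem_zpowers y⟩ : zpowers y) ^ r = 1 from Subtype.ext hy, map_one]
  have h3 := H925.Rs.add_fx_cm hr hk h2
  have h4 : fx (x : End F W) = ⊥ := eq_bot_iff.2 fun w hw => Subtype.ext (h w w.2 (congrArg Subtype.val (mem_fx.1 hw)))
  rw [h4, finrank_bot, zero_add] at h3
  exact h3 ▸ H925.Rs.dvd_cm hr hk h2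

theorem fix1 {y z : GG 4 F} (hq : Fintype.card F = 2) (hy : y ∈ Sp 4 F) (h7 : y ^ 7 = 1) (h3 : z ^ 3 = 1) (hc : y * z = z * y)
    {u : VV 4 F} (hu : y (y (y u)) = y u + u) : z u = u := by
  have h2 := two hq
  have s := add_self_VV (m := 4) h2
  have c : ∀ v, y (z v) = z (y v) := LinearEquiv.congr_fun hc
  have z3 : ∀ v, z (z (z v)) = v := LinearEquiv.congr_fun h3
  let W : Submodule F (VV 4 F) := LinearMap.eqLocus (y * y * y).toLinearMap (y.toLinearMap + LinearMap.id) ⊓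
    LinearMap.eqLocus (z * z).toLinearMap (z.toLinearMap + LinearMap.id)
  have hW : ∀ w, w ∈ W ↔ y (y (y w)) = y w + w ∧ z (z w) = z w + w := fun _ => Iff.rfl
  have d3 := dvd_fpf (W := W) (p7 hq) (by decide) h7
    (fun w hw => (hW _).2 ⟨by rw [← map_add, ((hW w).1 hw).1], by rw [← c, ← c, ← map_add, ((hW w).1 hw).2]⟩) fun w hw e => by
      have := ((hW w).1 hw).1
      rw [e, e, e, s] at this
      exact this
  have d2 := dvd_fpf (W := W) (pp (k := 2) hq Nat.prime_three (ord2 (by decide) (by decide) (by decide))) (by decide) h3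
    (fun w hw => (hW _).2 ⟨by rw [c, c, c, ← map_add, ((hW w).1 hw).1], by rw [← map_add, ((hW w).1 hw).2]⟩) fun w hw e => by
      have := ((hW w).1 hw).2
      rw [e, e, s] at this
      exact this
  have ti : Ti W := fun v hv w hw => by
    have hv := ((hW v).1 hv).1
    have hw := ((hW w).1 hw).1
    have f := mem_Sp.1 hy
    have a3 : ff 4 F (y (y (y v))) w = ff 4 F (y v) w + ff 4 F v w := by rw [hv, map_add, LinearMap.add_apply]
    have a4 : ff 4 F (y (y (y (y v)))) w = ff 4 F (y (y v)) w + ff 4 F (y v) w := by rw [hv, map_add, map_add, LinearMap.add_apply]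
    have a0 : ff 4 F v w = ff 4 F (y (y v)) w + ff 4 F (y (y (y v))) w := by
      rw [← f v w, ← f (y v) (y w), ← f (y (y v)) (y (y w)), hw, map_add, f]
    have a1 : ff 4 F (y v) w = ff 4 F (y (y (y v))) w + ff 4 F (y (y (y (y v)))) w := by
      rw [← f (y v) w, ← f (y (y v)) (y w), ← f (y (y (y v))) (y (y w)), hw, map_add, f]
    linear_combination a1 + a4 - a0 + (ff 4 F (y v) w + ff 4 F v w - ff 4 F (y v) w) * h2
  have d4 := Submodule.finrank_mono (ti_le ti)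
  have d5 := finrank_perp W
  have h0 : W = ⊥ := Submodule.finrank_eq_zero.1 (by omega)
  have h1 : z u + u ∈ W := (hW _).2 ⟨by
    simp only [map_add, c, hu]
    abel, by
    simp only [map_add, z3]
    linear_combination - s (z u)⟩
  rw [h0, Submodule.mem_bot] at h1
  linear_combination h1 - s u

theorem fix2 {y z : GG 4 F} (hq : Fintype.card F = 2) (hy : y ∈ Sp 4 F) (h7 : y ^ 7 = 1) (h3 : z ^ 3 = 1) (hc : y * z = z * y)
    {w : VV 4 F} (hw : w ∈ perp (fx (y : End F (VV 4 F)))) : z w = w := by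
  have s := add_self_VV (m := 4) (two hq)
  obtain ⟨w1, e0⟩ : ∃ v, y w = v := ⟨_, rfl⟩
  obtain ⟨w2, e1⟩ : ∃ v, y w1 = v := ⟨_, rfl⟩
  obtain ⟨w3, e2⟩ : ∃ v, y w2 = v := ⟨_, rfl⟩
  obtain ⟨w4, e3⟩ : ∃ v, y w3 = v := ⟨_, rfl⟩
  obtain ⟨w5, e4⟩ : ∃ v, y w4 = v := ⟨_, rfl⟩
  obtain ⟨w6, e5⟩ : ∃ v, y w5 = v := ⟨_, rfl⟩
  have e6 : y w6 = w := by
    rw [← e5, ← e4, ← e3, ← e2, ← e1, ← e0]
    exact LinearEquiv.congr_fun h7 w
  have iv : ∀ {a b : VV 4 F}, y a = b → y⁻¹ b = a := fun e => e ▸ y.symm_apply_apply _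
  have pi : ∀ {a b : VV 4 F}, y a = b → a ∈ perp (fx (y : End F (VV 4 F))) → b ∈ perp (fx (y : End F (VV 4 F))) :=
    fun e ha => mem_perp.2 fun p hp => by rw [← e, ← show y p = p from mem_fx.1 hp, mem_Sp.1 hy, mem_perp.1 ha p hp]
  have m1 := pi e0 hw
  have m2 := pi e1 m1
  have m3 := pi e2 m2
  have m4 := pi e3 m3
  have m5 := pi e4 m4
  have h0 : w + w1 + w2 + w3 + w4 + w5 + w6 = 0 :=
    nd_of (H925.Rs.nd_fx hB hN (p7 hq) (by decide) hy h7) _ (mem_fx.2 (by
      show y _ = _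
      simp only [map_add, e0, e1, e2, e3, e4, e5, e6]
      abel)) fun p hp => ff_eq_zero_comm.1 (mem_perp.1
        (add_mem (add_mem (add_mem (add_mem (add_mem (add_mem hw m1) m2) m3) m4) m5) (pi e5 m5)) p hp)
  have h1 := fix1 hq hy h7 h3 hc (u := w + w1 + w2 + w4) (by
    simp only [map_add, e0, e1, e2, e3, e4, e5, e6]
    linear_combination - s w1 - s w2)
  have h2 := fix1 hq (inv_mem hy) (by rw [inv_pow, h7, inv_one]) h3 (Commute.inv_left hc) (u := w + w3 + w5 + w6) (by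
    simp only [map_add, iv e0, iv e1, iv e2, iv e3, iv e4, iv e5, iv e6]
    linear_combination - s w5 - s w6)
  have h4 : w = w + w1 + w2 + w4 + (w + w3 + w5 + w6) := by linear_combination - h0
  rw [h4, map_add, h1, h2]

theorem orb136 {Q : QuadraticForm F (VV 4 F)} (hq : Fintype.card F = 2) (hQ : Pol Q) (h : ¬ IsPlus Q) (u : VV 4 F) :
    (stabilizer (GG 4 F) u).relIndex (O Q) ≤ 136 := by
  have h1 := ncard_t0 Q
  rw [gs_minus (two hq) hQ h, hq] at h1
  have h3 := Set.ncard_add_ncard_compl {v : VV 4 F | T0 (Q v)}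
  rw [card_VV, hq] at h3
  show (stabilizer (O Q) u).index ≤ 136
  rw [index_stabilizer]
  by_cases k : T0 (Q u)
  · refine (Set.ncard_le_ncard (t := {v | T0 (Q v)}) ?_).trans (by omega)
    rintro _ ⟨g, rfl⟩
    exact (congrArg T0 (g.2 u)).mpr k
  · refine (Set.ncard_le_ncard (t := {v | T0 (Q v)}ᶜ) ?_).trans (by omega)
    rintro _ ⟨g, rfl⟩ k'
    exact k ((congrArg T0 (g.2 u)).mp k')

variable {Ω : Type} [Fintype Ω] [DecidableEq Ω] {X H T M S : Subgroup (Perm Ω)}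

/-- `q = 2`: the normaliser in `N` of a normal subgroup of `N ⊓ C` -/
theorem mem_C (D : Fr m F X H T M S) (a : Ω) (hq : Fintype.card F = 2) {z : GG m F} (hz : z ∈ D.N) (h1 : z ≠ 1)
    (hn : ∀ b ∈ D.N ⊓ D.C a, b * z * b⁻¹ ∈ zpowers z) {g : GG m F} (hg : g ∈ D.N) (hc : g * z = z * g) : g ∈ D.C a := by
  haveI : Finite (GG m F) := finite_GG
  have k : ∀ b : GG m F, b * z * b⁻¹ ∈ zpowers z → b ∈ normalizer (zpowers z : Set (GG m F)) := fun b hb =>
    mem_normalizer_fintype (by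
      rintro _ ⟨n, rfl⟩
      exact conj_zpow (a := b) (b := z) (i := n) ▸ zpow_mem hb n)
  refine D.prim a (K := (normalizer (zpowers z : Set (GG m F))).map pm) (fun x hx => ?_) (fun h => ?_) hg
    (mem_map_of_mem _ (k g (by rw [hc, mul_inv_cancel_right]; exact mem_zpowers z)))
  · obtain ⟨b, hb, rfl⟩ := D.exists_pm_two hq (D.hat_le hx.1)
    exact mem_map_of_mem _ (k b (hn b ⟨(D.pm_mem_hat hb).1 hx.1, (D.pm_mem_hat hb).1 hx.2⟩))
  · have h3 := (D.asN (two hq)).le_of_conj (zpowers_le.2 hz)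
      (fun b hb x => (mem_normalizer_iff.1 ((mem_map_iff_mem pm_injective).1 (h b hb)) x).1) (zpowers_ne_bot.2 h1)
    exact (D.asN (two hq)).nab ⟨⟨fun x y => Subtype.ext (setLike_mul_comm (h3 x.2) (h3 y.2))⟩⟩

theorem no10 {Q : QuadraticForm F (VV 4 F)} (D : Fr 4 F X H T M S) (a : Ω) (hq : Fintype.card F = 2) (h : D.Om Q) (hm : ¬ IsPlus Q)
    {A : Subgroup (GG 4 F)} (b : AS (D.C a) A) (e : A ≃* alternatingGroup (Fin 10)) : False := by
  haveI : Finite (GG 4 F) := finite_GG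
  obtain ⟨φ, hφ⟩ := as_perm b (by decide) (by decide) e
  have i1 := idx_minus h.two h.pol hm
  rw [hq, ← Rp.relIndex_eq D.pre_le (K4C.trF D a h)] at i1
  have c1 := card_ten (A := ⊥) φ hφ
  have c2 : 1814400 ∣ Nat.card (D.C a) :=
    (Nat.eq_of_mul_eq_mul_left two_pos (card_alt (n := 8) e) : Nat.card A = 1814400) ▸ card_dvd_of_le b.le
  have c3 := card_mul_index ((O Q).subgroupOf (D.C a))
  have c4 := card_mul_relIndex' (inf_le_right : O Q ⊓ D.C a ≤ D.C a)
  rw [inf_relIndex_right] at c4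
  have c5 := Nat.le_of_dvd (by decide) c1
  have c6 : 0 < Nat.card (D.C a) := Nat.card_pos
  have i2 : (O Q).relIndex (D.C a) = 120 := Nat.eq_of_mul_eq_mul_left two_pos i1
  rw [show ((O Q).subgroupOf (D.C a)).index = 120 from i2] at c3
  rw [i2] at c4
  have c7 : Nat.card ↥(O Q ⊓ D.C a) ≤ 30240 := Nat.le_of_mul_le_mul_right (c4.trans_le c5) (by decide)
  have c8 : Nat.card ((O Q).subgroupOf (D.C a)) = 30240 ∨ Nat.card ((O Q).subgroupOf (D.C a)) = 15120 := by
    rw [← c3] at c2 c5 c6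
    omega
  obtain ⟨_, ⟨z, hz, rfl⟩, o3, hn, _, ⟨y, hy, rfl⟩, o7, hc⟩ := Rj.ten (B := ((O Q).subgroupOf (D.C a)).map φ) (Fintype.card_fin 10)
    (card_map_of_injective hφ ▸ c8)
  rw [orderOf_injective φ hφ, ← orderOf_coe] at o3 o7
  rw [← map_mul, ← map_mul, hφ.eq_iff, Subtype.ext_iff] at hc
  have z3 : z.1 ^ 3 = 1 := o3 ▸ pow_orderOf_eq_one z.1
  have y7 : y.1 ^ 7 = 1 := o7 ▸ pow_orderOf_eq_one y.1
  have z1 : z.1 ≠ 1 := fun k => by simp [k] at o3
  have y1 : y.1 ≠ 1 := fun k => by simp [k] at o7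
  have ys := D.pre_le y.2
  have zs := D.pre_le z.2
  have f2 := fun w => fix2 hq ys y7 z3 hc (w := w)
  have nd := nd_of (H925.Rs.nd_fx hB hN (p7 hq) (by decide) ys y7)
  have d1 := H925.Rs.dim_odd hB hN (p7 hq) (by decide) (by decide) (by rw [finrank_VV]; decide) ys y7 y1
  have d2 := H925.Rs.add_fx_cm (p7 hq) (by decide) y7
  rw [finrank_VV] at d2
  generalize fx (y.1 : End F (VV 4 F)) = P at f2 nd d2
  let β := finBasisOfFinrankEq F P (show finrank F P = 2 by omega)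
  let K := stabilizer (GG 4 F) (β 0 : VV 4 F) ⊓ stabilizer (GG 4 F) (β 1 : VV 4 F)
  have hK : ∀ g ∈ K, ∀ p ∈ P, g p = p := fun g hg p hp =>
    LinearMap.congr_fun (β.ext (f₁ := (g : End F (VV 4 F)) ∘ₗ P.subtype) (f₂ := P.subtype) (Fin.forall_fin_two.2 hg)) ⟨p, hp⟩
  have mv : ∀ {g : GG 4 F} {U : Submodule F (VV 4 F)}, g ∈ Sp 4 F → (∀ p ∈ U, g p = p) → ∀ v, g v - v ∈ perp U :=
    fun hg k v => mem_perp.2 fun p hp => by rw [map_sub, ← mem_Sp.1 hg p v, k p hp, sub_self]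
  have h1 : K ⊓ O Q ≤ O Q ⊓ D.C a := fun g hg => ⟨hg.2, mem_C D a hq (h.eqN ▸ hz) z1 (fun x hx => by
    obtain ⟨n, k⟩ := hn (φ ⟨x, hx.2⟩) (mem_map_of_mem φ (show x ∈ O Q from h.eqN ▸ hx.1))
    rw [← map_inv, ← map_mul, ← map_mul] at k
    exact ⟨n, congrArg Subtype.val (hφ ((map_zpow φ z n).trans k))⟩) (h.eqN ▸ hg.2) (LinearEquiv.ext fun v => by
      have k1 := f2 _ (mv (O_le_Sp h.pol hg.2) (hK g hg.1) v)
      have k2 := hK g hg.1 _ (perp_perp P ▸ mv zs f2 v)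
      rw [map_sub] at k1 k2
      show g (z.1 v) = z.1 (g v)
      linear_combination k2 - k1)⟩
  have h2 : (K ⊓ O Q).relIndex (O Q ⊓ D.C a) ≠ 1 := fun k => z1 (LinearEquiv.ext fun v => by
    obtain ⟨p, hp, w, hw, rfl⟩ := nd.exists_add v
    rw [map_add, hK z.1 (relIndex_eq_one.1 k ⟨hz, z.2⟩).1 p hp, f2 w hw]
    rfl)
  have h3 : (K ⊓ O Q).relIndex (O Q ⊓ D.C a) ≠ 0 := index_ne_zero_of_finite
  have h4 := card_mul_relIndex' h1
  have h5 := card_mul_relIndex' (inf_le_right : K ⊓ O Q ≤ O Q)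
  rw [inf_relIndex_right, card_O_minus h.two h.pol (by decide) hm, hq, show 2 * oM 4 2 = 394813440 by decide] at h5
  have h6 : K.relIndex (O Q) ≤ 136 * 136 :=
    relIndex_inf_le.trans (Nat.mul_le_mul (orb136 hq h.pol hm _) (orb136 hq h.pol hm _))
  have h7 := Nat.mul_le_mul_left (Nat.card ↥(K ⊓ O Q)) h6
  have h8 := ((Nat.mul_le_mul_left (Nat.card ↥(K ⊓ O Q))
    (show 2 ≤ (K ⊓ O Q).relIndex (O Q ⊓ D.C a) by omega)).trans_eq h4).trans c7
  rw [h5] at h7
  omega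

theorem cardC (D : Fr m F X H T M S) (a : Ω) (hm : 2 ≤ m) (h : D.Om Q) :
    (IsPlus Q → Nat.card (D.C a) = Fintype.card F ^ m * (Fintype.card F ^ m + 1) * Nat.card ↥(D.A ⊓ D.C a)) ∧
    (¬ IsPlus Q → Nat.card (D.C a) = Fintype.card F ^ m * (Fintype.card F ^ m - 1) * Nat.card ↥(D.A ⊓ D.C a)) := by
  haveI : Finite (GG m F) := finite_GG
  have h1 := D.card_fac a
  have h0 : 0 < Nat.card D.A := Nat.card_pos
  rw [card_Sp] at h1
  refine ⟨fun k => ?_, fun k => ?_⟩
  · rw [oSp_plus D.one Fintype.card_pos, ← card_E_plus h.two h.pol hm k, ← h.eqA, mul_assoc] at h1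
    exact (Nat.eq_of_mul_eq_mul_left h0 h1).symm
  · rw [oSp_minus D.one Fintype.card_pos, ← card_E_minus h.two h.pol hm k, ← h.eqA, mul_assoc] at h1
    exact (Nat.eq_of_mul_eq_mul_left h0 h1).symm

theorem no17 (D : Fr m F X H T M S) (a : Ω) (h2 : (2 : F) = 0) (hA : Nat.card D.A = 174182400)
    (h : Nat.card ↥(D.A ⊓ D.C a) = 9 ∨ Nat.card ↥(D.A ⊓ D.C a) = 18) : False := by
  have h1 := D.card_AC a
  have h3 := Fac.card_mul T (M ⊓ stabilizer (Perm Ω) a)
  have h4 := D.up.relIndex a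
  rw [h4, ← D.card_A_two h2] at h3
  rcases h with k | k <;> rw [k, hA] at h1
  · have := (D.up.fac a).syl_num 3 1 1 (by decide) (by rw [show Fintype.card Ω = 19353600 by omega] at h3; omega) (by decide)
      (by decide)
    omega
  · have := (D.up.fac a).syl_num 3 1 2 (by decide) (by rw [show Fintype.card Ω = 9676800 by omega] at h3; omega) (by decide)
      (by decide)
    omega

theorem no14 {Γ : Type} [Group Γ] [Finite Γ] {C A : Subgroup Γ} (b : AS C A) (e : A ≃* alternatingGroup (Fin 14)) (B : Subgroup Γ)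
    (h : B.relIndex C = 4032 ∨ B.relIndex C = 4160) : False := by
  obtain ⟨h1, h2⟩ := R19.idx B b.le b.conj
  have h3 : B.relIndex A ∣ 2184 := idx14 e (B.subgroupOf A) (h.imp (fun k => h1.trans (dvd_of_eq k)) fun k => h1.trans (dvd_of_eq k))
  obtain ⟨φ, hφ⟩ := as_perm b (by decide) (by decide) e
  have h4 := card_dvd_of_injective φ hφ
  rw [Nat.card_perm, Nat.card_fin, ← card_alt (n := 12) e, ← card_mul_relIndex' b.le, mul_comm 2] at h4
  have h5 := h2.trans (Nat.mul_dvd_mul h3 (Nat.dvd_of_mul_dvd_mul_left Nat.card_pos h4))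
  rcases h with k | k <;> rw [k] at h5 <;> exact absurd h5 (by decide)

end K34s

open K34s CLb in
theorem boxK4s : BoxK4s := by
  intro m F _ _ Ω _ _ X H T M S D a h4 h6 Q h hR
  haveI : Finite (GG m F) := finite_GG
  by_cases hq : Fintype.card F = 2
  swap
  · obtain ⟨Y, h1, h3⟩ := (lt_of_le_of_ne D.pre_le (D.C_ne a)).exists_le_covby
    exact big h4 h6 h.two hq h.pol h3 (res_up D.two D.ex h.two h.pol hR (K4C.trF D a h) h1 h3.le h3.ne) ((K4C.trF D a h).mono h1)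
  obtain ⟨c1, c2⟩ := cardC D a D.two h
  have c3 := card_mul_relIndex' (inf_le_right : D.A ⊓ D.C a ≤ D.C a)
  have c4 : 0 < Nat.card ↥(D.A ⊓ D.C a) := Nat.card_pos
  rw [hq] at c1 c2
  rcases (show m = 4 ∨ m = 5 ∨ m = 6 by omega) with rfl | rfl | rfl
  · obtain ⟨A, b, ⟨k1, k2⟩ | ⟨⟨e⟩⟩⟩ := ty4 hq (D.maxC hq a) hR
    · have k3 := k1 ▸ Subgroup.card_dvd_of_le b.le
      have k4 := Nat.le_of_dvd (by decide) k2
      by_cases k : H955.IsPlus Q
      · exact no17 D a h.two (by rw [h.eqA, card_E_plus h.two h.pol D.two k, hq]; decide) (by have := c1 k; omega)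
      · have := c2 k
        omega
    · by_cases k : H955.IsPlus Q
      · obtain ⟨φ, hφ⟩ := as_perm b (by decide) (by decide) e
        exact absurd ((Dvd.intro _ (c1 k).symm).trans (card_ten (A := ⊥) φ hφ)) (by decide)
      · exact no10 D a hq h k b e
  · exact res5 hq (D.maxC hq a) hR
  · have k : (D.A ⊓ D.C a).relIndex (D.C a) = 4032 ∨ (D.A ⊓ D.C a).relIndex (D.C a) = 4160 := by
      by_cases k : H955.IsPlus Q
      · exact Or.inr (Nat.eq_of_mul_eq_mul_left c4 (by rw [c3, c1 k, mul_comm]; rfl))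
      · exact Or.inl (Nat.eq_of_mul_eq_mul_left c4 (by rw [c3, c2 k, mul_comm]; rfl))
    obtain ⟨A, b, ⟨-, k2⟩ | ⟨⟨e⟩⟩⟩ := ty6 hq (D.maxC hq a) hR
    · have k3 := (Dvd.intro_left _ c3).trans k2
      rcases k with k | k <;> rw [k] at k3 <;> exact absurd k3 (by decide)
    · exact no14 b e _ k

end Cfsg.Agent.SM.Sy
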