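import Cfsg.Agent.SM.Rig
import Cfsg.Agent.SM.Mat.Tool
import Cfsg.Agent.H925.Rs.Frame
import Cfsg.Agent.H925.Rs.Fct
import Cfsg.Agent.H955.QSpace
import Cfsg.Prelude.Def_LieChev

/-!
# SM (S3570), symplectic socles: the frame, the rows, the boxes (helper92, plan in `notes/SM/psp.md`)

* `VV m F`, `ff m F`, `Sp m F` : the space, the form, the isometries; `pm` linear maps as permutations, `mx` as matrices;
* `Fr m F X H T M S` : `M` is the image of a group `L` of semisimilitudes, `S` the image of `Sp`;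
  `D.A`, `D.N`, `D.C a ≤ Sp` the preimages of `T`, `H`, `S_a`; `D.HH`, `D.BB a ≤ L` the preimages of `H`, `M_a`;
* `C1 .. C4` : the four cases; `R1 .. R7` : the rows; the boxes; the table `RS`.
-/

set_option autoImplicit false
set_option linter.unusedSectionVars false
set_option linter.unusedVariables false

namespace Cfsg.Agent.SM.Sy

open Cfsg Equiv Subgroup MulAction Module QuadraticMap
open Cfsg.Agent.ClassicalGeometry.SympBasic (sympBilin)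
open Cfsg.Agent.ClassicalGeometry.SympAutSemi (semiSim IsSemi)
open Cfsg.Agent.H925.Rs (Isos)
open Cfsg.Agent.LieClassical.OrthCore (O E)
open Cfsg.Agent.H955 (IsPlus)

/-- the space -/
abbrev VV (m : ℕ) (F : Type) := Fin m ⊕ Fin m → F

section lin

variable {m : ℕ} {F : Type} [Field F]

/-- the form -/
abbrev ff (m : ℕ) (F : Type) [Field F] : LinearMap.BilinForm F (VV m F) := sympBilin m F

/-- the linear group -/
abbrev GG (m : ℕ) (F : Type) [Field F] := VV m F ≃ₗ[F] VV m F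

/-- the symplectic group -/
abbrev Sp (m : ℕ) (F : Type) [Field F] : Subgroup (GG m F) := Isos (ff m F)

/-- linear maps as permutations of the vectors -/
def pm : GG m F →* Perm (VV m F) := MulAction.toPermHom (GG m F) (VV m F)

theorem pm_apply (g : GG m F) (v : VV m F) : pm g v = g v := rfl

/-- linear maps as matrices -/
noncomputable def mx : GG m F ≃* GL (Fin m ⊕ Fin m) F := H449.Reg.cj (LinearEquiv.refl F (VV m F))

/-- `Q` polarises to the form -/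
def Pol (Q : QuadraticForm F (VV m F)) : Prop := ∀ u v, polar Q u v = ff m F u v

/-- non-degenerate subspace -/
def Nd (U : Submodule F (VV m F)) : Prop := ∀ u ∈ U, (∀ w ∈ U, ff m F u w = 0) → u = 0

/-- totally isotropic subspace -/
def Ti (U : Submodule F (VV m F)) : Prop := ∀ u ∈ U, ∀ w ∈ U, ff m F u w = 0

/-- `U ^ ⊥` -/
abbrev perp (U : Submodule F (VV m F)) : Submodule F (VV m F) := (ff m F).orthogonal U

/-- the stabiliser of a subspace -/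
def NS (U : Submodule F (VV m F)) : Subgroup (GG m F) where
  carrier := {g | g ∈ Sp m F ∧ ∀ v, g v ∈ U ↔ v ∈ U}
  one_mem' := ⟨one_mem _, fun _ => Iff.rfl⟩
  mul_mem' := fun {a b} ha hb => ⟨mul_mem ha.1 hb.1, fun v => (ha.2 (b v)).trans (hb.2 v)⟩
  inv_mem' := fun {a} ha => ⟨inv_mem ha.1, fun v => by
    rw [← ha.2]
    exact (congrArg (· ∈ U) (a.apply_symm_apply v)).to_iff⟩

/-- the stabiliser of the pair `U`, `W` -/
def NW (U W : Submodule F (VV m F)) : Subgroup (GG m F) where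
  carrier := {g | g ∈ Sp m F ∧ ((∀ v, (g v ∈ U ↔ v ∈ U) ∧ (g v ∈ W ↔ v ∈ W)) ∨ ∀ v, (g v ∈ U ↔ v ∈ W) ∧ (g v ∈ W ↔ v ∈ U))}
  one_mem' := ⟨one_mem _, Or.inl fun _ => ⟨Iff.rfl, Iff.rfl⟩⟩
  mul_mem' := by
    rintro a b ⟨ha, h1 | h1⟩ ⟨hb, h2 | h2⟩
    · exact ⟨mul_mem ha hb, Or.inl fun v => ⟨(h1 (b v)).1.trans (h2 v).1, (h1 (b v)).2.trans (h2 v).2⟩⟩
    · exact ⟨mul_mem ha hb, Or.inr fun v => ⟨(h1 (b v)).1.trans (h2 v).1, (h1 (b v)).2.trans (h2 v).2⟩⟩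
    · exact ⟨mul_mem ha hb, Or.inr fun v => ⟨(h1 (b v)).1.trans (h2 v).2, (h1 (b v)).2.trans (h2 v).1⟩⟩
    · exact ⟨mul_mem ha hb, Or.inl fun v => ⟨(h1 (b v)).1.trans (h2 v).2, (h1 (b v)).2.trans (h2 v).1⟩⟩
  inv_mem' := by
    rintro a ⟨ha, h1 | h1⟩
    · refine ⟨inv_mem ha, Or.inl fun v => ?_⟩
      have h := h1 (a⁻¹ v)
      rw [show a (a⁻¹ v) = v from a.apply_symm_apply v] at h
      exact ⟨h.1.symm, h.2.symm⟩
    · refine ⟨inv_mem ha, Or.inr fun v => ?_⟩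
      have h := h1 (a⁻¹ v)
      rw [show a (a⁻¹ v) = v from a.apply_symm_apply v] at h
      exact ⟨h.2.symm, h.1.symm⟩

/-- a self-adjoint field of linear maps of prime degree `s` -/
structure FS (s : ℕ) (K : Subalgebra F (End F (VV m F))) : Prop where
  prime : s.Prime
  field : IsField K
  dim : finrank F K = s
  adj : ∀ k ∈ K, ∀ u v, ff m F (k u) v = ff m F u (k v)

/-- the normaliser of `K` -/
def NE (K : Subalgebra F (End F (VV m F))) : Subgroup (GG m F) where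
  carrier := {g | g ∈ Sp m F ∧ ∀ k k' : End F (VV m F), (∀ v, k' (g v) = g (k v)) → (k ∈ K ↔ k' ∈ K)}
  one_mem' := ⟨one_mem _, fun k k' h => by rw [show k' = k from LinearMap.ext h]⟩
  mul_mem' := fun {a b} ha hb => ⟨mul_mem ha.1 hb.1, fun k k' h =>
    (hb.2 k (b.conj k) fun v => by simp [LinearEquiv.conj_apply]).trans (ha.2 (b.conj k) k' fun v => by
      obtain ⟨w, rfl⟩ := b.surjective v
      have h1 : k' (a (b w)) = a (b (k w)) := h w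
      simp [LinearEquiv.conj_apply, h1])⟩
  inv_mem' := fun {a} ha => ⟨inv_mem ha.1, fun k k' h => (ha.2 k' k fun v => by
    have h1 : k' (a.symm (a v)) = a.symm (k (a v)) := h (a v)
    rw [a.symm_apply_apply] at h1
    rw [h1, a.apply_symm_apply]).symm⟩

/-- the centraliser of `K` -/
def CE (K : Subalgebra F (End F (VV m F))) : Subgroup (GG m F) where
  carrier := {g | g ∈ Sp m F ∧ ∀ k ∈ K, ∀ v, k (g v) = g (k v)}
  one_mem' := ⟨one_mem _, fun _ _ _ => rfl⟩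
  mul_mem' := fun {a b} ha hb => ⟨mul_mem ha.1 hb.1, fun k hk v => (ha.2 k hk (b v)).trans (congrArg a (hb.2 k hk v))⟩
  inv_mem' := fun {a} ha => ⟨inv_mem ha.1, fun k hk v => a.injective (by
    rw [← ha.2 k hk]
    exact (congrArg k (a.apply_symm_apply v)).trans (a.apply_symm_apply _).symm)⟩

/-- the residual class -/
def Res [Fintype F] (Y : Subgroup (GG m F)) : Prop := Geo.InSymplecticResidualClass (Y.map (mx (m := m) (F := F)).toMonoidHom)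

/-- `Y` is transitive on the forms of the type of `Q` -/
def TrF (Y : Subgroup (GG m F)) (Q : QuadraticForm F (VV m F)) : Prop := ∀ g ∈ Sp m F, ∃ y ∈ Y, ∃ x ∈ O Q, g = y * x

/-- `Q + f(·, u)²` -/
def ad (Q : QuadraticForm F (VV m F)) (u : VV m F) : QuadraticForm F (VV m F) :=
  Q + linMulLin ((ff m F).flip u) ((ff m F).flip u)

theorem ad_apply (Q : QuadraticForm F (VV m F)) (u v : VV m F) : ad Q u v = Q v + ff m F v u * ff m F v u := rfl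

/-- absolute trace zero (characteristic two) -/
def T0 (c : F) : Prop := ∃ x : F, x * x + x = c

open Classical in
/-- the additive character `(-1) ^ Tr` -/
noncomputable def psi (c : F) : ℤ := if T0 c then 1 else -1

/-- the Gauss sum of `Q` on `W` -/
noncomputable def gs (Q : QuadraticForm F (VV m F)) (W : Submodule F (VV m F)) : ℤ := ∑ᶠ w : W, psi (Q w)

/-- `Y` permutes the members of an orthogonal decomposition into `t` non-degenerate spaces of dimension `k` -/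
def Dec (t k : ℕ) (Y : Subgroup (GG m F)) (U : Fin t → Submodule F (VV m F)) : Prop :=
  (∀ i, Nd (U i) ∧ finrank F (U i) = k) ∧ (∀ i j, i ≠ j → U i ≤ perp (U j)) ∧ ⨆ i, U i = ⊤ ∧
    ∀ g ∈ Y, ∀ i, ∃ j, (U i).map (g : VV m F →ₗ[F] VV m F) = U j

/-- `Y` is defined over a proper subfield -/
def Sub (Y : Subgroup (GG m F)) : Prop :=
  ∃ (σ : Perm (VV m F)) (τ : F ≃+* F), τ ≠ RingEquiv.refl F ∧ IsSemi σ τ 1 ∧ ∀ g ∈ Y, ∀ v, σ (g v) = g (σ v)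

/-- `V` as a symplectic space over the field `K ≃ K'` -/
structure Mod (K : Subalgebra F (End F (VV m F))) (b : ℕ) (K' : Type) [Field K'] [Algebra F K'] (e : VV m F ≃+ VV b K') :
    Prop where
  smul : ∀ (c : F) v, e (c • v) = algebraMap F K' c • e v
  mem : ∀ k : End F (VV m F), k ∈ K ↔ ∃ c : K', ∀ v, e (k v) = c • e v
  form : ∀ u v, ff m F u v = Algebra.trace F K' (ff b K' (e u) (e v))

end lin

/-- the order of `Sp_2m(q)` -/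
def oSp (m q : ℕ) : ℕ := q ^ (m * m) * ∏ i ∈ Finset.range m, (q ^ (2 * (i + 1)) - 1)

/-- the order of `Ω⁺_2m(q)`, `q` even -/
def oP (m q : ℕ) : ℕ := q ^ (m * (m - 1)) * (q ^ m - 1) * ∏ i ∈ Finset.range (m - 1), (q ^ (2 * (i + 1)) - 1)

/-- the order of `Ω⁻_2m(q)`, `q` even -/
def oM (m q : ℕ) : ℕ := q ^ (m * (m - 1)) * (q ^ m + 1) * ∏ i ∈ Finset.range (m - 1), (q ^ (2 * (i + 1)) - 1)

/-- the order of `G₂(q)` -/
def oG (q : ℕ) : ℕ := q ^ 6 * (q ^ 6 - 1) * (q ^ 2 - 1)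

section fr

variable {Ω : Type} [Fintype Ω] [DecidableEq Ω]

/-- **The frame.** -/
structure Fr (m : ℕ) (F : Type) [Field F] [Fintype F] (X H T M S : Subgroup (Perm Ω)) where
  L : Subgroup (Perm (VV m F))
  φ : L →* Perm Ω
  up : Up X H T M S
  two : 2 ≤ m
  ex : m = 2 → 3 ≤ Fintype.card F
  le : L ≤ semiSim m F
  sp : ∀ g ∈ Sp m F, pm g ∈ L
  sc : ∀ c : F, c ≠ 0 → ∃ g ∈ L, ∀ v, g v = c • v
  ran : φ.range = M
  ker : ∀ g : L, φ g = 1 ↔ ∃ c : F, ∀ v, g.1 v = c • v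
  soc : ∀ s, s ∈ S ↔ ∃ g : Sp m F, φ ⟨pm g.1, sp g.1 g.2⟩ = s

namespace Fr

variable {m : ℕ} {F : Type} [Field F] [Fintype F] {X H T M S : Subgroup (Perm Ω)} (D : Fr m F X H T M S)

/-- `Sp → S` -/
def π : Sp m F →* Perm Ω := D.φ.comp ((pm.comp (Sp m F).subtype).codRestrict D.L fun g => D.sp g.1 g.2)

/-- the preimage in `Sp` -/
def pre (Y : Subgroup (Perm Ω)) : Subgroup (GG m F) := (Y.comap D.π).map (Sp m F).subtype

/-- the preimage in `L` -/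
def hat (Y : Subgroup (Perm Ω)) : Subgroup (Perm (VV m F)) := (Y.comap D.φ).map D.L.subtype

/-- the preimage of `T` -/
abbrev A : Subgroup (GG m F) := D.pre T
/-- the preimage of `H ⊓ S` -/
abbrev N : Subgroup (GG m F) := D.pre H
/-- the preimage of `S_a` -/
abbrev C (a : Ω) : Subgroup (GG m F) := D.pre (stabilizer (Perm Ω) a)
/-- the preimage of `H` -/
abbrev HH : Subgroup (Perm (VV m F)) := D.hat H
/-- the preimage of `M_a` -/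
abbrev BB (a : Ω) : Subgroup (Perm (VV m F)) := D.hat (stabilizer (Perm Ω) a)

/-- `S_a` fixes a point -/
def C1 (a : Ω) : Prop := ∃ x : VV m F, x ≠ 0 ∧ ∀ g ∈ D.C a, ∃ c : F, g x = c • x
/-- `S_a` fixes a non-degenerate plane -/
def C2 (a : Ω) : Prop := ∃ U : Submodule F (VV m F), finrank F U = 2 ∧ Nd U ∧ D.C a ≤ NS U
/-- `S_a` fixes a quadratic form -/
def C3 (a : Ω) : Prop := (2 : F) = 0 ∧ ∃ Q, Pol Q ∧ D.C a ≤ O Q
/-- `T` fixes a quadratic form -/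
def C4 : Prop := (2 : F) = 0 ∧ ∃ Q, Pol Q ∧ D.A ≤ O Q

/-- `T = Ω(Q)`, `H ⊓ S = O(Q)` -/
structure Om (Q : QuadraticForm F (VV m F)) : Prop where
  two : (2 : F) = 0
  pol : Pol Q
  eqA : D.A = E Q
  eqN : D.N = O Q
  sem : ∀ g ∈ D.HH, ∀ (σ : F ≃+* F) (l : F), IsSemi g σ l → ∀ v, Q (g v) = l * σ (Q v)

/-- `T = Ω^ε_2m(q)`, `S_a = Sp_2b(q^s).s` -/
def R1 (a : Ω) : Prop := ∃ Q s K, D.Om Q ∧ FS s K ∧ s < m ∧ (IsPlus Q → Odd s) ∧ D.C a = NE K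
/-- `T = Ω⁻_2m(q)`, `S_a = Sp_m(q) wr 2` -/
def R2 (a : Ω) : Prop := ∃ (Q : QuadraticForm F (VV m F)) (U : Submodule F (VV m F)), D.Om Q ∧ ¬ IsPlus Q ∧ finrank F U = m ∧ Nd U ∧ D.C a = NW U (perp U)
/-- `T = G₂(q)`, `S_a = Sp₂(q) × Sp₄(q)` -/
def R3 (a : Ω) : Prop := m = 3 ∧ (2 : F) = 0 ∧ 4 ≤ Fintype.card F ∧ Nonempty (T ≃* Lie.chevG2.group F) ∧
  ∃ U : Submodule F (VV m F), finrank F U = 2 ∧ Nd U ∧ D.C a = NS U
/-- `q = 2`, `S_a = O(Q)` -/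
def Fo (a : Ω) (Q : QuadraticForm F (VV m F)) : Prop := Fintype.card F = 2 ∧ Pol Q ∧ D.C a = O Q
/-- `q = 2`, `T = Sp_2b(2^s)`, `S_a = O^ε_2m(2)` -/
def R4 (a : Ω) : Prop := ∃ Q s K, D.Fo a Q ∧ FS s K ∧ D.A = CE K
/-- `q = 2`, `T = Ω^ε_2m(2)`, `S_a = O^(-ε)_2m(2)` -/
def R5 (a : Ω) : Prop := ∃ Q Q', D.Fo a Q' ∧ D.Om Q
/-- `q = 2`, `S_a = O^ε_2m(2)`, `T = U₃(3), A₁₀, L₂(17)` -/
def R6 (a : Ω) (m₀ t n : ℕ) : Prop := m = m₀ ∧ Nat.card T = t ∧ Fintype.card Ω = n ∧ ∃ Q, D.Fo a Q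
/-- `T = A₈`, `S = Sp₆(2)`, `S_a = G₂(2)` -/
def R7 (a : Ω) : Prop := m = 3 ∧ Fintype.card F = 2 ∧ (∃ Q, D.Om Q ∧ IsPlus Q) ∧ Res (D.C a) ∧ Nat.card (D.C a) = 12096

end Fr

/-- the overgroups with a frame, `m ≥ 3`, with the property `P` -/
def OvR (P : ∀ (m : ℕ) (F : Type) [Field F] [Fintype F] (Ω : Type) [Fintype Ω] [DecidableEq Ω] (X H T M S : Subgroup (Perm Ω)),
    Fr m F X H T M S → Ω → Prop) (X H T : Subgroup (Perm Ω)) (a : Ω) : Set (Subgroup (Perm Ω)) :=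
  {M | ∃ (S : Subgroup (Perm Ω)) (m : ℕ) (F : Type) (_ : Field F) (_ : Fintype F) (D : Fr m F X H T M S),
    3 ≤ m ∧ P m F Ω X H T M S D a}

end fr

/-- a property of frames -/
abbrev FP := ∀ (m : ℕ) (F : Type) [Field F] [Fintype F] (Ω : Type) [Fintype Ω] [DecidableEq Ω] (X H T M S : Subgroup (Perm Ω)),
  Fr m F X H T M S → Ω → Prop

/-- for all frames and points -/
def All (P : FP) : Prop :=
  ∀ (m : ℕ) (F : Type) [Field F] [Fintype F] (Ω : Type) [Fintype Ω] [DecidableEq Ω] (X H T M S : Subgroup (Perm Ω))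
    (D : Fr m F X H T M S) (a : Ω), P m F Ω X H T M S D a

/-- at most `k` overgroups with the property `P` -/
def Cnt (P : FP) (k : ℕ) : Prop :=
  ∀ (Ω : Type) [Fintype Ω] [DecidableEq Ω] (X H T : Subgroup (Perm Ω)) (a : Ω), (OvR P X H T a).ncard ≤ k

/-! ### the boxes: classification -/

/-- `S = PSp₄(q)`, `q` odd -/
def BoxTwoO : Prop := All fun m F _ _ _ _ _ _ _ _ _ _ D a => m = 2 → (2 : F) ≠ 0 → D.C1 a
/-- `S = Sp₄(q)`, `q` even (graph automorphisms: no frame is given) -/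
def BoxTwoE : Prop := Nil fun S _ => ∃ (F : Type) (_ : Field F) (_ : Fintype F), (2 : F) = 0 ∧ 4 ≤ Fintype.card F ∧
  Nonempty (S ≃* PSp 2 F)
/-- the four cases, `m ≥ 5` without `(m, q) = (5, 2), (6, 2)` -/
def BoxCLa : Prop := All fun m F _ _ _ _ _ _ _ _ _ _ D a => 5 ≤ m → (m ≤ 6 → Fintype.card F ≠ 2) →
  D.C1 a ∨ D.C2 a ∨ D.C3 a ∨ D.C4
/-- the four cases, `q = 2`, `3 ≤ m ≤ 6` -/
def BoxCLb : Prop := All fun m F _ _ _ _ _ _ _ _ _ _ D a => 3 ≤ m → m ≤ 6 → Fintype.card F = 2 →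
  D.C1 a ∨ D.C2 a ∨ D.C3 a ∨ D.C4
/-- the four cases, `m = 3, 4`, `q > 2` -/
def BoxCLc : Prop := All fun m F _ _ _ _ _ _ _ _ _ _ D a => 3 ≤ m → m ≤ 4 → Fintype.card F ≠ 2 →
  D.C1 a ∨ D.C2 a ∨ D.C3 a ∨ D.C4
/-- `Sp₁₄(2)` -/
def Box14 : Prop := ∀ (F : Type) [Field F] [Fintype F] (Y : Subgroup (GG 7 F)), Fintype.card F = 2 → Y ≤ Sp 7 F → Y ≠ Sp 7 F →
  13 ∣ Nat.card Y → 17 ∣ Nat.card Y → 31 ∣ Nat.card Y → H925.Rs.RedG Y ∨ ∃ Q, Pol Q ∧ Y ≤ O Q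
/-- points -/
def BoxK1 : Prop := All fun _ _ _ _ _ _ _ _ _ _ _ _ D a => ¬ D.C1 a
/-- planes, `m ≥ 4` -/
def BoxK2a : Prop := All fun m _ _ _ _ _ _ _ _ _ _ _ D a => 4 ≤ m → ¬ D.C2 a
/-- planes, `m = 3` -/
def BoxK2b : Prop := All fun m _ _ _ _ _ _ _ _ _ _ _ D a => m = 3 → D.C2 a → D.R3 a
/-- forms: `q = 2` -/
def BoxK3q : Prop := All fun _ _ _ _ _ _ _ _ _ _ _ _ D a => D.C3 a → ∃ Q, D.Fo a Q
/-- forms, `q = 2`: `H` geometric or residual -/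
def BoxK3g : Prop := All fun m _ _ _ _ _ _ _ _ _ _ _ D a => 3 ≤ m → ∀ Q, D.Fo a Q → D.R4 a ∨ D.R5 a ∨ Res D.N
/-- forms, `q = 2`, `H` residual, `m ≤ 6` -/
def BoxK3s : Prop := All fun m _ _ _ _ _ _ _ _ _ _ _ D a => 3 ≤ m → m ≤ 6 → ∀ Q, D.Fo a Q → Res D.N →
  D.R6 a 3 6048 28 ∨ D.R6 a 3 6048 36 ∨ D.R6 a 4 1814400 120 ∨ D.R6 a 4 2448 136
/-- `T` fixes a form -/
def BoxK4a : Prop := All fun _ _ _ _ _ _ _ _ _ _ _ _ D _ => D.C4 → ∃ Q, D.Om Q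
/-- `T = Ω(Q)`: `S_a` geometric or residual, plus type -/
def BoxK4p : Prop := All fun m _ _ _ _ _ _ _ _ _ _ _ D a => 3 ≤ m → ∀ Q, D.Om Q → IsPlus Q → D.C3 a ∨ D.R1 a ∨ Res (D.C a)
/-- `T = Ω(Q)`: `S_a` geometric or residual, minus type -/
def BoxK4m : Prop := All fun m _ _ _ _ _ _ _ _ _ _ _ D a => 3 ≤ m → ∀ Q, D.Om Q → ¬ IsPlus Q →
  D.C3 a ∨ D.R1 a ∨ D.R2 a ∨ Res (D.C a)
/-- `T = Ω(Q)`, `S_a` residual, `m = 3` -/
def BoxK4g : Prop := All fun m _ _ _ _ _ _ _ _ _ _ _ D a => m = 3 → ∀ Q, D.Om Q → Res (D.C a) → D.R7 a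
/-- `T = Ω(Q)`, `S_a` residual, `4 ≤ m ≤ 6` -/
def BoxK4s : Prop := All fun m _ _ _ _ _ _ _ _ _ _ _ D a => 4 ≤ m → m ≤ 6 → ∀ Q, D.Om Q → ¬ Res (D.C a)
/-- a residual group is not transitive on the forms of plus type, `m ≥ 7` -/
def BoxResP : Prop := ∀ (m : ℕ) (F : Type) [Field F] [Fintype F] (Y : Subgroup (GG m F)) (Q : QuadraticForm F (VV m F)),
  7 ≤ m → (2 : F) = 0 → Pol Q → IsPlus Q → Y ≤ Sp m F → Y ≠ Sp m F → Res Y → ¬ TrF Y Q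
/-- residual groups and forms of minus type, `m ≥ 7` (from `CS.CS1`, `CS.CS2`) -/
def BoxResM : Prop := All fun m _ _ _ _ _ _ _ _ _ _ _ D a => 7 ≤ m → ∀ Q, ¬ IsPlus Q →
  (D.Fo a Q → ¬ Res D.N) ∧ (D.Om Q → ¬ Res (D.C a))

/-! ### tools -/

/-- Aschbacher's theorem in characteristic two -/
def BoxAsch : Prop := ∀ (m : ℕ) (F : Type) [Field F] [Fintype F] (Y : Subgroup (GG m F)), 2 ≤ m → (m = 2 → 3 ≤ Fintype.card F) →
  (2 : F) = 0 → Y ≤ Sp m F → Y ≠ Sp m F →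
  H925.Rs.RedG Y ∨ (∃ t k U, 2 ≤ t ∧ Dec t k Y U) ∨ (∃ s K, FS s K ∧ Y ≤ NE K) ∨ Sub Y ∨ (∃ Q, Pol Q ∧ Y ≤ O Q) ∨ Res Y

/-- extension fields -/
def BoxKS : Prop := ∀ (m : ℕ) (F : Type) [Field F] [Fintype F] (s : ℕ) (K : Subalgebra F (End F (VV m F))), 1 ≤ m → FS s K →
  ∃ (b : ℕ) (K' : Type) (_ : Field K') (_ : Fintype K') (_ : Algebra F K') (e : VV m F ≃+ VV b K'),
    m = s * b ∧ Fintype.card K' = Fintype.card F ^ s ∧ Mod K b K' e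

/-- `T = Ω(Q)`: `M_a` fixes no subspace -/
def BoxK4Red : Prop := All fun m F _ _ _ _ _ _ _ _ _ _ D a => 3 ≤ m → ∀ Q, D.Om Q → ∀ W : Submodule F (VV m F),
  (∀ g ∈ D.BB a, ∀ w ∈ W, g w ∈ W) → W = ⊥ ∨ W = ⊤
/-- `T = Ω(Q)`: `M_a` normalises a field which is closed under adjoints -/
def BoxK4Ext : Prop := All fun m F _ _ _ _ _ _ _ _ _ _ D a => 3 ≤ m → ∀ Q, D.Om Q → ∀ K : Subalgebra F (End F (VV m F)),
  IsField K → K ≠ ⊥ → (∀ k ∈ K, ∃ k' ∈ K, ∀ u v, ff m F (k u) v = ff m F u (k' v)) →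
  (∀ g ∈ D.BB a, ∀ k ∈ K, ∃ k' ∈ K, ∀ v, k' (g v) = g (k v)) → D.C3 a ∨ D.R1 a
/-- `T = Ω(Q)`: `M_a` does not centralise a field automorphism -/
def BoxK4Sub : Prop := All fun m F _ _ _ _ _ _ _ _ _ _ D a => 3 ≤ m → ∀ Q, D.Om Q → ∀ (σ : Perm (VV m F)) (τ : F ≃+* F),
  τ ≠ RingEquiv.refl F → IsSemi σ τ 1 → ¬ ∀ g ∈ D.BB a, ∀ ρ : F ≃+* F, IsSemi g ρ 1 → σ * g = g * σ
/-- `T = Ω(Q)`: `M_a` fixes a pair of complementary subspaces -/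
def BoxK4Dec : Prop := All fun m F _ _ _ _ _ _ _ _ _ _ D a => 3 ≤ m → ∀ Q, D.Om Q → ∀ U W : Submodule F (VV m F),
  finrank F U = m → finrank F W = m → IsCompl U W → ((Nd U ∧ W = perp U) ∨ (Ti U ∧ Ti W)) →
  (∀ g ∈ D.BB a, ((∀ u ∈ U, g u ∈ U) ∧ ∀ w ∈ W, g w ∈ W) ∨ ((∀ u ∈ U, g u ∈ W) ∧ ∀ w ∈ W, g w ∈ U)) → D.C3 a ∨ D.R2 a
/-- a group which permutes three or more orthogonal summands is not transitive on forms -/
def BoxDecT : Prop := ∀ (m : ℕ) (F : Type) [Field F] [Fintype F] (Y : Subgroup (GG m F)) (Q : QuadraticForm F (VV m F))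
  (t k : ℕ) (U : Fin t → Submodule F (VV m F)), 1 ≤ m → (2 : F) = 0 → Pol Q → Y ≤ Sp m F → 3 ≤ t → Dec t k Y U → ¬ TrF Y Q

/-! ### the boxes: counts -/

/-- `T = Ω^ε_2m(q)` without triality -/
def CntO : Prop := Cnt (fun m _ _ _ _ _ _ _ _ _ _ _ D a => 4 ≤ m ∧ (m = 4 → ∀ Q, D.Om Q → ¬ IsPlus Q) ∧
  (D.R1 a ∨ D.R2 a ∨ D.R5 a)) 2
/-- two-graphs of a rank 3 group -/
def Cnt5 : Prop := Cnt (fun _ _ _ _ _ _ _ _ _ _ _ _ D a => D.R5 a) 2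
/-- `T = Sp_2b(2^s)` -/
def Cnt4 : Prop := Cnt (fun _ _ _ _ _ _ _ _ _ _ _ _ D a => D.R4 a) 2
/-- `T = G₂(q)` -/
def Cnt3 : Prop := Cnt (fun _ _ _ _ _ _ _ _ _ _ _ _ D a => D.R3 a) 2
/-- the small rows -/
def Cnt6 (m₀ t n : ℕ) : Prop := Cnt (fun _ _ _ _ _ _ _ _ _ _ _ _ D a => D.R6 a m₀ t n) 5
/-- `A₈ < Sp₆(2)` on 120 points -/
def Cnt7 : Prop := Cnt (fun _ _ _ _ _ _ _ _ _ _ _ _ D a => D.R7 a) 5

/-- **the table** -/
def RS : Tab := fun t n k =>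
  (k = 2 ∧ ((∃ m e, 4 ≤ m ∧ 1 ≤ e ∧ ((t = oP m (2 ^ e) ∧ (m = 4 → n = 120)) ∨ t = oM m (2 ^ e))) ∨
    (∃ b s, 1 ≤ b ∧ s.Prime ∧ 3 ≤ b * s ∧ t = oSp b (2 ^ s) ∧
      (n = 2 ^ (b * s - 1) * (2 ^ (b * s) + 1) ∨ n = 2 ^ (b * s - 1) * (2 ^ (b * s) - 1))) ∨
    (∃ e, 2 ≤ e ∧ t = oG (2 ^ e) ∧ n = (2 ^ e) ^ 4 * ((2 ^ e) ^ 4 + (2 ^ e) ^ 2 + 1)) ∨
    (t = 20160 ∧ n = 28) ∨ (t = 25920 ∧ n = 36))) ∨
  (k = 5 ∧ ((t = 6048 ∧ n = 28) ∨ (t = 6048 ∧ n = 36) ∨ (t = 1814400 ∧ n = 120) ∨ (t = 2448 ∧ n = 136) ∨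
    (t = 20160 ∧ n = 120)))

end Cfsg.Agent.SM.Sy
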