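import Cfsg.Agent.SM.Sy.Red
import Cfsg.Agent.SM.Sy.Form

/-!
# SM (S3570), symplectic socles: points and forms over large fields are killed by non-maximality (helper45)
-/

set_option autoImplicit false
set_option linter.unusedSectionVars false
set_option linter.unusedVariables false

namespace Cfsg.Agent.SM.Sy

open Cfsg Equiv Subgroup MulAction Module QuadraticMap
open Cfsg.Agent.ClassicalGeometry.SympBasic Cfsg.Agent.ClassicalGeometry.SympAutSemi
open Cfsg.Agent.LieClassical.OrthCore Cfsg.Agent.LieClassical.OrthTrans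

namespace Ko

open Rd hiding ff_self perp_perp tv_apply tv_mem

variable {Ω : Type} [Fintype Ω] [DecidableEq Ω] {X H T M S : Subgroup (Perm Ω)}

/-- a map of order three which keeps an `M`-invariant relation is induced by `M` -/
theorem odd_mem (u : Up X H T M S) {ι : Type} {r : (ι → Ω) → Prop} (hM : ∀ g ∈ M, ∀ x, r x → r (g ∘ x))
    (hA : ¬ alternatingGroup Ω ≤ relStab r) (k : Ω → Ω) (h3 : ∀ b, k (k (k b)) = b) (hk : ∀ x, r x → r (k ∘ x)) :
    ∃ g ∈ M, ∀ b, g b = k b := by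
  let ψ : Perm Ω := ⟨k, k ∘ k, h3, h3⟩
  refine ⟨ψ, u.mem_of_le (le_relStab hM) hA (fun x => ⟨fun h => ?_, hk x⟩) ?_, fun _ => rfl⟩
  · exact (funext fun i => h3 (x i) : k ∘ k ∘ k ∘ x = x) ▸ hk _ (hk _ h)
  · have h := congrArg Perm.sign (Equiv.ext h3 : ψ * ψ * ψ = 1)
    rwa [map_mul, map_mul, Int.units_mul_self, one_mul, map_one] at h

theorem inj3 {p q s : Ω} (h1 : p ≠ q) (h2 : p ≠ s) (h3 : q ≠ s) : Function.Injective ![p, q, s] := fun i j e => by
  fin_cases i <;> fin_cases j <;> simp_all [eq_comm]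

theorem not_alt4 {r : (Fin 4 → Ω) → Prop} {p q s t z : Ω} (h1 : p ≠ q) (h2 : p ≠ s) (h3 : p ≠ t) (h4 : p ≠ z) (h5 : q ≠ s)
    (h6 : q ≠ t) (h7 : q ≠ z) (h8 : s ≠ t) (h9 : s ≠ z) (h10 : t ≠ z) (h : r ![p, q, s, t]) (h' : ¬ r ![q, p, s, z]) :
    ¬ alternatingGroup Ω ≤ relStab r := fun k => h' (by
  have h11 := (k (show swap p q * swap t z ∈ alternatingGroup Ω by simp [Perm.mem_alternatingGroup, h1, h10]) _).2 h
  convert h11
  ext i
  fin_cases i <;> simp [swap_apply_of_ne_of_ne, h3, h4, h6, h7, h8, h9, h2.symm, h4.symm, h5.symm, h7.symm])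

variable {m : ℕ} {F : Type} [Field F] [Fintype F]

theorem mem_sw {W : Set (VV m F)} {g : Perm (VV m F)} (h : ∀ w ∈ W, g w ∈ W) : g ∈ sw W := fun v =>
  ⟨fun k => by
    obtain ⟨w, hw, e⟩ := (((Set.toFinite W).injOn_iff_bijOn_of_mapsTo h).1 g.injective.injOn).surjOn k
    exact g.injective e ▸ hw, h v⟩

theorem mem_NS {W : Submodule F (VV m F)} {g : GG m F} (hg : g ∈ Sp m F) (h : ∀ w ∈ W, g w ∈ W) : g ∈ NS W :=
  ⟨hg, fun v => mem_sw (g := pm g) (W := W) h v⟩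

theorem semi_span {g : Perm (VV m F)} (h : g ∈ semiSim m F) {x y v : VV m F} (h1 : g x ∈ F ∙ y) (hv : v ∈ F ∙ x) : g v ∈ F ∙ y := by
  obtain ⟨σ, l, -, h⟩ := h
  obtain ⟨c, rfl⟩ := Submodule.mem_span_singleton.1 hv
  exact h.2.1 c x ▸ Submodule.smul_mem _ _ h1

variable (D : Fr m F X H T M S)

/-- `M_a` fixes the point -/
theorem fix_pt {a x} (hx0 : x ≠ 0) (hx : ∀ g ∈ D.C a, ∃ c : F, g x = c • x) : ∀ g ∈ D.BB a, g x ∈ F ∙ x := by
  let P : Set (VV m F) := {y | ∀ g ∈ D.C a, ∃ c : F, g y = c • y}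
  have h1 : ∀ g ∈ D.BB a, ∀ w ∈ Submodule.span F P, g w ∈ Submodule.span F P := fun g hg w hw => by
    obtain ⟨σ, l, -, h⟩ := hat_le D hg
    refine Submodule.span_induction (fun y hy => Submodule.subset_span fun s hs => ?_) ((semi_zero h).symm ▸ zero_mem _)
      (fun _ _ _ _ k k' => h.1 _ _ ▸ add_mem k k') (fun c y _ k => h.2.1 c y ▸ Submodule.smul_mem _ _ k) hw
    obtain ⟨s', h2, e⟩ := conj_pre D (inv_mem hg) hs
    obtain ⟨c, hc⟩ := hy s' h2
    refine ⟨σ c, ?_⟩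
    rw [← h.2.1, ← hc, ← pm_apply s', e, inv_inv, Perm.mul_apply, Perm.mul_apply, perm_apply_inv_self, pm_apply]
  have h2 : x ∈ Submodule.span F P := Submodule.subset_span hx
  have h3 := eq_NS D a (fun k => hx0 ((Submodule.eq_bot_iff _).1 k x h2)) (fun k => (D.up.fac a).not_comm ?_) h1
  · have h4 : ∀ y ∈ P, ∀ z ∈ Submodule.span F P, ff m F y z = 0 := fun y hy z hz => by
      obtain ⟨c, hc⟩ := hy _ (h3.ge (Rd.tv_mem (.inl hz) 1))
      have h4 := congrArg (ff m F y) hc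
      rwa [Rd.tv_apply, map_add, map_smul, map_smul, ff_self, smul_zero, zero_add, one_mul, smul_eq_mul, mul_self_eq_zero] at h4
    have h5 : Submodule.span F P ≤ F ∙ x := Submodule.span_le.2 fun y hy => by_contra fun hy' => by
      obtain ⟨z, hz, h5⟩ : ∃ z ∈ perp (F ∙ x), ff m F z y ≠ 0 := by
        by_contra! h
        exact hy' (perp_perp (F ∙ x) ▸ h)
      have h6 : ff m F x z = 0 := hz x (Submodule.mem_span_singleton_self x)
      have h7 : ∀ v ∈ Submodule.span F P, (tv (z + x) 1 * tv z (-1)) v = v + (ff m F v z) • x := fun v hv => by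
        have h7 := ff_eq_zero_comm.1 (h4 x hx v hv)
        show tv _ _ (tv _ _ v) = _
        simp only [tv_apply, map_add, map_smul, h7, ff_self, ff_eq_zero_comm.1 h6]
        module
      obtain ⟨c, hc⟩ := hy (tv (z + x) 1 * tv z (-1)) (h3.ge (mem_NS (mul_mem (tv_mem _ _) (tv_mem _ _))
        fun v hv => (h7 v hv).symm ▸ add_mem hv (Submodule.smul_mem _ _ h2)))
      rw [h7 y (Submodule.subset_span hy)] at hc
      have h8 := mt ff_eq_zero_comm.1 h5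
      rcases eq_or_ne c 1 with rfl | h9
      · rw [one_smul, add_eq_left, smul_eq_zero] at hc
        tauto
      · refine hy' (Submodule.mem_span_singleton.2 ⟨(c - 1)⁻¹ * ff m F y z, ?_⟩)
        rw [mul_smul, eq_sub_of_add_eq' hc, inv_smul_eq_iff₀ (sub_ne_zero.2 h9), sub_smul, one_smul]
    exact fun g hg => h5 (h1 g hg x h2)
  · have h4 : ∀ t ∈ T ⊓ (M ⊓ stabilizer (Perm Ω) a), ∃ s : Sp m F, s.1 ∈ D.C a ∧ D.π s = t := fun t ht => by
      obtain ⟨s, rfl⟩ := (D.soc t).1 (D.up.le ht.1)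
      exact ⟨s, ⟨s, ht.2.2, rfl⟩, rfl⟩
    intro t ht t' ht'
    obtain ⟨s, hs, rfl⟩ := h4 t ht
    obtain ⟨s', hs', rfl⟩ := h4 t' ht'
    rw [← map_mul, ← map_mul]
    refine congrArg D.π (Subtype.ext (LinearEquiv.toLinearMap_injective (LinearMap.ext_on k fun y hy => ?_)))
    obtain ⟨c, hc⟩ := hy _ hs
    obtain ⟨c', hc'⟩ := hy _ hs'
    show s'.1 (s.1 y) = s.1 (s'.1 y)
    rw [hc, hc', map_smul, map_smul, hc, hc', smul_comm]

/-- `Sp → L` -/
def lp (s : Sp m F) : D.L := ⟨pm s.1, D.sp _ s.2⟩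

theorem conj_iff (a : Ω) (g : D.L) (s t : Sp m F) :
    D.φ g (D.π s a) = D.π t a ↔ (pm t.1)⁻¹ * g * pm s.1 ∈ D.BB a := by
  rw [← Perm.eq_inv_iff_eq, eq_comm, Perm.inv_eq_iff_eq]
  have h : D.φ ((lp D t)⁻¹ * g * lp D s) a = a ↔ D.φ g (D.π s a) = D.π t a := by
    rw [D.φ.map_mul, D.φ.map_mul, D.φ.map_inv, Perm.mul_apply, Perm.mul_apply, Perm.inv_eq_iff_eq]; rfl
  exact eq_comm.trans (h.symm.trans ⟨fun k => ⟨_, k, rfl⟩, fun k => ((mem_hat D).1 k).2⟩)

theorem exists_pi (a b : Ω) : ∃ s, D.π s a = b := by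
  obtain ⟨t, ht, rfl⟩ := D.up.trans a b
  obtain ⟨s, rfl⟩ := (D.soc t).1 (D.up.le ht)
  exact ⟨s, rfl⟩

/-- `Ω` is the projective space -/
theorem exists_pt {a} (h : D.C1 a) : ∃ κ : VV m F → Ω, (∀ b, ∃ y ≠ 0, κ y = b) ∧
    ∀ (g : D.L) y y', y ≠ 0 → y' ≠ 0 → (D.φ g (κ y) = κ y' ↔ g.1 y ∈ F ∙ y') := by
  obtain ⟨x, hx0, hx⟩ := h
  have h1 : ∀ g ∈ D.L, g ∈ D.BB a ↔ g x ∈ F ∙ x := fun g hg => ⟨fix_pt D hx0 hx g, fun k => stabB D a
    (Y := sw (F ∙ x : Submodule F _)) (fun g hg => mem_sw fun v => semi_span (hat_le D hg) (fix_pt D hx0 hx g hg))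
    (not_sw (by simpa using hx0) fun e => by
      have h1 := finrank_span_singleton (K := F) hx0
      rw [e, finrank_top, finrank_VV] at h1
      omega) hg (mem_sw fun v => semi_span (D.le hg) k)⟩
  have h2 : ∀ y, ∃ s : Sp m F, y ≠ 0 → s.1 x = y := fun y => by
    by_cases hy : y = 0
    · exact ⟨1, fun k => absurd hy k⟩
    · obtain ⟨s, hs, e⟩ := sp_trans hx0 hy
      exact ⟨⟨s, hs⟩, fun _ => e⟩
  choose t ht using h2
  have h3 : ∀ (g : D.L) (s : Sp m F) y', y' ≠ 0 → (D.φ g (D.π s a) = D.π (t y') a ↔ g.1 (s.1 x) ∈ F ∙ y') := fun g s y' hy' => by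
    refine (conj_iff D a g s _).trans ((h1 _ ((lp D (t y'))⁻¹ * g * lp D s).2).trans ?_)
    rw [Submodule.mem_span_singleton, Submodule.mem_span_singleton]
    refine exists_congr fun c => ?_
    show c • x = (pm (t y').1)⁻¹ (g.1 (s.1 x)) ↔ _
    rw [Perm.eq_inv_iff_eq, pm_apply, map_smul, ht y' hy']
  refine ⟨fun y => D.π (t y) a, fun b => ?_, fun g y y' hy hy' => by rw [h3 _ _ _ hy', ht y hy]⟩
  obtain ⟨s, rfl⟩ := exists_pi D a b
  have h4 : s.1 x ≠ 0 := s.1.map_ne_zero_iff.2 hx0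
  exact ⟨_, h4, by simpa using ((h3 1 s _ h4).2 (Submodule.mem_span_singleton_self _)).symm⟩

/-- a semisimilitude which normalises a group with exactly one invariant form -/
theorem sem_of (h2 : (2 : F) = 0) {Q : QuadraticForm F (VV m F)} (hQ : Pol Q) {Y : Subgroup (GG m F)} (hY : Y ≤ O Q)
    (hf : ∀ u, (∀ s ∈ Y, s u = u) → u = 0) {g : Perm (VV m F)} {σ : F ≃+* F} {l : F} (hl : l ≠ 0) (hg : IsSemi g σ l)
    (hn : ∀ s ∈ Y, ∃ s' ∈ Y, pm s' = g * pm s * g⁻¹) (v : VV m F) : Q (g v) = l * σ (Q v) := by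
  have h1 : ∀ x y, σ.symm (l⁻¹ * Q (g (x + y))) = σ.symm (l⁻¹ * Q (g x)) + σ.symm (l⁻¹ * Q (g y)) + ff m F x y := fun x y => by
    rw [hg.1, hQ.add, mul_add, mul_add, map_add, map_add, sympBilin_apply, hg.2.2, inv_mul_cancel_left₀ hl, σ.symm_apply_apply,
      sympBilin_apply]
  let Q' : QuadraticForm F (VV m F) := ⟨fun v => σ.symm (l⁻¹ * Q (g v)), fun c v => by
    rw [hg.2.1, QuadraticMap.map_smul, smul_eq_mul, mul_left_comm, map_mul, map_mul, σ.symm_apply_apply, smul_eq_mul], _, h1⟩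
  obtain ⟨u, hu⟩ := exists_ad h2 hQ (Q' := Q') fun x y => by
    rw [polar, show Q' (x + y) = Q' x + Q' y + _ from h1 x y]; ring
  obtain rfl := hf u fun s hs => (mem_O_ad h2 hQ (hY hs)).1 (hu ▸ fun v => by
    obtain ⟨s', hs', e⟩ := hn s hs
    refine congrArg (fun c => σ.symm (l⁻¹ * c)) (Eq.trans (congrArg Q ?_) (hY hs' (g v)))
    rw [← pm_apply s', e, Perm.mul_apply, Perm.mul_apply, perm_inv_apply_self, pm_apply])
  rw [ad_zero] at hu
  rw [← show Q' v = Q v from hu ▸ rfl]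
  show _ = l * σ (σ.symm _)
  rw [σ.apply_symm_apply, mul_inv_cancel_left₀ hl]

theorem not_sw_Q (hm : 2 ≤ m) {Q : QuadraticForm F (VV m F)} (hQ : Pol Q) : ¬ ∀ g ∈ Sp m F, pm g ∈ sw {v | Q v = 0} := fun h => by
  obtain ⟨x, y, hh⟩ := exists_hyp_VV hQ hm
  have h1 : Q (x + y) ≠ 0 := by rw [Q_add, hh.left, hh.right, hh.pair]; simp
  obtain ⟨g, hg, e⟩ := sp_trans (x := x) (y := x + y) (fun e => by simpa [e] using hh.pair) fun e => h1 (by rw [e, map_zero])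
  exact h1 (e ▸ (h g hg x).2 hh.left)

/-- `Ω` is the orbit of the form -/
theorem exists_fm {a} (h2 : (2 : F) = 0) {Q : QuadraticForm F (VV m F)} (hQ : Pol Q) (hC : D.C a ≤ O Q) (h1 : ¬ D.C1 a) :
    D.C a = O Q ∧ ∃ κ : VV m F → Ω, (∀ b, ∃ z, T0 (Q z) ∧ κ z = b) ∧ ∀ (g : D.L) σ l z z', l ≠ 0 → IsSemi g.1 σ l → T0 (Q z) →
      T0 (Q z') → (D.φ g (κ z) = κ z' ↔ ∀ v, ad Q z' (g.1 v) = l * σ (ad Q z v)) := by
  have h3 : ∀ g ∈ D.BB a, ∀ σ l, l ≠ 0 → IsSemi g σ l → ∀ v, Q (g v) = l * σ (Q v) := fun g hg σ l hl h =>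
    sem_of h2 hQ hC (fun u hu => by_contra fun k => h1 ⟨u, k, fun s hs => ⟨1, (hu s hs).trans (one_smul F u).symm⟩⟩) hl h
      fun s => conj_pre D hg
  have h4 : ∀ g ∈ D.L, (∀ v, Q v = 0 → Q (g v) = 0) → g ∈ D.BB a := fun g hg h => stabB D a (Y := sw {v | Q v = 0}) (fun g hg => by
    obtain ⟨σ, l, hl, h⟩ := hat_le D hg
    exact mem_sw fun v hv => (h3 g hg σ l hl h v).trans (by rw [show Q v = 0 from hv, map_zero, mul_zero]))
    (not_sw_Q D.two hQ) hg (mem_sw h)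
  refine ⟨le_antisymm hC fun s hs => (mem_pre D).2 ⟨O_le_Sp hQ hs, h4 _ (D.sp s (O_le_Sp hQ hs)) fun v hv => (hs v).trans hv⟩, ?_⟩
  have h5 : ∀ z, ∃ s : Sp m F, T0 (Q z) → ∀ v, Q (s.1⁻¹ v) = ad Q z v := fun z => by
    by_cases hz : T0 (Q z)
    · obtain ⟨s, hs, e⟩ := orb_of_t0 h2 hQ hz
      exact ⟨⟨s⁻¹, inv_mem hs⟩, fun _ => e⟩
    · exact ⟨1, fun k => absurd k hz⟩
  choose t ht using h5
  have h6 : ∀ (g : D.L) σ l (s : Sp m F) z', l ≠ 0 → IsSemi g.1 σ l → T0 (Q z') →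
      (D.φ g (D.π s a) = D.π (t z') a ↔ ∀ v, ad Q z' (g.1 v) = l * σ (Q (s.1⁻¹ v))) := fun g σ l s z' hl h hz' => by
    have h6 : ∀ v, Q (((pm (t z').1)⁻¹ * g * pm s.1) (s.1⁻¹ v)) = ad Q z' (g.1 v) := fun v => by
      rw [← ht z' hz', ← map_inv, Perm.mul_apply, Perm.mul_apply, pm_apply, pm_apply]
      exact congrArg (fun x => Q ((t z').1⁻¹ (g.1 x))) (s.1.apply_symm_apply v)
    refine (conj_iff D a g s _).trans ⟨fun k v => (h6 v).symm.trans (h3 _ k σ l hl ⟨fun u v => ?_, fun c v => ?_, fun u v => ?_⟩ _),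
      fun k => h4 _ ((lp D (t z'))⁻¹ * g * lp D s).2 fun v hv => ?_⟩
    · simp only [← map_inv, Perm.mul_apply, pm_apply, map_add, h.1]
    · simp only [← map_inv, Perm.mul_apply, pm_apply, map_smul, h.2.1]
    · simp only [← map_inv, Perm.mul_apply, pm_apply]
      exact (inv_mem (t z').2 _ _).trans ((h.2.2 _ _).trans (congrArg (fun c => l * σ c) (s.2 u v)))
    · have h7 : s.1⁻¹ (s.1 v) = v := s.1.symm_apply_apply v
      have h8 := (h6 (s.1 v)).trans (k _)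
      rwa [h7, hv, map_zero, mul_zero] at h8
  refine ⟨fun z => D.π (t z) a, fun b => ?_, fun g σ l z z' hl h hz hz' => by simp only [h6 g σ l _ z' hl h hz', ht z hz]⟩
  obtain ⟨s, rfl⟩ := exists_pi D a b
  obtain ⟨z, hz⟩ := exists_ad h2 hQ (hQ.comp (Q' := Q.comp (s.1⁻¹ : GG m F).toLinearMap) (inv_mem s.2) fun _ => rfl)
  have h7 := (orb_iff h2 hQ).1 ⟨_, inv_mem s.2, fun v => (congrArg (fun Q' => Q' v) hz :)⟩
  exact ⟨z, h7, by simpa using ((h6 1 (.refl F) 1 s z one_ne_zero ⟨fun _ _ => rfl, fun _ _ => rfl, fun _ _ => (one_mul _).symm⟩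
    h7).2 fun v => (congrArg (fun Q' => Q' v) hz).symm.trans (one_mul _).symm).symm⟩

open Classical in
/-- the trace -/
noncomputable def ch (c : F) : F := if T0 c then 0 else 1

theorem ch_add (h2 : (2 : F) = 0) (a b : F) : ch (a + b) = ch a + ch b := by
  have h := t0_add_iff' h2 (a := a) (b := b)
  by_cases ha : T0 a <;> by_cases hb : T0 b <;> simp [ch, h, ha, hb, one_add_one_eq_two, h2]

theorem ch_mul (a b : F) : ch (ch a * b) = ch a * ch b := by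
  by_cases ha : T0 a
  · rw [show ch a = 0 from if_pos ha, zero_mul, zero_mul, ch, if_pos t0_zero]
  · rw [show ch a = 1 from if_neg ha, one_mul, one_mul]

/-- the reflections over the prime field -/
noncomputable def rh (u z : VV m F) : VV m F := z + ch (ff m F z u) • u

theorem rh_add (h2 : (2 : F) = 0) (u z z' : VV m F) : rh u (z + z') = rh u z + rh u z' := by
  rw [rh, rh, rh, map_add, LinearMap.add_apply, ch_add h2, add_smul, add_add_add_comm]

theorem rh_zero (u : VV m F) : rh u 0 = 0 := by simp [rh, ch, t0_zero]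

theorem rh_t0 (h2 : (2 : F) = 0) {Q : QuadraticForm F (VV m F)} (hQ : Pol Q) {u z : VV m F} (hu : ¬ T0 (Q u)) (hz : T0 (Q z)) :
    T0 (Q (rh u z)) := by
  by_cases h : T0 (ff m F z u)
  · rwa [rh, ch, if_pos h, zero_smul, add_zero]
  · rw [rh, ch, if_neg h, one_smul, hQ.add, t0_add_iff' h2, t0_add_iff' h2]
    tauto

theorem ch_rh (h2 : (2 : F) = 0) (u z w : VV m F) : ch (ff m F (rh u z) w) = ch (ff m F z w) + ch (ff m F z u) * ch (ff m F u w) := by
  rw [rh, map_add, map_smul, LinearMap.add_apply, LinearMap.smul_apply, ch_add h2, smul_eq_mul, ch_mul]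

theorem rh_three (h2 : (2 : F) = 0) {u w : VV m F} (h : ¬ T0 (ff m F u w)) (z : VV m F) :
    rh u (rh w (rh u (rh w (rh u (rh w z))))) = z := by
  have h1 : ch (ff m F u w) = 1 := if_neg h
  have h3 : ch (ff m F w u) = 1 := ff_comm h2 u w ▸ h1
  have h4 : ch (0 : F) = 0 := if_pos t0_zero
  have h5 : ∀ z, ch (ff m F (rh u (rh w z)) u) = ch (ff m F z u) + ch (ff m F z w) := fun z => by
    rw [ch_rh h2, ch_rh h2, ff_self, h3, h4, mul_zero, add_zero, mul_one]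
  have h6 : ∀ z, ch (ff m F (rh u (rh w z)) w) = ch (ff m F z u) := fun z => by
    rw [ch_rh h2, ch_rh h2, ch_rh h2, ff_self, h1, h3, h4]
    linear_combination ch (ff m F z w) * h2
  have h7 : ∀ z, rh u (rh w z) = z + ch (ff m F z w) • w + (ch (ff m F z u) + ch (ff m F z w)) • u := fun z => by
    rw [rh, ch_rh h2, h3, mul_one, rh]
  rw [h7, h5, h6, h5, h6, h7, h5, h6, h7]
  linear_combination (norm := module) ((ch (ff m F z u) + ch (ff m F z w)) * h2) • w +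
    ((3 * ch (ff m F z u) + 2 * ch (ff m F z w)) * h2) • u

theorem sum_ad (h2 : (2 : F) = 0) (Q : QuadraticForm F (VV m F)) (z : Fin 4 → VV m F) (v : VV m F) :
    ∑ i, ad Q (z i) v = ff m F v (∑ i, z i) * ff m F v (∑ i, z i) := by
  simp only [Fin.sum_univ_four, ad_apply, map_add]
  linear_combination (2 * Q v - ff m F v (z 0) * (ff m F v (z 1) + ff m F v (z 2) + ff m F v (z 3)) -
    ff m F v (z 1) * (ff m F v (z 2) + ff m F v (z 3)) - ff m F v (z 2) * ff m F v (z 3)) * h2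

end Ko

open Ko
open Rd hiding ff_self perp_perp tv_apply tv_mem

/-- **points** -/
theorem boxK1 : BoxK1 := by
  intro m F _ _ Ω _ _ X H T M S D a h
  obtain ⟨κ, h1, h2⟩ := exists_pt D h
  choose rp hr0 hr using h1
  have h3 : ∀ y y', y ≠ 0 → y' ≠ 0 → (κ y = κ y' ↔ ∃ c : F, c • y' = y) := fun y y' hy hy' => by
    simpa [Submodule.mem_span_singleton] using h2 1 y y' hy hy'
  obtain ⟨i, j, k, hij, hik, hjk, h4, h5⟩ : ∃ i j k : Fin m ⊕ Fin m, i ≠ j ∧ i ≠ k ∧ j ≠ k ∧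
      ff m F (Pi.single i 1) (Pi.single j 1) ≠ 0 ∧ ff m F (Pi.single k 1) (Pi.single i 1) = 0 := by
    have := D.two
    exact ⟨.inl ⟨0, by omega⟩, .inr ⟨0, by omega⟩, .inl ⟨1, by omega⟩, by simp, by simp, by simp,
      by simp [sympForm_single_inl_left], by simp [sympForm_single_inl_left]⟩
  let σ := swap i j * swap i k
  have h6 : σ ^ 3 = 1 := (Perm.isThreeCycle_swap_mul_swap_same hij hik hjk).orderOf ▸ pow_orderOf_eq_one σ
  have h7 : ∀ y : VV m F, y ≠ 0 → y ∘ σ ≠ 0 := fun y hy e => hy (σ.surjective.injective_comp_right e)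
  have h8 : ∀ y, y ≠ 0 → κ (rp (κ y) ∘ σ) = κ (y ∘ σ) := fun y hy => by
    obtain ⟨c, hc⟩ := (h3 _ _ (hr0 _) hy).1 (hr (κ y))
    exact (h3 _ _ (h7 _ (hr0 _)) (h7 _ hy)).2 ⟨c, hc ▸ rfl⟩
  have h9 : ∀ p : Fin m ⊕ Fin m, (Pi.single p 1 : VV m F) ≠ 0 := fun p e => by simpa using congrFun e p
  have h10 : (Pi.single i 1 + Pi.single j 1 : VV m F) ≠ 0 := fun e => by simpa [hij] using congrFun e i
  have h11 : ∀ p q : Fin m ⊕ Fin m, p ≠ q → κ (Pi.single p 1) ≠ κ (Pi.single q 1) := fun p q hpq e => by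
    obtain ⟨c, hc⟩ := (h3 _ _ (h9 p) (h9 q)).1 e
    simpa [hpq] using congrFun hc p
  obtain ⟨g, hg, h12⟩ := odd_mem D.up
    (r := fun t : Fin 3 → Ω => ∃ y ≠ 0, ∃ y' ≠ 0, y + y' ≠ 0 ∧ κ y = t 0 ∧ κ y' = t 1 ∧ κ (y + y') = t 2) (by
      rintro g hg t ⟨y, hy, y', hy', hy'', e0, e1, e2⟩
      obtain ⟨g, rfl⟩ := exists_phi D hg
      have h12 : ∀ y, y ≠ 0 → κ (g.1 y) = D.φ g (κ y) := fun y hy =>
        ((h2 g y _ hy (semi_ne (D.le g.2) hy)).2 (Submodule.mem_span_singleton_self _)).symm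
      obtain ⟨τ, l, -, h13⟩ := D.le g.2
      exact ⟨_, semi_ne (D.le g.2) hy, _, semi_ne (D.le g.2) hy', h13.1 _ _ ▸ semi_ne (D.le g.2) hy'',
        (h12 y hy).trans (congrArg _ e0), (h12 y' hy').trans (congrArg _ e1), h13.1 _ _ ▸ (h12 _ hy'').trans (congrArg _ e2)⟩)
    (not_alt_le_relStab D.up.sec.five (x := ![κ (Pi.single i 1), κ (Pi.single j 1), κ (Pi.single i 1 + Pi.single j 1)])
      (inj3 (h11 i j hij) (fun e => by
        obtain ⟨c, hc⟩ := (h3 _ _ h10 (h9 i)).1 e.symm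
        simpa [hij.symm] using congrFun hc j) fun e => by
        obtain ⟨c, hc⟩ := (h3 _ _ h10 (h9 j)).1 e.symm
        simpa [hij] using congrFun hc i)
      (inj3 (h11 i j hij) (h11 i k hik) (h11 j k hjk)) ⟨_, h9 i, _, h9 j, h10, rfl, rfl, rfl⟩ (by
        rintro ⟨y, hy, y', hy', hy'', e0, e1, e2⟩
        obtain ⟨c, rfl⟩ := (h3 _ _ hy (h9 i)).1 e0
        obtain ⟨c', rfl⟩ := (h3 _ _ hy' (h9 j)).1 e1
        obtain ⟨c'', e⟩ := (h3 _ _ hy'' (h9 k)).1 e2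
        have h12 := congrFun e k
        simp [hik.symm, hjk.symm] at h12
        exact hy'' (by rw [← e, h12, zero_smul])))
    (fun b => κ (rp b ∘ σ)) (fun b => by
      rw [h8 _ (h7 _ (hr0 b)), h8 _ (h7 _ (h7 _ (hr0 b))), Function.comp_assoc, Function.comp_assoc, ← Perm.coe_mul, ← Perm.coe_mul,
        ← pow_three, h6, Perm.coe_one, Function.comp_id, hr]) (by
      rintro t ⟨y, hy, y', hy', hy'', e0, e1, e2⟩
      exact ⟨_, h7 _ hy, _, h7 _ hy', h7 _ hy'', (h8 y hy).symm.trans (e0 ▸ rfl), (h8 y' hy').symm.trans (e1 ▸ rfl),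
        (h8 _ hy'').symm.trans (e2 ▸ rfl)⟩)
  obtain ⟨g, rfl⟩ := exists_phi D hg
  have h13 : ∀ p q, σ p = q → ∃ c : F, c ≠ 0 ∧ c • Pi.single p 1 = g.1 (Pi.single q 1) := fun p q e => by
    obtain ⟨c, hc⟩ := Submodule.mem_span_singleton.1 ((h2 g _ _ (h9 q) (h9 p)).1 ((h12 _).trans ((h8 _ (h9 q)).trans
      (congrArg κ (funext fun l => by simp [Pi.single_apply, ← e])))))
    exact ⟨c, fun e => semi_ne (D.le g.2) (h9 q) (by rw [← hc, e, zero_smul]), hc⟩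
  obtain ⟨c, hc, e⟩ := h13 i k (by simp [σ, swap_apply_of_ne_of_ne hik.symm hjk.symm])
  obtain ⟨c', hc', e'⟩ := h13 j i (by simp [σ, swap_apply_of_ne_of_ne hij.symm hjk])
  have h14 := (semi_perp (D.le g.2) _ _).2 h5
  rw [← e, ← e', map_smul, map_smul, LinearMap.smul_apply, smul_eq_zero, smul_eq_zero] at h14
  tauto

/-- **forms**: the field has two elements -/
theorem boxK3q : BoxK3q := by
  intro m F _ _ Ω _ _ X H T M S D a ⟨h2, Q, hQ, hC⟩
  obtain ⟨h0, κ, h1, h3⟩ := exists_fm D h2 hQ hC (boxK1 m F Ω X H T M S D a)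
  refine ⟨Q, by_contra fun hq => ?_, hQ, h0⟩
  classical
  choose rp hr0 hr using h1
  have h4 : ∀ z z', T0 (Q z) → T0 (Q z') → κ z = κ z' → z = z' := fun z z' hz hz' e => ad_inj (Q := Q) h2 (QuadraticMap.ext fun v =>
    (one_mul _).symm.trans ((h3 1 (.refl F) 1 z z' one_ne_zero ⟨fun _ _ => rfl, fun _ _ => rfl, fun _ _ => (one_mul _).symm⟩ hz hz').1
      (by simpa using e) v).symm)
  have h5 : ∀ z, T0 (Q z) → rp (κ z) = z := fun z hz => h4 _ _ (hr0 _) hz (hr _)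
  obtain ⟨e, he0, he1⟩ : ∃ e : F, e ≠ 0 ∧ e ≠ 1 := by
    by_contra! h
    refine hq (Finset.card_eq_two.2 ⟨0, 1, zero_ne_one, Finset.ext fun e => ?_⟩)
    simpa [or_iff_not_imp_left] using h e
  have he2 : 1 + e ≠ 0 := fun k => he1 (by linear_combination k - h2)
  obtain ⟨c, hc⟩ := exists_not_t0 h2
  have hc0 : c ≠ 0 := fun k => hc (k ▸ t0_zero)
  obtain ⟨x, y, hh⟩ := exists_hyp_VV hQ D.two
  have hxy : ff m F x y = 1 := (hQ x y).symm.trans hh.pair
  have hyx : ff m F y x = 1 := ff_comm h2 x y ▸ hxy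
  obtain ⟨w, hxw, hyw, hw⟩ : ∃ w, ff m F x w = 0 ∧ ff m F y w = 0 ∧ Q w = c := by
    obtain ⟨w, k1, k2, k3⟩ : ∃ w, ff m F x w = 0 ∧ ff m F y w = 0 ∧ Q w ≠ 0 := by
      obtain ⟨a, b, k1, k2, k3, k4, k5⟩ := exists_perp2 hQ.nondeg (by have := D.two; rw [finrank_VV]; omega) hh
      rw [hQ] at k1 k2 k3 k4
      rcases exists_nonsing k5 with k | k | k
      · exact ⟨a, k1, k2, k⟩
      · exact ⟨b, k3, k4, k⟩
      · exact ⟨a + b, by rw [map_add, k1, k3, add_zero], by rw [map_add, k2, k4, add_zero], k⟩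
    obtain ⟨s, hs⟩ := exists_sqrt h2 (c * (Q w)⁻¹)
    exact ⟨s • w, by rw [map_smul, k1, smul_zero], by rw [map_smul, k2, smul_zero], by
      rw [QuadraticMap.map_smul, hs, smul_eq_mul, inv_mul_cancel_right₀ k3]⟩
  have h6 : ∀ s : F, T0 (Q (s • x)) := fun s => by rw [QuadraticMap.map_smul, hh.left, smul_zero]; exact t0_zero
  have h7 : ∀ s s' : F, s ≠ s' → κ (s • x) ≠ κ (s' • x) := fun s s' h k => h (by
    simpa [hyx] using congrArg (ff m F y) (h4 _ _ (h6 s) (h6 s') k))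
  have h8 : T0 (Q y) := hh.right ▸ t0_zero
  have h9 : ∀ s : F, κ (s • x) ≠ κ y := fun s k => by simpa [hxy, ff_self] using congrArg (ff m F x) (h4 _ _ (h6 s) h8 k)
  let u := ((c + (e * e + e)) / c) • x + c • y
  have hxu : ff m F x u = c := by simp only [u, map_add, map_smul, ff_self, hxy, smul_eq_mul, mul_zero, mul_one, zero_add]
  have hu : Q u = c + (e * e + e) := by
    simp only [u, hQ.add, QuadraticMap.map_smul, hh.left, hh.right, map_smul, LinearMap.smul_apply, hxy, smul_eq_mul]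
    field_simp
    ring
  have hu' : ¬ T0 (Q u) := by rwa [hu, t0_add_iff h2 (t0_self e)]
  have hw' : ¬ T0 (Q (x + w)) := by rwa [hQ.add, hh.left, hxw, hw, zero_add, add_zero]
  have huw : ¬ T0 (ff m F u (x + w)) := by
    rwa [map_add, ff_comm h2 u x, hxu, show ff m F u w = 0 by
      simp only [u, map_add, map_smul, LinearMap.add_apply, LinearMap.smul_apply, hxw, hyw, smul_zero, add_zero], add_zero]
  have h10 : ∀ z, T0 (Q z) → T0 (Q (rh u (rh (x + w) z))) := fun z hz => rh_t0 h2 hQ hu' (rh_t0 h2 hQ hw' hz)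
  obtain ⟨g, hg, h11⟩ := odd_mem D.up
    (r := fun t : Fin 4 → Ω => ∃ z : Fin 4 → VV m F, (∀ i, T0 (Q (z i)) ∧ κ (z i) = t i) ∧ ∑ i, z i = 0) (by
      rintro g hg t ⟨z, hz, e⟩
      obtain ⟨g, rfl⟩ := exists_phi D hg
      obtain ⟨σ, l, hl, h11⟩ := D.le g.2
      refine ⟨fun i => rp (D.φ g (t i)), fun i => ⟨hr0 _, hr _⟩, eq_zero_of_ff fun v => ?_⟩
      obtain ⟨v, rfl⟩ := g.1.surjective v
      rw [← mul_self_eq_zero, ← sum_ad h2 Q, Finset.sum_congr rfl fun i _ => (h3 g σ l (z i) _ hl h11 (hz i).1 (hr0 _)).1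
        (by rw [hr, (hz i).2]) v, ← Finset.mul_sum, ← map_sum, sum_ad h2, e, map_zero, mul_zero, map_zero, mul_zero])
    (not_alt4 (h7 0 1 zero_ne_one) (h7 0 e he0.symm) (h7 0 (1 + e) he2.symm) (h9 0) (h7 1 e he1.symm)
      (h7 1 (1 + e) (by simpa using he0)) (h9 1) (h7 e (1 + e) (by simp)) (h9 e) (h9 _)
      ⟨![(0 : F) • x, (1 : F) • x, e • x, (1 + e) • x], fun i => by fin_cases i <;> exact ⟨h6 _, rfl⟩, by
        rw [Fin.sum_univ_four]
        show (0 : F) • x + (1 : F) • x + e • x + (1 + e) • x = 0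
        linear_combination (norm := module) ((1 + e) * h2) • x⟩ (by
        rintro ⟨z, hz, k⟩
        rw [Fin.sum_univ_four, h4 _ _ (hz 0).1 (h6 _) (hz 0).2, h4 _ _ (hz 1).1 (h6 _) (hz 1).2, h4 _ _ (hz 2).1 (h6 _) (hz 2).2,
          h4 _ _ (hz 3).1 h8 (hz 3).2] at k
        have k' := congrArg (ff m F x) k
        simp only [map_add, map_smul, ff_self, hxy, smul_zero, zero_add, map_zero, one_ne_zero] at k'))
    (fun b => κ (rh u (rh (x + w) (rp b)))) (fun b => by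
      rw [h5 _ (h10 _ (hr0 b)), h5 _ (h10 _ (h10 _ (hr0 b))), rh_three h2 huw, hr]) (by
      rintro t ⟨z, hz, e⟩
      refine ⟨fun i => rh u (rh (x + w) (z i)), fun i => ⟨h10 _ (hz i).1, by
        rw [Function.comp_apply, ← (hz i).2, h5 _ (hz i).1]⟩, ?_⟩
      rw [Fin.sum_univ_four] at e ⊢
      simp only [← rh_add h2, e, rh_zero])
  obtain ⟨g, rfl⟩ := exists_phi D hg
  obtain ⟨σ, l, hl, h12⟩ := D.le g.2
  have h13 : T0 (Q 0) := (map_zero Q).symm ▸ t0_zero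
  have h14 : T0 (Q x) := hh.left ▸ t0_zero
  have h15 := (h3 g σ l 0 0 hl h12 h13 h13).1 (by rw [h11, h5 _ h13, rh_zero, rh_zero])
  have h16 := (h3 g σ l x _ hl h12 h14 (h10 x h14)).1 (by rw [h11, h5 _ h14])
  rw [show rh u (rh (x + w) x) = x + u by
    rw [show rh (x + w) x = x by rw [rh, map_add, ff_self, hxw, add_zero, ch, if_pos t0_zero, zero_smul, add_zero], rh, hxu, ch,
      if_neg hc, one_smul]] at h16
  rw [ad_zero] at h15
  obtain ⟨s, rfl⟩ := exists_sqrt h2 l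
  have h17 : s • (x + u) = g.1 x := ad_inj (Q := Q) h2 (QuadraticMap.ext fun v => by
    obtain ⟨v, rfl⟩ := g.1.surjective v
    have h17 := h16 v
    rw [ad_apply, ad_apply, h15, map_add σ, map_mul] at h17
    rw [ad_apply, ad_apply, map_smul, smul_eq_mul, show ff m F (g.1 v) (g.1 x) = _ from h12.2.2 v x, ← sympBilin_apply]
    linear_combination (s * s) * h17)
  have h18 := h15 x
  rw [← h17, QuadraticMap.map_smul, hQ.add, hh.left, hu, hxu, map_zero, mul_zero, smul_eq_mul, mul_eq_zero, or_iff_right hl] at h18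
  exact mul_ne_zero he0 he2 (by linear_combination h18 - c * h2)

end Cfsg.Agent.SM.Sy
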