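import Cfsg.Agent.SM.Sy.Form
import Cfsg.Agent.AutOrth.Main
import Cfsg.Agent.H807.IF.Odd
import Cfsg.Agent.H75.WittE
import Cfsg.Agent.H902.Compare

/-!
# SM (S3570), symplectic socles, box SY-CO: semilinear isometries, Siegel elements (helper9)

* `Sl g σ`, `cj`, `Si Q₁ Q₂ g σ` : semilinear maps and isometries between two spaces over two fields;
* `exists_si` : an isomorphism `E Q₁ ≃* E Q₂` (characteristic two, `m ≥ 4`, no triality) is induced by a semilinear isometry;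
* `fix_line`, `comm_scalar`, `le_of_inv` : what Siegel elements fix.
-/

set_option autoImplicit false
set_option linter.unusedSectionVars false
set_option linter.unusedVariables false

namespace Cfsg.Agent.SM.Sy.CO

open Cfsg Subgroup Module QuadraticMap
open Cfsg.Agent.LieClassical.OrthCore Cfsg.Agent.LieClassical.OrthTrans
open Cfsg.Agent.H955 (IsPlus res)

section semi

variable {F₁ F₂ F₃ V₁ V₂ V₃ : Type} [Field F₁] [Field F₂] [Field F₃] [AddCommGroup V₁] [AddCommGroup V₂] [AddCommGroup V₃]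
  [Module F₁ V₁] [Module F₂ V₂] [Module F₃ V₃] {g : V₁ ≃+ V₂} {σ : F₁ ≃+* F₂}

/-- semilinear -/
def Sl (g : V₁ ≃+ V₂) (σ : F₁ ≃+* F₂) : Prop := ∀ (c : F₁) (v : V₁), g (c • v) = σ c • g v

theorem Sl.symm (h : Sl g σ) : Sl g.symm σ.symm := fun c v => g.injective (by
  rw [h, g.apply_symm_apply, g.apply_symm_apply, σ.apply_symm_apply])

theorem Sl.trans (h : Sl g σ) {g' : V₂ ≃+ V₃} {σ' : F₂ ≃+* F₃} (h' : Sl g' σ') : Sl (g.trans g') (σ.trans σ') :=
  fun c v => by rw [AddEquiv.trans_apply, h, h']; rfl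

/-- transport of an endomorphism -/
def Sl.en (h : Sl g σ) (k : End F₁ V₁) : End F₂ V₂ where
  toFun v := g (k (g.symm v))
  map_add' u v := by rw [map_add, map_add, map_add]
  map_smul' c v := by rw [h.symm, map_smul, h, σ.apply_symm_apply, RingHom.id_apply]

theorem Sl.en_apply (h : Sl g σ) (k : End F₁ V₁) (v : V₁) : h.en k (g v) = g (k v) := by
  change g (k (g.symm (g v))) = _
  rw [g.symm_apply_apply]

theorem Sl.exists_en (h : Sl g σ) (k : End F₂ V₂) : ∃ k₁ : End F₁ V₁, ∀ v, k (g v) = g (k₁ v) :=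
  ⟨h.symm.en k, fun v => (g.apply_symm_apply _).symm⟩

/-- transport of an automorphism -/
def Sl.cjF (h : Sl g σ) (x : V₁ ≃ₗ[F₁] V₁) : V₂ ≃ₗ[F₂] V₂ :=
  { h.en x with
    invFun := fun v => g (x.symm (g.symm v))
    left_inv := fun v => by
      change g (x.symm (g.symm (g (x (g.symm v))))) = v
      rw [g.symm_apply_apply, x.symm_apply_apply, g.apply_symm_apply]
    right_inv := fun v => by
      change g (x (g.symm (g (x.symm (g.symm v))))) = v
      rw [g.symm_apply_apply, x.apply_symm_apply, g.apply_symm_apply] }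

/-- conjugation -/
def Sl.cj (h : Sl g σ) : (V₁ ≃ₗ[F₁] V₁) ≃* (V₂ ≃ₗ[F₂] V₂) where
  toFun := h.cjF
  invFun := h.symm.cjF
  left_inv x := LinearEquiv.ext fun v => by
    change g.symm (g (x (g.symm (g v)))) = x v
    rw [g.symm_apply_apply, g.symm_apply_apply]
  right_inv x := LinearEquiv.ext fun v => by
    change g (g.symm (x (g (g.symm v)))) = x v
    rw [g.apply_symm_apply, g.apply_symm_apply]
  map_mul' x y := LinearEquiv.ext fun v => by
    change g (x (y (g.symm v))) = g (x (g.symm (g (y (g.symm v)))))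
    rw [g.symm_apply_apply]

theorem Sl.cj_apply (h : Sl g σ) (x : V₁ ≃ₗ[F₁] V₁) (v : V₁) : h.cj x (g v) = g (x v) := h.en_apply x v

theorem Sl.eq_cj (h : Sl g σ) {x : V₁ ≃ₗ[F₁] V₁} {y : V₂ ≃ₗ[F₂] V₂} (e : ∀ v, y (g v) = g (x v)) : y = h.cj x :=
  LinearEquiv.ext fun v => by
    obtain ⟨v, rfl⟩ := g.surjective v
    rw [e, h.cj_apply]

theorem Sl.symm_cj (h : Sl g σ) (x : V₁ ≃ₗ[F₁] V₁) : h.symm.cj (h.cj x) = x := h.cj.symm_apply_apply x

theorem Sl.cj_symm (h : Sl g σ) (y : V₂ ≃ₗ[F₂] V₂) : h.cj (h.symm.cj y) = y := h.cj.apply_symm_apply y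

/-- semilinear isometry -/
structure Si (Q₁ : QuadraticForm F₁ V₁) (Q₂ : QuadraticForm F₂ V₂) (g : V₁ ≃+ V₂) (σ : F₁ ≃+* F₂) : Prop where
  sl : Sl g σ
  form : ∀ v, Q₂ (g v) = σ (Q₁ v)

variable {Q₁ : QuadraticForm F₁ V₁} {Q₂ : QuadraticForm F₂ V₂} {Q₃ : QuadraticForm F₃ V₃}

theorem Si.symm (h : Si Q₁ Q₂ g σ) : Si Q₂ Q₁ g.symm σ.symm :=
  ⟨h.sl.symm, fun v => σ.injective (by rw [← h.form, g.apply_symm_apply, σ.apply_symm_apply])⟩

theorem Si.trans (h : Si Q₁ Q₂ g σ) {g' : V₂ ≃+ V₃} {σ' : F₂ ≃+* F₃} (h' : Si Q₂ Q₃ g' σ') :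
    Si Q₁ Q₃ (g.trans g') (σ.trans σ') :=
  ⟨h.sl.trans h'.sl, fun v => by rw [AddEquiv.trans_apply, h'.form, h.form]; rfl⟩

theorem Si.polar (h : Si Q₁ Q₂ g σ) (u v : V₁) : polar Q₂ (g u) (g v) = σ (polar Q₁ u v) := by
  simp only [QuadraticMap.polar, ← map_add, h.form, map_sub]

theorem Si.mem_O (h : Si Q₁ Q₂ g σ) {x : V₁ ≃ₗ[F₁] V₁} (hx : x ∈ O Q₁) : h.sl.cj x ∈ O Q₂ := fun v => by
  obtain ⟨v, rfl⟩ := g.surjective v
  rw [h.sl.cj_apply, h.form, h.form, hx v]

theorem Si.mem_E (h : Si Q₁ Q₂ g σ) {x : V₁ ≃ₗ[F₁] V₁} (hx : x ∈ E Q₁) : h.sl.cj x ∈ E Q₂ := by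
  induction hx using Subgroup.closure_induction with
  | mem x hx =>
    obtain ⟨u, w, hu, hw, rfl⟩ := hx
    rw [← h.sl.eq_cj (y := siegel Q₂ (g u) (g w) (by rw [h.form, hu, map_zero]) (by rw [h.polar, hw, map_zero])) fun v => by
      rw [siegel_apply, siegel_apply, map_sub, map_sub, map_add, h.sl, h.sl, h.sl, h.polar, h.polar, h.form, map_mul]]
    exact siegel_mem_E _ _
  | one => rw [map_one]; exact one_mem _
  | mul x y _ _ hx hy => rw [map_mul]; exact mul_mem hx hy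
  | inv x _ hx => rw [map_inv]; exact inv_mem hx

/-- the induced isomorphism of the groups `E` -/
def Si.eE (h : Si Q₁ Q₂ g σ) : E Q₁ ≃* E Q₂ where
  toFun x := ⟨h.sl.cj x, h.mem_E x.2⟩
  invFun y := ⟨h.symm.sl.cj y, h.symm.mem_E y.2⟩
  left_inv x := Subtype.ext (h.sl.symm_cj x)
  right_inv y := Subtype.ext (h.sl.cj_symm y)
  map_mul' x y := Subtype.ext (map_mul h.sl.cj _ _)

theorem si_of_lin {V₂ : Type} [AddCommGroup V₂] [Module F₁ V₂] {Q₂ : QuadraticForm F₁ V₂} (e : V₁ ≃ₗ[F₁] V₂)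
    (he : ∀ v, Q₂ (e v) = Q₁ v) : Si Q₁ Q₂ e.toAddEquiv (RingEquiv.refl F₁) := ⟨fun c v => e.map_smul c v, he⟩

end semi

section one

variable {F V : Type} [Field F] [AddCommGroup V] [Module F V] {Q : QuadraticForm F V}

theorem center_two (h2 : (2 : F) = 0) (hG : Good Q) : center (E Q) = ⊥ := by
  rw [eq_bot_iff_forall]
  intro z hz
  obtain ⟨c, hc⟩ := ClassicalGeometry.OrthAut1.center_scalar hG hz
  obtain ⟨x, y, hxy⟩ := hG.exists_hyp
  have h4 : Q ((z : V ≃ₗ[F] V) (x + y)) = Q (x + y) := E_le_O z.2 _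
  have h5 : Q (x + y) = 1 := by rw [Q_add, hxy.left, hxy.right, hxy.pair]; simp
  rw [hc, QuadraticMap.map_smul, h5, smul_eq_mul, mul_one] at h4
  have h6 : c = 1 := sub_eq_zero.1 (mul_self_eq_zero.1 (by linear_combination h4 + (1 - c) * h2))
  exact Subtype.ext (LinearEquiv.ext fun v => by rw [hc, h6, one_smul]; rfl)

theorem exists_si_aut [Finite F] [FiniteDimensional F V] (h2 : (2 : F) = 0) (hG : Good Q) (h7 : 7 ≤ finrank F V)
    (h8 : finrank F V = 8 → ¬ IsPlus Q) (α : E Q ≃* E Q) :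
    ∃ (g : V ≃+ V) (σ : F ≃+* F), Si Q Q g σ ∧ ∀ (x : E Q) v, (α x : V ≃ₗ[F] V) (g v) = g ((x : V ≃ₗ[F] V) v) := by
  let e := H807.IF.quotOdd (center_two h2 hG)
  obtain ⟨M, σ, c, hM, hα⟩ := ClassicalGeometry.OrthAut4.exists_semi_P hG h7 ((e.trans α).trans e.symm)
    (AutOrth.Main.pt_of_no_four hG h7 (fun h W hW h4 => h8 h ⟨W, hW, by omega⟩) _)
  have h1 : ∀ z, α z = AutOrth.SemiSim.conjE hM z := fun z => by
    have h3 := congrArg e (hα z)
    rw [MulEquiv.trans_apply, MulEquiv.apply_symm_apply] at h3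
    exact h3
  obtain ⟨d, hd⟩ := exists_sqrt h2 c⁻¹
  have hd0 : d ≠ 0 := by
    rintro rfl
    exact inv_ne_zero hM.ne (by rw [← hd, mul_zero])
  refine ⟨M.trans (LinearEquiv.smulOfNeZero F V d hd0).toAddEquiv, σ, ⟨fun a v => ?_, fun v => ?_⟩, fun x v => ?_⟩
  · change d • M (a • v) = σ a • d • M v
    rw [hM.smul, smul_comm]
  · change Q (d • M v) = _
    rw [QuadraticMap.map_smul, hM.form, hd, smul_eq_mul, inv_mul_cancel_left₀ hM.ne]
  · change (α x : V ≃ₗ[F] V) (d • M v) = d • M _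
    rw [map_smul, h1, AutOrth.SemiSim.conjE_apply]

/-- the vectors fixed by the stabiliser of `u` -/
theorem fix_line [Finite F] [FiniteDimensional F V] (hQ : Nondeg Q) (h8 : 8 ≤ finrank F V) {u u' : V}
    (h : ∀ g ∈ E Q, g u = u → g u' = u') : ∃ c : F, u' = c • u := by
  by_contra hc
  push Not at hc
  obtain ⟨y, h1, h2⟩ := exists_sep hQ hc
  obtain ⟨z, hz, hzy⟩ := H75.OrthIdx.exists_norm_perp hQ (Submodule.span F (Set.range ![u, u', y]))
    (Or.inl (by have := finrank_range_le_card (R := F) ![u, u', y]; rw [Set.finrank, Fintype.card_fin] at this; omega))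
    (-Q y)
  have z1 : polar Q u z = 0 := hz _ (Submodule.subset_span ⟨0, rfl⟩)
  have z2 : polar Q u' z = 0 := hz _ (Submodule.subset_span ⟨1, rfl⟩)
  have z3 : polar Q y z = 0 := hz _ (Submodule.subset_span ⟨2, rfl⟩)
  have x0 : Q (y + z) = 0 := by rw [Q_add, hzy, z3]; ring
  have x1 : polar Q (y + z) u = 0 := by rw [polar_comm, polar_add_right, h1, z1, add_zero]
  have x2 : polar Q (y + z) u' = 1 := by rw [polar_comm, polar_add_right, h2, z2, add_zero]
  generalize y + z = x at x0 x1 x2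
  obtain ⟨w, hw0, hw⟩ := exists_perp_ne (Q := Q) ![x, u, u'] (by omega)
  have w1 : polar Q x w = 0 := hw 0
  have w2 : polar Q w u = 0 := by rw [polar_comm]; exact hw 1
  have w3 : polar Q w u' = 0 := by rw [polar_comm]; exact hw 2
  have h3 := h _ (siegel_mem_E x0 w1) (by rw [siegel_apply, x1, w2]; simp)
  rw [siegel_apply, x2, w3, one_smul, zero_smul, sub_zero, mul_one, add_sub_assoc, add_eq_left, sub_eq_zero] at h3
  have h4 := congrArg (polar Q · u') h3
  simp only [w3, polar_smul_left, x2, smul_eq_mul, mul_one] at h4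
  rw [← h4, zero_smul] at h3
  exact hw0 h3

/-- an additive map which commutes with `E Q` is a scalar -/
theorem comm_scalar [FiniteDimensional F V] (hQ : Nondeg Q) (h3 : 3 ≤ finrank F V) {x y : V} (hxy : Hyp Q x y) (k : V →+ V)
    (hk : ∀ g ∈ E Q, ∀ v, k (g v) = g (k v)) : ∃ c : F, ∀ v, k v = c • v := by
  have ind : ∀ {x y : V}, Hyp Q x y → ∀ {w : V}, polar Q x w = 0 → polar Q y w = 0 → ∀ {a b c : F},
      a • w + b • x + c • y = 0 → a • w = 0 ∧ b = 0 ∧ c = 0 := fun {x y} h {w} h1 h2 {a b c} e => by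
    have e1 := congrArg (polar Q x) e
    have e2 := congrArg (polar Q y) e
    simp only [polar_add_right, polar_smul_right, h1, h2, h.polar_left, h.polar_right, h.pair, h.pair', polar_zero_right,
      smul_eq_mul, mul_zero, mul_one, add_zero, zero_add] at e1 e2
    rw [e1, e2, zero_smul, zero_smul, add_zero, add_zero] at e
    exact ⟨e, e2, e1⟩
  have line : ∀ {x y : V}, Hyp Q x y → ∃ c : F, k x = c • x := fun {x y} h => by
    have h1 : ∀ w, polar Q x w = 0 → polar Q y w = 0 → polar Q x (k x) • w = 0 ∧ polar Q w (k x) = 0 := fun w h1 h2 => by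
      have e := hk _ (siegel_mem_E h.left h1) x
      rw [siegel_apply, siegel_apply, h.polar_left, polar_comm Q w x, h1] at e
      simp only [zero_smul, mul_zero, add_zero, sub_zero] at e
      obtain ⟨e1, e2, -⟩ := ind h h1 h2 (a := polar Q x (k x)) (b := -(polar Q w (k x) + Q w * polar Q x (k x))) (c := 0)
        (by rw [← sub_eq_zero.2 e.symm]; module)
      refine ⟨e1, ?_⟩
      rcases smul_eq_zero.1 e1 with e3 | e3
      · rw [e3] at e2
        simpa using e2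
      · rw [e3, polar_zero_left]
    obtain ⟨w, hw0, hw⟩ := exists_perp_ne (Q := Q) ![x, y] (by omega)
    have h2 : polar Q x (k x) = 0 := (smul_eq_zero.1 (h1 w (hw 0) (hw 1)).1).resolve_right hw0
    refine ⟨polar Q y (k x), sub_eq_zero.1 (hQ _ fun v => ?_)⟩
    have h4 := (h1 _ (polar_proj_left h v) (polar_proj_right h v)).2
    rw [LieClassical.OrthTrans.proj, polar_sub_left, polar_sub_left, polar_smul_left, polar_smul_left, h2] at h4
    rw [polar_sub_left, polar_smul_left, polar_comm Q (k x) v]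
    simp only [smul_eq_mul] at h4 ⊢
    linear_combination h4
  have step : ∀ {x y : V}, Hyp Q x y → ∀ {c : F}, k y = c • y → ∀ w, polar Q x w = 0 → polar Q y w = 0 →
      ∃ b : F, k w = c • w + b • x := fun {x y} h {c} hc w h1 h2 => by
    have e := hk _ (siegel_mem_E h.left h1) y
    rw [hc, map_smul, siegel_apply, h.pair, polar_comm Q w y, h2, one_smul, zero_smul, sub_zero, mul_one, map_sub, map_add,
      hc] at e
    by_cases hw : Q w = 0
    · refine ⟨0, ?_⟩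
      rw [hw, zero_smul, map_zero, sub_zero, sub_zero, smul_add, add_right_inj] at e
      rw [e, zero_smul, add_zero]
    · have h' : Hyp Q (Q w • x) ((Q w)⁻¹ • y) := ⟨by rw [QuadraticMap.map_smul, h.left, smul_zero],
        by rw [QuadraticMap.map_smul, h.right, smul_zero],
        by rw [polar_smul_left, polar_smul_right, h.pair, smul_eq_mul, smul_eq_mul, mul_one, mul_inv_cancel₀ hw]⟩
      obtain ⟨d, hd⟩ := line h'
      rw [hd] at e
      refine ⟨d * Q w - c * Q w, ?_⟩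
      rw [← sub_eq_zero, ← sub_eq_zero.2 e]
      module
  have same : ∀ {x y : V}, Hyp Q x y → ∀ {c : F}, k y = c • y → ∀ w, polar Q x w = 0 → polar Q y w = 0 → k w = c • w :=
    fun {x y} h {c} hc w h1 h2 => by
      obtain ⟨d, hd⟩ := line h
      obtain ⟨b, hb⟩ := step h hc w h1 h2
      obtain ⟨b', hb'⟩ := step h.symm hd w h2 h1
      obtain ⟨-, e2, -⟩ := ind h h1 h2 (a := c - d) (b := b) (c := -b') (by rw [← sub_eq_zero.2 (hb.symm.trans hb')]; module)
      rw [hb, e2, zero_smul, add_zero]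
  obtain ⟨c, hc⟩ := line hxy.symm
  obtain ⟨w, hw0, hw⟩ := exists_perp_ne (Q := Q) ![x, y] (by omega)
  have sc : ∀ {x y : V}, Hyp Q x y → polar Q x w = 0 → polar Q y w = 0 → k w = c • w → ∀ a : F, k (a • y) = c • a • y :=
    fun {x y} h h1 h2 e a => by
      by_cases ha : a = 0
      · rw [ha, zero_smul, map_zero, smul_zero]
      have h' : Hyp Q (a⁻¹ • x) (a • y) := ⟨by rw [QuadraticMap.map_smul, h.left, smul_zero],
        by rw [QuadraticMap.map_smul, h.right, smul_zero],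
        by rw [polar_smul_left, polar_smul_right, h.pair, smul_eq_mul, smul_eq_mul, mul_one, inv_mul_cancel₀ ha]⟩
      obtain ⟨d, hd⟩ := line h'.symm
      have h4 := same h' hd w (by rw [polar_smul_left, h1, smul_zero]) (by rw [polar_smul_left, h2, smul_zero])
      rw [hd, smul_left_injective F hw0 (h4.symm.trans e)]
  have hw' := same hxy hc w (hw 0) (hw 1)
  refine ⟨c, fun v => ?_⟩
  have e : v = LieClassical.OrthTrans.proj Q x y v + polar Q y v • x + polar Q x v • y := by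
    rw [LieClassical.OrthTrans.proj]; abel
  rw [e, map_add, map_add, same hxy hc _ (polar_proj_left hxy v) (polar_proj_right hxy v), sc hxy (hw 0) (hw 1) hw',
    sc hxy.symm (hw 1) (hw 0) hw', smul_add, smul_add]

/-- a subspace invariant under the Siegel elements of a non-degenerate subspace -/
theorem le_of_inv [Finite F] [FiniteDimensional F V] {U W : Submodule F V} (hU : Nondeg (res Q U)) (h3 : 3 ≤ finrank F U)
    (h : ∀ u ∈ U, ∀ w ∈ U, ∀ (hu : Q u = 0) (hw : polar Q u w = 0), ∀ x ∈ W, siegel Q u w hu hw x ∈ W)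
    {x u : V} (hx : x ∈ W) (hu : u ∈ U) (hux : polar Q u x ≠ 0) : U ≤ W := by
  have key : ∀ p p' : U, Hyp (res Q U) p p' → ∀ x ∈ W, polar Q p x ≠ 0 →
      (p : V) ∈ W ∧ ∀ w ∈ U, polar Q p w = 0 → w ∈ W := fun p p' hp x hx ha => by
    have e : ∀ w ∈ U, polar Q p w = 0 → polar Q p x • w - (polar Q w x + Q w * polar Q p x) • (p : V) ∈ W := fun w hw h1 => by
      have hp0 : Q p = 0 := hp.left
      have h2 := W.sub_mem (h p p.2 w hw hp0 h1 x hx) hx
      rw [siegel_apply] at h2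
      convert h2 using 1
      module
    obtain ⟨a, c, a1, -, c1, -, ac⟩ := exists_perp2 hU h3 hp
    have a1' : polar Q p a = 0 := a1
    have c1' : polar Q p c = 0 := c1
    have ac' : polar Q a c = 1 := ac
    have h4 := W.sub_mem (W.add_mem (e a a.2 a1') (e c c.2 c1'))
      (e (a + c) (U.add_mem a.2 c.2) (by rw [polar_add_right, a1', c1', add_zero]))
    have h5 : (p : V) ∈ W := by
      refine (W.smul_mem_iff ha).1 ?_
      convert h4 using 1
      rw [Q_add, ac', polar_add_left]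
      module
    exact ⟨h5, fun w hw h1 => (W.smul_mem_iff ha).1 ((W.sub_mem_iff_left (W.smul_mem _ h5)).1 (e w hw h1))⟩
  obtain ⟨z, hz0, hz⟩ := H955.exists_singular (res Q U) h3
  obtain ⟨z', hzz⟩ := exists_hyp hU hz hz0
  obtain ⟨p, hp0, hpx⟩ : ∃ p : U, res Q U p = 0 ∧ polar Q p x ≠ 0 := by
    by_contra hc
    push Not at hc
    exact hux (sing_induction hzz (P := fun v : U => polar Q v x = 0)
      (fun a c h1 h2 => by rw [Submodule.coe_add, polar_add_left, h1, h2, add_zero]) hc ⟨u, hu⟩)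
  obtain ⟨p', hp⟩ := exists_hyp hU hp0 (by rintro rfl; exact hpx (polar_zero_left Q x))
  have pp : polar Q p p' = 1 := hp.pair
  obtain ⟨h1, h2⟩ := key p p' hp x hx hpx
  obtain ⟨h4, -⟩ := key p' p hp.symm p h1 (by rw [polar_comm, pp]; exact one_ne_zero)
  intro v hv
  have h5 := h2 (v - polar Q p v • p') (U.sub_mem hv (U.smul_mem _ p'.2))
    (by rw [polar_sub_right, polar_smul_right, pp, smul_eq_mul, mul_one, sub_self])
  exact (W.sub_mem_iff_left (W.smul_mem _ h4)).1 h5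

end one

section names

variable {m : ℕ} {F : Type} [Field F] [Fintype F] {Q : QuadraticForm F (VV m F)}

theorem good (hQ : Pol Q) (hm : 3 ≤ m) : Good Q :=
  LieClassical.OrthFinite.good_of_finite hQ.nondeg (by rw [finrank_VV]; omega)

theorem card_eq {ι : Type} [Fintype ι] [DecidableEq ι] (h2 : (2 : F) = 0) (hQ : Pol Q) (hm : 3 ≤ m)
    {Q₀ : QuadraticForm F (ι → F)} (hn : Nondeg Q₀) (e : (ι → F) ≃ₗ[F] VV m F) (he : ∀ v, Q (e v) = Q₀ v) :
    Nat.card (POmega F ⇑Q₀) = Nat.card (E Q) := by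
  have hG : Good Q₀ := LieClassical.OrthFinite.good_of_finite hn (by rw [e.finrank_eq, finrank_VV]; omega)
  exact Nat.card_congr (((AutOrth.Main.pe hG).trans (H807.IF.quotOdd (center_two h2 hG))).trans (si_of_lin e he).eE).toEquiv

theorem not_exc {X : H902.Art.Sh} {p f N : ℕ} (h : H902.Art.Real X p f N) (h12 : 12 ≤ H902.Art.NN X) : ¬ H902.Names.Exc N := by
  have h1 : p ^ 12 ∣ H902.Art.dd X (p ^ f) * N := by
    rw [h.eq, ← pow_mul]
    exact (pow_dvd_pow p (by have := h.hf; nlinarith)).mul_right _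
  have h2 : p ^ 12 ∣ N := (Nat.Coprime.pow_left 12 ((Nat.Prime.coprime_iff_not_dvd h.hp).2 h.not_dvd_dd)).dvd_of_dvd_mul_left h1
  intro hN
  have h3 : N ≤ 25920 ∧ 0 < N := by rcases hN with h | h | h | h | h <;> omega
  rcases h.hp.two_le.eq_or_lt with h4 | h4
  · rw [← h4] at h2
    rcases hN with h | h | h | h | h <;> rw [h] at h2 <;> revert h2 <;> decide
  · have h5 := (Nat.pow_le_pow_left (show 3 ≤ p from h4) 12).trans (Nat.le_of_dvd h3.2 h2)
    omega

theorem n2 (h2 : (2 : F) = 0) (hQ : Pol Q) (hm : 4 ≤ m) : ¬ H902.Names.Exc (Nat.card (E Q)) ∧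
    ((IsPlus Q ∧ H902.Names.N2 (.oplus m (Fintype.card F)) (Nat.card (E Q))) ∨
      (¬ IsPlus Q ∧ H902.Names.N2 (.ominus m (Fintype.card F)) (Nat.card (E Q)))) := by
  have := charP_two h2
  obtain ⟨p, f, hp, hf, hF⟩ := H902.Names.exists_pp F
  have h12 : 12 ≤ m * (m - 1) := Nat.mul_le_mul hm (show 3 ≤ m - 1 by omega)
  obtain ⟨k, h | h⟩ := H403.Classify.classify Q hQ.nondeg
  · obtain rfl : k = m := by have := h.finrank; rw [finrank_VV] at this; omega
    obtain ⟨e, he⟩ := h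
    have h1 := H902.Names.oplus_real hp hf hF hm
    rw [← LieClassical.OrthForms.coe_plusForm, card_eq h2 hQ (by omega) (LieClassical.OrthForms.nondeg_plusForm k F) e he] at h1
    refine ⟨not_exc h1 h12, Or.inl ⟨?_, Or.inr ⟨_, p, f, hF ▸ .oplus k p f, h1⟩⟩⟩
    exact H955.IsPlus.of_equiv e he (by rw [H403.Classify.plusForm_eq]; exact H955.isPlus_plus k)
  · obtain rfl : k = m - 1 := by have := h.finrank; rw [finrank_VV] at this; omega
    obtain ⟨a, b, hab, e, he⟩ := h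
    have h1 := H902.Names.ominus_real hp hf hF hm hab
    rw [← LieClassical.OrthForms.coe_minusForm,
      card_eq h2 hQ (by omega) (LieClassical.OrthForms.nondeg_minusForm _ F a b hab) e he] at h1
    refine ⟨not_exc h1 h12, Or.inr ⟨?_, Or.inr ⟨_, p, f, hF ▸ .ominus m p f, h1⟩⟩⟩
    rw [← H955.isPlus_iff_of_equiv e he, H403.Classify.minusForm_eq]
    exact H955.not_isPlus_minus _ hab

end names

section two

variable {m₁ m₂ : ℕ} {F₁ F₂ : Type} [Field F₁] [Fintype F₁] [Field F₂] [Fintype F₂] {Q₁ : QuadraticForm F₁ (VV m₁ F₁)}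
  {Q₂ : QuadraticForm F₂ (VV m₂ F₂)}

theorem Si.gs {g : VV m₁ F₁ ≃+ VV m₂ F₂} {σ : F₁ ≃+* F₂} (h : Si Q₁ Q₂ g σ) : gs Q₂ ⊤ = gs Q₁ ⊤ := by
  classical
  rw [gs_top, gs_top, ← Equiv.sum_comp g.toEquiv]
  refine Finset.sum_congr rfl fun v _ => ?_
  change psi (Q₂ (g v)) = _
  rw [h.form]
  by_cases h0 : T0 (Q₁ v)
  · rw [psi_of h0, psi_of ((t0_map σ).2 h0)]
  · rw [psi_of_not h0, psi_of_not (mt (t0_map σ).1 h0)]

theorem exists_si_zero (a₁ : (2 : F₁) = 0) (a₂ : (2 : F₂) = 0) (h₁ : Pol Q₁) (h₂ : Pol Q₂) (hm : m₁ = m₂)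
    (hq : Fintype.card F₁ = Fintype.card F₂) (hp : IsPlus Q₁ ↔ IsPlus Q₂) : ∃ g σ, Si Q₁ Q₂ g σ := by
  subst hm
  let τ := FiniteField.ringEquivOfCardEq hq
  let t : VV m₁ F₁ ≃+ VV m₁ F₂ := AddEquiv.piCongrRight fun _ => τ.toAddEquiv
  have ht : Sl t τ := fun c v => funext fun i => map_mul τ c (v i)
  have hf : ∀ u v, ff m₁ F₂ (t u) (t v) = τ (ff m₁ F₁ u v) := fun u v => by
    simp only [ClassicalGeometry.SympBasic.sympBilin_apply, ClassicalGeometry.SympBasic.sympForm_eq_sum, map_sum, map_sub,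
      map_mul]
    rfl
  have hadd : ∀ u v, τ (Q₁ (t.symm (u + v))) = τ (Q₁ (t.symm u)) + τ (Q₁ (t.symm v)) + ff m₁ F₂ u v := fun u v => by
    rw [map_add, h₁.add, map_add, map_add, ← hf, t.apply_symm_apply, t.apply_symm_apply]
  let Q' : QuadraticForm F₂ (VV m₁ F₂) :=
    { toFun := fun v => τ (Q₁ (t.symm v))
      toFun_smul := fun c v => by
        rw [ht.symm, QuadraticMap.map_smul, smul_eq_mul, smul_eq_mul, map_mul, map_mul, τ.apply_symm_apply]
      exists_companion' := ⟨ff m₁ F₂, hadd⟩ }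
  have hQ' : Pol Q' := fun u v => by
    change τ _ - τ _ - τ _ = _
    rw [hadd]
    ring
  have hs : Si Q₁ Q' t τ := ⟨ht, fun v => congrArg (fun x => τ (Q₁ x)) (t.symm_apply_apply v)⟩
  obtain ⟨g, -, hg⟩ := (orb_iff_plus a₂ h₂ hQ').2 (by rw [← hp, plus_iff a₂ hQ', plus_iff a₁ h₁, hs.gs])
  exact ⟨_, _, hs.trans (si_of_lin g hg)⟩

/-- **isomorphisms of the groups `E`** -/
theorem exists_si (a₁ : (2 : F₁) = 0) (a₂ : (2 : F₂) = 0) (h₁ : Pol Q₁) (h₂ : Pol Q₂) (b₁ : 4 ≤ m₁) (b₂ : 4 ≤ m₂)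
    (h4 : m₂ = 4 → ¬ IsPlus Q₂) (ψ : E Q₁ ≃* E Q₂) : ∃ g σ, Si Q₁ Q₂ g σ ∧
      ∀ (x : E Q₁) v, (ψ x : GG m₂ F₂) (g v) = g ((x : GG m₁ F₁) v) := by
  obtain ⟨c1, c2⟩ := n2 a₁ h₁ b₁
  obtain ⟨-, c3⟩ := n2 a₂ h₂ b₂
  rw [← Nat.card_congr ψ.toEquiv] at c3
  obtain ⟨g, σ, h⟩ : ∃ g σ, Si Q₁ Q₂ g σ := by
    rcases c2 with ⟨p1, n1⟩ | ⟨p1, n1⟩ <;> rcases c3 with ⟨p2, n2⟩ | ⟨p2, n2⟩ <;>
      rcases H902.Names.n2_unique n1 n2 c1 with e | ⟨_, _, _, _, e, _⟩ | ⟨_, _, _, _, e, _⟩ <;>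
      first
        | (injection e with e1 e2; exact exists_si_zero a₁ a₂ h₁ h₂ e1 e2 (by tauto))
        | exact absurd e (by simp)
  obtain ⟨g', σ', h', e⟩ := exists_si_aut a₂ (good h₂ (by omega)) (by rw [finrank_VV]; omega)
    (fun h8 => h4 (by rw [finrank_VV] at h8; omega)) (h.eE.symm.trans ψ)
  refine ⟨_, _, h.trans h', fun x v => ?_⟩
  have h1 := e (h.eE x) (g v)
  rw [MulEquiv.trans_apply, MulEquiv.symm_apply_apply] at h1
  exact h1.trans (congrArg g' (h.sl.cj_apply x v))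

end two

end Cfsg.Agent.SM.Sy.CO
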