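import Cfsg.Agent.SM.Sy.FormB
import Cfsg.Agent.SM.Om.Sv
import Cfsg.Agent.SM.Om.St
import Cfsg.Agent.SM.Om.Df.Main
import Cfsg.Agent.H128.Rg.SpAbs
import Cfsg.Agent.H925.Rs.Pair

/-!
# SM (S3570), symplectic socles: `Sp₁₄(2)` (helper23)

* `B14.nat_abs` : a subgroup of `Sp` (characteristic two) which contains a classical group is `Sp` or fixes a quadratic form;
* `B14.list` : small primes over the field with two elements: reducible, extension field, quadratic form, or an alternating core;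
* `box14`.
-/

set_option autoImplicit false
set_option linter.unusedSectionVars false

namespace Cfsg.Agent.SM.Sy

open Cfsg Cfsg.Geo Module QuadraticMap Matrix Cfsg.Agent.H884.El Cfsg.Agent.OrdDiv
open Cfsg.Agent.LieClassical.OrthCore (O E)
open Cfsg.Agent.H449.Reg (cj cj_apply cj_apply' tq polar_tq nondeg_tq AExt)
open Cfsg.Agent.H100.Ppd (Nat')
open Cfsg.Agent.H915.LD (Core)
open Cfsg.Agent.H925.Rs (RedG)
open Cfsg.Agent.SM.Om.Sv (chk tst sieve tst_of)

namespace B14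

variable {m n : ℕ} {F : Type} [Field F] [Fintype F] {Q : QuadraticForm F (VV m F)} {Y : Subgroup (GG m F)}

theorem fixesForm_singleton {ι : Type} [Fintype ι] [DecidableEq ι] {x : Matrix ι ι F} {f : (ι → F) → (ι → F) → F} :
    FixesForm {x} f ↔ ∀ u v, f (x *ᵥ u) (x *ᵥ v) = f u v :=
  ⟨fun h => h x rfl, fun h s hs => by rw [show s = x from hs]; exact h⟩

theorem pres (hQ : Pol Q) (φ : VV m F ≃ₗ[F] (Fin n → F)) (h : GG m F) : h ∈ Sp m F ↔
    ∀ u v, polar (⇑(tq Q φ)) ((cj φ h : Matrix (Fin n) (Fin n) F) *ᵥ u) ((cj φ h : Matrix (Fin n) (Fin n) F) *ᵥ v) =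
      polar (⇑(tq Q φ)) u v := by
  constructor
  · intro hh u v
    rw [polar_tq, polar_tq, cj_apply, cj_apply, φ.symm_apply_apply, φ.symm_apply_apply, hQ, hQ]
    exact hh _ _
  · intro hh u v
    have h1 := hh (φ u) (φ v)
    rw [polar_tq, polar_tq, cj_apply', cj_apply', φ.symm_apply_apply, φ.symm_apply_apply, φ.symm_apply_apply,
      φ.symm_apply_apply, hQ, hQ] at h1
    exact h1

theorem nat_mono {P H : Subgroup (GL (Fin n) F)} (h : P ≤ H) (hN : Nat' P) : Nat' H := by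
  rcases hN with k | ⟨f, hf, k⟩ | ⟨τ, f, hf, k⟩ | ⟨Q', hQ', k⟩
  · exact Or.inl (k.trans h)
  · exact Or.inr (Or.inl ⟨f, hf, fun x hx => h (k x hx)⟩)
  · exact Or.inr (Or.inr (Or.inl ⟨τ, f, hf, fun x hx hd => h (k x hx hd)⟩))
  · exact Or.inr (Or.inr (Or.inr ⟨Q', hQ', k.trans h⟩))

/-- **the classical groups inside `Sp`** -/
theorem nat_abs (h2 : (2 : F) = 0) (hm : 3 ≤ m) (φ : VV m F ≃ₗ[F] (Fin n → F)) (hY : Y ≤ Sp m F) (hne : Y ≠ Sp m F)
    (hN : Nat' (Y.map (cj φ).toMonoidHom)) : ∃ Q, Pol Q ∧ Y ≤ O Q := by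
  have hn : n = 2 * m := by rw [← H449.Reg.finrank_of_equiv φ, finrank_VV]
  have hc : Fintype.card (Fin n) = n := Fintype.card_fin n
  have hone : Nonempty (Fin n) := ⟨⟨0, by omega⟩⟩
  have hQ := pol_plus (m := m) h2
  generalize LieClassical.QuadForms.plusForm m F = Q at hQ
  have hQ' := H925.isND_of_nondeg (nondeg_tq hQ.nondeg φ)
  have hB := H128.Rg.symp_polar h2 hQ'
  have hmem : ∀ x ∈ Y.map (cj φ).toMonoidHom, ∀ u v, polar (⇑(tq Q φ)) ((x : Matrix (Fin n) (Fin n) F) *ᵥ u)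
      ((x : Matrix (Fin n) (Fin n) F) *ᵥ v) = polar (⇑(tq Q φ)) u v := by
    rintro _ ⟨x, hx, rfl⟩
    exact (pres hQ φ x).1 (hY hx)
  rcases hN with h | ⟨f', hf', h⟩ | ⟨τ, f', hf', h⟩ | ⟨Q', hq, h⟩
  · exfalso
    refine H905.not_sl_le_similarityGroup_symplectic (by omega) hB fun x hx => ?_
    exact ⟨1, fun u v => by rw [Units.val_one, one_mul]; exact hmem x (h hx) u v⟩
  · exfalso
    obtain ⟨c, hc0, hc⟩ := H128.Rg.symp_prop hf' hB fun x hx => fixesForm_singleton.2 (hmem x (h x hx))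
    refine hne (le_antisymm hY fun x hx => ?_)
    obtain ⟨y, hy, e⟩ := h (cj φ x) (fixesForm_singleton.2 fun u v => by
      have h1 := (pres hQ φ x).1 hx u v
      rw [hc, hc] at h1
      exact mul_left_cancel₀ hc0 h1)
    rwa [← (cj φ).injective e]
  · exact (H128.Rg.unit_symp_false (by omega) hB hf' fun x hx hd => fixesForm_singleton.2 (hmem x (h x hx hd))).elim
  · have h1 : FixesForm (matrixSet (omegaGL Q')) (polar ⇑(tq Q φ)) := by
      rintro _ ⟨x, hx, rfl⟩ u v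
      exact hmem x (h hx) u v
    have h3 : FixesForm (matrixSet (omegaGL Q')) (polar Q') := H914.fixesForm_polar (H925.Nat.omegaGL_fixes Q')
    obtain ⟨c, hc⟩ := H920.form_unique (H925.Nat.omegaGL_absIrr hq (by omega)) hq.polar_bilinear hq.nondegenerate h3
      hQ'.polar_bilinear h1
    have hc0 : c ≠ 0 := by
      rintro rfl
      obtain ⟨i⟩ := hone
      have h4 : (Pi.single i 1 : Fin n → F) ≠ 0 := by
        intro h0
        have := congrFun h0 i
        simp at this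
      obtain ⟨⟨x, hx⟩, -⟩ := hQ'.nondegenerate _ h4
      exact hx (by rw [hc, zero_mul])
    let Q₂ : QuadraticForm F (VV m F) := c • (H925.qf hq).comp (φ : VV m F →ₗ[F] (Fin n → F))
    have e : (⇑(tq Q₂ φ) : (Fin n → F) → F) = fun v => c * Q' v := by
      funext v
      change c * Q' (φ (φ.symm v)) = _
      rw [φ.apply_symm_apply]
    have hp : Pol Q₂ := by
      intro u v
      have h4 := hc (φ u) (φ v)
      rw [polar_tq, φ.symm_apply_apply, φ.symm_apply_apply, hQ] at h4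
      rw [h4]
      change c * Q' (φ (u + v)) - c * Q' (φ u) - c * Q' (φ v) = c * (Q' (φ u + φ v) - Q' (φ u) - Q' (φ v))
      rw [map_add]
      ring
    refine ⟨Q₂, hp, (over_E h2 hp hm (H128.Rg.E_le_of φ (by omega) (H925.isND_of_nondeg (nondeg_tq hp.nondeg φ)) ?_)
      hY).resolve_right hne⟩
    rw [e, H925.Nat.omegaGL_smul hc0 fun v => rfl]
    exact h

theorem red_of (φ : VV m F ≃ₗ[F] (Fin n → F)) (h : H278.Cov.Red (Y.map (cj φ).toMonoidHom)) : RedG Y := by
  obtain ⟨W, hW0, hW1, hW⟩ := h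
  refine ⟨W.comap (φ : VV m F →ₗ[F] (Fin n → F)), fun h0 => hW0 ?_, fun h0 => hW1 ?_, fun h hh w hw => ?_⟩
  · rw [← Submodule.map_comap_eq_of_surjective (f := (φ : VV m F →ₗ[F] (Fin n → F))) φ.surjective W, h0, Submodule.map_bot]
  · rw [← Submodule.map_comap_eq_of_surjective (f := (φ : VV m F →ₗ[F] (Fin n → F))) φ.surjective W, h0, Submodule.map_top,
      LinearEquiv.range]
  · have h1 : cj φ h ∈ subspaceStabilizer W := hW ⟨h, hh, rfl⟩
    have h2 : (cj φ h : Matrix (Fin n) (Fin n) F) *ᵥ φ w ∈ W := (h1 (φ w)).1 hw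
    rw [cj_apply'] at h2
    exact h2

/-- **small primes, `q = 2`**: `r` and `N` divide the order -/
theorem list (hq : Fintype.card F = 2) (hY : Y ≤ Sp m F) (hne : Y ≠ Sp m F) (h5 : 5 ≤ m) (h124 : m ≤ 124)
    (hpp : ¬ IsPrimePow (2 * m)) {k r : ℕ} (hk : k ≤ 2 * m) (hk2 : m < k) (hr : PP 2 k r) (h17 : 17 ≤ r) (hmr : 2 * m < r)
    (hrY : r ∣ Nat.card Y) {N : ℕ} {Ns : List ℕ} (hN : N ∈ Ns) (hNY : N ∣ Nat.card Y) {l : List (ℕ × ℕ)}
    (hv : valid l (prodl l) = true) (hl : prodl l = oSp m 2) {b : Bool} {al : List ℕ}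
    (hc : (cands l (prodl l)).all (chk l (tst 1 r Ns) 2 r (2 * m) b al) = true) :
    RedG Y ∨ (∃ s, s.Prime ∧ s ∣ Nat.gcd (2 * m) k ∧ AExt s Y) ∨ (∃ Q, Pol Q ∧ Y ≤ O Q) ∨
      ∃ c ∈ al, ∃ f : Y →* MulAut (alternatingGroup (Fin c)), Function.Injective f ∧
        Nat.card (alternatingGroup (Fin c)) ∣ Nat.card Y := by
  have : Fact (Nat.Prime 2) := ⟨Nat.prime_two⟩
  have : CharP F 2 := H290.ElReg.charP_of_pow Nat.prime_two (a := 1) (by rw [hq, pow_one])
  have hF : Nat.card F = 2 := by rw [Nat.card_eq_fintype_card, hq]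
  let φ : VV m F ≃ₗ[F] (Fin (2 * m) → F) :=
    LinearEquiv.ofFinrankEq _ _ (by rw [Module.finrank_fintype_fun_eq_card (R := F) (η := Fin (2 * m)), Fintype.card_fin, finrank_VV])
  have e0 := (cj φ).subgroupMap Y
  have hc0 : Nat.card (Y.map (cj φ).toMonoidHom) = Nat.card Y := Subgroup.card_map_of_injective (cj φ).injective
  rcases Om.boxSt F (2 * m) k r (Y.map (cj φ).toMonoidHom) (hq ▸ Nat.prime_two) (by omega) hk (by omega) hpp (hF ▸ hr) hmr
    (hc0 ▸ hrY) with h | ⟨s, K, k1, k0, k2, k3⟩ | ⟨P, k1, k2, k3⟩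
  · exact Or.inl (red_of φ h)
  · exact Or.inr (Or.inl ⟨s, k1, k0, _, φ, K, k1, k2, k3⟩)
  · refine Or.inr (Or.inr ?_)
    have := k2.simple
    have hd : Nat.card (H915.LD.Soc P) ∣ prodl l := by
      refine (Om.Sv.soc_dvd k1).trans ?_
      have h1 := Subgroup.card_dvd_of_le hY
      rw [H925.Rs.card_Isos (B := ff m F) ff_self (fun x hx => nd_top x trivial fun w _ => hx w) finrank_VV, hq, pow_two] at h1
      rwa [hc0, hl]
    have h1 := Om.Sv.card_dvd k2 k3
    rw [hq, hc0] at h1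
    rcases sieve k2.nonabelian hv hd (tst_of h1 hrY hN hNY) Nat.prime_two (by omega) (fun _ => Om.Sv.fth hq) hc with
      ⟨h3, h4⟩ | ⟨c, h3, ⟨e⟩⟩
    · exact Or.inl (nat_abs (CharP.cast_eq_zero F 2) (by omega) φ hY hne (nat_mono k1
        (Om.boxDf F 2 (2 * m) k r P (by omega) hk (by omega) (hF ▸ hr) h17 k2 h4 h3)))
    · refine Or.inr ⟨c, h3, ((MulAut.congr e).toMonoidHom.comp (Om.Sv.act k2 k3)).comp e0.toMonoidHom,
        ((MulAut.congr e).injective.comp (Om.Sv.act_inj hq k2 k3)).comp e0.injective, ?_⟩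
      rw [← Nat.card_congr e.toEquiv, ← hc0]
      exact Om.Sv.soc_dvd k1

/-- `|Sp₁₄(2)|` -/
def l14 : List (ℕ × ℕ) := [(2, 49), (3, 9), (5, 3), (7, 2), (11, 1), (13, 1), (17, 1), (31, 1), (43, 1), (127, 1)]

theorem v14 : valid l14 (prodl l14) = true := by decide +kernel

theorem c14 : (cands l14 (prodl l14)).all (chk l14 (tst 1 17 [403]) 2 17 (2 * 7) false []) = true := by decide +kernel

end B14

/-- **`Sp₁₄(2)`** -/
theorem box14 : Box14 := by
  intro F _ _ Y hq hY hne h13 h17 h31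
  have hF : Nat.card F = 2 := by rw [Nat.card_eq_fintype_card, hq]
  rcases B14.list hq hY hne (by omega) (by omega)
    (Om.Sv.not_pp Nat.prime_two (by decide : Nat.Prime 7) (by omega) (by omega) (by omega)) (k := 8) (by omega) (by omega)
    (Om.Sv.pp_of (by decide) (by decide) (by decide) (by decide)) le_rfl (by omega) h17 (List.mem_singleton_self 403)
    (Nat.Coprime.mul_dvd_of_dvd_of_dvd (by decide : Nat.Coprime 13 31) h13 h31) B14.v14 (by decide +kernel) B14.c14 with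
    h | ⟨s, k1, k2, k3⟩ | h | ⟨c, h, -⟩
  · exact Or.inl h
  · exfalso
    have ht : PP (Nat.card F) 5 31 := hF ▸ Om.Sv.pp_of (by decide) (by decide) (by decide) (by decide)
    have h1 := H925.Rs.ext_odd' (B := ff 7 F) ff_self (fun x hx => nd_top x trivial fun w _ => hx w) hY k3 k1 finrank_VV
      (by omega) (by omega) (by omega) (by decide) ht h31
    obtain rfl : s = 2 := (Nat.prime_dvd_prime_iff_eq k1 Nat.prime_two).1 k2
    omega
  · exact Or.inr h
  · exact absurd h List.not_mem_nil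

end Cfsg.Agent.SM.Sy
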