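import Cfsg.Agent.SM.Sy.Api
import Cfsg.Agent.S0244
import Cfsg.Agent.ClassicalGeometry.SympAutTwo
import Cfsg.Agent.ClassicalGeometry.SympAutExists
import Cfsg.Agent.ClassicalGeometry.AutPSL.Main

/-!
# SM (S3570), symplectic socles: automorphisms of `Sp b K` in characteristic two (helper79)

`C45.sem_tri` : of `α`, `β`, `α⁻¹ β` one is induced by a semilinear isometry.
-/

set_option autoImplicit false
set_option linter.unusedSectionVars false
set_option linter.unusedVariables false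
set_option maxHeartbeats 400000

namespace Cfsg.Agent.SM.Sy.C45

open Cfsg Equiv Subgroup Matrix
open Cfsg.Agent.ClassicalGeometry
open Cfsg.Agent.ClassicalGeometry.SympBasic
open Cfsg.Agent.ClassicalGeometry.SympAutSemi
open Cfsg.Agent.H925.Rs (spE spE_apply spE_symm_apply)

variable {b : ℕ} {K : Type} [Field K] [Fintype K]

/-- `α` is induced by a semilinear isometry -/
def Sem (α : MulAut (Sp b K)) : Prop :=
  ∃ (j : Perm (VV b K)) (σ : K ≃+* K), IsSemi j σ 1 ∧ ∀ (h : Sp b K) v, (α h).1 (j v) = j (h.1 v)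

/-- the multiplier is a square -/
theorem sem_of (h2 : (2 : K) = 0) {α : MulAut (Sp b K)} {j : Perm (VV b K)} (hj : j ∈ semiSim b K)
    (h : ∀ (h : Sp b K) v, (α h).1 (j v) = j (h.1 v)) : Sem α := by
  obtain ⟨σ, l, hl, hj⟩ := hj
  obtain ⟨c, hc⟩ := exists_sqrt h2 l⁻¹
  have hc0 : c ≠ 0 := by
    rintro rfl
    exact inv_ne_zero hl (by rw [← hc, mul_zero])
  refine ⟨j.trans (MulAction.toPerm (Units.mk0 c hc0)), σ, ⟨fun u v => ?_, fun a v => ?_, fun u v => ?_⟩, fun g v => ?_⟩
  · show c • j (u + v) = c • j u + c • j v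
    rw [hj.1, smul_add]
  · show c • j (a • v) = σ a • c • j v
    rw [hj.2.1, smul_comm]
  · show sympForm b K (c • j u) (c • j v) = _
    rw [sympForm_smul_left, sympForm_smul_right, hj.2.2, ← mul_assoc, hc, ← mul_assoc,
      inv_mul_cancel₀ hl]
  · show (α g).1 (c • j v) = c • j (g.1 v)
    rw [map_smul, h]

/-- `Sp = PSp` -/
noncomputable def toP (h2 : (2 : K) = 0) : Sp b K ≃* PSp b K :=
  spE.symm.trans (MulEquiv.ofBijective (QuotientGroup.mk' _) ⟨SympAutOdd.mk_injective h2, QuotientGroup.mk'_surjective _⟩)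

theorem sem_of_psi (h2 : (2 : K) = 0) {α : MulAut (Sp b K)} (h : MulAut.congr (toP h2) α ∈ (Psi b K).range) : Sem α := by
  obtain ⟨j, hj⟩ := h
  refine sem_of h2 j.2 fun g v => ?_
  have h1 : Psi b K j (toP h2 g) = toP h2 (α g) := by rw [hj]; simp
  have h3 : conjHom b K j (spE.symm g) = spE.symm (α g) := SympAutOdd.mk_injective h2 h1
  have h4 := congrArg (fun z : Perm (VV b K) => z (j.1 v)) (rho_conjHom j (spE.symm g))
  simp only [h3, Perm.mul_apply, perm_inv_apply_self, rho_apply, spE_symm_apply] at h4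
  exact h4

/-- `Sp₂ = SL₂` -/
def spTwo (F : Type) [Field F] : Matrix.symplecticGroup (Fin 1) F ≃* Matrix.SpecialLinearGroup (Fin 2) F where
  toFun A := ⟨Matrix.reindex finSumFinEquiv finSumFinEquiv (A : Matrix (Fin 1 ⊕ Fin 1) (Fin 1 ⊕ Fin 1) F), by
    rw [Matrix.det_reindex_self]
    exact (S0244.result _).1 A.2⟩
  invFun A := ⟨Matrix.reindex finSumFinEquiv.symm finSumFinEquiv.symm (A : Matrix (Fin 2) (Fin 2) F), by
    rw [S0244.result, Matrix.det_reindex_self]
    exact A.2⟩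
  left_inv A := by
    apply Subtype.ext
    ext i j
    simp
  right_inv A := by
    apply Subtype.ext
    ext i j
    simp
  map_mul' A B := by
    apply Subtype.ext
    change Matrix.reindex finSumFinEquiv finSumFinEquiv (A.1 * B.1) =
      Matrix.reindex finSumFinEquiv finSumFinEquiv A.1 * Matrix.reindex finSumFinEquiv finSumFinEquiv B.1
    rw [Matrix.reindex_apply, Matrix.reindex_apply, Matrix.reindex_apply, Matrix.submatrix_mul_equiv]

open AutPSL.Root AutPSL.Auto in
theorem sem_one (h2 : (2 : K) = 0) (α : MulAut (Sp 1 K)) : Sem α := by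
  have := charP_two h2
  have inj : Function.Injective (pr : Matrix.SpecialLinearGroup (Fin 2) K →* _) := fun x y h => by
    obtain ⟨c, hc⟩ := exists_smul_of_pr_eq h
    have h1 := congrArg Matrix.det hc
    rw [Matrix.det_smul, x.2, y.2, Fintype.card_fin, mul_one] at h1
    have h3 : c = 1 := sub_eq_zero.1 (mul_self_eq_zero.1 (by linear_combination -h1 + (1 - c) * h2))
    exact Subtype.ext (by rw [hc, h3, one_smul])
  let ε : Sp 1 K ≃* Matrix.SpecialLinearGroup (Fin 2) K := spE.symm.trans (spTwo K)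
  let ε' := ε.trans (MulEquiv.ofBijective pr ⟨inj, pr_surjective⟩)
  obtain ⟨A, σ, hA⟩ := AutPSL.Main.surj_two 2 (MulAut.congr ε' α)
  have key : ∀ h, ε (α h) = cj A (fld σ (ε h)) := fun h => inj (by
    have h1 : MulAut.congr ε' α (ε' h) = ε' (α h) := by simp
    rw [hA] at h1
    exact h1.symm)
  let e : Fin 1 ⊕ Fin 1 ≃ Fin 2 := finSumFinEquiv
  let A' := (A : Matrix (Fin 2) (Fin 2) K).submatrix e e
  let B' := ((A⁻¹ : GL (Fin 2) K) : Matrix (Fin 2) (Fin 2) K).submatrix e e
  have hAB : A' * B' = 1 := by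
    rw [Matrix.submatrix_mul_equiv, ← Units.val_mul, mul_inv_cancel, Units.val_one, Matrix.submatrix_one_equiv]
  have hBA : B' * A' = 1 := by
    rw [Matrix.submatrix_mul_equiv, ← Units.val_mul, inv_mul_cancel, Units.val_one, Matrix.submatrix_one_equiv]
  have key' : ∀ h : Sp 1 K, ((spE.symm (α h) : symplecticGroup (Fin 1) K) : Matrix _ _ K) =
      A' * ((spE.symm h : symplecticGroup (Fin 1) K) : Matrix _ _ K).map σ * B' := fun h => by
    have h1 := congrArg (fun z : Matrix.SpecialLinearGroup (Fin 2) K => (z : Matrix (Fin 2) (Fin 2) K).submatrix e e) (key h)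
    simp only [coe_cj] at h1
    rw [← Matrix.submatrix_mul_equiv _ _ e e e, ← Matrix.submatrix_mul_equiv _ _ e e e] at h1
    refine Eq.trans ?_ (h1.trans ?_)
    · ext i k
      show _ = ((spE.symm (α h) : symplecticGroup (Fin 1) K) : Matrix _ _ K) (e.symm (e i)) (e.symm (e k))
      rw [e.symm_apply_apply, e.symm_apply_apply]
    · congr 2
      ext i k
      show σ (((spE.symm h : symplecticGroup (Fin 1) K) : Matrix _ _ K) (e.symm (e i)) (e.symm (e k))) = _
      rw [e.symm_apply_apply, e.symm_apply_apply]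
      rfl
  let j : Perm (VV 1 K) :=
    { toFun := fun v => A' *ᵥ (σ ∘ v)
      invFun := fun v => σ.symm ∘ (B' *ᵥ v)
      left_inv := fun v => by
        dsimp only
        rw [Matrix.mulVec_mulVec, hBA, Matrix.one_mulVec]
        exact funext fun i => σ.symm_apply_apply _
      right_inv := fun v => by
        dsimp only
        rw [show σ ∘ (σ.symm ∘ (B' *ᵥ v)) = B' *ᵥ v from funext fun i => σ.apply_symm_apply _, Matrix.mulVec_mulVec, hAB,
          Matrix.one_mulVec] }
  have hs : IsSemi j σ (A' (.inl 0) (.inl 0) * A' (.inr 0) (.inr 0) - A' (.inl 0) (.inr 0) * A' (.inr 0) (.inl 0)) := by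
    refine ⟨fun u v => ?_, fun c v => ?_, fun u v => ?_⟩
    · show A' *ᵥ (σ ∘ (u + v)) = A' *ᵥ (σ ∘ u) + A' *ᵥ (σ ∘ v)
      rw [← Matrix.mulVec_add]
      exact congrArg _ (funext fun i => map_add σ _ _)
    · show A' *ᵥ (σ ∘ (c • v)) = σ c • A' *ᵥ (σ ∘ v)
      rw [← Matrix.mulVec_smul]
      exact congrArg _ (funext fun i => map_mul σ _ _)
    · show sympForm 1 K (A' *ᵥ (σ ∘ u)) (A' *ᵥ (σ ∘ v)) = _
      simp only [sympForm_eq_sum, Matrix.mulVec, dotProduct, Fintype.sum_sum_type, Fin.sum_univ_one, Function.comp_apply,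
        map_sub, map_mul]
      ring
  refine sem_of h2 (j := j) ⟨σ, _, fun h0 => ?_, hs⟩ fun h v => ?_
  · obtain ⟨u, v, huv⟩ := exists_ff (m := 1) (F := K) le_rfl
    obtain ⟨u, rfl⟩ := j.surjective u
    obtain ⟨v, rfl⟩ := j.surjective v
    rw [ff_apply, hs.2.2, h0, zero_mul] at huv
    exact zero_ne_one huv
  · show (α h).1 (A' *ᵥ (σ ∘ v)) = A' *ᵥ (σ ∘ h.1 v)
    rw [← spE_symm_apply, ← spE_symm_apply, key', Matrix.mulVec_mulVec, Matrix.mul_assoc, hBA, Matrix.mul_one,
      ← Matrix.mulVec_mulVec]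
    exact congrArg _ (funext fun i => (RingHom.map_mulVec (σ : K →+* K) _ v i).symm)

/-- **the semilinear automorphisms have index at most two** -/
theorem sem_tri (hb : 1 ≤ b) (h2 : (2 : K) = 0) (ht : ∃ t : K, t ≠ 0 ∧ t ≠ 1) (α β : MulAut (Sp b K)) :
    Sem α ∨ Sem β ∨ Sem (α⁻¹ * β) := by
  rcases hb.eq_or_lt with rfl | hb
  · exact Or.inl (sem_one h2 α)
  have hB : ∀ γ : MulAut (PSp b K), AutPSpCount.Pres γ → γ ∈ (Psi b K).range := fun γ hγ =>
    SympAutExists.exists_semi hb γ hγ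
  rcases (show 2 ≤ b from hb).eq_or_lt with rfl | hb'
  · have := charP_two h2
    have h1 := mul_mem_iff_of_index_two (SympAutTwo.index_two ht hB) (a := (MulAut.congr (toP h2) α)⁻¹)
      (b := MulAut.congr (toP h2) β)
    rw [inv_mem_iff, ← map_inv, ← map_mul] at h1
    by_cases k1 : MulAut.congr (toP h2) α ∈ (Psi 2 K).range
    · exact Or.inl (sem_of_psi h2 k1)
    by_cases k2 : MulAut.congr (toP h2) β ∈ (Psi 2 K).range
    · exact Or.inr (Or.inl (sem_of_psi h2 k2))
    exact Or.inr (Or.inr (sem_of_psi h2 (h1.2 (iff_of_false k1 k2))))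
  · exact Or.inl (sem_of_psi h2 (hB _ (SympAutOddA.recog hb (Or.inl hb') _)))

end Cfsg.Agent.SM.Sy.C45
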