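import Cfsg.Agent.SM.Sy.C5
import Cfsg.Agent.SM.Sy.C4A
import Cfsg.Agent.SM.Sy.KS

/-!
# SM (S3570), symplectic socles: the count `Cnt4` (helper79)

* `C45.eq_of_G` : an additive isometry which intertwines the two actions of `T` identifies the overgroups;
* `C45.Md` : `T = Sp b K₀` in the model; `cnt4`, `sig4`.
-/

set_option autoImplicit false
set_option linter.unusedSectionVars false
set_option linter.unusedVariables false
set_option maxHeartbeats 400000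

namespace Cfsg.Agent.SM.Sy

open Cfsg Equiv Subgroup MulAction Module QuadraticMap
open Cfsg.Agent.ClassicalGeometry.SympBasic
open Cfsg.Agent.ClassicalGeometry.SympAutSemi (IsSemi)
open Cfsg.Agent.LieClassical.OrthCore (O E)
open Cfsg.Agent.H955 (IsPlus)

namespace C45

theorem two_pow_inj {i j x y : ℕ} (hx : Odd x) (hy : Odd y) (h : 2 ^ i * x = 2 ^ j * y) : i = j := by
  have k : ∀ {i j x y : ℕ}, Odd y → 2 ^ i * x = 2 ^ j * y → i ≤ j := fun {i j x y} hy h =>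
    (Nat.pow_dvd_pow_iff_le_right one_lt_two).1 ((Nat.Coprime.pow_left i (Nat.coprime_two_left.2 hy)).dvd_of_dvd_mul_right
      ⟨x, h.symm⟩)
  exact le_antisymm (k hy h) (k hx h.symm)

theorem odd_sub {k : ℕ} (hk : k ≠ 0) : Odd (2 ^ k - 1) :=
  Nat.Even.sub_odd Nat.one_le_two_pow ((Nat.even_pow' hk).2 even_two) odd_one

theorem odd_add {k : ℕ} (hk : k ≠ 0) : Odd (2 ^ k + 1) := ((Nat.even_pow' hk).2 even_two).add_one

theorem oSp_two {b s : ℕ} (hs : s ≠ 0) : ∃ x, Odd x ∧ oSp b (2 ^ s) = 2 ^ (s * b * b) * x :=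
  ⟨∏ i ∈ Finset.range b, ((2 ^ s) ^ (2 * (i + 1)) - 1), Finset.prod_induction _ Odd (fun _ _ => Odd.mul) odd_one fun i _ => by
    rw [← pow_mul]
    exact odd_sub (by positivity), by rw [oSp, ← pow_mul, mul_assoc]⟩

/-- the absolute trace -/
theorem tr_iff {F K : Type} [Field F] [Fintype F] [Field K] [Fintype K] [Algebra F K] (hq : Fintype.card F = 2) {c : K} :
    Algebra.trace F K c = 0 ↔ T0 c := by
  have h2 : (2 : K) = 0 := by rw [← map_ofNat (algebraMap F K) 2, two0 hq, map_zero]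
  have h1 : ∀ c : K, T0 c → Algebra.trace F K c = 0 := by
    rintro _ ⟨x, rfl⟩
    have h3 := KS.tr_gal (FiniteField.frobeniusAlgEquivOfAlgebraic F K) x
    rw [FiniteField.coe_frobeniusAlgEquivOfAlgebraic, hq] at h3
    rw [map_add, ← pow_two, h3]
    linear_combination Algebra.trace F K x * two0 hq
  refine ⟨fun h => by_contra fun hc => ?_, h1 c⟩
  obtain ⟨d, hd⟩ := Algebra.trace_surjective F K 1
  have h3 := h1 (c + d) ((t0_add_iff' h2).2 (iff_of_false hc fun k => one_ne_zero (hd.symm.trans (h1 d k))))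
  rw [map_add, h, hd, zero_add] at h3
  exact one_ne_zero h3

/-- change of the field of a model -/
theorem mod_map {m b : ℕ} {F K' K₀ : Type} [Field F] [Field K'] [Field K₀] [Algebra F K'] {K : Subalgebra F (End F (VV m F))}
    {e : VV m F ≃+ VV b K'} (h : Mod K b K' e) (τ : K' ≃+* K₀) :
    ∃ (_ : Algebra F K₀) (e' : VV m F ≃+ VV b K₀), Mod K b K₀ e' := by
  let _ : Algebra F K₀ := ((τ : K' →+* K₀).comp (algebraMap F K')).toAlgebra
  let p : VV b K' ≃+ VV b K₀ := AddEquiv.piCongrRight fun _ => τ.toAddEquiv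
  have hp : ∀ (c : K') v, p (c • v) = τ c • p v := fun c v => funext fun i => map_mul τ _ _
  refine ⟨inferInstance, e.trans p, fun c v => ?_, fun k => (h.mem k).trans ⟨?_, ?_⟩, fun u v => ?_⟩
  · show p (e (c • v)) = _
    rw [h.smul, hp]
    rfl
  · rintro ⟨c, hc⟩
    exact ⟨τ c, fun v => (congrArg p (hc v)).trans (hp _ _)⟩
  · rintro ⟨c, hc⟩
    exact ⟨τ.symm c, fun v => p.injective ((hc v).trans (by rw [hp, τ.apply_symm_apply]; rfl))⟩
  · rw [h.form, ← Algebra.trace_eq_of_algEquiv (AlgEquiv.ofRingEquiv (f := τ) fun _ => rfl)]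
    congr 1
    show τ (sympForm b K' (e u) (e v)) = sympForm b K₀ (p (e u)) (p (e v))
    simp only [sympForm_eq_sum, map_sum, map_sub, map_mul]
    rfl

variable {Ω : Type} [Fintype Ω] [DecidableEq Ω] {X H T M S M' S' : Subgroup (Perm Ω)} {m m' : ℕ} {F F' : Type}
  [Field F] [Fintype F] [Field F'] [Fintype F'] {D : Fr m F X H T M S} {D' : Fr m' F' X H T M' S'} {a : Ω}
  {Q : QuadraticForm F (VV m F)} {Q' : QuadraticForm F' (VV m' F')}

/-- **an additive isometry which intertwines the actions of `T`** -/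
theorem eq_of_G (h : D.Fo a Q) (h' : D'.Fo a Q') (hm : 3 ≤ m) (G : VV m F ≃+ VV m' F')
    (hf : ∀ u v, ff m' F' (G u) (G v) = 0 ↔ ff m F u v = 0)
    (hT : ∀ t ∈ T, ∃ (g : Sp m F) (g' : Sp m' F'), D.π g = t ∧ D'.π g' = t ∧ ∀ v, G (g.1 v) = g'.1 (G v))
    (hx : ∀ w, (∀ g : Sp m F, D.π g ∈ T → D.π g a = a → g.1 w = w) → w = 0) : M = M' := by
  obtain ⟨u, U⟩ := exists_um h
  obtain ⟨u', U'⟩ := exists_um h'
  have hq := h.1
  have hq' := h'.1
  have h2 := two0 hq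
  let ι : F' ≃+* F := FiniteField.ringEquivOfCardEq (hq'.trans hq.symm)
  have hι : ∀ x y, ι (ff m' F' (G x) (G y)) = ff m F x y := fun x y => by
    rcases c01 hq (ff m F x y) with e | e
    · rw [e, (hf x y).2 e, map_zero]
    · rw [e, (c01 hq' _).resolve_left fun k => one_ne_zero (e.symm.trans ((hf x y).1 k)), map_one]
  let P : QuadraticForm F (VV m F) :=
    { toFun := fun v => ι (Q' (G v))
      toFun_smul := fun c v => by rcases c01 hq c with rfl | rfl <;> simp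
      exists_companion' := ⟨ff m F, fun x y => by rw [map_add, h'.2.1.add, map_add, map_add, hι]⟩ }
  have hP : ∀ v, P v = ι (Q' (G v)) := fun _ => rfl
  have pol : Pol P := fun x y => by
    rw [polar, hP, hP, hP, map_add, h'.2.1.add, map_add, map_add, hι]
    ring
  obtain ⟨w, hw⟩ := exists_ad h2 h.2.1 pol
  have hw0 : w = 0 := hx w fun g hg e => by
    obtain ⟨k, k', e1, e2, e3⟩ := hT _ hg
    obtain rfl := D.π_injective h2 e1
    have h3 : k'.1 ∈ O Q' := by rw [← h'.2.2, D'.mem_C, e2, e]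
    refine (mem_O_ad h2 h.2.1 (by rw [← h.2.2, D.mem_C, e])).1 fun v => ?_
    rw [← hw, hP, hP, e3, h3]
  rw [hw0, ad_zero] at hw
  have key : ∀ x, u' x = G (u x) := fun x => by
    obtain ⟨t, ht, rfl⟩ := D.up.trans a x
    obtain ⟨g, g', e1, e2, e3⟩ := hT t ht
    obtain ⟨z, hz⟩ := G.surjective (u' (t a))
    rw [← hz]
    refine congrArg G (ad_inj (Q := Q) h2 (QuadraticMap.ext fun v => ?_))
    obtain ⟨v, rfl⟩ := g.1.surjective v
    have h3 := U.eqv g a v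
    have h4 := U'.eqv g' a (G v)
    rw [e1, U.zero, ad_zero] at h3
    rw [e2, U'.zero, ad_zero, ← e3, ← hz] at h4
    rw [h3, ← hw, hP, ← h4, ad_apply, ad_apply, map_add, map_mul, hι, hP]
  refine eq_of_s3 U U' hq hq' h.2.1 hm fun x y z => ?_
  simp only [key, s3, add0 hq, add0 hq', hf]

variable {b : ℕ} {K₀ : Type} [Field K₀] [Fintype K₀]

/-- `T = Sp b K₀` -/
structure Md (D : Fr m F X H T M S) (e : VV m F ≃+ VV b K₀) (ρ : Sp b K₀ ≃* T) : Prop where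
  form : ∀ u v, ff m F u v = 0 ↔ T0 (ff b K₀ (e u) (e v))
  act : ∀ h : Sp b K₀, ∃ g : Sp m F, D.π g = ρ h ∧ ∀ v, e (g.1 v) = h.1 (e v)

theorem exists_md [Algebra F K₀] (hq : Fintype.card F = 2) {K : Subalgebra F (End F (VV m F))} (hA : D.A = CE K)
    {e : VV m F ≃+ VV b K₀} (h : Mod K b K₀ e) : ∃ ρ, Md D e ρ :=
  ⟨h.ceEquiv.symm.trans ((MulEquiv.subgroupCongr hA.symm).trans (D.isoA (two0 hq))), fun u v => by rw [h.form, tr_iff hq],
    fun x => ⟨⟨(h.ceEquiv.symm x).1, (h.ceEquiv.symm x).2.1⟩, rfl, h.ceEquiv_symm_apply x⟩⟩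

/-- the stabiliser in `T` fixes no vector -/
theorem Md.nofix {e : VV m F ≃+ VV b K₀} {ρ : Sp b K₀ ≃* T} (d : Md D e ρ) (h : D.Fo a Q) (ht : ∃ t : K₀, t ≠ 0 ∧ t ≠ 1)
    (w : VV m F) (hw : ∀ g : Sp m F, D.π g ∈ T → D.π g a = a → g.1 w = w) : w = 0 := by
  obtain ⟨u, U⟩ := exists_um h
  have h2 := two0 h.1
  obtain ⟨z, rfl⟩ := e.symm.surjective w
  by_contra hz
  have key : ∀ c : K₀, Q (e.symm (c • z)) = 0 → c = 0 := fun c hc => by
    obtain ⟨x, hx⟩ := (U.ran _).2 hc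
    have h3 : x = a := D.up.socH.eq_of_fix D.up.prim D.up.two fun t ht e1 => by
      obtain ⟨g, e2, e3⟩ := d.act (ρ.symm ⟨t, ht⟩)
      rw [ρ.apply_symm_apply] at e2
      obtain rfl : D.π g = t := e2
      refine U.inj ?_
      rw [U.aff h2, e1, U.zero, zero_add, hx]
      refine e.injective ?_
      have h4 := e3 (e.symm z)
      rw [hw g ht e1, e.apply_symm_apply] at h4
      rw [e3, e.apply_symm_apply, map_smul, ← h4]
    rw [h3, U.zero, eq_comm, map_eq_zero_iff _ e.symm.injective, smul_eq_zero] at hx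
    exact hx.resolve_right fun k => hz (by rw [k, map_zero])
  obtain ⟨t, h0, h1⟩ := ht
  have h3 : Q (e.symm ((1 + t) • z)) = 0 := by
    rw [add_smul, map_add, h.2.1.add, (c01 h.1 _).resolve_left (mt (key 1) one_ne_zero),
      (c01 h.1 _).resolve_left (mt (key t) h0), (d.form _ _).2 (by
        rw [e.apply_symm_apply, e.apply_symm_apply, one_smul, map_smul, ff_self, smul_zero]
        exact t0_zero)]
    linear_combination h2
  have h4 := key _ h3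
  have h5 : (1 + 1 : K₀) • z = 0 := by
    rw [add_smul, one_smul, ← map_eq_zero_iff _ e.symm.injective, map_add, add_self_VV h2]
  rcases smul_eq_zero.1 h5 with k | k
  · exact h1 (by linear_combination h4 - k)
  · exact hz (by rw [k, map_zero])

theorem eq_of_sem {e : VV m F ≃+ VV b K₀} {e' : VV m' F' ≃+ VV b K₀} {ρ ρ' : Sp b K₀ ≃* T} (d : Md D e ρ) (d' : Md D' e' ρ')
    (h : D.Fo a Q) (h' : D'.Fo a Q') (hm : 3 ≤ m) (ht : ∃ t : K₀, t ≠ 0 ∧ t ≠ 1) {α : MulAut (Sp b K₀)} (hα : Sem α)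
    (hρ : ∀ x, ρ' (α x) = ρ x) : M = M' := by
  obtain ⟨j, σ, hj, k⟩ := hα
  let G : VV m F ≃+ VV m' F' := e.trans (({ j with map_add' := hj.1 } : VV b K₀ ≃+ VV b K₀).trans e'.symm)
  have hG : ∀ v, e' (G v) = j (e v) := fun v => e'.apply_symm_apply _
  refine eq_of_G h h' hm G (fun u v => ?_) (fun t ht => ?_) (d.nofix h ht)
  · rw [d.form, d'.form, hG, hG, ff_apply, hj.2.2, one_mul, t0_map, ff_apply]
  · obtain ⟨g, e1, e2⟩ := d.act (ρ.symm ⟨t, ht⟩)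
    obtain ⟨g', e3, e4⟩ := d'.act (α (ρ.symm ⟨t, ht⟩))
    rw [hρ] at e3
    rw [ρ.apply_symm_apply] at e1 e3
    exact ⟨g, g', e1, e3, fun v => e'.injective (by rw [hG, e4, hG, k, e2])⟩

/-- row 4 in full -/
theorem row4 (h : D.R4 a) : ∃ (Q : QuadraticForm F (VV m F)) (b s : ℕ), D.Fo a Q ∧ s.Prime ∧ m = s * b ∧
    Nat.card T = oSp b (2 ^ s) ∧ ∀ (K₀ : Type) [Field K₀] [Fintype K₀], Fintype.card K₀ = 2 ^ s →
      ∃ (e : VV m F ≃+ VV b K₀) (ρ : Sp b K₀ ≃* T), Md D e ρ := by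
  obtain ⟨Q, s, K, h, hK, hA⟩ := h
  obtain ⟨b, K', _, _, _, e, hm, hc, d⟩ := boxKS m F s K D.one hK
  rw [h.1] at hc
  refine ⟨Q, b, s, h, hK.prime, hm, ?_, fun K₀ _ _ h0 => ?_⟩
  · obtain ⟨ρ, -⟩ := exists_md h.1 hA d
    rw [← Nat.card_congr ρ.toEquiv, card_Sp, hc]
  · obtain ⟨_, e', d'⟩ := mod_map d (FiniteField.ringEquivOfCardEq (hc.trans h0.symm))
    exact ⟨e', exists_md h.1 hA d'⟩

theorem deg (h : D.Fo a Q) : ∃ x, Odd x ∧ Fintype.card Ω = 2 ^ (m - 1) * x := by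
  have h1 : m ≠ 0 := by have := D.one; omega
  by_cases k : IsPlus Q
  exacts [⟨_, odd_add h1, (card_om h).1 k⟩, ⟨_, odd_sub h1, (card_om h).2 k⟩]

/-- the parameters are determined -/
theorem par_eq (h : D.Fo a Q) (h' : D'.Fo a Q') {b s b' s' : ℕ} (hs : s.Prime) (hs' : s'.Prime) (e : m = s * b)
    (e' : m' = s' * b') (k : Nat.card T = oSp b (2 ^ s)) (k' : Nat.card T = oSp b' (2 ^ s')) : b' = b ∧ s' = s := by
  obtain ⟨x, hx, h1⟩ := deg h
  obtain ⟨x', hx', h1'⟩ := deg h'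
  obtain ⟨y, hy, h3⟩ := oSp_two (b := b) hs.ne_zero
  obtain ⟨y', hy', h3'⟩ := oSp_two (b := b') hs'.ne_zero
  have h4 := two_pow_inj hx hx' (h1.symm.trans h1')
  have h5 := two_pow_inj hy hy' (by rw [← h3, ← h3', ← k, ← k'])
  have h6 := D.one
  have h7 := D'.one
  obtain rfl : m = m' := by omega
  rw [← e, ← e'] at h5
  obtain rfl : b = b' := Nat.eq_of_mul_eq_mul_left h6 h5
  refine ⟨rfl, Nat.eq_of_mul_eq_mul_right (Nat.pos_of_ne_zero ?_) (e'.symm.trans e)⟩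
  rintro rfl
  omega

end C45

open C45 in
/-- **Row 4**: at most two overgroups. -/
theorem cnt4 : Cnt4 := fun Ω _ _ X H T a => not_lt.1 fun hlt => by
  obtain ⟨M₁, ⟨S₁, m₁, F₁, _, _, D₁, hm₁, r₁⟩, M₂, ⟨S₂, m₂, F₂, _, _, D₂, hm₂, r₂⟩, M₃, ⟨S₃, m₃, F₃, _, _, D₃, hm₃, r₃⟩,
    n12, n13, n23⟩ := (Set.two_lt_ncard (Set.toFinite _)).1 hlt
  obtain ⟨Q₁, b, s, h₁, p₁, e₁, c₁, k₁⟩ := row4 r₁
  obtain ⟨Q₂, b₂, s₂, h₂, p₂, e₂, c₂, k₂⟩ := row4 r₂
  obtain ⟨Q₃, b₃, s₃, h₃, p₃, e₃, c₃, k₃⟩ := row4 r₃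
  obtain ⟨rfl, rfl⟩ := par_eq h₂ h₁ p₂ p₁ e₂ e₁ c₂ c₁
  obtain ⟨rfl, rfl⟩ := par_eq h₃ h₁ p₃ p₁ e₃ e₁ c₃ c₁
  have : Fintype (GaloisField 2 s) := Fintype.ofFinite _
  have hc : Fintype.card (GaloisField 2 s) = 2 ^ s := by rw [← Nat.card_eq_fintype_card, GaloisField.card 2 s p₁.ne_zero]
  obtain ⟨g₁, ρ₁, d₁⟩ := k₁ _ hc
  obtain ⟨g₂, ρ₂, d₂⟩ := k₂ _ hc
  obtain ⟨g₃, ρ₃, d₃⟩ := k₃ _ hc
  have ht : ∃ t : GaloisField 2 s, t ≠ 0 ∧ t ≠ 1 := by
    classical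
    by_contra k
    push Not at k
    have h4 : Fintype.card (GaloisField 2 s) ≤ 2 :=
      (Finset.card_le_card (t := {0, 1}) fun t _ => by by_cases h0 : t = 0 <;> simp [h0, k t]).trans Finset.card_le_two
    have h5 : 2 ^ 2 ≤ 2 ^ s := Nat.pow_le_pow_right two_pos p₁.two_le
    omega
  have hb : 1 ≤ b := Nat.pos_of_ne_zero (by rintro rfl; omega)
  rcases sem_tri hb CharTwo.two_eq_zero ht (ρ₂.trans ρ₁.symm) (ρ₃.trans ρ₁.symm) with k | k | k
  · exact n12 (eq_of_sem d₂ d₁ h₂ h₁ hm₂ ht k fun x => ρ₁.apply_symm_apply _).symm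
  · exact n13 (eq_of_sem d₃ d₁ h₃ h₁ hm₃ ht k fun x => ρ₁.apply_symm_apply _).symm
  · refine n23 (eq_of_sem d₃ d₂ h₃ h₂ hm₃ ht k fun x => ?_).symm
    show ρ₂ (ρ₂.symm (ρ₁ (ρ₁.symm (ρ₃ x)))) = ρ₃ x
    rw [ρ₂.apply_symm_apply, ρ₁.apply_symm_apply]

theorem cnt4_of (KS : BoxKS) : Cnt4 := cnt4

/-- **Row 4**: the signature. -/
theorem sig4 : All fun m F _ _ Ω _ _ _ _ T _ _ D a => D.R4 a → Fintype.card F = 2 ∧ ∃ b s, 1 ≤ b ∧ s.Prime ∧ m = b * s ∧
    Nat.card T = oSp b (2 ^ s) ∧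
    (Fintype.card Ω = 2 ^ (b * s - 1) * (2 ^ (b * s) + 1) ∨ Fintype.card Ω = 2 ^ (b * s - 1) * (2 ^ (b * s) - 1)) := by
  intro m F _ _ Ω _ _ X H T M S D a r
  obtain ⟨Q, b, s, h, p, e, c, -⟩ := C45.row4 r
  have h1 := D.one
  rw [mul_comm] at e
  refine ⟨h.1, b, s, Nat.pos_of_ne_zero (by rintro rfl; omega), p, e, c, ?_⟩
  rw [← e]
  exact (em (IsPlus Q)).imp (C45.card_om h).1 (C45.card_om h).2

end Cfsg.Agent.SM.Sy
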