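import Cfsg.Agent.SM.Sy.Api
import Cfsg.Agent.SM.Sy.FormB

/-!
# SM (S3570), symplectic socles: `q = 2`, the points are quadratic forms; the count `Cnt5` (helper79)

* `C45.Um` : the points of `Ω` as singular vectors; `C45.eq_of_s3` : the two-graph determines `M`;
* `cnt5` : the two-graph is read off from the reflections of `H = O(Q)`.
-/

set_option autoImplicit false
set_option linter.unusedSectionVars false
set_option linter.unusedVariables false
set_option maxHeartbeats 400000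

namespace Cfsg.Agent.SM.Sy

open Cfsg Equiv Subgroup MulAction Module QuadraticMap
open Cfsg.Agent.LieClassical.OrthCore (O E)
open Cfsg.Agent.H955 (IsPlus)

namespace C45

section field

variable {F : Type} [Field F] [Fintype F]

theorem c01 (hq : Fintype.card F = 2) (c : F) : c = 0 ∨ c = 1 := by
  classical
  by_contra hc
  push Not at hc
  have h3 := Finset.card_le_univ ({0, 1, c} : Finset F)
  rw [Finset.card_eq_three.2 ⟨0, 1, c, zero_ne_one, hc.1.symm, hc.2.symm, rfl⟩, hq] at h3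
  omega

theorem two0 (hq : Fintype.card F = 2) : (2 : F) = 0 :=
  (c01 hq 2).resolve_right fun h => one_ne_zero (α := F) (by linear_combination h)

theorem sq (hq : Fintype.card F = 2) (c : F) : c * c = c := by rcases c01 hq c with rfl | rfl <;> simp

theorem t0 (hq : Fintype.card F = 2) {c : F} : T0 c ↔ c = 0 :=
  ⟨fun ⟨x, hx⟩ => by rw [← hx, sq hq]; linear_combination x * two0 hq, fun h => h ▸ t0_zero⟩

theorem add0 (hq : Fintype.card F = 2) {a b : F} : a + b = 0 ↔ (a = 0 ↔ b = 0) := by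
  rw [← t0 hq, ← t0 hq, ← t0 hq, t0_add_iff' (two0 hq)]

end field

section lin

variable {m : ℕ} {F : Type} [Field F]

/-- the two-graph -/
def s3 (a b c : VV m F) : F := ff m F a b + ff m F a c + ff m F b c

theorem s3_add (h2 : (2 : F) = 0) (w a b c : VV m F) : s3 (w + a) (w + b) (w + c) = s3 a b c := by
  simp only [s3, map_add, LinearMap.add_apply, ff_self, ff_comm h2 a w, ff_comm h2 b w]
  linear_combination (ff m F w a + ff m F w b + ff m F w c) * h2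

theorem s3_map {g : GG m F} (hg : g ∈ Sp m F) (a b c : VV m F) : s3 (g a) (g b) (g c) = s3 a b c := by
  simp only [s3, hg _ _]

theorem exists_xyz [Finite F] {Q : QuadraticForm F (VV m F)} (hQ : Pol Q) (hm : 3 ≤ m) :
    ∃ x y z, Q x = 0 ∧ Q y = 0 ∧ Q z = 0 ∧ ff m F x y = 1 ∧ ff m F x z = 0 ∧ ff m F y z = 0 ∧ z ≠ 0 := by
  obtain ⟨x, y, h⟩ := exists_hyp_VV hQ (by omega)
  obtain ⟨z, h0, h1, h3⟩ := LieClassical.OrthFinite.exists_sing_perp (Q := Q) ![x, y] (by rw [finrank_VV]; omega)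
  exact ⟨x, y, z, h.left, h.right, h1, (hQ x y).symm.trans h.pair, (hQ x z).symm.trans (h3 0), (hQ y z).symm.trans (h3 1), h0⟩

end lin

variable {Ω : Type} [Fintype Ω] [DecidableEq Ω] {X H T M S : Subgroup (Perm Ω)} {m : ℕ} {F : Type} [Field F] [Fintype F]

/-- the points as singular vectors: `x` is the form `ad Q (u x)` -/
structure Um (D : Fr m F X H T M S) (a : Ω) (Q : QuadraticForm F (VV m F)) (u : Ω → VV m F) : Prop where
  inj : Function.Injective u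
  ran : ∀ v, (∃ x, u x = v) ↔ Q v = 0
  zero : u a = 0
  eqv : ∀ (g : Sp m F) x v, ad Q (u (D.π g x)) (g.1 v) = ad Q (u x) v

variable {D : Fr m F X H T M S} {a : Ω} {Q : QuadraticForm F (VV m F)} {u : Ω → VV m F}

theorem exists_um (h : D.Fo a Q) : ∃ u, Um D a Q u := by
  obtain ⟨hq, hQ, hC⟩ := h
  have h2 := two0 hq
  choose k _ hk using D.trans a
  have h1 : ∀ x, ∃ w, ∀ v, ad Q w ((k x).1 v) = Q v := fun x => by
    obtain ⟨w, hw⟩ := exists_ad h2 hQ (Pol.comp (Q' := Q.comp ((k x)⁻¹.1 : VV m F →ₗ[F] VV m F)) hQ (k x)⁻¹.2 fun _ => rfl)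
    exact ⟨w, fun v => by rw [← hw]; exact congrArg Q ((k x).1.symm_apply_apply v)⟩
  choose u hu using h1
  have eqv : ∀ (g : Sp m F) x v, ad Q (u (D.π g x)) (g.1 v) = ad Q (u x) v := fun g x v => by
    obtain ⟨v, rfl⟩ := (k x).1.surjective v
    have h3 : ((k (D.π g x))⁻¹ * g * k x).1 ∈ O Q := by
      rw [← hC, D.mem_C, map_mul, map_mul, map_inv, Perm.mul_apply, Perm.mul_apply, hk, Perm.inv_eq_iff_eq, hk]
    rw [hu, ← h3 v, ← hu (D.π g x)]
    exact congrArg _ ((k (D.π g x)).1.apply_symm_apply _).symm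
  have zero : u a = 0 := (ad_eq_self h2).1 (QuadraticMap.ext fun v => by
    obtain ⟨v, rfl⟩ := (k a).1.surjective v
    have h3 : (k a).1 ∈ O Q := by rw [← hC, D.mem_C, hk]
    rw [hu, h3 v])
  refine ⟨u, fun x y e => ?_, fun v => ⟨?_, fun hv => ?_⟩, zero, eqv⟩
  · have h3 : ((k x)⁻¹ * k y).1 ∈ D.C a := by
      rw [hC]
      intro v
      rw [← hu x, ← hu y v, e]
      exact congrArg _ ((k x).1.apply_symm_apply _)
    rw [D.mem_C, map_mul, map_inv, Perm.mul_apply, Perm.inv_eq_iff_eq, hk, hk] at h3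
    exact h3.symm
  · rintro ⟨x, rfl⟩
    refine (t0 hq).1 ((orb_iff h2 hQ).1 ⟨(k x)⁻¹.1, (k x)⁻¹.2, fun v => ?_⟩)
    rw [← hu x]
    exact congrArg _ ((k x).1.apply_symm_apply _)
  · obtain ⟨g, hg, e⟩ := orb_of_t0 h2 hQ ((t0 hq).2 hv)
    refine ⟨D.π (⟨g, hg⟩ : Sp m F)⁻¹ a, ad_inj (Q := Q) h2 (QuadraticMap.ext fun w => ?_)⟩
    rw [← e, ← ad_zero (Q := Q), ← zero, ← eqv (⟨g, hg⟩ : Sp m F)⁻¹ a, zero, ad_zero]
    exact congrArg _ (g.symm_apply_apply w).symm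

/-- the action is affine -/
theorem Um.aff (U : Um D a Q u) (h2 : (2 : F) = 0) (g : Sp m F) (x : Ω) : u (D.π g x) = u (D.π g a) + g.1 (u x) :=
  ad_inj (Q := Q) h2 (QuadraticMap.ext fun v => by
    obtain ⟨v, rfl⟩ := g.1.surjective v
    rw [U.eqv, ← ad_ad h2, ad_map g.2 (Q' := Q) fun w => by rw [U.eqv, U.zero, ad_zero]])

/-- the stabilisers -/
theorem Um.fix (U : Um D a Q u) (h2 : (2 : F) = 0) (g : Sp m F) (x : Ω) : D.π g x = x ↔ g.1 ∈ O (ad Q (u x)) :=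
  ⟨fun h v => by rw [← U.eqv g x v, h], fun h => U.inj (ad_inj (Q := Q) h2 (QuadraticMap.ext fun v => by
    obtain ⟨v, rfl⟩ := g.1.surjective v
    rw [U.eqv, h v]))⟩

theorem Um.le (U : Um D a Q u) (hq : Fintype.card F = 2) :
    M ≤ relStab fun x : Fin 3 → Ω => s3 (u (x 0)) (u (x 1)) (u (x 2)) = 0 := le_relStab fun g hg x hx => by
  obtain ⟨g, rfl⟩ := D.π_surj (D.M_eq_two hq ▸ hg)
  simp only [Function.comp_apply]
  rw [U.aff (two0 hq) g (x 0), U.aff (two0 hq) g (x 1), U.aff (two0 hq) g (x 2), s3_add (two0 hq), s3_map g.2, hx]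

theorem inj3 {α : Type} {x y z : α} (h1 : x ≠ y) (h2 : x ≠ z) (h3 : y ≠ z) : Function.Injective ![x, y, z] := by
  intro i j e
  fin_cases i <;> fin_cases j <;> first | rfl | simp_all

theorem Um.not_alt (U : Um D a Q u) (hQ : Pol Q) (hm : 3 ≤ m) :
    ¬ alternatingGroup Ω ≤ relStab fun x : Fin 3 → Ω => s3 (u (x 0)) (u (x 1)) (u (x 2)) = 0 := by
  obtain ⟨x, y, z, h1, h2, h3, h4, h5, h6, h7⟩ := exists_xyz hQ hm
  obtain ⟨x, rfl⟩ := (U.ran x).2 h1
  obtain ⟨y, rfl⟩ := (U.ran y).2 h2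
  obtain ⟨z, rfl⟩ := (U.ran z).2 h3
  have k1 : a ≠ x := by rintro rfl; rw [U.zero] at h4; simp at h4
  have k2 : a ≠ y := by rintro rfl; rw [U.zero] at h4; simp at h4
  have k3 : a ≠ z := by rintro rfl; exact h7 U.zero
  have k4 : x ≠ y := by rintro rfl; rw [ff_self] at h4; exact zero_ne_one h4
  have k5 : x ≠ z := by rintro rfl; rw [ff_eq_zero_comm.1 h6] at h4; exact zero_ne_one h4
  refine not_alt_le_relStab D.up.sec.five (inj3 k1 k3 k5) (inj3 k1 k2 k4) ?_ ?_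
  · show s3 (u a) (u x) (u z) = 0
    simp [s3, U.zero, h5]
  · show ¬ s3 (u a) (u x) (u y) = 0
    simp [s3, U.zero, h4]

/-- **the two-graph determines `M`** -/
theorem eq_of_s3 {M' S' : Subgroup (Perm Ω)} {m' : ℕ} {F' : Type} [Field F'] [Fintype F'] {D' : Fr m' F' X H T M' S'}
    {a' : Ω} {Q' : QuadraticForm F' (VV m' F')} {u' : Ω → VV m' F'} (U : Um D a Q u) (U' : Um D' a' Q' u')
    (hq : Fintype.card F = 2) (hq' : Fintype.card F' = 2) (hQ : Pol Q) (hm : 3 ≤ m)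
    (h : ∀ x y z, s3 (u x) (u y) (u z) = 0 ↔ s3 (u' x) (u' y) (u' z) = 0) : M = M' :=
  D.up.sec.eq_of_le_of_le D.up.ov D'.up.ov (U.le hq) (by simpa only [h] using U'.le hq') (U.not_alt hQ hm)

/-- the points fixed by the centre of the stabiliser -/
def Ne (H : Subgroup (Perm Ω)) (x y : Ω) : Prop := ∀ g ∈ H, (∀ h ∈ H, h x = x → g * h = h * g) → g y = y

/-- row 5: the second form is `ad Q w` with `Q w = 1` -/
theorem exists_w (U : Um D a Q u) (h : D.Fo a Q) {P : QuadraticForm F (VV m F)} (hP : D.Om P) :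
    ∃ w, P = ad Q w ∧ Q w = 1 := by
  obtain ⟨w, rfl⟩ := exists_ad hP.two h.2.1 hP.pol
  refine ⟨w, rfl, (c01 h.1 _).resolve_left fun h0 => ?_⟩
  obtain ⟨x, rfl⟩ := (U.ran w).2 h0
  exact D.not_A_le_C x fun g hg => (D.mem_C ⟨g, D.pre_le hg⟩).2 ((U.fix hP.two _ x).2
    (LieClassical.OrthCore.E_le_O (hP.eqA ▸ hg)))

theorem ne_iff (U : Um D a Q u) (h : D.Fo a Q) {w : VV m F} (hP : D.Om (ad Q w)) (hw : Q w = 1) (x y : Ω) :
    Ne H x y ↔ ff m F (w + u x) (w + u y) = 0 := by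
  have h2 := hP.two
  have hq := h.1
  have mem : ∀ g : Sp m F, D.π g ∈ H ↔ g.1 ∈ O (ad Q w) := fun g => by rw [← hP.eqN, D.mem_pre']
  have fx : ∀ g : Sp m F, D.π g ∈ H → ∀ z, D.π g z = z ↔ g.1 (w + u z) = w + u z := fun g hg z => by
    rw [U.fix h2, ← mem_O_ad h2 hP.pol ((mem g).1 hg), ad_ad h2, ← add_assoc, add_self_VV h2, zero_add]
  have val : ∀ z, ad Q w (w + u z) = 1 := fun z => by
    rw [ad_apply, sq hq, h.2.1.add, hw, (U.ran _).1 ⟨z, rfl⟩, map_add, LinearMap.add_apply, ff_self, ff_comm h2 (u z) w]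
    linear_combination ff m F w (u z) * h2
  have ne0 : ∀ z, w + u z ≠ 0 := fun z e => by
    have := val z
    rw [e, map_zero] at this
    exact zero_ne_one this
  have tm : ∀ z, D.π ⟨tv (w + u z) 1, tv_mem _ _⟩ ∈ H := fun z => (mem _).2 fun v => by
    rw [hP.pol.tv, val]
    linear_combination (ff m F v (w + u z) * ff m F v (w + u z)) * h2
  have sur : ∀ g ∈ H, ∃ k : Sp m F, D.π k = g := fun g hg => D.π_surj (D.M_eq_two hq ▸ D.up.ov.2 hg)
  refine ⟨fun hn => (c01 hq _).resolve_right fun h1 => ?_, fun h0 g hg hc => ?_⟩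
  · have h3 := (fx _ (tm x) y).1 (hn _ (tm x) fun k hk e => by
      obtain ⟨k, rfl⟩ := sur k hk
      rw [← map_mul, ← map_mul]
      refine congrArg D.π (Subtype.ext (LinearEquiv.ext fun v => ?_))
      show tv (w + u x) 1 (k.1 v) = k.1 (tv (w + u x) 1 v)
      rw [tv_apply, tv_apply, map_add k.1, map_smul k.1, ← k.2 v, (fx k hk x).1 e])
    rw [show (⟨tv (w + u x) 1, tv_mem _ _⟩ : Sp m F).1 = tv (w + u x) 1 from rfl, tv_apply, ff_comm h2, h1, mul_one, one_smul,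
      add_eq_left] at h3
    exact ne0 x h3
  · obtain ⟨k, rfl⟩ := sur g hg
    have h3 := hc _ (tm y) ((fx _ (tm y) x).2 (by
      show tv (w + u y) 1 _ = _
      rw [tv_apply, h0, mul_zero, zero_smul, add_zero]))
    rw [← map_mul, ← map_mul, (D.π_injective h2).eq_iff] at h3
    obtain ⟨v, hv⟩ := exists_ff_ne (ne0 y)
    have h4 : k.1 (tv (w + u y) 1 v) = tv (w + u y) 1 (k.1 v) := congrArg (fun z : Sp m F => z.1 v) h3
    rw [tv_apply, tv_apply, hv, mul_one, one_smul, map_add, add_right_inj, one_mul] at h4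
    refine (fx k hg y).2 ?_
    rcases c01 hq (ff m F (k.1 v) (w + u y)) with e | e
    · rw [e, zero_smul, map_eq_zero_iff _ k.1.injective] at h4
      exact absurd h4 (ne0 y)
    · rw [h4, e, one_smul]

theorem s3_iff (U : Um D a Q u) (h : D.Fo a Q) {P : QuadraticForm F (VV m F)} (hP : D.Om P) (x y z : Ω) :
    s3 (u x) (u y) (u z) = 0 ↔ ((Ne H x y ↔ Ne H x z) ↔ Ne H y z) := by
  obtain ⟨w, rfl, hw⟩ := exists_w U h hP
  rw [ne_iff U h hP hw, ne_iff U h hP hw, ne_iff U h hP hw, ← s3_add hP.two w, s3, add0 h.1, add0 h.1]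

/-- the degree -/
theorem card_om (h : D.Fo a Q) : (IsPlus Q → Fintype.card Ω = 2 ^ (m - 1) * (2 ^ m + 1)) ∧
    (¬ IsPlus Q → Fintype.card Ω = 2 ^ (m - 1) * (2 ^ m - 1)) := by
  obtain ⟨hq, hQ, hC⟩ := h
  have h1 : 2 ^ m = 2 * 2 ^ (m - 1) := by rw [← pow_succ', Nat.sub_add_cancel D.one]
  rw [← D.relIndex_C a, hC]
  refine ⟨fun k => ?_, fun k => ?_⟩
  · have h3 := idx_plus (two0 hq) hQ k
    rw [hq] at h3
    exact Nat.eq_of_mul_eq_mul_left two_pos (by rw [h3, ← mul_assoc, ← h1])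
  · have h3 := idx_minus (two0 hq) hQ k
    rw [hq] at h3
    exact Nat.eq_of_mul_eq_mul_left two_pos (by rw [h3, ← mul_assoc, ← h1])

/-- row 5: the two forms have different types -/
theorem plus_iff_not (h : D.Fo a Q) {P : QuadraticForm F (VV m F)} (hP : D.Om P) : IsPlus P ↔ ¬ IsPlus Q := by
  obtain ⟨u, U⟩ := exists_um h
  obtain ⟨w, rfl, hw⟩ := exists_w U h hP
  rw [plus_ad hP.two h.2.1, t0 h.1, hw, iff_false_intro one_ne_zero, iff_false]

end C45

/-- **Row 5**: one overgroup only. -/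
theorem cnt5 : Cnt5 := fun Ω _ _ X H T a => le_trans ((Set.ncard_le_one (Set.toFinite _)).2 (by
  rintro M ⟨S, m, F, _, _, D, hm, P, Q, h, hP⟩ M' ⟨S', m', F', _, _, D', -, P', Q', h', hP'⟩
  obtain ⟨u, U⟩ := C45.exists_um h
  obtain ⟨u', U'⟩ := C45.exists_um h'
  exact C45.eq_of_s3 U U' h.1 h'.1 h.2.1 hm fun x y z => by rw [C45.s3_iff U h hP, C45.s3_iff U' h' hP'])) one_le_two

/-- **Row 5**: the signature. -/
theorem sig5 : All fun m F _ _ Ω _ _ _ _ T _ _ D a => D.R5 a → Fintype.card F = 2 ∧ ∃ Q, D.Om Q ∧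
    ((IsPlus Q ∧ Nat.card T = oP m 2 ∧ Fintype.card Ω = 2 ^ (m - 1) * (2 ^ m - 1)) ∨
      (¬ IsPlus Q ∧ Nat.card T = oM m 2 ∧ Fintype.card Ω = 2 ^ (m - 1) * (2 ^ m + 1))) := by
  rintro m F _ _ Ω _ _ X H T M S D a ⟨P, Q, h, hP⟩
  refine ⟨h.1, P, hP, ?_⟩
  rw [← D.card_A_two hP.two, hP.eqA]
  by_cases k : IsPlus P
  · exact Or.inl ⟨k, h.1 ▸ card_E_plus hP.two hP.pol D.two k, (C45.card_om h).2 ((C45.plus_iff_not h hP).1 k)⟩
  · exact Or.inr ⟨k, h.1 ▸ card_E_minus hP.two hP.pol D.two k,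
      (C45.card_om h).1 (not_not.1 (mt (C45.plus_iff_not h hP).2 k))⟩

end Cfsg.Agent.SM.Sy
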