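import Cfsg.Agent.SM.Rig
import Mathlib.Data.Nat.Bitwise
import Mathlib.Data.List.FinRange

/-!
# SM (S3570), symplectic socles, the small rows: binary codes on `Ω` and the counting machine (helper42)

* `Cod`: the functions `x ↦ Q_x v` on `Ω`; a 2-subgroup of `H` fixes a vector `v`, the support `Δ` of `v` determines `M`.
* `good_le`: the possible supports are counted in an explicit labelling of `Ω` (`exists_lab`).
-/

set_option autoImplicit false
set_option linter.unusedVariables false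
set_option linter.unusedSectionVars false

namespace Cfsg.Agent.SM.Sy.C6

open Cfsg Equiv Subgroup MulAction

variable {Ω : Type} [Fintype Ω] [DecidableEq Ω] {X H M : Subgroup (Perm Ω)}

/-- the code of an overgroup -/
structure Cod (H M : Subgroup (Perm Ω)) {F V : Type} [Field F] [AddCommGroup V] (ρ : M →* Perm V) (χ : Ω → V → F) : Prop where
  bit : ∀ c : F, c = 0 ∨ c = 1
  two : ∀ v : V, v + v = 0
  add : ∀ g u v, ρ g (u + v) = ρ g u + ρ g v
  eqv : ∀ (g : M) x v, χ ((g : Perm Ω) x) (ρ g v) = χ x v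
  pol : ∀ u v, ∃ c, ∀ x, χ x (u + v) = χ x u + χ x v + c
  zero : ∀ x, χ x 0 = 0
  inj : ∀ x y, (∀ v, χ x v = χ y v) → x = y
  tr : ∀ u v, u ≠ 0 → v ≠ 0 → ∃ g, ρ g u = v
  irr : ∀ W : AddSubgroup V, (∀ g : M, (g : Perm Ω) ∈ H → ∀ w ∈ W, ρ g w ∈ W) → W = ⊥ ∨ W = ⊤
  ex4 : ∃ x : Fin 4 → Ω, Function.Injective x ∧ ∀ v, χ (x 0) v + χ (x 1) v + χ (x 2) v + χ (x 3) v = 0

/-- a polycyclic sequence of a 2-group -/
def Pc {G : Type} [Group G] {k : ℕ} (y : Fin k → G) : Prop :=
  ∀ j, y j * y j ∈ closure (y '' {i | i < j}) ∧ ∀ i < j, (y j)⁻¹ * y i * y j ∈ closure (y '' {i | i < j})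

/-- the possible supports -/
structure Good (H : Subgroup (Perm Ω)) {k : ℕ} (y : Fin k → Perm Ω) (a : Ω) (Δ : Finset Ω) : Prop where
  inv : ∀ j x, y j x ∈ Δ ↔ x ∈ Δ
  base : a ∉ Δ
  ne : Δ.Nonempty
  wt : ∀ t ∈ H, (Finset.univ.filter fun x => ¬ (t x ∈ Δ ↔ x ∈ Δ)).card = 0 ∨
    (Finset.univ.filter fun x => ¬ (t x ∈ Δ ↔ x ∈ Δ)).card = Δ.card ∨
    (Finset.univ.filter fun x => ¬ (t x ∈ Δ ↔ x ∈ Δ)).card + Δ.card = Fintype.card Ω

/-- the relation defined by a support -/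
def Rl (H : Subgroup (Perm Ω)) (Δ : Finset Ω) (x : Fin 4 → Ω) : Prop :=
  ∀ h ∈ H, (h (x 0) ∈ Δ ↔ h (x 1) ∈ Δ) ↔ (h (x 2) ∈ Δ ↔ h (x 3) ∈ Δ)

namespace Cod

variable {F V : Type} [Field F] [AddCommGroup V] {ρ : M →* Perm V} {χ : Ω → V → F}

theorem oo (C : Cod H M ρ χ) : (1 : F) + 1 = 0 := by
  rcases C.bit (1 + 1) with h | h
  · exact h
  · exact absurd (add_eq_left.1 h) one_ne_zero

theorem self (C : Cod H M ρ χ) (c : F) : c + c = 0 := by linear_combination c * C.oo

theorem map0 (C : Cod H M ρ χ) (g : M) : ρ g 0 = 0 := by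
  have h := C.add g 0 0
  rw [add_zero] at h
  exact left_eq_add.1 h

theorem fix (C : Cod H M ρ χ) (h2 : 2 ≤ Fintype.card Ω) {k : ℕ} {y : Fin k → Perm Ω} (hy : ∀ j, y j ∈ M) (hp : Pc y) :
    ∃ v, v ≠ 0 ∧ ∀ j, ρ ⟨y j, hy j⟩ v = v := by
  let Fx : V → Subgroup (Perm Ω) := fun v => ((stabilizer (Perm V) v).comap ρ).map M.subtype
  have mem : ∀ {v : V} (g : M), (g : Perm Ω) ∈ Fx v ↔ ρ g v = v := fun g =>
    ⟨fun ⟨x, hx, e⟩ => (Subtype.ext e : x = g) ▸ hx, fun h => ⟨g, h, rfl⟩⟩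
  have key : ∀ l : ℕ, ∃ v, v ≠ 0 ∧ ∀ j : Fin k, j.val < l → ρ ⟨y j, hy j⟩ v = v := fun l => by
    induction l with
    | zero =>
      by_contra h
      push Not at h
      obtain ⟨a, b, hab⟩ := Fintype.exists_pair_of_one_lt_card h2
      refine hab (C.inj a b fun v => ?_)
      by_cases hv : v = 0
      · rw [hv, C.zero, C.zero]
      · obtain ⟨j, hj, -⟩ := h v hv
        omega
    | succ l ih =>
      obtain ⟨v, h0, hv⟩ := ih
      by_cases hl : l < k
      · let z : Fin k := ⟨l, hl⟩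
        have hK : closure (y '' {i | i < z}) ≤ Fx v := (closure_le _).2 (by
          rintro _ ⟨i, hi, rfl⟩
          exact (mem ⟨y i, hy i⟩).2 (hv i hi))
        have cs : ∀ j : Fin k, j.val < l + 1 → j.val < l ∨ j = z := fun j hj =>
          (Nat.lt_succ_iff_lt_or_eq.1 hj).imp id Fin.ext
        by_cases hz : ρ ⟨y z, hy z⟩ v = v
        · exact ⟨v, h0, fun j hj => (cs j hj).elim (hv j) fun e => e ▸ hz⟩
        · refine ⟨v + ρ ⟨y z, hy z⟩ v, fun e => hz ?_, fun j hj => ?_⟩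
          · rw [← C.two v] at e
            exact add_left_cancel e
          · rcases cs j hj with h | rfl
            · have h1 := (mem ((⟨y z, hy z⟩ : M)⁻¹ * ⟨y j, hy j⟩ * ⟨y z, hy z⟩)).1 (hK ((hp z).2 j h))
              rw [map_mul, map_mul, map_inv, Perm.mul_apply, Perm.mul_apply, Perm.inv_eq_iff_eq] at h1
              rw [C.add, hv j h, h1]
            · have h1 := (mem ((⟨y z, hy z⟩ : M) * ⟨y z, hy z⟩)).1 (hK (hp z).1)
              rw [map_mul, Perm.mul_apply] at h1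
              rw [C.add, h1, add_comm]
      · exact ⟨v, h0, fun j _ => hv j (by omega)⟩
  obtain ⟨v, h0, hv⟩ := key k
  exact ⟨v, h0, fun j => hv j j.2⟩

open Classical in
theorem cnt_eq (C : Cod H M ρ χ) {u v : V} (hu : u ≠ 0) (hv : v ≠ 0) (c : F) :
    (Finset.univ.filter fun x => χ x u ≠ c).card = (Finset.univ.filter fun x => χ x v ≠ c).card := by
  obtain ⟨g, rfl⟩ := C.tr u v hu hv
  exact Finset.card_equiv (g : Perm Ω) fun x => by simp only [Finset.mem_filter, Finset.mem_univ, true_and, C.eqv]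

open Classical in
theorem cnt_add (C : Cod H M ρ χ) (u : V) (c d : F) :
    (Finset.univ.filter fun x => χ x u ≠ c).card = (Finset.univ.filter fun x => χ x u ≠ d).card ∨
    (Finset.univ.filter fun x => χ x u ≠ c).card + (Finset.univ.filter fun x => χ x u ≠ d).card = Fintype.card Ω := by
  by_cases h : c = d
  · exact Or.inl (h ▸ rfl)
  · refine Or.inr ?_
    rw [← Finset.card_univ, ← Finset.card_filter_add_card_filter_not (s := Finset.univ) (fun x => χ x u ≠ c)]
    refine congrArg₂ _ rfl (congrArg _ (Finset.filter_congr fun x _ => ?_))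
    rcases C.bit c with rfl | rfl <;> rcases C.bit d with rfl | rfl <;> rcases C.bit (χ x u) with e | e <;> simp_all

theorem iff4 (C : Cod H M ρ χ) (p q r s c : F) : ((p ≠ c ↔ q ≠ c) ↔ (r ≠ c ↔ s ≠ c)) ↔ p + q + r + s = 0 := by
  have h := C.oo
  have h3 : (1 : F) + 1 + 1 = 1 := by rw [h, zero_add]
  rcases C.bit p with rfl | rfl <;> rcases C.bit q with rfl | rfl <;> rcases C.bit r with rfl | rfl <;>
    rcases C.bit s with rfl | rfl <;> rcases C.bit c with rfl | rfl <;> simp [h]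

theorem iff2 (C : Cod H M ρ χ) (p q c d : F) : ¬ (p ≠ c ↔ q ≠ c) ↔ p + q + d ≠ d := by
  have h := C.oo
  rcases C.bit p with rfl | rfl <;> rcases C.bit q with rfl | rfl <;> rcases C.bit c with rfl | rfl <;> simp [h]

theorem out (C : Cod H M ρ χ) (hH : H ≤ M) (h6 : 6 ≤ Fintype.card Ω) {k : ℕ} {y : Fin k → Perm Ω} (hy : ∀ j, y j ∈ H)
    (hp : Pc y) (a : Ω) : ∃ Δ, Good H y a Δ ∧ M ≤ relStab (Rl H Δ) ∧ ¬ alternatingGroup Ω ≤ relStab (Rl H Δ) := by
  classical
  obtain ⟨v, h0, hv⟩ := C.fix (by omega) (fun j => hH (hy j)) hp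
  let Δ : Finset Ω := Finset.univ.filter fun x => χ x v ≠ χ a v
  have mem : ∀ x, x ∈ Δ ↔ χ x v ≠ χ a v := fun x => by simp [Δ]
  have eq' : ∀ (g : M) x, χ ((g : Perm Ω) x) v = χ x (ρ g⁻¹ v) := fun g x => by
    rw [← C.eqv g x, ← Perm.mul_apply, ← map_mul, mul_inv_cancel, map_one, Perm.one_apply]
  have rl : ∀ x : Fin 4 → Ω, Rl H Δ x ↔ ∀ u, χ (x 0) u + χ (x 1) u + χ (x 2) u + χ (x 3) u = 0 := fun x => by
    refine ⟨fun h => ?_, fun h g hg => ?_⟩
    · let W : AddSubgroup V :=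
        { carrier := {u | ∀ g : M, (g : Perm Ω) ∈ H → χ (x 0) (ρ g u) + χ (x 1) (ρ g u) + χ (x 2) (ρ g u) + χ (x 3) (ρ g u) = 0}
          zero_mem' := fun g _ => by simp only [C.map0, C.zero, add_zero]
          add_mem' := fun {u w} hu hw g hg => by
            obtain ⟨c, hc⟩ := C.pol (ρ g u) (ρ g w)
            simp only [C.add, hc]
            linear_combination hu g hg + hw g hg + 2 * C.self c
          neg_mem' := fun {u} hu => by rwa [neg_eq_of_add_eq_zero_left (C.two u)] }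
      rcases C.irr W fun g hg w hw g' hg' => by
        rw [← Perm.mul_apply, ← map_mul]
        exact hw (g' * g) (H.mul_mem hg' hg) with e | e
      · refine absurd (AddSubgroup.mem_bot.1 (e.le fun g hg => ?_)) h0
        have h1 := h _ (H.inv_mem hg)
        rw [mem, mem, mem, mem, C.iff4] at h1
        have h2 := fun z => eq' g⁻¹ z
        simp only [inv_inv] at h2
        rw [← h2, ← h2, ← h2, ← h2]
        exact h1
      · intro u
        simpa using e.ge (AddSubgroup.mem_top u) 1 H.one_mem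
    · rw [mem, mem, mem, mem, C.iff4, eq' ⟨g, hH hg⟩, eq' ⟨g, hH hg⟩, eq' ⟨g, hH hg⟩, eq' ⟨g, hH hg⟩]
      exact h _
  refine ⟨Δ, ⟨fun j x => ?_, fun h => (mem a).1 h rfl, ?_, fun t ht => ?_⟩, le_relStab fun g hg x hx => (rl _).2 fun u => ?_, ?_⟩
  · rw [mem, mem, ← C.eqv ⟨y j, hH (hy j)⟩ x v, hv j]
  · by_contra h
    obtain ⟨b, c, hbc⟩ := Fintype.exists_pair_of_one_lt_card (show 1 < Fintype.card Ω by omega)
    have h1 : ∀ x, χ x v = χ a v := fun x => by_contra fun k => h ⟨x, (mem x).2 k⟩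
    refine hbc (C.inj b c fun u => ?_)
    by_cases hu : u = 0
    · rw [hu, C.zero, C.zero]
    · obtain ⟨g, hg⟩ := C.tr u v hu h0
      rw [← C.eqv g b, ← C.eqv g c, hg, h1, h1 ((g : Perm Ω) c)]
  · obtain ⟨c, hc⟩ := C.pol (ρ (⟨t, hH ht⟩ : M)⁻¹ v) v
    have h1 : (Finset.univ.filter fun x => ¬ (t x ∈ Δ ↔ x ∈ Δ)) =
        Finset.univ.filter fun x => χ x (ρ (⟨t, hH ht⟩ : M)⁻¹ v + v) ≠ c := Finset.filter_congr fun x _ => by
      rw [mem, mem, hc, C.iff2 _ _ _ c, eq' ⟨t, hH ht⟩]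
    rw [h1]
    by_cases h2 : ρ (⟨t, hH ht⟩ : M)⁻¹ v + v = 0
    · have h3 : ρ (⟨t, hH ht⟩ : M)⁻¹ v = v := add_right_cancel (h2.trans (C.two v).symm)
      refine Or.inl (Finset.card_eq_zero.2 (Finset.filter_eq_empty_iff.2 fun x _ => not_not.2 ?_))
      rw [hc, h3, C.self, zero_add]
    · rw [C.cnt_eq h2 h0]
      exact Or.inr (C.cnt_add v c (χ a v))
  · obtain ⟨u, rfl⟩ := (ρ ⟨g, hg⟩).surjective u
    have h1 := fun z => C.eqv ⟨g, hg⟩ z u
    simp only [Function.comp_apply, h1]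
    exact (rl x).1 hx u
  · obtain ⟨x, hx, h1⟩ := C.ex4
    obtain ⟨w, hw⟩ : ∃ w, w ∉ Finset.univ.image x := by
      by_contra k
      push Not at k
      have h2 := (Finset.card_le_card (fun w _ => k w : Finset.univ ⊆ _)).trans Finset.card_image_le
      rw [Finset.card_univ, Finset.card_univ, Fintype.card_fin] at h2
      omega
    have hw' : ∀ i, x i ≠ w := fun i e => hw (Finset.mem_image.2 ⟨i, Finset.mem_univ _, e⟩)
    refine not_alt_le_relStab h6 hx (y := Function.update x 3 w) (fun i j e => ?_) ((rl x).2 h1) fun h2 => hw' 3 ?_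
    · by_cases hi : i = 3 <;> by_cases hj : j = 3
      · rw [hi, hj]
      · rw [hi, Function.update_self, Function.update_of_ne hj] at e
        exact absurd e.symm (hw' j)
      · rw [hj, Function.update_self, Function.update_of_ne hi] at e
        exact absurd e (hw' i)
      · rw [Function.update_of_ne hi, Function.update_of_ne hj] at e
        exact hx e
    · refine C.inj _ _ fun u => ?_
      have h3 := (rl _).1 h2 u
      rw [Function.update_self, Function.update_of_ne (by decide), Function.update_of_ne (by decide),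
        Function.update_of_ne (by decide)] at h3
      linear_combination h1 u - h3

end Cod

theorem cnt_of (s : Sec X H) (h6 : 6 ≤ Fintype.card Ω) {O : Set (Subgroup (Perm Ω))} {k : ℕ} {y : Fin k → Perm Ω}
    (hy : ∀ j, y j ∈ H) (hp : Pc y) (a : Ω)
    (h : ∀ M ∈ O, M ∈ Ov X H ∧ ∃ (F V : Type) (_ : Field F) (_ : AddCommGroup V) (ρ : M →* Perm V) (χ : Ω → V → F),
      Cod H M ρ χ) : O.ncard ≤ {Δ | Good H y a Δ}.ncard := by
  refine ncard_le_of_col (Set.toFinite _) (fun M Δ => M ≤ relStab (Rl H Δ) ∧ ¬ alternatingGroup Ω ≤ relStab (Rl H Δ))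
    (fun M hM => ?_) fun M hM M' hM' r _ k1 k2 => s.eq_of_le_of_le (h M hM).1 (h M' hM').1 k1.1 k2.1 k1.2
  obtain ⟨h1, F, V, _, _, ρ, χ, C⟩ := h M hM
  exact C.out h1.2 h6 hy hp a

/-! ### words -/

section words

variable {G V : Type} [Group G] {n r : ℕ}

/-- the product of a word -/
def wp (g : Fin r → G) (w : List (Fin r)) : G := (w.map g).prod

/-- the value of a word at a point -/
def ev (σ : Fin r → Fin n → Fin n) (w : List (Fin r)) (i : Fin n) : Fin n := w.foldr σ i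

theorem wp_cons (g : Fin r → G) (s : Fin r) (w : List (Fin r)) : wp g (s :: w) = g s * wp g w := List.prod_cons

theorem wp_mem {g : Fin r → G} {K : Subgroup G} {w : List (Fin r)} (h : ∀ s ∈ w, g s ∈ K) : wp g w ∈ K :=
  K.list_prod_mem fun x hx => by
    obtain ⟨s, hs, rfl⟩ := List.mem_map.1 hx
    exact h s hs

theorem wp_ev (μ : G →* Perm V) {P : Fin n → V} {g : Fin r → G} {σ : Fin r → Fin n → Fin n}
    (h : ∀ s i, μ (g s) (P i) = P (σ s i)) (w : List (Fin r)) (i : Fin n) : μ (wp g w) (P i) = P (ev σ w i) := by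
  induction w with
  | nil => exact congrFun (congrArg DFunLike.coe μ.map_one) _
  | cons s w ih => rw [wp_cons, map_mul, Perm.mul_apply, ih, h]; rfl

/-- **labelling** -/
theorem exists_lab (ρ : G →* Perm Ω) (μ : G →* Perm V) (hn : Fintype.card Ω = n) {P : Fin n → V} (hP : Function.Injective P)
    {g : Fin r → G} {σ : Fin r → Fin n → Fin n} (h : ∀ s i, μ (g s) (P i) = P (σ s i)) {i₀ : Fin n} (w : Fin n → List (Fin r))
    (hw : ∀ i, ev σ (w i) i₀ = i) {a : Ω} (ha : ∀ x, ρ x a = a → μ x (P i₀) = P i₀) :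
    ∃ β : Fin n ≃ Ω, ∀ s i, ρ (g s) (β i) = β (σ s i) := by
  have key : ∀ (x : G) (j : Fin n), ρ x a = ρ (wp g (w j)) a → μ x (P i₀) = P j := fun x j e => by
    have h1 := ha ((wp g (w j))⁻¹ * x) (by rw [map_mul, map_inv, Perm.mul_apply, Perm.inv_eq_iff_eq, e])
    rwa [map_mul, map_inv, Perm.mul_apply, Perm.inv_eq_iff_eq, wp_ev μ h, hw] at h1
  have hb : Function.Bijective fun i => ρ (wp g (w i)) a := (Fintype.bijective_iff_injective_and_card _).2
    ⟨fun i j e => hP (by rw [← key _ j e, wp_ev μ h, hw]), by rw [Fintype.card_fin, hn]⟩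
  refine ⟨Equiv.ofBijective _ hb, fun s i => ?_⟩
  obtain ⟨j, hj⟩ := hb.2 (ρ (g s * wp g (w i)) a)
  have h1 := key _ j hj.symm
  rw [map_mul, Perm.mul_apply, wp_ev μ h, hw, h] at h1
  rw [hP h1]
  exact (congrArg (fun u : Perm Ω => u a) (ρ.map_mul _ _)).symm.trans hj.symm

/-- the action on a closed family -/
theorem exists_hom (μ : G →* Perm V) {P : Fin n → V} (hP : Function.Injective P) {g : Fin r → G}
    (hg : closure (Set.range g) = ⊤) {σ : Fin r → Fin n → Fin n} (h : ∀ s i, μ (g s) (P i) = P (σ s i)) :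
    ∃ θ : G →* Perm (Fin n), ∀ s i, θ (g s) i = σ s i := by
  have key : ∀ x : G, ∃ τ : Perm (Fin n), ∀ i, μ x (P i) = P (τ i) := fun x => by
    induction (hg.ge (mem_top x) : x ∈ closure (Set.range g)) using closure_induction with
    | mem x hx =>
      obtain ⟨s, rfl⟩ := hx
      exact ⟨Equiv.ofBijective (σ s) (Finite.injective_iff_bijective.1 fun i j e =>
        hP ((μ (g s)).injective (by rw [h, h, e]))), h s⟩
    | one => exact ⟨1, fun i => by rw [map_one]; rfl⟩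
    | mul x y _ _ h1 h2 =>
      obtain ⟨τ, h1⟩ := h1
      obtain ⟨υ, h2⟩ := h2
      exact ⟨τ * υ, fun i => by rw [map_mul, Perm.mul_apply, h2, h1]; rfl⟩
    | inv x _ h1 =>
      obtain ⟨τ, h1⟩ := h1
      exact ⟨τ⁻¹, fun i => by rw [map_inv, Perm.inv_eq_iff_eq, h1, ← Perm.mul_apply, mul_inv_cancel]; rfl⟩
  choose θ hθ using key
  exact ⟨MonoidHom.mk' θ fun x y => Perm.ext fun i => hP (by rw [← hθ, map_mul, Perm.mul_apply, hθ, hθ]; rfl),
    fun s i => hP ((hθ _ i).symm.trans (h s i))⟩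

end words

section count

variable {n k : ℕ} (β : Fin n ≃ Ω) {y : Fin k → Perm Ω} {τ : Fin k → Fin n → Fin n}

theorem pc_of (hy : ∀ j i, y j (β i) = β (τ j i)) (sq : Fin k → List (Fin k)) (cj : Fin k → Fin k → List (Fin k))
    (h1 : ∀ j, (∀ s ∈ sq j, s < j) ∧ ∀ i, τ j (τ j i) = ev τ (sq j) i)
    (h2 : ∀ j, ∀ l < j, (∀ s ∈ cj j l, s < j) ∧ ∀ i, τ l (τ j i) = τ j (ev τ (cj j l) i)) : Pc y := fun j => by
  have hw := wp_ev (MonoidHom.id (Perm Ω)) (P := β) (g := y) hy
  have ex : ∀ {u v : Perm Ω}, (∀ i, u (β i) = v (β i)) → u = v := fun h => Perm.ext (β.surjective.forall.2 h)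
  refine ⟨?_, fun l hl => ?_⟩
  · rw [ex (u := y j * y j) (v := wp y (sq j)) fun i => by rw [Perm.mul_apply, hy, hy, (h1 j).2]; exact (hw _ i).symm]
    exact wp_mem fun s hs => subset_closure ⟨s, (h1 j).1 s hs, rfl⟩
  · rw [ex (u := (y j)⁻¹ * y l * y j) (v := wp y (cj j l)) fun i => by
      rw [Perm.mul_apply, Perm.mul_apply, Perm.inv_eq_iff_eq, hy, hy, (h2 j l hl).2, ← hy]
      exact congrArg (y j) (hw _ i).symm]
    exact wp_mem fun s hs => subset_closure ⟨s, (h2 j l hl).1 s hs, rfl⟩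

theorem card_lab (p : Ω → Prop) [DecidablePred p] (q : Fin n → Bool) (h : ∀ i, p (β i) ↔ q i = true) :
    (Finset.univ.filter p).card = (List.finRange n).countP q := by
  rw [← Finset.card_equiv (s := Finset.univ.filter fun i => q i = true) β fun i => by simp [h], List.countP_eq_length_filter,
    ← List.toFinset_card_of_nodup ((List.nodup_finRange n).filter _), List.toFinset_filter, List.toFinset_finRange]

/-- an invariant set is given by a number -/
theorem exists_code (hy : ∀ j i, y j (β i) = β (τ j i)) {R : ℕ} (o : Fin n → ℕ) (rep : ℕ → Fin n) (u : Fin n → List (Fin k))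
    (hu : ∀ i, o i < R ∧ ev τ (u i) (rep (o i)) = i) {Δ : Finset Ω} (h : ∀ j x, y j x ∈ Δ ↔ x ∈ Δ) :
    ∃ c < 2 ^ R, ∀ i, β i ∈ Δ ↔ c.testBit (o i) = true := by
  refine ⟨Nat.ofBits fun j : Fin R => decide (β (rep j) ∈ Δ), Nat.ofBits_lt_two_pow _, fun i => ?_⟩
  have h1 : ∀ (w : List (Fin k)) (i : Fin n), β (ev τ w i) ∈ Δ ↔ β i ∈ Δ := fun w i => by
    induction w with
    | nil => rfl
    | cons s w ih => rw [← ih, ← h s (β (ev τ w i)), hy]; rfl
  have h2 := h1 (u i) (rep (o i))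
  rw [(hu i).2] at h2
  rw [Nat.testBit_ofBits_lt _ _ (hu i).1, decide_eq_true_iff]
  exact h2

/-- the test of one candidate -/
def chk (n o₀ : ℕ) (oL : List ℕ) (pL : List (List (ℕ × ℕ))) (sv : List ℕ) (c : ℕ) : Bool :=
  c.testBit o₀ || (c == 0 || (!(pL.all fun l => [0, oL.countP c.testBit, n - oL.countP c.testBit].contains
    (l.countP fun p => c.testBit p.1 != c.testBit p.2)) || sv.contains c))

theorem good_le (hy : ∀ j i, y j (β i) = β (τ j i)) {R : ℕ} (o : Fin n → ℕ) (rep : ℕ → Fin n) (u : Fin n → List (Fin k))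
    (hu : ∀ i, o i < R ∧ ev τ (u i) (rep (o i)) = i) (ts : List (Fin n → Fin n))
    (hts : ∀ s ∈ ts, ∃ t ∈ H, ∀ i, t (β i) = β (s i)) {oL : List ℕ} (hoL : (List.finRange n).map o = oL)
    {pL : List (List (ℕ × ℕ))} (hpL : ts.map (fun s => (List.finRange n).map fun i => (o (s i), o i)) = pL)
    (sv : List ℕ) (i₀ : Fin n) (hc : (List.range (2 ^ R)).all (chk n (o i₀) oL pL sv) = true) :
    {Δ | Good H y (β i₀) Δ}.ncard ≤ sv.length := by
  refine (ncard_le_of_col (C := (sv.toFinset : Set ℕ)) (Finset.finite_toSet _)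
    (fun Δ c => ∀ i, β i ∈ Δ ↔ c.testBit (o i) = true) (fun Δ hΔ => ?_) fun Δ _ Δ' _ c _ h1 h2 =>
      Finset.ext (β.surjective.forall.2 fun i => (h1 i).trans (h2 i).symm)).trans
    (by rw [Set.ncard_coe_finset]; exact sv.toFinset_card_le)
  obtain ⟨c, hc1, hc2⟩ := exists_code β hy o rep u hu hΔ.inv
  refine ⟨c, ?_, hc2⟩
  have h1 := List.all_eq_true.1 hc c (List.mem_range.2 hc1)
  have h2 : Δ.card = oL.countP c.testBit := by
    rw [← hoL, List.countP_map, ← card_lab β (· ∈ Δ) (c.testBit ∘ o) hc2, Finset.filter_univ_mem]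
  simp only [chk, Bool.or_eq_true] at h1
  rcases h1 with h1 | h1 | h1 | h1
  · exact absurd ((hc2 i₀).2 h1) hΔ.base
  · obtain ⟨x, hx⟩ := hΔ.ne
    obtain ⟨i, rfl⟩ := β.surjective x
    have h3 := (hc2 i).1 hx
    rw [beq_iff_eq.1 h1, Nat.zero_testBit] at h3
    exact absurd h3 Bool.false_ne_true
  · rw [Bool.not_eq_true', ← Bool.not_eq_true] at h1
    refine absurd (List.all_eq_true.2 fun l hl => ?_) h1
    rw [← hpL] at hl
    obtain ⟨s, hs, rfl⟩ := List.mem_map.1 hl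
    obtain ⟨t, ht, e⟩ := hts s hs
    have h3 := hΔ.wt t ht
    rw [card_lab β _ (fun i => c.testBit (o (s i)) != c.testBit (o i)) (fun i => by
      rw [e, hc2, hc2]
      cases c.testBit (o (s i)) <;> cases c.testBit (o i) <;> simp), h2, ← Fintype.card_congr β, Fintype.card_fin] at h3
    rw [List.countP_map, List.contains_iff_mem]
    simp only [List.mem_cons, List.not_mem_nil, or_false]
    exact h3.imp id (Or.imp id fun k => Nat.eq_sub_of_add_eq k)
  · exact Finset.mem_coe.2 (List.mem_toFinset.2 (List.contains_iff_mem.1 h1))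

end count

end Cfsg.Agent.SM.Sy.C6
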