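import Cfsg.Agent.SM.Sy.C6A
import Cfsg.Agent.SM.Sy.Red
import Cfsg.Agent.SM.Sy.Form

/-!
# SM (S3570), symplectic socles, the small rows: the code of a frame with `S_a = O(Q)`, `q = 2` (helper42)
-/

set_option autoImplicit false
set_option linter.unusedVariables false
set_option linter.unusedSectionVars false

namespace Cfsg.Agent.SM.Sy.C6

open Cfsg Equiv Subgroup MulAction
open Cfsg.Agent.ClassicalGeometry.SympAutSemi (semiSim)

variable {m : ℕ} {F : Type} [Field F] [Fintype F]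

theorem bit_of (h : Fintype.card F = 2) (c : F) : c = 0 ∨ c = 1 := by
  have h1 := FiniteField.pow_card c
  rw [h] at h1
  have h2 : c * (c - 1) = 0 := by linear_combination h1
  exact (mul_eq_zero.1 h2).imp id sub_eq_zero.1

theorem two_of (h : Fintype.card F = 2) : (2 : F) = 0 := by
  have h1 := FiniteField.cast_card_eq_zero F
  rw [h] at h1
  exact_mod_cast h1

theorem lin_of (h : Fintype.card F = 2) {g : Perm (VV m F)} (hg : g ∈ semiSim m F) : ∃ s ∈ Sp m F, pm s = g := by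
  obtain ⟨σ, l, hl, h1, h2, h3⟩ := hg
  have hσ : ∀ c, σ c = c := fun c => by rcases bit_of h c with rfl | rfl <;> simp
  obtain rfl : l = 1 := (bit_of h l).resolve_left hl
  exact ⟨{ g with map_add' := h1, map_smul' := fun c v => (h2 c v).trans (by rw [hσ]; rfl) },
    fun u v => (h3 u v).trans (by rw [hσ, one_mul]; rfl), rfl⟩

theorem inj4 {α : Type} {x y z t : α} (h1 : x ≠ y) (h2 : x ≠ z) (h3 : x ≠ t) (h4 : y ≠ z) (h5 : y ≠ t) (h6 : z ≠ t) :
    Function.Injective ![x, y, z, t] := fun i j k => by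
  fin_cases i <;> fin_cases j <;> first | rfl | exact absurd k ‹_› | exact absurd k.symm ‹_›

variable {Ω : Type} [Fintype Ω] [DecidableEq Ω] {X H T M S : Subgroup (Perm Ω)}

theorem cod_of (D : Fr m F X H T M S) {a : Ω} {Q : QuadraticForm F (VV m F)} (h : D.Fo a Q)
    (hn : 2 ^ (2 * m) < 3 * (Fintype.card Ω - 3)) : ∃ (ρ : M →* Perm (VV m F)) (χ : Ω → VV m F → F), Cod H M ρ χ := by
  classical
  obtain ⟨hF, hQ, hC⟩ := h
  have h2 := two_of hF
  have lin : ∀ g : D.L, ∃ s ∈ Sp m F, pm s = g := fun g => lin_of hF (D.le g.2)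
  have hinj : Function.Injective D.φ := (injective_iff_map_eq_one _).2 fun g hg => by
    obtain ⟨c, hc⟩ := (D.ker g).1 hg
    rcases bit_of hF c with rfl | rfl
    · have : Nonempty (Fin m) := ⟨⟨0, lt_of_lt_of_le two_pos D.two⟩⟩
      obtain ⟨u, v, huv⟩ := exists_pair_ne (VV m F)
      exact absurd (g.1.injective (by rw [hc, hc, zero_smul, zero_smul])) huv
    · exact Subtype.ext (Perm.ext fun v => (hc v).trans (one_smul F v))
  let ρ : M →* Perm (VV m F) := D.L.subtype.comp ((MonoidHom.ofInjective hinj).symm.toMonoidHom.comp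
    (MulEquiv.subgroupCongr D.ran.symm).toMonoidHom)
  have hρ : ∀ g : D.L, ρ ⟨D.φ g, Rd.phi_mem D g⟩ = g := fun g =>
    congrArg Subtype.val ((MonoidHom.ofInjective hinj).symm_apply_apply g)
  have sur : ∀ x : M, ∃ g : D.L, x = ⟨D.φ g, Rd.phi_mem D g⟩ := fun x =>
    let ⟨g, hg⟩ := Rd.exists_phi D x.2; ⟨g, Subtype.ext hg.symm⟩
  have st : ∀ g : D.L, D.φ g a = a ↔ ∀ v, Q (g.1 v) = Q v := fun g => by
    obtain ⟨s, hs, e⟩ := lin g
    have h1 : s ∈ D.C a ↔ D.φ g a = a := by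
      rw [Rd.mem_pre, and_iff_right hs, e, Rd.mem_hat]
      exact ⟨fun ⟨_, k⟩ => k, fun k => ⟨g.2, k⟩⟩
    rw [← h1, hC, ← e]
    exact Iff.rfl
  have hw : ∀ x : Ω, ∃ g : D.L, D.φ g a = x := fun x => by
    obtain ⟨t, ht, e⟩ := D.up.trans a x
    obtain ⟨g, rfl⟩ := Rd.exists_phi D (D.up.ov.2 (D.up.socH.le ht))
    exact ⟨g, e⟩
  choose w hw using hw
  have inj : ∀ x y, (∀ v, Q ((w x)⁻¹.1 v) = Q ((w y)⁻¹.1 v)) → x = y := fun x y k => by
    have h1 := (st ((w x)⁻¹ * w y)).2 fun v => (k _).trans (congrArg Q (Perm.inv_eq_iff_eq.2 rfl))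
    rwa [map_mul, map_inv, Perm.mul_apply, Perm.inv_eq_iff_eq, hw, hw, eq_comm] at h1
  refine ⟨ρ, fun x v => Q ((w x)⁻¹.1 v), bit_of hF, add_self_VV h2, fun g u v => ?_, fun g x v => ?_,
    fun u v => ⟨ff m F u v, fun x => ?_⟩, fun x => ?_, inj, fun u v hu hv => ?_, fun W hW => ?_, ?_⟩
  · obtain ⟨g, rfl⟩ := sur g
    obtain ⟨s, -, e⟩ := lin g
    rw [hρ, ← e]
    exact s.map_add u v
  · obtain ⟨g, rfl⟩ := sur g
    have h1 := (st ((w (D.φ g x))⁻¹ * g * w x)).1 (by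
      rw [map_mul, map_mul, map_inv, Perm.mul_apply, Perm.mul_apply, Perm.inv_eq_iff_eq, hw, hw]) ((w x)⁻¹.1 v)
    rw [hρ, ← h1]
    exact congrArg (fun z => Q ((w (D.φ g x))⁻¹.1 (g.1 z))) (Perm.eq_inv_iff_eq.1 rfl).symm
  · obtain ⟨s, hs, e⟩ := lin (w x)⁻¹
    simp only [← e, pm_apply]
    rw [map_add, hQ.add, hs]
  · obtain ⟨s, hs, e⟩ := lin (w x)⁻¹
    simp only [← e, pm_apply, map_zero]
  · obtain ⟨s, hs, e⟩ := Rd.sp_trans hu hv
    exact ⟨⟨_, Rd.phi_mem D ⟨pm s, D.sp s hs⟩⟩, by rw [hρ]; exact e⟩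
  · let W' : Submodule F (VV m F) :=
      { toAddSubmonoid := W.toAddSubmonoid
        smul_mem' := fun c v hv => by
          rcases bit_of hF c with rfl | rfl
          · rw [zero_smul]
            exact W.zero_mem
          · rwa [one_smul] }
    rcases redH D W' fun g hg v hv => by
      obtain ⟨h1, h3⟩ := (Rd.mem_hat D).1 hg
      have h4 := hW ⟨_, Rd.phi_mem D ⟨g, h1⟩⟩ h3 v hv
      rwa [hρ] at h4 with e | e
    · exact Or.inl (eq_bot_iff.2 fun v hv => e.le (show v ∈ W' from hv))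
    · exact Or.inr (eq_top_iff.2 fun v _ => (e.ge Submodule.mem_top : v ∈ W'))
  · have hu : ∀ x, ∃ u, ∀ v, Q ((w x)⁻¹.1 v) = Q v + ff m F v u := fun x => by
      obtain ⟨s, hs, e⟩ := lin (w x)⁻¹
      obtain ⟨u, hu⟩ := exists_ad h2 hQ (hQ.comp hs (Q' := Q.comp s.toLinearMap) fun _ => rfl)
      refine ⟨u, fun v => ?_⟩
      rw [← e, show Q (pm s v) = Q.comp s.toLinearMap v from rfl, hu, ad_apply]
      rcases bit_of hF (ff m F v u) with k | k <;> simp only [k, mul_zero, mul_one]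
    choose u hu using hu
    have ui : Function.Injective u := fun x y e => inj x y fun v => by rw [hu, hu, e]
    obtain ⟨A, -, hA⟩ := Finset.exists_subset_card_eq (s := (Finset.univ : Finset Ω)) (n := 3) (by
      rw [Finset.card_univ]
      have := D.up.sec.five
      omega)
    obtain ⟨⟨x, y⟩, hp, ⟨z, t⟩, hq, hne, e⟩ := Finset.exists_ne_map_eq_of_card_lt_of_maps_to (s := A ×ˢ Aᶜ)
      (t := (Finset.univ : Finset (VV m F))) (f := fun p => u p.1 + u p.2) (by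
        rw [Finset.card_product, Finset.card_compl, hA, Finset.card_univ, Fintype.card_fun, hF, Fintype.card_sum,
          Fintype.card_fin, ← two_mul]
        exact hn) fun _ _ => Finset.mem_univ _
    rw [Finset.mem_product, Finset.mem_compl] at hp hq
    have e' : u x + u y = u z + u t := e
    have h1 : x ≠ z := fun k => hne (Prod.ext k (ui (add_left_cancel (k ▸ e' : u x + u y = u x + u t))))
    have h3 : y ≠ t := fun k => h1 (ui (add_right_cancel (k ▸ e' : u x + u y = u z + u y)))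
    have h4 : x ≠ y := fun k => hp.2 (k ▸ hp.1)
    have h5 : x ≠ t := fun k => hq.2 (k ▸ hp.1)
    have h6 : z ≠ y := fun k => hp.2 (k ▸ hq.1)
    have h7 : z ≠ t := fun k => hq.2 (k ▸ hq.1)
    refine ⟨![x, y, z, t], inj4 h4 h1 h5 h6.symm h3 h7, fun v => ?_⟩
    · have h8 := congrArg (ff m F v) e'
      rw [map_add, map_add] at h8
      show Q ((w x)⁻¹.1 v) + Q ((w y)⁻¹.1 v) + Q ((w z)⁻¹.1 v) + Q ((w t)⁻¹.1 v) = 0
      rw [hu, hu, hu, hu]
      linear_combination h8 + (2 * Q v + ff m F v (u z) + ff m F v (u t)) * h2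

/-- the count of a small row is bounded by the number of supports -/
theorem cnt6_of {m₀ t n : ℕ} (hn : 2 ^ (2 * m₀) < 3 * (n - 3))
    (h : ∀ (Ω : Type) [Fintype Ω] [DecidableEq Ω] (X H T M S : Subgroup (Perm Ω)), Up X H T M S → Nat.card T = t →
      Fintype.card Ω = n → ∃ (k : ℕ) (y : Fin k → Perm Ω) (a : Ω), (∀ j, y j ∈ H) ∧ Pc y ∧ {Δ | Good H y a Δ}.ncard ≤ 5) :
    Cnt6 m₀ t n := fun Ω _ _ X H T a => by
  rcases (OvR (fun _ _ _ _ _ _ _ _ _ _ _ _ D a => D.R6 a m₀ t n) X H T a).eq_empty_or_nonempty with e | ⟨M₀, S₀, m, F, _, _, D₀, h3, rfl, h1, h2, -⟩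
  · rw [e, Set.ncard_empty]
    exact Nat.zero_le _
  obtain ⟨k, y, b, hy, hp, hc⟩ := h Ω X H T M₀ S₀ D₀.up h1 h2
  have h6 : 2 ^ 6 ≤ 2 ^ (2 * m) := Nat.pow_le_pow_right two_pos (by omega)
  refine (cnt_of D₀.up.sec (by omega) hy hp b ?_).trans hc
  rintro M ⟨S, m', F', _, _, D, -, rfl, -, -, Q, hQ⟩
  exact ⟨D.up.ov, F', VV m' F', inferInstance, inferInstance, cod_of D hQ (h2 ▸ hn)⟩

end Cfsg.Agent.SM.Sy.C6
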