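import Cfsg.Agent.SM.Sy.C6B
import Cfsg.Agent.SM.Alt.JaB
import Cfsg.Agent.S3724

/-!
# SM (S3570), symplectic socles, the small rows: tools for explicit models (helper42)
-/

set_option autoImplicit false
set_option linter.unusedVariables false
set_option linter.unusedSectionVars false

namespace Cfsg.Agent.SM.Sy.C6

open Cfsg Equiv Subgroup MulAction
open scoped Pointwise

theorem iso_of_card {G K : Type} [Group G] [Finite G] [Group K] [Finite K] (hG : IsSimpleGroup G) (hK : IsSimpleGroup K)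
    (h : Nat.card G = Nat.card K) (h1 : Nat.card K ≠ 20160) (h2 : Nat.card K < 5000000) (h3 : ¬ 3 ^ 9 ∣ 2 * Nat.card K)
    (h5 : ¬ 5 ^ 9 ∣ 2 * Nat.card K) : Nonempty (G ≃* K) := by
  have a8 : Nat.card (alternatingGroup (Fin 8)) = 20160 := by
    have := Alt.two_card_alt (Δ := Fin 8) (by simp)
    rw [Fintype.card_fin, show Nat.factorial 8 = 40320 from rfl] at this
    omega
  have sp : ∀ (F : Type) [Field F] [Fintype F] (n : ℕ), Odd (Fintype.card F) → 3 ≤ n → Nat.card (PSp n F) ≠ Nat.card K :=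
    fun F _ _ n ho hn e => by
      have k1 := H321.Orders.psp_eq (F := F) (m := n) (by omega)
      have k2 : Fintype.card F ^ 9 ∣ 2 * Nat.card K :=
        ((pow_dvd_pow _ (by nlinarith)).trans (Dvd.intro _ k1.symm)).trans (e ▸ Nat.mul_dvd_mul_right (Nat.gcd_dvd_left _ _) _)
      have k3 : 1 < Fintype.card F := Fintype.one_lt_card
      have k4 := Nat.le_of_dvd (by have : 0 < Nat.card K := Nat.card_pos; omega) k2
      generalize Fintype.card F = q at ho k2 k3 k4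
      rcases Nat.lt_or_ge q 7 with k5 | k5
      · obtain ⟨r, hr⟩ := ho
        rcases (by omega : q = 3 ∨ q = 5) with rfl | rfl
        · exact h3 k2
        · exact h5 k2
      · have := Nat.pow_le_pow_left k5 9
        omega
  rcases S3724.result h with k | (⟨⟨e⟩, -⟩ | ⟨⟨e⟩, -⟩) | ⟨F, _, _, n, ho, hn, ⟨-, ⟨e⟩⟩ | ⟨-, ⟨e⟩⟩⟩
  · exact k
  · exact absurd (h.symm.trans ((Nat.card_congr e.toEquiv).trans a8)) h1
  · exact absurd ((Nat.card_congr e.toEquiv).trans a8) h1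
  · exact absurd (Nat.card_congr e.toEquiv).symm (sp F n ho hn)
  · exact absurd ((Nat.card_congr e.toEquiv).symm.trans h) (sp F n ho hn)

section grp

variable {G : Type} [Group G] [Finite G]

theorem syl_of {p k : ℕ} [hp : Fact p.Prime] (hn : ¬ p ^ (k + 1) ∣ Nat.card G) {C : Subgroup G} (hC : Nat.card C = p ^ k) :
    ∃ P : Sylow p G, (P : Subgroup G) = C := by
  obtain ⟨P, hP⟩ := (IsPGroup.of_card hC).exists_le_sylow
  obtain ⟨j, hj⟩ := IsPGroup.iff_card.1 P.isPGroup'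
  have h1 : j ≤ k := by
    by_contra k1
    exact hn ((pow_dvd_pow p (by omega)).trans (hj ▸ card_subgroup_dvd_card (P : Subgroup G)))
  exact ⟨P, (eq_of_le_of_card_ge hP (by rw [hj, hC]; exact Nat.pow_le_pow_right hp.out.pos h1)).symm⟩

theorem conj_syl {p k : ℕ} [hp : Fact p.Prime] (hn : ¬ p ^ (k + 1) ∣ Nat.card G) {C D : Subgroup G} (hC : Nat.card C = p ^ k)
    (hD : Nat.card D = p ^ k) : ∃ g : G, ∀ x, x ∈ D ↔ g⁻¹ * x * g ∈ C := by
  obtain ⟨P, rfl⟩ := syl_of hn hC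
  obtain ⟨Q, rfl⟩ := syl_of hn hD
  obtain ⟨g, rfl⟩ := exists_smul_eq G P Q
  refine ⟨g, fun x => ?_⟩
  rw [Sylow.coe_subgroup_smul, mem_pointwise_smul_iff_inv_smul_mem]
  simp

/-- the stabiliser of a point -/
def St {Ω : Type} (ρ : G →* Perm Ω) (a : Ω) : Subgroup G := (stabilizer (Perm Ω) a).comap ρ

theorem mem_St {Ω : Type} {ρ : G →* Perm Ω} {a : Ω} {x : G} : x ∈ St ρ a ↔ ρ x a = a := Iff.rfl

theorem mem_St' {Ω : Type} {ρ : G →* Perm Ω} {a : Ω} {g x : G} : x ∈ St ρ (ρ g a) ↔ g⁻¹ * x * g ∈ St ρ a := by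
  rw [mem_St, mem_St, map_mul, map_mul, map_inv, Perm.mul_apply, Perm.mul_apply, Perm.inv_eq_iff_eq]

theorem card_orb {Ω : Type} [Fintype Ω] [DecidableEq Ω] (ρ : G →* Perm Ω) (a : Ω) (U : Finset Ω) (hU : ∀ b, b ∈ U ↔ ∃ x, ρ x a = b) :
    Nat.card (St ρ a) * U.card = Nat.card G := by
  let _ := Alt.act ρ
  have h1 := index_stabilizer G a
  rw [show orbit G a = U from Set.ext fun b => (hU b).symm, Set.ncard_coe_finset] at h1
  rw [← h1]
  exact card_mul_index _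

theorem card_St {Ω : Type} [Fintype Ω] [DecidableEq Ω] (ρ : G →* Perm Ω) (a : Ω) (h : ∀ b, ∃ x, ρ x a = b) :
    Nat.card (St ρ a) * Fintype.card Ω = Nat.card G := card_orb ρ a Finset.univ fun b => by simp [h b]

/-- many images of an invariant function -/
theorem big_orb {α β : Type} (θ : G →* Perm α) {B : Subgroup G} (f : α → β) (hB : ∀ b ∈ B, ∀ i, f (θ b i) = f i) {k : ℕ}
    (w : Fin k → G) (hw : ∀ j l, (∀ i, f (θ (w j) i) = f (θ (w l) i)) → j = l) : k * Nat.card B ≤ Nat.card G := by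
  have h := Nat.card_le_card_of_injective (fun x : Fin k × B => x.2.1 * w x.1) (by
    rintro ⟨j, b⟩ ⟨l, c⟩ e
    have e' : b.1 * w j = c.1 * w l := e
    obtain rfl : j = l := hw j l fun i => by
      rw [← hB b b.2, ← hB c c.2 (θ (w l) i), ← Perm.mul_apply, ← map_mul, e', map_mul, Perm.mul_apply]
    rw [Subtype.ext (mul_right_cancel e')])
  simpa using h

end grp

/-! ### tables -/

/-- a packed table -/
def pk (n : ℕ) [NeZero n] (N : ℕ) (i : ℕ) : Fin n := Fin.ofNat n (N >>> (8 * i) % 256)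

/-- a family of packed tables -/
def tb (n : ℕ) [NeZero n] {r m : ℕ} (L : List ℕ) (s : Fin r) (i : Fin m) : Fin n := pk n (L.getD s 0) i

/-- a family of words -/
def wd (r : ℕ) [NeZero r] (L : List (List ℕ)) (i : ℕ) : List (Fin r) := (L.getD i []).map (Fin.ofNat r)

/-- the set with a given mask -/
def Ms (d N : ℕ) : Set (Fin d) := {x | N.testBit x = true}

/-- the action on sets -/
def onSet (d : ℕ) : Perm (Fin d) →* Perm (Set (Fin d)) := toPermHom (Perm (Fin d)) (Set (Fin d))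

theorem onSet_eq {d : ℕ} {g : Perm (Fin d)} {s t : Set (Fin d)} (h : ∀ x, g x ∈ t ↔ x ∈ s) : onSet d g s = t :=
  Set.ext (g.surjective.forall.2 fun x => (Set.smul_mem_smul_set_iff (a := g)).trans (h x).symm)

theorem ms_map {d N N' : ℕ} {g : Perm (Fin d)} (h : ∀ x, N'.testBit (g x) = N.testBit x) : onSet d g (Ms d N) = Ms d N' :=
  onSet_eq fun x => Eq.congr_left (h x)

theorem ms_inj {d n : ℕ} {N : Fin n → ℕ} (h : ((List.finRange n).map fun i => N i % 2 ^ d).Nodup) :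
    Function.Injective fun i => Ms d (N i) := fun i j e =>
  List.inj_on_of_nodup_map h (List.mem_finRange i) (List.mem_finRange j) (Nat.eq_of_testBit_eq fun x => by
    rw [Nat.testBit_mod_two_pow, Nat.testBit_mod_two_pow]
    by_cases hx : x < d
    · exact congrArg _ (Bool.eq_iff_iff.2 (Set.ext_iff.1 e ⟨x, hx⟩))
    · simp [hx])

variable {Ω : Type} [Fintype Ω] [DecidableEq Ω] {H : Subgroup (Perm Ω)}

theorem exists_lab' {G V : Type} [Group G] {n r : ℕ} (ρ : G →* Perm Ω) (μ : G →* Perm V) (hn : Fintype.card Ω = n)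
    {P : Fin n → V} (hP : Function.Injective P) {g : Fin r → G} {σ : Fin r → Fin n → Fin n}
    (h : ∀ s i, μ (g s) (P i) = P (σ s i)) {i₀ : Fin n} (w : Fin n → List (Fin r)) (hw : ∀ i, ev σ (w i) i₀ = i)
    {a : Ω} {i : Fin n} (ha : ∀ x, ρ x a = a → μ x (P i) = P i) : ∃ β : Fin n ≃ Ω, ∀ s i, ρ (g s) (β i) = β (σ s i) :=
  exists_lab ρ μ hn hP h w hw (a := ρ (wp g (w i))⁻¹ a) fun x hx => by
    have h1 := ha (wp g (w i) * x * (wp g (w i))⁻¹) (by
      rw [map_mul, map_mul, Perm.mul_apply, Perm.mul_apply, hx, map_inv, ← Perm.mul_apply, mul_inv_cancel, Perm.one_apply])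
    have h2 := wp_ev μ h (w i) i₀
    rw [hw] at h2
    rw [← h2, ← Perm.mul_apply, ← map_mul, inv_mul_cancel_right, map_mul, Perm.mul_apply] at h1
    exact (μ _).injective h1

/-- the data of a row -/
structure Dat (n r k : ℕ) where
  yw : Fin k → List (Fin r)
  τ : Fin k → Fin n → Fin n
  sq : Fin k → List (Fin k)
  cj : Fin k → Fin k → List (Fin k)
  R : ℕ
  o : Fin n → ℕ
  rep : ℕ → Fin n
  u : Fin n → List (Fin k)
  tw : List (List (Fin r))
  oL : List ℕ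
  pL : List (List (ℕ × ℕ))
  sv : List ℕ
  i₀ : Fin n

/-- the checks of a row -/
structure Dat.Ok {n r k : ℕ} (d : Dat n r k) (σ : Fin r → Fin n → Fin n) : Prop where
  h0 : ∀ j i, d.τ j i = ev σ (d.yw j) i
  h1 : ∀ j, (∀ s ∈ d.sq j, s < j) ∧ ∀ i, d.τ j (d.τ j i) = ev d.τ (d.sq j) i
  h2 : ∀ j, ∀ l < j, (∀ s ∈ d.cj j l, s < j) ∧ ∀ i, d.τ l (d.τ j i) = d.τ j (ev d.τ (d.cj j l) i)
  hu : ∀ i, d.o i < d.R ∧ ev d.τ (d.u i) (d.rep (d.o i)) = i
  hoL : (List.finRange n).map d.o = d.oL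
  hpL : (d.tw.map (ev σ)).map (fun s => (List.finRange n).map fun i => (d.o (s i), d.o i)) = d.pL
  hc : (List.range (2 ^ d.R)).all (chk n (d.o d.i₀) d.oL d.pL d.sv) = true
  h5 : d.sv.length ≤ 5

theorem row_of {n r k : ℕ} (β : Fin n ≃ Ω) {g : Fin r → Perm Ω} (hg : ∀ s, g s ∈ H) {σ : Fin r → Fin n → Fin n}
    (h : ∀ s i, g s (β i) = β (σ s i)) {d : Dat n r k} (hd : d.Ok σ) :
    ∃ (k : ℕ) (y : Fin k → Perm Ω) (a : Ω), (∀ j, y j ∈ H) ∧ Pc y ∧ {Δ | Good H y a Δ}.ncard ≤ 5 := by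
  have hw := wp_ev (MonoidHom.id (Perm Ω)) (P := β) (g := g) h
  have hy : ∀ j i, wp g (d.yw j) (β i) = β (d.τ j i) := fun j i => hd.h0 j i ▸ hw _ i
  refine ⟨k, fun j => wp g (d.yw j), β d.i₀, fun j => wp_mem fun s _ => hg s, pc_of β hy d.sq d.cj hd.h1 hd.h2,
    (good_le β hy d.o d.rep d.u hd.hu _ (fun s hs => ?_) hd.hoL hd.hpL d.sv d.i₀ hd.hc).trans hd.h5⟩
  obtain ⟨w, -, rfl⟩ := List.mem_map.1 hs
  exact ⟨wp g w, wp_mem fun s _ => hg s, hw w⟩

end Cfsg.Agent.SM.Sy.C6
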