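import Cfsg.Agent.SM.Sy.C6C
import Cfsg.Agent.S1020

/-!
# SM (S3570), symplectic socles, the row `L₂(17) < Sp₈(2)` of degree 136 (helper42)
-/

set_option autoImplicit false
set_option linter.unusedVariables false
set_option linter.unusedSectionVars false

namespace Cfsg.Agent.SM.Sy.C6

open Cfsg Equiv Subgroup MulAction
open scoped Pointwise

theorem fact17 : Fact (Nat.Prime 17) := ⟨by norm_num⟩

attribute [local instance] fact17

/-- the group -/
abbrev G17 : Type := Matrix.SpecialLinearGroup (Fin 2) (ZMod 17)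

/-- an entry -/
def en (N k : ℕ) : ZMod 17 := (N >>> (8 * k) % 256 : ℕ)

/-- a packed matrix -/
def mt (N : ℕ) (h : en N 0 * en N 3 - en N 1 * en N 2 = 1) : G17 :=
  ⟨!![en N 0, en N 1; en N 2, en N 3], by rw [Matrix.det_fin_two_of]; exact h⟩

/-- elements of order three -/
def xN (i : Fin 136) : ℕ := List.getD [100863498, 219023875, 167972358, 168495622, 269354496, 218762755, 218825987, 151912967, 168167174, 269157120, 168430342, 168101126, 235079938,
    268832256, 218563331, 218302211, 235277570, 218434307, 202245892, 151129607, 151716103, 202050564, 168232454, 168561670, 184944901, 268634880,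
    268765696, 268897280, 185339141, 184746245, 235471618, 269223680, 218500099, 134611464, 235734530, 235671298, 135004424, 252576001, 201788932,
    151978759, 151258887, 252381441, 151063303, 151324935, 252053505, 202115844, 201655812, 252445697, 185272325, 185140741, 184878085, 269092096,
    151454727, 185404421, 185011973, 134415368, 184615685, 185076485, 234949122, 218891779, 235602946, 134350344, 251923457, 235209218, 235867138,
    235343874, 135267592, 134875144, 251858945, 251727361, 185205253, 185534213, 151195399, 151849479, 151522311, 201721092, 252250881, 251989249,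
    151586055, 151653639, 151392263, 252184065, 151783431, 201982724, 252117505, 235408898, 184812805, 235536642, 252511489, 185470981, 134480648,
    167839750, 184683013, 218695683, 185601541, 218170371, 235013378, 235145986, 168758534, 269420800, 235931394, 235800578, 152045063, 252317441,
    134809352, 201525764, 252707585, 251791105, 219090691, 218959875, 168296710, 268960256, 168366086, 202178820, 167904262, 201852932, 218630403,
    202376196, 201395460, 218366211, 218235395, 201461508, 168034822, 202310148, 168627974, 269029120, 269290752, 168823046, 252643841, 269484288,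
    268698624, 219155715, 268568576, 201918724, 201592836, 268505088] i 0

/-- generators -/
def gN (s : Fin 3) : ℕ := List.getD [16777473, 1048832, 100663299] s 0

theorem xN_det : ∀ i, en (xN i) 0 * en (xN i) 3 - en (xN i) 1 * en (xN i) 2 = 1 := by decide +kernel

theorem gN_det : ∀ i, en (gN i) 0 * en (gN i) 3 - en (gN i) 1 * en (gN i) 2 = 1 := by decide +kernel

/-- elements of order three -/
def x17 (i : Fin 136) : G17 := mt (xN i) (xN_det i)

/-- generators -/
def g17 (s : Fin 3) : G17 := mt (gN s) (gN_det s)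

/-- an element of order nine -/
def c17 : G17 := mt 118489344 (by decide +kernel)

/-- the action -/
def s136 : Fin 3 → Fin 136 → Fin 136 := tb 136 
    [898385404109862383469251673167126582420684406632026477436774343215976683937670282538406893073245322784160424418913047430147353114829637167437385493864878979643536317213277726091965883742557786256247394401710713430285330413035982867707494700532059582131690892585732422035204710351525677213085703427472498862378377280877545063425,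
    1676979643822064887256903930412450062166504976984092851303897677467849835220581106603665656250256958400151426469404773888586608296344239865566584451788524428466608308156650174511760339648340429579538160613690793179618924177330635468884294061306278141264446243533457236901667374245911705546374654193134186548907137815999024203010,
    1715736725120379028134772368121210323126694913096050088821835695486312951310289353875327916366739363366725870635699421346073548732536571394971306241266490762057125779059048706263824283531268083742879916728366425854042803959862608841019415195325510337867161563867205078508651968800615414432183970623794907512392671106699245389315]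

/-- words which move `0` -/
def w136 (i : Fin 136) : List (Fin 3) := wd 3 [[], [0], [1], [2], [0, 0], [1, 0], [2, 0], [0, 1], [2, 1], [0, 2], [1, 2], [2, 2], [0, 0, 0], [1, 0, 0], [0, 1, 0], [2, 1, 0], [0, 2, 0], [1, 2, 0],
    [0, 0, 1], [1, 0, 1], [2, 0, 1], [0, 2, 1], [1, 2, 1], [2, 2, 1], [0, 0, 2], [1, 0, 2], [2, 0, 2], [0, 1, 2], [0, 2, 2], [0, 0, 0, 0], [1, 0, 0, 0],
    [2, 1, 0, 0], [2, 2, 1, 0], [0, 0, 2, 0], [1, 0, 2, 0], [2, 0, 2, 0], [0, 1, 2, 0], [0, 0, 0, 1], [1, 0, 0, 1], [0, 1, 0, 1], [2, 1, 0, 1], [0, 2, 0,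
    1], [1, 2, 0, 1], [2, 2, 0, 1], [0, 0, 2, 1], [1, 0, 2, 1], [2, 0, 2, 1], [0, 2, 2, 1], [0, 0, 0, 2], [1, 0, 0, 2], [0, 2, 0, 2], [1, 2, 0, 2], [0, 0,
    1, 2], [1, 0, 2, 2], [2, 0, 2, 2], [0, 0, 0, 0, 0], [1, 0, 0, 0, 0], [0, 1, 0, 0, 0], [2, 1, 0, 0, 0], [1, 2, 2, 1, 0], [0, 0, 0, 2, 0], [1, 0, 0, 2,
    0], [0, 1, 0, 2, 0], [0, 2, 0, 2, 0], [1, 2, 0, 2, 0], [2, 2, 0, 2, 0], [1, 0, 1, 2, 0], [2, 0, 1, 2, 0], [0, 0, 0, 0, 1], [1, 0, 0, 0, 1], [0, 1, 0,
    0, 1], [0, 0, 1, 0, 1], [1, 0, 1, 0, 1], [2, 0, 1, 0, 1], [2, 2, 1, 0, 1], [0, 0, 2, 0, 1], [1, 0, 2, 0, 1], [2, 0, 2, 0, 1], [1, 2, 2, 0, 1], [2, 2,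
    2, 0, 1], [0, 0, 0, 2, 1], [1, 0, 0, 2, 1], [0, 2, 0, 2, 1], [2, 2, 0, 2, 1], [2, 0, 2, 2, 1], [0, 1, 0, 0, 2], [1, 0, 2, 0, 2], [0, 0, 0, 1, 2], [0,
    1, 0, 2, 2], [2, 2, 0, 2, 2], [1, 0, 0, 0, 0, 0], [0, 1, 0, 0, 0, 0], [2, 1, 0, 0, 0, 0], [0, 0, 1, 0, 0, 0], [2, 0, 1, 0, 0, 0], [0, 2, 1, 0, 0, 0],
    [2, 2, 1, 0, 0, 0], [1, 0, 0, 0, 2, 0], [0, 1, 0, 0, 2, 0], [0, 1, 2, 0, 2, 0], [1, 2, 2, 0, 2, 0], [2, 2, 2, 0, 2, 0], [0, 1, 0, 1, 2, 0], [0, 2, 0,
    1, 2, 0], [1, 2, 0, 1, 2, 0], [0, 0, 0, 0, 0, 1], [1, 0, 0, 0, 0, 1], [2, 1, 0, 0, 0, 1], [0, 0, 0, 1, 0, 1], [0, 2, 0, 1, 0, 1], [0, 1, 0, 2, 0, 1],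
    [0, 1, 2, 2, 0, 1], [0, 0, 1, 0, 0, 2], [0, 1, 0, 0, 0, 0, 0], [2, 0, 1, 0, 0, 0, 0], [0, 0, 0, 1, 0, 0, 0], [1, 0, 0, 1, 0, 0, 0], [0, 2, 0, 1, 0, 0,
    0], [0, 0, 2, 1, 0, 0, 0], [1, 0, 2, 1, 0, 0, 0], [2, 0, 2, 1, 0, 0, 0], [0, 2, 2, 1, 0, 0, 0], [0, 1, 0, 0, 0, 2, 0], [0, 0, 1, 0, 0, 2, 0], [1, 0, 1,
    0, 0, 2, 0], [1, 0, 1, 2, 0, 2, 0], [2, 0, 1, 2, 0, 2, 0], [0, 0, 1, 0, 1, 2, 0], [1, 0, 2, 0, 1, 2, 0], [0, 1, 0, 0, 0, 0, 1], [0, 0, 2, 0, 1, 0, 1],
    [1, 0, 2, 0, 1, 0, 1], [1, 0, 1, 2, 2, 0, 1], [2, 0, 1, 0, 0, 0, 0, 0], [1, 0, 2, 0, 1, 0, 0, 0], [2, 1, 0, 1, 2, 0, 2, 0]] i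

/-- the data -/
def d136 : Dat 136 3 4 where
  yw j := wd 3 [[2, 2, 2, 2], [2, 2], [2], [1]] j
  τ := tb 136 
    [1676773674409137266918255097432659935651068904432565987203912564231423290209839483252852777215787961551145797823209193805079600013381497230791900333827441396253256767297844226321498107065311498758355612029367755572478848681269873935199184468137846587782456330728817254571799937625059670357999918660533489646971768526659416755970,
    1689931016132314621389608171653042108694784869265784005683464723833157812875780375308549632334607472628867011943663356341089703912276035736057427776330414181951452226034804063201577929226797700078357814784112441281050747510631319590210592400336937308298154886004548429824504875039400402339086257700778273449339646883600872706315,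
    1715736725120379028134772368121210323126694913096050088821835695486312951310289353875327916366739363366725870635699421346073548732536571394971306241266490762057125779059048706263824283531268083742879916728366425854042803959862608841019415195325510337867161563867205078508651968800615414432183970623794907512392671106699245389315,
    1676979643822064887256903930412450062166504976984092851303897677467849835220581106603665656250256958400151426469404773888586608296344239865566584451788524428466608308156650174511760339648340429579538160613690793179618924177330635468884294061306278141264446243533457236901667374245911705546374654193134186548907137815999024203010]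
  sq j := wd 4 [[], [0], [1], []] j
  cj j l := wd 4 [[], [], [], [], [0], [], [], [], [0], [1], [], [], [0], [1, 0], [2, 1, 0], []] (4 * j + l)
  R := 13
  o i := 143100773513101485625832510230160561920989710737255417042377060070170897092213898943973554173700036282497863633041654841140154632138537174899150919887879895439792916761871626549708851477104912222037203625401097006746502433662694503336155333894213606258478805975085553798633703103376518466262640945445389574029832303861097824512 >>> (8 * i.val) % 256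
  rep j := pk 136 8983534240605671618097994531072 j
  u i := wd 4 [[], [], [0], [2], [], [3], [2], [], [2, 0], [2], [2, 1], [1], [], [3], [3, 0], [0], [2], [1], [], [3], [2], [2], [2, 1, 0], [1, 0], [], [0], [1], [1,
    3], [2], [2, 1, 0], [3], [1, 0], [2, 0], [], [3, 2], [1], [2], [], [3], [3, 0], [2, 3], [2], [3, 2], [1], [2, 0], [1, 0], [1], [1, 0], [0], [3], [2,
    0], [2, 1], [2, 1, 0], [3, 2], [1], [2, 1], [2, 3], [3, 0], [2, 3], [1, 0], [2, 0], [3], [1, 3], [1, 0], [3, 1], [2, 1], [3, 2], [1], [0], [3], [1, 0],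
    [3, 1], [0], [2, 3, 0], [1, 3], [2, 0], [3, 2], [1], [3, 1], [2, 1], [2, 0], [3, 2, 0], [1, 0], [3, 0], [2, 1, 0], [3, 0], [3, 2, 0], [2, 1, 0], [3,
    1], [2, 1], [2, 3], [], [1, 3], [], [2, 3, 0], [2], [1, 3], [3, 2, 0], [2, 0], [], [2, 3, 0], [0], [3, 2, 0], [2, 1], [3, 1], [0], [3, 0], [2, 3], [1,
    0], [2, 1, 0], [3], [1, 0], [3, 0], [], [2], [2, 0], [0], [1, 0], [1], [2, 1], [1], [2, 1], [1], [2, 1, 0], [1, 0], [1], [2], [0], [2, 3, 0], [2, 1,
    0], [2, 0], [2, 0], [0], [2], [0], [2, 1]] i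
  tw := [[0], [0, 1, 2, 2, 0], [0, 0, 0, 1, 0]]
  oL := [0, 1, 0, 0, 2, 1, 1, 3, 0, 2, 0, 0, 4, 2, 1, 1, 4, 1, 5, 3, 3, 5, 0, 0, 6, 2, 2, 2, 6, 6, 4, 2, 1, 7, 4, 4, 7, 8, 5, 3, 3, 8, 3, 3, 8, 5, 5, 8, 6, 6,
    6, 2, 3, 6, 6, 7, 6, 6, 4, 1, 4, 7, 8, 4, 4, 4, 7, 7, 8, 8, 6, 6, 3, 3, 3, 5, 8, 8, 3, 3, 3, 8, 3, 5, 8, 4, 6, 4, 8, 6, 7, 9, 6, 10, 6, 10, 4, 4, 9,
    11, 4, 4, 3, 8, 7, 5, 8, 8, 10, 10, 9, 11, 9, 12, 9, 12, 10, 12, 12, 10, 10, 12, 9, 12, 9, 11, 11, 9, 8, 11, 11, 10, 11, 12, 12, 11]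
  pL := [[(1, 0), (2, 1), (3, 0), (2, 0), (4, 2), (1, 1), (4, 1), (5, 3), (5, 0), (6, 2), (2, 0), (6, 0), (6, 4), (0, 2), (0, 1), (0, 1), (7, 4), (7, 1), (8,
    5), (3, 3), (8, 3), (8, 5), (1, 0), (8, 0), (6, 6), (1, 2), (6, 2), (3, 2), (2, 6), (7, 6), (6, 4), (5, 2), (3, 1), (4, 7), (8, 4), (4, 4), (1, 7), (8,
    8), (6, 5), (6, 3), (6, 3), (5, 8), (7, 3), (5, 3), (3, 8), (2, 5), (3, 5), (1, 8), (2, 6), (4, 6), (0, 6), (0, 2), (4, 3), (8, 6), (5, 6), (6, 7), (9,
    6), (10, 6), (10, 4), (8, 1), (1, 4), (9, 7), (6, 8), (3, 4), (11, 4), (3, 4), (3, 7), (8, 7), (5, 8), (4, 8), (8, 6), (10, 6), (0, 3), (10, 3), (8,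
    3), (0, 5), (9, 8), (0, 8), (11, 3), (2, 3), (1, 3), (3, 8), (4, 3), (4, 5), (7, 8), (9, 4), (3, 6), (5, 4), (4, 8), (4, 6), (12, 7), (3, 9), (3, 6),
    (12, 10), (12, 6), (12, 10), (12, 4), (9, 4), (12, 9), (8, 11), (8, 4), (2, 4), (9, 3), (6, 8), (11, 7), (3, 5), (11, 8), (10, 8), (8, 10), (11, 10),
    (4, 9), (7, 11), (8, 9), (11, 12), (7, 9), (12, 12), (6, 10), (10, 12), (6, 12), (3, 10), (6, 10), (9, 12), (9, 9), (4, 12), (4, 9), (3, 11), (10, 11),
    (6, 9), (11, 8), (11, 11), (12, 11), (4, 10), (4, 11), (10, 12), (7, 12), (8, 11)], [(4, 0), (0, 1), (11, 0), (6, 0), (11, 2), (7, 1), (8, 1), (0, 3),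
    (3, 0), (10, 2), (1, 0), (12, 0), (8, 4), (5, 2), (1, 1), (8, 1), (11, 4), (12, 1), (4, 5), (5, 3), (11, 3), (10, 5), (8, 0), (4, 0), (3, 6), (3, 2),
    (9, 2), (7, 2), (0, 6), (3, 6), (5, 4), (4, 2), (10, 1), (10, 7), (5, 4), (6, 4), (1, 7), (6, 8), (4, 5), (6, 3), (7, 3), (8, 8), (6, 3), (6, 3), (6,
    8), (6, 5), (3, 5), (0, 8), (5, 6), (4, 6), (3, 6), (2, 2), (8, 3), (8, 6), (3, 6), (3, 7), (7, 6), (6, 6), (12, 4), (11, 1), (0, 4), (6, 7), (4, 8),
    (6, 4), (8, 4), (9, 4), (2, 7), (3, 7), (8, 8), (1, 8), (9, 6), (6, 6), (6, 3), (3, 3), (7, 3), (2, 5), (4, 8), (1, 8), (3, 3), (4, 3), (2, 3), (5, 8),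
    (9, 3), (9, 5), (9, 8), (9, 4), (8, 6), (2, 4), (3, 8), (12, 6), (11, 7), (4, 9), (4, 6), (9, 10), (6, 6), (10, 10), (12, 4), (8, 4), (10, 9), (3, 11),
    (0, 4), (3, 4), (12, 3), (10, 8), (7, 7), (8, 5), (10, 8), (12, 8), (5, 10), (8, 10), (3, 9), (4, 11), (6, 9), (11, 12), (8, 9), (4, 12), (8, 10), (4,
    12), (0, 12), (1, 10), (2, 10), (3, 12), (4, 9), (6, 12), (5, 9), (0, 11), (11, 11), (2, 9), (4, 8), (12, 11), (7, 11), (7, 10), (2, 11), (8, 12), (1,
    12), (1, 11)], [(2, 0), (8, 1), (10, 0), (3, 0), (12, 2), (5, 1), (3, 1), (7, 3), (0, 0), (8, 2), (4, 0), (9, 0), (7, 4), (0, 2), (6, 1), (4, 1), (4,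
    4), (6, 1), (12, 5), (2, 3), (6, 3), (7, 5), (6, 0), (10, 0), (12, 6), (3, 2), (11, 2), (4, 2), (5, 6), (10, 6), (5, 4), (6, 2), (9, 1), (4, 7), (1,
    4), (7, 4), (5, 7), (8, 8), (6, 5), (3, 3), (3, 3), (4, 8), (0, 3), (1, 3), (12, 8), (1, 5), (4, 5), (4, 8), (7, 6), (0, 6), (7, 6), (3, 2), (6, 3),
    (2, 6), (1, 6), (4, 7), (10, 6), (9, 6), (8, 4), (9, 1), (6, 4), (6, 7), (1, 8), (11, 4), (9, 4), (12, 4), (7, 7), (12, 7), (2, 8), (8, 8), (3, 6), (4,
    6), (8, 3), (11, 3), (2, 3), (4, 5), (3, 8), (5, 8), (9, 3), (8, 3), (8, 3), (6, 8), (10, 3), (11, 5), (8, 8), (10, 4), (1, 6), (5, 4), (8, 8), (3, 6),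
    (3, 7), (0, 9), (8, 6), (6, 10), (11, 6), (3, 10), (8, 4), (12, 4), (9, 9), (6, 11), (0, 4), (2, 4), (11, 3), (11, 8), (6, 7), (8, 5), (10, 8), (3, 8),
    (4, 10), (12, 10), (6, 9), (5, 11), (4, 9), (6, 12), (3, 9), (4, 12), (0, 10), (7, 12), (4, 12), (6, 10), (8, 10), (8, 12), (11, 9), (5, 12), (1, 9),
    (3, 11), (9, 11), (1, 9), (3, 8), (4, 11), (8, 11), (0, 10), (2, 11), (10, 12), (2, 12), (3, 11)]]
  sv := [472, 574, 938, 966, 998]
  i₀ := 0

theorem d136_ok : d136.Ok s136 :=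
  ⟨by decide +kernel, by decide +kernel, by decide +kernel, by decide +kernel, by decide +kernel, by decide +kernel,
    by decide +kernel, by decide +kernel⟩

theorem w136_ok : ∀ i, ev s136 (w136 i) 0 = i := by decide +kernel

theorem x17_ok : ∀ s i, (g17 s * x17 i).1 = (x17 (s136 s i) * g17 s).1 ∨ (x17 (s136 s i) * g17 s * x17 i).1 = (g17 s).1 := by
  decide +kernel

theorem c17_cube : c17 * c17 * c17 = x17 0 := Subtype.ext (by decide +kernel)

theorem x17_cube : x17 0 * x17 0 * x17 0 = 1 := Subtype.ext (by decide +kernel)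

theorem x17_nc : g17 0 * x17 0 ≠ x17 0 * g17 0 := fun h => absurd (congrArg Subtype.val h) (by decide +kernel)

/-- an invariant of the pair `x`, `x⁻¹` -/
def kap (x : G17) : List ℕ :=
  [(x.1 0 1 * x.1 0 1).val, (x.1 0 1 * x.1 1 0).val, (x.1 1 0 * x.1 1 0).val, (x.1 0 1 * (x.1 0 0 - x.1 1 1)).val,
    (x.1 1 0 * (x.1 0 0 - x.1 1 1)).val]

theorem kap_inv (x : G17) : kap x⁻¹ = kap x := by
  have h : (x⁻¹).1 = !![x.1 1 1, -x.1 0 1; -x.1 1 0, x.1 0 0] := Matrix.adjugate_fin_two x.1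
  have e1 : -x.1 0 1 * (x.1 1 1 - x.1 0 0) = x.1 0 1 * (x.1 0 0 - x.1 1 1) := by ring
  have e2 : -x.1 1 0 * (x.1 1 1 - x.1 0 0) = x.1 1 0 * (x.1 0 0 - x.1 1 1) := by ring
  rw [kap, h, kap, ← e1, ← e2, ← neg_mul_neg (x.1 0 1) (x.1 0 1), ← neg_mul_neg (x.1 0 1) (x.1 1 0),
    ← neg_mul_neg (x.1 1 0) (x.1 1 0)]
  rfl

theorem kap_ok : ((List.finRange 136).map fun i => kap (x17 i)).Nodup := by decide +kernel

/-- the pairs -/
def p17 (i : Fin 136) : Set G17 := {x17 i, (x17 i)⁻¹}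

theorem p17_inj : Function.Injective p17 := fun i j e =>
  List.inj_on_of_nodup_map kap_ok (List.mem_finRange i) (List.mem_finRange j) (by
    rcases (e ▸ Set.mem_insert _ _ : x17 i ∈ p17 j) with k | k
    · rw [k]
    · rw [Set.mem_singleton_iff.1 k, kap_inv])

/-- conjugation of sets -/
def cj17 : G17 →* Perm (Set G17) := (toPermHom (MulAut G17) (Set G17)).comp MulAut.conj

theorem cj17_eq {g : G17} {i j : Fin 136} (h : g * x17 i * g⁻¹ = x17 j ∨ g * x17 i * g⁻¹ = (x17 j)⁻¹) :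
    cj17 g (p17 i) = p17 j := by
  have h1 : cj17 g (p17 i) = {g * x17 i * g⁻¹, (g * x17 i * g⁻¹)⁻¹} := by
    show MulAut.conj g • p17 i = _
    rw [p17, Set.smul_set_insert, Set.smul_set_singleton, MulAut.smul_def, MulAut.smul_def, map_inv]
    rfl
  rcases h with h | h <;> rw [h1, h]
  · rfl
  · rw [inv_inv]
    exact Set.pair_comm _ _

theorem lift17 {x : G17} {k : ℤ} (h : x * x17 0 * x⁻¹ * (x17 0 ^ k)⁻¹ ∈ center G17) :
    x * x17 0 * x⁻¹ = x17 0 ∨ x * x17 0 * x⁻¹ = (x17 0)⁻¹ := by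
  have h3 : x17 0 ^ 3 = 1 := by rw [pow_three', x17_cube]
  obtain ⟨u, hu, e⟩ : ∃ u ∈ center G17, x * x17 0 * x⁻¹ = u * x17 0 ^ k := ⟨_, h, (inv_mul_cancel_right _ _).symm⟩
  have h1 : u ^ 2 = 1 := by
    obtain ⟨r, h1, h2⟩ := Matrix.SpecialLinearGroup.mem_center_iff.1 hu
    refine Subtype.ext ?_
    rw [Matrix.SpecialLinearGroup.coe_pow]
    show u.1 ^ 2 = 1
    rw [show u.1 = Matrix.scalar (Fin 2) r from h2.symm, ← map_pow, show r ^ 2 = 1 from h1, map_one]
  have h2 : u ^ 3 = 1 := by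
    have h4 := congrArg (· ^ 3) e
    simp only [conj_pow, h3, mul_one, mul_inv_cancel] at h4
    rwa [Commute.mul_pow (show Commute u _ from (mem_center_iff.1 hu _).symm), ← zpow_natCast (x17 0 ^ k), ← zpow_mul, mul_comm k,
      zpow_mul, zpow_natCast, h3, one_zpow, mul_one, eq_comm] at h4
  rw [pow_succ, h1, one_mul] at h2
  rw [h2, one_mul, zpow_eq_zpow_emod' k h3] at e
  rcases (by omega : k % (3 : ℕ) = 0 ∨ k % (3 : ℕ) = 1 ∨ k % (3 : ℕ) = 2) with k1 | k1 | k1 <;> rw [k1] at e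
  · rw [zpow_zero, mul_inv_eq_one, mul_eq_left] at e
    exact absurd (by rw [e, mul_one, one_mul]) x17_nc
  · exact Or.inl (e.trans (zpow_one _))
  · exact Or.inr (e.trans (eq_inv_of_mul_eq_one_left ((congrArg (· * x17 0) (zpow_two _)).trans x17_cube)))

end Cfsg.Agent.SM.Sy.C6

namespace Cfsg.Agent.SM.Sy

open Cfsg Equiv Subgroup MulAction C6

attribute [local instance] fact17

theorem cnt6d : Cnt6 4 2448 136 := cnt6_of (by norm_num) fun Ω _ _ X H T M S u hT hn => by
  obtain ⟨a⟩ : Nonempty Ω := Fintype.card_pos_iff.1 (by omega)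
  have := u.socH.simple
  obtain ⟨e⟩ := S1020.result hT (F := ZMod 17) (ZMod.card 17)
  let π : G17 →* T := e.symm.toMonoidHom.comp (QuotientGroup.mk' _)
  have hπ : ∀ x, π x = 1 → x ∈ center G17 := fun x hx =>
    (QuotientGroup.eq_one_iff x).1 (e.symm.injective (hx.trans (map_one _).symm))
  have h3 : π c17 ^ 3 = π (x17 0) := by rw [← map_pow, pow_three', c17_cube]
  have := Fact.mk Nat.prime_three
  have hc : orderOf (π c17) = 3 ^ 2 := orderOf_eq_prime_pow (n := 1) (fun k => x17_nc (mem_center_iff.1 (hπ _ (h3 ▸ k)) _))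
    (by rw [show 3 ^ (1 + 1) = 3 * 3 from rfl, pow_mul, h3, ← map_pow, pow_three', x17_cube, map_one])
  have h5 := card_St T.subtype a fun b => let ⟨t, ht, e⟩ := u.trans a b; ⟨⟨t, ht⟩, e⟩
  rw [hn, hT] at h5
  have h6 : Nat.card (St T.subtype a) = 18 := by omega
  obtain ⟨C, hC⟩ := Sylow.exists_subgroup_card_pow_prime (G := St T.subtype a) 3 (n := 2) (by rw [h6]; norm_num)
  have hN : C.Normal := normal_of_index_eq_two (by
    have := C.card_mul_index
    rw [hC, h6] at this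
    omega)
  obtain ⟨g, hg⟩ := conj_syl (p := 3) (k := 2) (by rw [hT]; norm_num)
    ((card_map_of_injective (St T.subtype a).subtype_injective).trans hC) (D := zpowers (π c17)) (by rw [Nat.card_zpowers, hc])
  obtain ⟨β, hβ⟩ := exists_lab (T.subtype.comp π) cj17 hn p17_inj (g := g17) (σ := s136)
    (fun s i => cj17_eq ((x17_ok s i).imp (fun k => mul_inv_eq_iff_eq_mul.2 (Subtype.ext k)) fun k =>
      eq_inv_of_mul_eq_one_right (by rw [← mul_assoc, ← mul_assoc, Subtype.ext k, mul_inv_cancel]))) w136 w136_ok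
    (a := T.subtype g a) fun x hx => cj17_eq (by
      obtain ⟨y, hy, e1⟩ := (hg _).1 (mem_zpowers (π c17))
      obtain ⟨k, hk⟩ := mem_zpowers_iff.1 ((hg (π x * π c17 * (π x)⁻¹)).2
        ⟨_, hN.conj_mem y hy ⟨_, (mem_St' (ρ := T.subtype)).1 hx⟩, by
          show g⁻¹ * π x * g * (St T.subtype a).subtype y * (g⁻¹ * π x * g)⁻¹ = _
          rw [e1]
          group⟩)
      refine lift17 (k := k) (hπ _ ?_)
      rw [map_mul, map_mul, map_mul, map_inv, map_inv, map_zpow, ← h3, ← conj_pow, ← hk, ← zpow_natCast, ← zpow_natCast,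
        ← zpow_mul, ← zpow_mul, mul_comm k, mul_inv_cancel])
  exact row_of β (fun s => u.socH.le (π (g17 s)).2) hβ d136_ok

end Cfsg.Agent.SM.Sy
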