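import Cfsg.Agent.SM.Sy.C6C

/-!
# SM (S3570), symplectic socles, the row `A₁₀ < Sp₈(2)` of degree 120 (helper42)
-/

set_option autoImplicit false
set_option linter.unusedVariables false
set_option linter.unusedSectionVars false

namespace Cfsg.Agent.SM.Sy.C6

open Cfsg Equiv Subgroup MulAction
open scoped Pointwise

/-- transpositions -/
def sw10 (s : Fin 9) : List (Fin 10 × Fin 10) := List.getD [[(0, 1), (1, 2)], [(1, 2), (2, 3), (3, 4), (4, 5), (5, 6), (6, 7), (7, 8), (8, 9)], [(0, 1), (2, 3)], [(0, 1), (4, 5)], [(0, 1), (6, 7)], [(0, 1), (8,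
    9)], [(0, 2), (1, 3)], [(4, 6), (5, 7)], [(0, 4), (1, 5), (2, 6), (3, 7)]] s []

/-- nine even permutations -/
def g10 (s : Fin 9) : Perm (Fin 10) := ((sw10 s).map fun p => swap p.1 p.2).prod

/-- their tables -/
def t10 : Fin 9 → Fin 10 → Fin 10 := tb 10 [42649378395939397435905, 4888965617228783485440, 42649378395939380854785, 42649378394844180905985, 42649306619820336349185, 37945458657143461904385,
    42649378395939363881730, 42649233720008981479680, 42649089035248180004100]

theorem g10_eq : ∀ s x, g10 s x = t10 s x := by decide +kernel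

theorem sw10_ok : ∀ s, (∀ p ∈ sw10 s, p.1 ≠ p.2) ∧ Even (sw10 s).length := by decide +kernel

theorem g10_mem (s : Fin 9) : g10 s ∈ alternatingGroup (Fin 10) := by
  rw [Perm.mem_alternatingGroup, g10, Perm.sign_prod_list_swap, List.length_map, (sw10_ok s).2.neg_one_pow]
  intro g hg
  obtain ⟨p, hp, rfl⟩ := List.mem_map.1 hg
  exact ⟨p.1, p.2, (sw10_ok s).1 p hp, rfl⟩

/-- the triples -/
def m120 (i : Fin 120) : ℕ := List.getD [7, 13, 11, 112, 25, 14, 208, 21, 176, 224, 26, 49, 22, 42, 73, 145, 28, 416, 19, 41, 38, 69, 81, 352, 448, 52, 74, 161, 50, 97, 193, 44, 37, 70, 84,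
    138, 162, 148, 146, 289, 82, 56, 76, 832, 400, 672, 266, 35, 67, 137, 134, 98, 704, 336, 608, 262, 896, 304, 268, 104, 196, 164, 321, 100, 194, 385,
    88, 140, 133, 168, 276, 324, 296, 152, 292, 290, 577, 274, 546, 200, 131, 642, 784, 772, 800, 656, 265, 322, 522, 532, 261, 521, 273, 386, 560, 524,
    592, 518, 517, 770, 776, 259, 536, 392, 328, 641, 578, 388, 769, 280, 552, 648, 580, 584, 548, 545, 529, 644, 530, 515] i 0

/-- the action -/
def s120 : Fin 9 → Fin 120 → Fin 120 := tb 120 
    [3705856096983617735600885022488465949761783239953273240986656071216913375823053456621930145637753445799267681377257540484391687800349628081430565379073104193668844624521443015574224668685823325681438523459586388408492599256309135240994096902797639571512454510728828818073605575673913868800,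
    3000860721737556878861137844681365653989303865330000665639355714036451978189901578431163034198113166080435581535355433788825453609661382038023817017627901796156548005959234204791910665804034353595951583877667569583466819469453183533542258247581539633316981839580119177441370138579764225,
    4547362450686901188406310089219291042275654126652231888148739896492315754410974320249473765287747411687908632242001101406279352500729875741939946766677852978912102394845320810731109815032223313840967346863853825625772079195057023646702762035333651042096935144785939880789666975302086034690,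
    4547217143785428824174300289888643764218093850266223125203139381600349269451737381664361409291061823526920815595139037478026911275746987045676965705894472440622295266216001148061590722709746064739652083065635802241735146850776747955964975075370219385308468841942458771911771018213319640320,
    4547363031553019418643381557815089392787620887270753935580537816711853844173509201508524093608482845769284046838469516374683719412667495234726643997484360429596814895939723536708056269729686047492333112227955337671736870189796028078791208570342035304344937209001306144606178871673868125440,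
    3858573802158918046245062719709456823828361728231533899550461667382371464838008102433569709834940472841582088323594882187177621919355513706341162375476223539260565464852316514982413003154699942505016846369328083210023523928422253244347662695944774448487284099243811732702112273195679745280,
    3631653887768430343961894352204746146423217537486364850438616778389116209952308679860111026316046282493199547946464762288249862436278943337286648312679832760526696827848225381967959482440565240013191451283203692095466595926796879324919360631310916878012124822811510432063279949760497516545,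
    4545877081317588605123646426836870037897807883986525138674121577496086183111313650115006405090875892955277195612309416088455516762079396813829137003926372293023838024440605446212272434598834498253322242379271535653725336411873965310890992623462891691733535340814412133762908008679611695360,
    3595524085118611175264374610864190271073290568482313333814280569753409834935867856950172253305330028367309756378229070918003740269119557579486949675007646965043864421639699699886695550558711371677866625558691403966206849189075861028320746666821084571376791794780425049702698376829440886275]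

/-- words which move `0` -/
def w120 (i : Fin 120) : List (Fin 9) := wd 9 [[], [1], [2], [8], [1, 1], [2, 1], [8, 1], [1, 2], [8, 2], [1, 8], [0, 1, 1], [1, 1, 1], [2, 1, 1], [3, 1, 1], [7, 1, 1], [8, 1, 1], [1, 2, 1], [1, 8,
    1], [0, 1, 2], [1, 1, 2], [3, 1, 2], [7, 1, 2], [8, 1, 2], [1, 8, 2], [1, 1, 8], [1, 0, 1, 1], [7, 0, 1, 1], [8, 0, 1, 1], [0, 1, 1, 1], [1, 1, 1, 1],
    [7, 1, 1, 1], [1, 2, 1, 1], [3, 2, 1, 1], [7, 2, 1, 1], [1, 3, 1, 1], [7, 3, 1, 1], [8, 3, 1, 1], [8, 7, 1, 1], [0, 8, 1, 1], [1, 8, 1, 1], [4, 8, 1,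
    1], [1, 1, 2, 1], [7, 1, 2, 1], [1, 1, 8, 1], [3, 1, 8, 1], [5, 1, 8, 1], [8, 1, 8, 1], [3, 0, 1, 2], [7, 0, 1, 2], [7, 1, 1, 2], [7, 3, 1, 2], [8, 3,
    1, 2], [1, 1, 8, 2], [3, 1, 8, 2], [5, 1, 8, 2], [8, 1, 8, 2], [1, 1, 1, 8], [7, 1, 1, 8], [8, 1, 1, 8], [1, 1, 0, 1, 1], [7, 1, 0, 1, 1], [8, 7, 0, 1,
    1], [1, 8, 0, 1, 1], [1, 0, 1, 1, 1], [7, 0, 1, 1, 1], [1, 7, 1, 1, 1], [1, 1, 2, 1, 1], [7, 1, 2, 1, 1], [7, 3, 2, 1, 1], [1, 1, 3, 1, 1], [1, 7, 3,
    1, 1], [1, 8, 3, 1, 1], [1, 8, 7, 1, 1], [2, 8, 7, 1, 1], [1, 0, 8, 1, 1], [0, 1, 8, 1, 1], [1, 1, 8, 1, 1], [3, 1, 8, 1, 1], [5, 1, 8, 1, 1], [7, 1,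
    1, 2, 1], [8, 1, 1, 2, 1], [1, 1, 1, 8, 1], [7, 1, 1, 8, 1], [8, 1, 1, 8, 1], [1, 3, 1, 8, 1], [5, 3, 1, 8, 1], [8, 3, 1, 8, 1], [1, 5, 1, 8, 1], [8,
    5, 1, 8, 1], [1, 8, 1, 8, 1], [2, 8, 1, 8, 1], [5, 8, 1, 8, 1], [1, 7, 1, 1, 2], [1, 1, 1, 8, 2], [7, 1, 1, 8, 2], [8, 1, 1, 8, 2], [5, 3, 1, 8, 2],
    [8, 5, 1, 8, 2], [5, 8, 1, 8, 2], [1, 1, 1, 1, 8], [8, 1, 1, 1, 8], [8, 7, 1, 1, 8], [1, 8, 1, 1, 8], [1, 7, 1, 0, 1, 1], [1, 8, 7, 0, 1, 1], [1, 1, 8,
    0, 1, 1], [5, 1, 8, 0, 1, 1], [1, 7, 0, 1, 1, 1], [1, 1, 7, 1, 1, 1], [8, 1, 7, 1, 1, 1], [1, 1, 7, 3, 1, 1], [1, 1, 8, 3, 1, 1], [5, 1, 8, 3, 1, 1],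
    [1, 1, 0, 8, 1, 1], [5, 1, 0, 8, 1, 1], [5, 0, 1, 8, 1, 1], [7, 1, 1, 8, 1, 1], [0, 1, 1, 1, 8, 1], [5, 1, 7, 1, 1, 2], [8, 7, 1, 1, 8, 2]] i

/-- the data -/
def d120 : Dat 120 9 7 where
  yw j := wd 9 [[2], [3], [4], [5], [6], [7], [8]] j
  τ := tb 120 
    [4547362450686901188406310089219291042275654126652231888148739896492315754410974320249473765287747411687908632242001101406279352500729875741939946766677852978912102394845320810731109815032223313840967346863853825625772079195057023646702762035333651042096935144785939880789666975302086034690,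
    4547217143785428824174300289888643764218093850266223125203139381600349269451737381664361409291061823526920815595139037478026911275746987045676965705894472440622295266216001148061590722709746064739652083065635802241735146850776747955964975075370219385308468841942458771911771018213319640320,
    4547363031553019418643381557815089392787620887270753935580537816711853844173509201508524093608482845769284046838469516374683719412667495234726643997484360429596814895939723536708056269729686047492333112227955337671736870189796028078791208570342035304344937209001306144606178871673868125440,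
    3858573802158918046245062719709456823828361728231533899550461667382371464838008102433569709834940472841582088323594882187177621919355513706341162375476223539260565464852316514982413003154699942505016846369328083210023523928422253244347662695944774448487284099243811732702112273195679745280,
    3631653887768430343961894352204746146423217537486364850438616778389116209952308679860111026316046282493199547946464762288249862436278943337286648312679832760526696827848225381967959482440565240013191451283203692095466595926796879324919360631310916878012124822811510432063279949760497516545,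
    4545877081317588605123646426836870037897807883986525138674121577496086183111313650115006405090875892955277195612309416088455516762079396813829137003926372293023838024440605446212272434598834498253322242379271535653725336411873965310890992623462891691733535340814412133762908008679611695360,
    3595524085118611175264374610864190271073290568482313333814280569753409834935867856950172253305330028367309756378229070918003740269119557579486949675007646965043864421639699699886695550558711371677866625558691403966206849189075861028320746666821084571376791794780425049702698376829440886275]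
  sq j := wd 7 [[], [], [], [], [], [], []] j
  cj j l := wd 7 [[], [], [], [], [], [], [], [0], [], [], [], [], [], [], [0], [1], [], [], [], [], [], [0], [1], [2], [], [], [], [], [0], [1, 0], [2, 0], [3, 0], [],
    [], [], [0], [2], [1], [3], [4], [], [], [2, 1], [1], [1, 0], [3, 1], [5], [4], []] (7 * j + l)
  R := 7
  o i := 153016955601792264971847686207134099636250982128480631923424552657578337766002497481191708459716073522552872835966874128288616667873111039713602496324208261571127514188352800161881572719434915385268598330477611127426957189615711065791053245440247295261849733387074644501883052078695186432 >>> (8 * i.val) % 256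
  rep j := pk 120 12146408317191168 j
  u i := wd 7 [[], [4], [0], [6], [], [4, 0], [6, 4], [2, 0], [6, 0], [6, 4, 0], [2], [], [0], [1], [5], [6], [6, 5], [], [6], [2, 1], [2, 1, 0], [5, 2, 0], [6, 2,
    0], [2], [], [4], [5, 2], [6, 2], [0], [6, 0], [5], [6, 5, 0], [1, 0], [5, 0], [2, 6, 5], [5, 1], [6, 1], [6, 5], [0, 6], [], [2, 6], [4, 0], [6, 5,
    4], [], [1], [3], [6], [6, 0], [6, 4], [5, 2, 1], [5, 2, 1, 0], [0, 6, 0], [3], [2, 1], [3, 2], [6, 2], [2], [5], [6], [0, 6, 5, 0], [5, 4], [6, 5, 2],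
    [5, 1, 0], [6, 5, 0], [5, 0], [5], [4, 2, 6], [6, 5, 4, 0], [5, 1, 0], [6, 5, 1], [1, 4], [5, 1, 4], [4, 0], [0, 6, 5], [4], [0], [5, 3, 1], [1], [3],
    [5, 4, 0], [6, 4, 0], [5, 3], [5], [6], [5, 2], [3, 1], [6, 1], [5, 1], [6, 3], [4, 3, 1], [0, 6], [3, 6], [1, 0], [5, 0], [5, 3], [6, 3], [3, 2, 1],
    [6, 3, 2], [3, 6, 2], [6, 5, 2], [6, 2], [6, 5], [3, 4, 1], [5, 4, 0], [5, 4, 1], [5, 3, 0], [6, 3, 4], [5, 4], [6, 5], [4, 1], [4, 3], [5, 4, 3], [5,
    4, 3, 1], [5, 3, 4, 1], [3, 4], [3, 0], [3, 1], [5, 3, 4], [3, 1, 0], [6, 5, 3]] i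
  tw := [[0], [1]]
  oL := [0, 0, 0, 0, 1, 0, 0, 1, 0, 0, 1, 2, 1, 1, 1, 1, 2, 3, 2, 1, 1, 1, 1, 3, 4, 2, 1, 1, 2, 1, 2, 2, 1, 1, 1, 1, 1, 1, 1, 5, 1, 2, 2, 6, 3, 3, 3, 2, 2, 1,
    1, 1, 4, 3, 3, 3, 6, 4, 4, 1, 2, 1, 5, 1, 2, 5, 1, 2, 1, 1, 5, 5, 5, 1, 5, 5, 5, 5, 5, 2, 2, 5, 6, 6, 6, 3, 3, 5, 3, 5, 3, 3, 5, 5, 4, 4, 3, 3, 3, 6,
    6, 4, 5, 5, 5, 5, 5, 5, 6, 5, 5, 5, 5, 5, 5, 5, 5, 5, 5, 4]
  pL := [[(0, 0), (0, 0), (0, 0), (0, 0), (1, 1), (0, 0), (0, 0), (2, 1), (0, 0), (0, 0), (2, 1), (2, 2), (1, 1), (2, 1), (1, 1), (1, 1), (1, 2), (3, 3), (1,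
    2), (1, 1), (1, 1), (2, 1), (1, 1), (3, 3), (4, 4), (2, 2), (2, 1), (1, 1), (2, 2), (1, 1), (2, 2), (1, 2), (2, 1), (1, 1), (1, 1), (2, 1), (1, 1), (1,
    1), (1, 1), (5, 5), (1, 1), (2, 2), (1, 2), (6, 6), (3, 3), (3, 3), (4, 3), (1, 2), (1, 2), (1, 1), (1, 1), (1, 1), (4, 4), (3, 3), (3, 3), (3, 3), (6,
    6), (4, 4), (3, 4), (1, 1), (2, 2), (1, 1), (5, 5), (1, 1), (2, 2), (5, 5), (1, 1), (1, 2), (2, 1), (1, 1), (5, 5), (5, 5), (5, 5), (1, 1), (5, 5), (5,
    5), (5, 5), (5, 5), (5, 5), (2, 2), (1, 2), (5, 5), (6, 6), (6, 6), (6, 6), (3, 3), (3, 3), (5, 5), (4, 3), (5, 5), (4, 3), (3, 3), (5, 5), (5, 5), (4,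
    4), (3, 4), (3, 3), (3, 3), (4, 3), (6, 6), (6, 6), (3, 4), (5, 5), (5, 5), (5, 5), (5, 5), (5, 5), (5, 5), (6, 6), (5, 5), (5, 5), (5, 5), (5, 5), (5,
    5), (5, 5), (5, 5), (5, 5), (5, 5), (5, 5), (3, 4)], [(0, 0), (1, 0), (1, 0), (0, 0), (2, 1), (2, 0), (3, 0), (1, 1), (3, 0), (4, 0), (2, 1), (1, 2),
    (2, 1), (1, 1), (1, 1), (5, 1), (2, 2), (6, 3), (1, 2), (1, 1), (2, 1), (1, 1), (1, 1), (4, 3), (6, 4), (1, 2), (1, 1), (5, 1), (1, 2), (2, 1), (5, 2),
    (1, 2), (1, 1), (2, 1), (1, 1), (5, 1), (5, 1), (5, 1), (5, 1), (5, 5), (1, 1), (0, 2), (1, 2), (5, 6), (6, 3), (5, 3), (5, 3), (1, 2), (1, 2), (5, 1),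
    (4, 1), (2, 1), (5, 4), (3, 3), (2, 3), (4, 3), (6, 6), (3, 4), (5, 4), (0, 1), (5, 2), (5, 1), (5, 5), (2, 1), (5, 2), (6, 5), (0, 1), (5, 2), (3, 1),
    (3, 1), (5, 5), (5, 5), (3, 5), (4, 1), (5, 5), (5, 5), (2, 5), (5, 5), (1, 5), (3, 2), (3, 2), (3, 5), (5, 6), (3, 6), (5, 6), (5, 3), (5, 3), (5, 5),
    (1, 3), (1, 5), (3, 3), (2, 3), (5, 5), (6, 5), (1, 4), (1, 4), (1, 3), (0, 3), (0, 3), (3, 6), (5, 6), (3, 4), (2, 5), (6, 5), (3, 5), (4, 5), (1, 5),
    (6, 5), (4, 6), (4, 5), (1, 5), (5, 5), (1, 5), (1, 5), (1, 5), (2, 5), (2, 5), (3, 5), (1, 5), (0, 4)]]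
  sv := [56, 70]
  i₀ := 0

theorem d120_ok : d120.Ok s120 :=
  ⟨by decide +kernel, by decide +kernel, by decide +kernel, by decide +kernel, by decide +kernel, by decide +kernel,
    by decide +kernel, by decide +kernel⟩

theorem w120_ok : ∀ i, ev s120 (w120 i) 0 = i := by decide +kernel

theorem m120_ok : ∀ s i x, (m120 (s120 s i)).testBit (t10 s x) = (m120 i).testBit x := by decide +kernel

theorem m120_zero : ∀ x : Fin 10, (m120 0).testBit x = true ↔ x ∈ ({0, 1, 2} : Finset (Fin 10)) := by decide +kernel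

variable {Ω : Type} [Fintype Ω] [DecidableEq Ω] {X H T M S : Subgroup (Perm Ω)}

theorem triple (u : Up X H T M S) (hT : Nat.card T = 1814400) (hn : Fintype.card Ω = 120) (a : Ω) :
    ∃ (φ : H →* Perm (Fin 10)) (A : Finset (Fin 10)), (∀ g ∈ alternatingGroup (Fin 10), ∃ x, φ x = g) ∧ A.card = 3 ∧
      ∀ x : H, (x : Perm Ω) a = a → ∀ z, φ x z ∈ A ↔ z ∈ A := by
  have h1 : Nat.card (alternatingGroup (Fin 10)) = 1814400 := by
    have := Alt.two_card_alt (Δ := Fin 10) (by simp)
    rw [Fintype.card_fin, show Nat.factorial 10 = 3628800 from rfl] at this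
    omega
  obtain ⟨e⟩ := iso_of_card u.socH.simple (alternatingGroup.isSimpleGroup (by simp)) (hT.trans h1.symm) (by rw [h1]; norm_num)
    (by rw [h1]; norm_num) (by rw [h1]; norm_num) (by rw [h1]; norm_num)
  have hN := u.socH.toNor.normal
  obtain ⟨φ, hφ⟩ := H600.KSix.exists_emb (n := 10) (by norm_num) (T.subgroupOf H) ((subgroupOfEquivOfLe u.socH.le).trans e)
    (eq_bot_iff.2 fun g hg => mem_bot.2 (Subtype.ext (u.socH.cen g g.2 fun t ht =>
      (congrArg Subtype.val (hg ⟨t, u.socH.le ht⟩ ht)).symm)))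
  have mem : ∀ {K : Subgroup (Perm Ω)} (x : H), φ x ∈ Alt.im φ K ↔ (x : Perm Ω) ∈ K := fun x =>
    ⟨fun ⟨_, h, e⟩ => hφ.inj e ▸ h, fun h => ⟨x, h, rfl⟩⟩
  have h2 : Alt.im φ T = alternatingGroup (Fin 10) := by
    have k1 : Nat.card (Alt.im φ T) = 1814400 :=
      ((card_map_of_injective hφ.inj).trans (Nat.card_congr (subgroupOfEquivOfLe u.socH.le).toEquiv)).trans hT
    have k2 := (Alt.im φ T).card_mul_index
    rw [k1, Nat.card_perm, Nat.card_fin, show Nat.factorial 10 = 3628800 from rfl] at k2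
    exact Perm.eq_alternatingGroup_of_index_eq_two (by omega)
  have h3 : Alt.im φ (H ⊓ stabilizer (Perm Ω) a) ⋖ Alt.im φ H :=
    covBy_map hφ.inj (covBy_subgroupOf (stab_covBy u.prim u.two a) le_rfl)
  have h4 : alternatingGroup (Fin 10) ≤ Alt.im φ H := fun g hg => let ⟨x, e⟩ := hφ.alt g hg; ⟨x, x.2, e⟩
  have h5 := card_St T.subtype a fun b => let ⟨t, ht, e⟩ := u.trans a b; ⟨⟨t, ht⟩, e⟩
  rw [hn, hT] at h5
  have := Fact.mk Nat.prime_seven
  obtain ⟨t, ht⟩ := exists_prime_orderOf_dvd_card' (G := St T.subtype a) 7 (by omega)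
  obtain ⟨A, h0, h6, h7⟩ := Alt.exists_set (Z := Alt.im φ (H ⊓ stabilizer (Perm Ω) a)) (p := 7)
    (fun k => u.socH.not_le_stab u.prim u.two a fun x hx => ((mem ⟨x, u.socH.le hx⟩).1 (k (h2.le ((mem _).2 hx)))).2)
    Nat.prime_seven (by
      have k1 : φ ⟨t.1.1, u.socH.le t.1.2⟩ ∈ alternatingGroup (Fin 10) ⊓ Alt.im φ (H ⊓ stabilizer (Perm Ω) a) :=
        ⟨h2.le ((mem _).2 t.1.2), (mem _).2 ⟨u.socH.le t.1.2, t.2⟩⟩
      have k2 := Subgroup.orderOf_dvd_natCard _ k1
      rwa [orderOf_injective φ hφ.inj, ← Subgroup.orderOf_coe, Subgroup.orderOf_coe t.1, Subgroup.orderOf_coe t, ht] at k2)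
    (by simp) (by simp) (Or.inl (by simp))
  have h8 := Alt.stab_iff h4 h3 (by simp) h0 h6 h7
  refine ⟨φ, A, hφ.alt, ?_, fun x hx => h7 _ ((mem x).2 ⟨x.2, hx⟩)⟩
  rw [Fintype.card_fin] at h6
  have k1 := card_St H.subtype a fun b => let ⟨t, ht, e⟩ := u.trans a b; ⟨⟨t, u.socH.le ht⟩, e⟩
  have k2 := card_orb ((toPermHom (Perm (Fin 10)) (Finset (Fin 10))).comp φ) A (Finset.powersetCard A.card Finset.univ) fun b => by
    rw [Finset.mem_powersetCard_univ]
    refine ⟨fun k => ?_, ?_⟩
    · obtain ⟨g, hg, e⟩ := H454.Reg.Alt.trans_alt (s := A) (t := b) k.symm (by rw [Fintype.card_fin]; omega)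
      obtain ⟨x, rfl⟩ := hφ.alt g hg
      refine ⟨x, Finset.eq_of_subset_of_card_le (fun y hy => ?_) (k.trans (Finset.card_smul_finset (φ x) A).symm).le⟩
      obtain ⟨z, hz, rfl⟩ := Finset.mem_smul_finset.1 hy
      exact e z hz
    · rintro ⟨x, rfl⟩
      exact Finset.card_smul_finset (φ x) A
  have k3 : St ((toPermHom (Perm (Fin 10)) (Finset (Fin 10))).comp φ) A = St H.subtype a := by
    ext x
    refine ⟨fun k => ((mem x).1 ((h8 _).2 ⟨(mem x).2 x.2, H454.Reg.Alt.mem_stab_of fun z hz => ?_⟩)).2, fun k => ?_⟩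
    · exact (show φ x • A = A from k) ▸ Finset.smul_mem_smul_finset hz
    · refine Finset.eq_of_subset_of_card_le (fun y hy => ?_) (Finset.card_smul_finset (φ x) A).ge
      obtain ⟨z, hz, rfl⟩ := Finset.mem_smul_finset.1 hy
      exact (h7 _ ((mem x).2 ⟨x.2, k⟩) z).2 hz
  rw [k3, ← k1, hn, Finset.card_powersetCard, Finset.card_univ, Fintype.card_fin] at k2
  have k4 := Nat.eq_of_mul_eq_mul_left Nat.card_pos k2
  have k5 : A.card ≤ 5 := by omega
  generalize A.card = j at k4 k5
  interval_cases j <;> first | rfl | exact absurd k4 (by decide)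

end Cfsg.Agent.SM.Sy.C6

namespace Cfsg.Agent.SM.Sy

open Cfsg Equiv Subgroup MulAction C6

theorem cnt6c : Cnt6 4 1814400 120 := cnt6_of (by norm_num) fun Ω _ _ X H T M S u hT hn => by
  obtain ⟨a⟩ : Nonempty Ω := Fintype.card_pos_iff.1 (by omega)
  obtain ⟨φ, A, h1, h2, h3⟩ := triple u hT hn a
  choose g hg using fun s => h1 _ (g10_mem s)
  obtain ⟨z, hz, e⟩ := H454.Reg.Alt.trans_alt (s := A) (t := {0, 1, 2}) h2 (by rw [h2]; decide)
  obtain ⟨w, rfl⟩ := h1 z hz
  have h4 : ∀ x, φ w x ∈ Ms 10 (m120 0) ↔ x ∈ A := fun x => by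
    have h5 : A.map (φ w).toEmbedding = {0, 1, 2} := Finset.eq_of_subset_of_card_le (fun y hy => by
      obtain ⟨x, hx, rfl⟩ := Finset.mem_map.1 hy
      exact e x hx) (by rw [Finset.card_map, h2]; decide)
    exact (m120_zero _).trans (h5 ▸ Finset.mem_map' (φ w).toEmbedding)
  obtain ⟨β, hβ⟩ := exists_lab H.subtype ((onSet 10).comp φ) hn (ms_inj (N := m120) (by decide +kernel)) (g := g) (σ := s120)
    (fun s i => ms_map fun x => by rw [hg, g10_eq, m120_ok]) w120 w120_ok (a := H.subtype w a) fun x hx =>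
      onSet_eq ((φ w).surjective.forall.2 fun y => by
        rw [h4, ← h3 (w⁻¹ * x * w) (mem_St'.1 hx) y, ← h4, ← Perm.mul_apply (φ w), ← map_mul, mul_assoc, mul_inv_cancel_left,
          map_mul, Perm.mul_apply])
  exact row_of β (fun s => (g s).2) hβ d120_ok

end Cfsg.Agent.SM.Sy
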