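import Cfsg.Agent.SM.Sy.Api
import Cfsg.Agent.SM.Sy.Red
import Cfsg.Agent.SM.Ex78.Base
import Cfsg.Agent.H925.Rs.Ded
import Cfsg.Agent.H925.Rs.Row
import Cfsg.Agent.H803.Rs.Gd

/-!
# SM (S3570), symplectic socles, `m ≥ 5`: factorisations `Sp = X Y` (helper92)

One of the factors contains `Ω(Q)`, or is reducible and has an element with a fixed plane and an irreducible complement.
-/

set_option autoImplicit false
set_option linter.unusedSectionVars false
set_option linter.unusedVariables false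

namespace Cfsg.Agent.SM.Sy.CLa

open Cfsg Subgroup Module QuadraticMap
open Cfsg.Agent.H925.Rs Cfsg.Agent.H884.El Cfsg.Agent.H449.Reg
open Cfsg.Agent.LieClassical.OrthCore (O E)
open Cfsg.Agent.H951 (fx cm Inv)

variable {m : ℕ} {F : Type} [Field F] [Fintype F] {X Y Z : Subgroup (GG m F)} {p f k : ℕ}

/-- `Sp = X Y` -/
structure Pr (X Y : Subgroup (GG m F)) : Prop where
  leX : X ≤ Sp m F
  leY : Y ≤ Sp m F
  neX : X ≠ Sp m F
  neY : Y ≠ Sp m F
  fac : ∀ g ∈ Sp m F, ∃ x ∈ X, ∃ y ∈ Y, g = x * y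

theorem Pr.symm (h : Pr X Y) : Pr Y X :=
  ⟨h.leY, h.leX, h.neY, h.neX, fun g hg => by
    obtain ⟨x, hx, y, hy, e⟩ := h.fac _ (inv_mem hg)
    exact ⟨y⁻¹, inv_mem hy, x⁻¹, inv_mem hx, by rw [← mul_inv_rev, ← e, inv_inv]⟩⟩

theorem Pr.pd (h : Pr X Y) : Ex78.Pd (X.subgroupOf (Sp m F)) (Y.subgroupOf (Sp m F)) := fun g => by
  obtain ⟨x, hx, y, hy, e⟩ := h.fac g.1 g.2
  exact ⟨⟨x, h.leX hx⟩, hx, ⟨y, h.leY hy⟩, hy, Subtype.ext e⟩

/-- a primitive prime for `k` divides the order -/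
def Has (Z : Subgroup (GG m F)) (k : ℕ) : Prop := ∃ t, PP (Nat.card F) k t ∧ t ∣ Nat.card Z

/-- the list -/
def Ls (Z : Subgroup (GG m F)) (k : ℕ) : Prop :=
  RedG Z ∨ (∃ s, s.Prime ∧ s ∣ Nat.gcd (2 * m) k ∧ AExt s Z) ∨ OmE (ff m F) Z

/-- the good factors -/
def Good (Z : Subgroup (GG m F)) : Prop := OmE (ff m F) Z ∨ (RedG Z ∧ Has Z (2 * (m - 1)))

theorem nd : ∀ x : VV m F, (∀ y, ff m F x y = 0) → x = 0 := fun _ h => ff_nd h

theorem dvd_Sp {t a i : ℕ} (hi : 1 ≤ i) (him : i ≤ m) (h : t ^ a ∣ Nat.card F ^ (2 * i) - 1) : t ^ a ∣ Nat.card (Sp m F) := by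
  rw [card_Isos ff_self nd finrank_VV, ← Nat.card_eq_fintype_card]
  refine Dvd.dvd.mul_left (h.trans ?_) _
  have h1 := Finset.dvd_prod_of_mem (fun i => Nat.card F ^ (2 * (i + 1)) - 1) (Finset.mem_range.2 (by omega : i - 1 < m))
  rwa [Nat.sub_add_cancel hi] at h1

theorem Pr.or (h : Pr X Y) {t i : ℕ} (ht : PP (Nat.card F) k t) (hk : k ∣ 2 * i) (hi : 1 ≤ i) (him : i ≤ m) :
    t ∣ Nat.card X ∨ t ∣ Nat.card Y := by
  have h1 := dvd_Sp (F := F) (t := t) (a := 1) hi him (by rw [pow_one]; exact (ht.dvd_iff (one_lt_q F).le _).2 hk)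
  have h2 := h.pd.prime_dvd ht.prime (by rwa [pow_one] at h1)
  rwa [Nat.card_congr (subgroupOfEquivOfLe h.leX).toEquiv, Nat.card_congr (subgroupOfEquivOfLe h.leY).toEquiv] at h2

theorem pp2 {t : ℕ} (hF : Nat.card F = 2) (h : PP 2 k t) : PP (Nat.card F) k t := hF.symm ▸ h

theorem exists_pp (hk : 3 ≤ k) (h6 : k ≠ 6) : ∃ t, PP (Nat.card F) k t := by
  obtain ⟨t, h1, h2⟩ := Lib.Zsigmondy.exists_prime_orderOf (a := Nat.card F) (n := k) (one_lt_q F) (by omega) (by omega)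
    fun h => h6 h.2
  exact ⟨t, h1, h2⟩

theorem Pr.has (h : Pr X Y) {i : ℕ} (h3 : 3 ≤ k) (h6 : k ≠ 6) (hk : k ∣ 2 * i) (hi : 1 ≤ i) (him : i ≤ m) : Has X k ∨ Has Y k := by
  obtain ⟨t, ht⟩ := exists_pp (F := F) h3 h6
  exact (h.or ht hk hi him).imp (fun h => ⟨t, ht, h⟩) fun h => ⟨t, ht, h⟩

theorem exists_ord {t a : ℕ} (ht : PP (Nat.card F) k t) (hk : 2 ≤ k) (hmk : m < k) (h : t ^ a ∣ Nat.card Z) :
    ∃ g ∈ Z, orderOf g = t ^ a := by
  have := finite_end (F := F) (V := VV m F)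
  have := Fact.mk ht.prime
  obtain ⟨P, hP⟩ := Sylow.exists_subgroup_card_pow_prime t h
  have hc : IsCyclic P := cyc_of ht hk (by rw [finrank_VV (m := m)]; omega) (IsPGroup.of_card hP) (Z.subtype.comp P.subtype)
    fun x y h => Subtype.ext (Subtype.ext h)
  obtain ⟨g, hg⟩ := IsCyclic.exists_ofOrder_eq_natCard (α := P)
  exact ⟨g.1.1, g.1.2, by rw [orderOf_coe, orderOf_coe, hg, hP]⟩

theorem Pr.ls (h : Pr X Y) (hP : H659.CovCore.S5948Stmt.{0}) (hp : p.Prime) (hf : 1 ≤ f) (hF : Nat.card F = p ^ f) (hm : 5 ≤ m)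
    {i r a : ℕ} (hmi : m < 2 * i) (him : i ≤ m) (G : Gd p f (2 * i) r a) :
    (Has X (2 * i) ∧ Ls X (2 * i)) ∨ (Has Y (2 * i) ∧ Ls Y (2 * i)) := by
  have := finite_end (F := F) (V := VV m F)
  have ht : PP (Nat.card F) (2 * i) r := pp_q hf (by omega) hF G.pp
  have := Fact.mk ht.prime
  have ha : a ≠ 0 := by
    rintro rfl
    have := G.big
    rw [pow_zero] at this
    omega
  have key : ∀ Z : Subgroup (GG m F), Z ≤ Sp m F → Z ≠ Sp m F → ¬ r ∣ (Z.subgroupOf (Sp m F)).index →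
      Has Z (2 * i) ∧ Ls Z (2 * i) := fun Z hZ hn h0 => by
    have h1 := dvd_Sp (F := F) (t := r) (a := a) (by omega) him (hF ▸ G.dvd)
    rw [← (Z.subgroupOf (Sp m F)).card_mul_index, Nat.card_congr (subgroupOfEquivOfLe hZ).toEquiv] at h1
    have h2 := Nat.Coprime.dvd_of_dvd_mul_right (((Nat.Prime.coprime_iff_not_dvd ht.prime).2 h0).pow_left a) h1
    obtain ⟨g, hg, ho⟩ := exists_ord ht (by omega) hmi h2
    have h3 := list' hP ff_self nd hp hf hF hZ (fun k => hn (le_antisymm hZ k)) G (by rw [finrank_VV]; omega)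
      (by rw [finrank_VV]; omega) (by rw [finrank_VV]; omega) hg ho
    rw [finrank_VV] at h3
    exact ⟨⟨r, ht, (dvd_pow_self r ha).trans h2⟩, h3⟩
  exact (h.pd.cyc ht.prime fun P hP => cyc_of ht (by omega) (by rw [finrank_VV (m := m)]; omega) hP
    ((Sp m F).subtype.comp P.subtype) fun x y h => Subtype.ext (Subtype.ext h)).imp (key X h.leX h.neX) (key Y h.leY h.neY)

theorem Has.irr (h : Has Z (2 * m)) (hm : 1 ≤ m) : ¬ RedG Z := by
  obtain ⟨t, ht, h⟩ := h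
  exact not_red ht (by omega) finrank_VV h

theorem Has.even {s : ℕ} (h : Has Z k) (hA : AExt s Z) (hs : s.Prime) (hm : 2 ≤ m) (hk : m < k) : s ∣ k := by
  obtain ⟨t, ht, h⟩ := h
  exact ext_even' hA hs finrank_VV hm hk ht h

theorem Has.odd {s : ℕ} (h : Has Z k) (hZ : Z ≤ Sp m F) (hA : AExt s Z) (hs : s.Prime) (hm : 2 ≤ m) (hk : m < 2 * k) (h3 : 3 ≤ k)
    (ho : Odd k) : s ∣ k := by
  obtain ⟨t, ht, h⟩ := h
  exact ext_odd' ff_self nd hZ hA hs finrank_VV hm hk h3 ho ht h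

theorem Has.par {i j : ℕ} (h : Has Z (2 * i)) (h' : Has Z (2 * j)) (hZ : Z ≤ Sp m F) (hA : AExt 2 Z) (hr : ¬ RedG Z)
    (hi : m < 2 * i) (hj : m < 2 * j) (ho : Odd (i + j)) : False := by
  obtain ⟨t, ht, h⟩ := h
  obtain ⟨t', ht', h'⟩ := h'
  refine H925.Rs.par ff_self nd hZ (irr_of_not hr) ht ht' (even_two_mul i) (even_two_mul j) (by rw [finrank_VV]; omega)
    (by rw [finrank_VV]; omega) (by omega) (by omega) ?_ h h' hA
  rwa [Nat.mul_div_cancel_left _ two_pos, Nat.mul_div_cancel_left _ two_pos]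

theorem dvd_m {s : ℕ} (hA : AExt s Z) : s ∣ 2 * m := finrank_VV (m := m) (F := F) ▸ hA.dvd_finrank

/-- not both factors are extension field groups -/
theorem Pr.not_ext (h : Pr X Y) (hm : 5 ≤ m) {s s' : ℕ} (hs : s.Prime) (hs' : s'.Prime) (hX : AExt s X) (hY : AExt s' Y) :
    False := by
  obtain ⟨k, h1, h2, h3⟩ : ∃ k, Odd k ∧ k < m ∧ m ≤ k + 2 := by
    rcases Nat.even_or_odd' m with ⟨c, hc | hc⟩
    · exact ⟨m - 1, ⟨c - 1, by omega⟩, by omega, by omega⟩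
    · exact ⟨m - 2, ⟨c - 1, by omega⟩, by omega, by omega⟩
  have key : ∀ (Z : Subgroup (GG m F)) (s : ℕ), Z ≤ Sp m F → s.Prime → AExt s Z → ¬ Has Z k := fun Z s hZ hs hA hk => by
    have e1 := hk.odd hZ hA hs (by omega) (by omega) (by omega) h1
    refine odd_prime_of_dvd hs h1 e1 ?_
    rcases (by omega : m = k + 1 ∨ m = k + 2) with e | e
    · exact eq_two_of_dvd hs (by omega) (dvd_m hA) (by rw [show 2 * m - 2 = k * 2 by omega]; exact e1.mul_right 2)
    · exact eq_two_of_dvd4 hs (by omega) (dvd_m hA) (by rw [show 2 * m - 4 = k * 2 by omega]; exact e1.mul_right 2)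
  rcases h.has (k := k) (i := k) (by omega) (by rintro rfl; exact absurd h1 (by decide)) (Dvd.intro_left 2 rfl) (by omega)
    h2.le with e | e
  exacts [key X s h.leX hs hX e, key Y s' h.leY hs' hY e]

/-- an irreducible extension field group with `2 m` has no `2 i` -/
theorem not_has (hZ : Z ≤ Sp m F) (hm : 5 ≤ m) (h : Has Z (2 * m)) {s i : ℕ} (hs : s.Prime) (hA : AExt s Z) (hi : m < 2 * i)
    (ho : Odd (m + i)) (hc : ∀ s : ℕ, s.Prime → s ∣ 2 * m → s ∣ 2 * i → s = 2) : ¬ Has Z (2 * i) := fun h' => by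
  obtain rfl := hc s hs (dvd_m hA) (h'.even hA hs (by omega) hi)
  exact h.par h' hZ hA (h.irr (by omega)) (by omega) hi ho

theorem cop {s : ℕ} (hm : 1 ≤ m) (hs : s.Prime) (h1 : s ∣ 2 * m) (h2 : s ∣ 2 * (m - 1)) : s = 2 :=
  eq_two_of_dvd hs (by omega) h1 (by rwa [show 2 * m - 2 = 2 * (m - 1) by omega])

theorem Pr.has1 (h : Pr X Y) (hm : 5 ≤ m) (hX : Has X (2 * m)) {s : ℕ} (hs : s.Prime) (hA : AExt s X) : Has Y (2 * (m - 1)) :=
  (h.has (i := m - 1) (by omega) (by omega) dvd_rfl (by omega) (by omega)).resolve_left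
    (not_has h.leX hm hX hs hA (by omega) ⟨m - 1, by omega⟩ fun _ => cop (by omega))

section

variable (h : Pr X Y) (hP : H659.CovCore.S5948Stmt.{0}) (hp : p.Prime) (hf : 1 ≤ f) (hF : Nat.card F = p ^ f) (hm : 5 ≤ m)
  (hX : Has X (2 * m))
include h hP hp hf hF hm hX

theorem Pr.lemA {s : ℕ} (hs : s.Prime) (hA : AExt s X) {i r a : ℕ} (hmi : m < 2 * i) (him : i ≤ m) (G : Gd p f (2 * i) r a)
    (ho : Odd (m + i)) (hc : ∀ s : ℕ, s.Prime → s ∣ 2 * m → s ∣ 2 * i → s = 2) : Good Y := by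
  rcases h.ls hP hp hf hF hm hmi him G with ⟨e, -⟩ | ⟨-, e | ⟨s', hs', -, e⟩ | e⟩
  · exact absurd e (not_has h.leX hm hX hs hA hmi ho hc)
  · exact Or.inr ⟨e, h.has1 hm hX hs hA⟩
  · exact (h.not_ext hm hs hs' hA e).elim
  · exact Or.inl e

theorem Pr.lemB {r a r' a' : ℕ} (G : Gd p f (2 * (m - 1)) r a) (G' : Gd p f (2 * (m - 2)) r' a') : Good X ∨ Good Y := by
  have hr := hX.irr (by omega)
  rcases h.ls hP hp hf hF hm (by omega) (by omega) G with ⟨e, e' | ⟨s, hs, -, e'⟩ | e'⟩ | ⟨e, e' | ⟨s, hs, hd, e'⟩ | e'⟩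
  · exact absurd e' hr
  · exact absurd e (not_has h.leX hm hX hs e' (by omega) ⟨m - 1, by omega⟩ fun _ => cop (by omega))
  · exact Or.inl (Or.inl e')
  · exact Or.inr (Or.inr ⟨e', e⟩)
  · obtain rfl := cop (by omega) hs (hd.trans (Nat.gcd_dvd_left _ _)) (hd.trans (Nat.gcd_dvd_right _ _))
    by_cases hY : RedG Y
    · exact Or.inr (Or.inr ⟨hY, e⟩)
    rcases h.ls hP hp hf hF hm (by omega) (by omega) G' with ⟨-, k | ⟨s', hs', -, k⟩ | k⟩ | ⟨k, -⟩
    · exact absurd k hr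
    · exact (h.not_ext hm hs' hs k e').elim
    · exact Or.inl (Or.inl k)
    · exact (e.par k h.leY e' hY (by omega) (by omega) ⟨m - 2, by omega⟩).elim
  · exact Or.inr (Or.inl e')

end

theorem gd (hp : p.Prime) (hf : 1 ≤ f) {i : ℕ} (hi : 4 ≤ i) (h2 : p ^ f = 2 → i ≠ 4 ∧ i ≠ 5 ∧ i ≠ 6 ∧ i ≠ 9 ∧ i ≠ 10)
    (h3 : p ^ f = 3 → i ≠ 9) : ∃ r a, Gd p f (2 * i) r a := by
  obtain ⟨r, hr⟩ := H803.Rl.exists_big (p := p) (f := f) (k := 2 * i) hp hf (by omega) (by
    intro hex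
    simp only [List.mem_cons, Prod.mk.injEq, List.not_mem_nil, or_false] at hex
    rcases hex with h | h | h | h | h | h | h | h | h | h | h | h <;> obtain ⟨rfl, rfl, h4⟩ := h <;>
      norm_num at h2 h3 <;> omega)
  exact ⟨r, _, H803.Rs.gd_of_big hr⟩

theorem small {s : ℕ} {n : ℕ} (hs : s.Prime) {a b : ℕ} (h1 : s ∣ a) (h2 : s ∣ b) (h : Nat.gcd a b = 2 ^ n) : s = 2 :=
  (Nat.prime_dvd_prime_iff_eq hs Nat.prime_two).1 (hs.dvd_of_dvd_pow (h ▸ Nat.dvd_gcd h1 h2))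

/-- **The factors**, `m ≥ 5`. -/
theorem Pr.main (h : Pr X Y) (hP : H659.CovCore.S5948Stmt.{0}) (hm : 5 ≤ m) (h7 : m ≤ 7 → Nat.card F ≠ 2) : Good X ∨ Good Y := by
  obtain ⟨p, hc⟩ := CharP.exists F
  obtain ⟨⟨f, hf⟩, hp, hF⟩ := FiniteField.card F p
  rw [← Nat.card_eq_fintype_card] at hF
  change Nat.card F = p ^ f at hF
  rw [hF] at h7
  by_cases h9 : m = 9 ∧ (p ^ f = 2 ∨ p ^ f = 3)
  · obtain ⟨r, a, G⟩ := gd hp hf (i := m - 1) (by omega) (by omega) (by omega)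
    obtain ⟨r', a', G'⟩ := gd hp hf (i := m - 2) (by omega) (by omega) (by omega)
    rcases h.has (k := 2 * m) (by omega) (by omega) dvd_rfl (by omega) le_rfl with e | e
    · exact h.lemB hP hp hf hF hm e G G'
    · exact (h.symm.lemB hP hp hf hF hm e G G').symm
  obtain ⟨i, r, a, hmi, him, G, ho, hi⟩ : ∃ i r a, m < 2 * i ∧ i ≤ m ∧ Gd p f (2 * i) r a ∧ Odd (m + i) ∧
      ∀ s : ℕ, s.Prime → s ∣ 2 * m → s ∣ 2 * i → s = 2 := by
    by_cases h10 : m = 10
    · subst h10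
      obtain ⟨r, a, G⟩ := gd hp hf (i := 7) (by omega) (by omega) (by omega)
      exact ⟨7, r, a, by omega, by omega, G, by decide, fun s hs h1 h2 => small (n := 1) hs h1 h2 (by decide)⟩
    by_cases h11 : m = 11
    · subst h11
      obtain ⟨r, a, G⟩ := gd hp hf (i := 8) (by omega) (by omega) (by omega)
      exact ⟨8, r, a, by omega, by omega, G, by decide, fun s hs h1 h2 => small (n := 1) hs h1 h2 (by decide)⟩
    obtain ⟨r, a, G⟩ := gd hp hf (i := m - 1) (by omega) (by omega) (by omega)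
    exact ⟨m - 1, r, a, by omega, by omega, G, ⟨m - 1, by omega⟩, fun _ => cop (by omega)⟩
  by_cases h10 : m = 10 ∧ p ^ f = 2
  · obtain ⟨rfl, h2⟩ := h10
    rw [h2] at hF
    obtain ⟨rfl, rfl⟩ : p = 2 ∧ f = 1 := (Nat.Prime.pow_eq_iff Nat.prime_two).1 h2
    have key : ∀ X Y : Subgroup (GG 10 F), Pr X Y → 41 ∣ Nat.card X → Good X ∨ Good Y := fun X Y h h41 => by
      have hX : Has X (2 * 10) := ⟨41, pp2 hF H803.Rs.pp_2_20, h41⟩
      rcases small41_abs hF finrank_VV ff_self nd h.leX (fun k => h.neX (le_antisymm h.leX k)) h41 (hX.irr (by omega)) with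
        ⟨s, hs, e⟩ | e | e
      · exact Or.inr (h.lemA hP hp hf hF hm hX hs e hmi him G ho hi)
      · exact Or.inl (Or.inl e)
      have k : ∀ t i, PP 2 (2 * i) t → 1 ≤ i → i ≤ 10 → ¬ t ∣ 68880 → Has Y (2 * i) := fun t i ht h1 h2 h3 =>
        ⟨t, pp2 hF ht, (h.or (pp2 hF ht) dvd_rfl h1 h2).resolve_left fun h4 => h3 (h4.trans e)⟩
      have k9 := k 19 9 H803.Rs.pp_2_18 (by omega) (by omega) (by decide)
      by_cases hY : RedG Y
      · exact Or.inr (Or.inr ⟨hY, k9⟩)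
      rcases h.ls hP hp hf hF hm (i := 7) (by omega) (by omega) H803.Rs.gd_2_14 with
        ⟨⟨t, ht, h1⟩, -⟩ | ⟨k7, k1 | ⟨s, hs, hd, k1⟩ | k1⟩
      · have h3 := ht.lt (by omega)
        have h4 := ht.dvd_sub_one (by omega)
        have h5 := h1.trans e
        rw [show 68880 = 2 ^ 4 * 3 * 5 * 7 * 41 by norm_num] at h5
        simp only [ht.prime.dvd_mul] at h5
        rcases h5 with (((h5 | h5) | h5) | h5) | h5
        · have := Nat.le_of_dvd two_pos (ht.prime.dvd_of_dvd_pow h5)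
          omega
        · have := Nat.le_of_dvd (by omega) h5
          omega
        · have := Nat.le_of_dvd (by omega) h5
          omega
        · have := Nat.le_of_dvd (by omega) h5
          omega
        · obtain rfl := (Nat.prime_dvd_prime_iff_eq ht.prime (by norm_num)).1 h5
          omega
      · exact absurd k1 hY
      · obtain rfl := (Nat.prime_dvd_prime_iff_eq hs Nat.prime_two).1 hd
        exact (k7.par (k 257 8 H803.Rs.gd_2_16.pp (by omega) (by omega) (by decide)) h.leY k1 hY (by omega) (by omega)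
          (by decide)).elim
      · exact Or.inr (Or.inl k1)
    rcases h.or (k := 20) (i := 10) (pp2 hF H803.Rs.pp_2_20) dvd_rfl (by omega) le_rfl with e | e
    · exact key X Y h e
    · exact (key Y X h.symm e).symm
  obtain ⟨r₀, a₀, G₀⟩ := gd hp hf (i := m) (by omega) (by omega) (by omega)
  have key : ∀ X Y : Subgroup (GG m F), Pr X Y → Has X (2 * m) ∧ Ls X (2 * m) → Good X ∨ Good Y :=
    fun X Y h ⟨hX, e⟩ => by
      rcases e with e | ⟨s, hs, -, e⟩ | e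
      · exact absurd e (hX.irr (by omega))
      · exact Or.inr (h.lemA hP hp hf hF hm hX hs e hmi him G ho hi)
      · exact Or.inl (Or.inl e)
  rcases h.ls hP hp hf hF hm (by omega) le_rfl G₀ with e | e
  · exact key X Y h e
  · exact (key Y X h.symm e).symm

/-- `Sp₁₄(2)` -/
theorem Pr.seven {X Y : Subgroup (GG 7 F)} (h : Pr X Y) (hP : H659.CovCore.S5948Stmt.{0}) (h14 : Box14) (hF : Nat.card F = 2) :
    (Good X ∨ ∃ Q, Pol Q ∧ X ≤ O Q) ∨ Good Y ∨ ∃ Q, Pol Q ∧ Y ≤ O Q := by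
  have key : ∀ X Y : Subgroup (GG 7 F), Pr X Y → Has X (2 * 7) ∧ Ls X (2 * 7) → Good X ∨ Good Y ∨ ∃ Q, Pol Q ∧ Y ≤ O Q :=
    fun X Y h ⟨hX, e⟩ => by
      rcases e with e | ⟨s, hs, -, e⟩ | e
      · exact absurd e (hX.irr (by omega))
      · have p13 : PP (Nat.card F) (2 * 6) 13 :=
          pp2 hF (H803.Rs.pp_ex (by norm_num) (by norm_num) (by norm_num) (by decide) (by decide))
        have p17 : PP (Nat.card F) (2 * 4) 17 :=
          pp2 hF (H803.Rs.pp_ex (by norm_num) (by norm_num) (by norm_num) (by decide) (by decide))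
        have p31 : PP (Nat.card F) 5 31 :=
          pp2 hF (H803.Rs.pp_ex (by norm_num) (by norm_num) (by norm_num) (by decide) (by decide))
        have k13 := (h.or p13 dvd_rfl (by omega) (by omega)).resolve_left fun k => not_has h.leX (by omega) hX hs e (by omega)
          (by decide) (fun s hs h1 h2 => small (n := 1) hs h1 h2 (by decide)) ⟨13, p13, k⟩
        have k17 := (h.or p17 dvd_rfl (by omega) (by omega)).resolve_left fun k => not_has h.leX (by omega) hX hs e (by omega)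
          (by decide) (fun s hs h1 h2 => small (n := 1) hs h1 h2 (by decide)) ⟨17, p17, k⟩
        have k31 := (h.or (i := 5) p31 (by decide) (by omega) (by omega)).resolve_left fun k => by
          have h1 := Has.odd ⟨31, p31, k⟩ h.leX e hs (by omega) (by omega) (by omega) (by decide)
          exact hs.one_lt.ne' (Nat.dvd_one.1 (Nat.dvd_gcd h1 (dvd_m e)))
        rcases h14 F Y (Nat.card_eq_fintype_card.symm.trans hF) h.leY h.neY k13 k17 k31 with k | k
        · exact Or.inr (Or.inl (Or.inr ⟨k, 13, p13, k13⟩))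
        · exact Or.inr (Or.inr k)
      · exact Or.inl (Or.inl e)
  rcases h.ls hP Nat.prime_two le_rfl hF (by omega) (by omega) le_rfl H803.Rs.gd_2_14 with e | e
  · exact (key X Y h e).imp_left Or.inl
  · rcases key Y X h.symm e with k | k
    exacts [Or.inr (Or.inl k), Or.inl k]

/-- a reducible group with an element of the second kind fixes a subspace of the fixed plane -/
theorem red (hZ : Z ≤ Sp m F) (hm : 3 ≤ m) (hr : RedG Z) (h : Has Z (2 * (m - 1))) : ∃ U : Submodule F (VV m F),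
    finrank F U = 2 ∧ Nd U ∧ (∃ W, W ≠ ⊥ ∧ W ≤ U ∧ ∀ g ∈ Z, ∀ w ∈ W, g w ∈ W) ∧
      ∀ W : Submodule F (VV m F), finrank F W ≤ 2 → (∀ g ∈ Z, ∀ w ∈ W, g w ∈ W) → W ≤ U := by
  obtain ⟨t, ht, h⟩ := h
  obtain ⟨x, hxZ, hx, hx1⟩ := exists_elt ht.prime h
  obtain ⟨h1, h2, h3, -⟩ := blk ht (by omega) (by rw [finrank_VV]; omega) hx hx1
  rw [finrank_VV] at h1
  have n1 := nd_fx ff_self nd ht (by omega) (hZ hxZ) hx
  have n2 := nd_cm ff_self nd ht (by omega) (hZ hxZ) hx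
  refine ⟨fx (x : End F (VV m F)), by omega, fun u hu k => ?_, ?_, fun W hW k => ?_⟩
  · by_contra h0
    obtain ⟨w, hw, e⟩ := n1 u hu h0
    exact e (k w hw)
  · obtain ⟨W, h0, h4, hW⟩ := hr
    rcases h3 W (hW x hxZ) with k | k
    · exact ⟨W, h0, k, hW⟩
    have h5 : ∀ g ∈ Z, ∀ w ∈ perp W, g w ∈ perp W := fun g hg w hw u hu => by
      have h6 := hZ hg (g⁻¹ u) w
      rw [show g (g⁻¹ u) = u from g.apply_symm_apply u] at h6
      exact h6.trans (hw _ (hW _ (inv_mem hg) u hu))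
    rcases h3 (perp W) (h5 x hxZ) with k' | k'
    · refine ⟨perp W, fun e => h4 ?_, k', h5⟩
      rw [← perp_perp W, e]
      exact LinearMap.BilinForm.orthogonal_bot
    · obtain ⟨u, hu, h0⟩ := (Submodule.ne_bot_iff _).1 (cm_ne_bot (coe_ne_one hx1))
      obtain ⟨w, hw, e⟩ := n2 u hu h0
      exact absurd (k' hw u (k hu)) e
  · refine (h3 W (k x hxZ)).resolve_right fun e => ?_
    have := Submodule.finrank_mono e
    omega

end Cfsg.Agent.SM.Sy.CLa
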