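import Cfsg.Agent.SM.Sy.CLbA
import Cfsg.Agent.SM.Sy.KS
import Cfsg.Agent.SM.Sy.FormB
import Cfsg.Agent.H900.SU4.Base
import Cfsg.Agent.ClassicalGeometry.PSL2Basic
import Cfsg.Agent.S0813
import Cfsg.Agent.S0815
import Cfsg.Agent.S0280
import Cfsg.Agent.S2119
import Cfsg.Agent.S5806
import Cfsg.Agent.S5824
import Cfsg.Agent.S5845
import Cfsg.Agent.S5869

/-!
# SM (S3570), `S = Sp_2m(2)`, `3 ≤ m ≤ 6`: the four cases (helper55)
-/

set_option autoImplicit false
set_option linter.unusedSectionVars false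
set_option linter.unusedVariables false
set_option linter.style.haveILetI false

namespace Cfsg.Agent.SM.Sy

namespace CLb

open Cfsg Cfsg.Geo Equiv Subgroup Module MulAction
open Cfsg.Agent.H925.Rs (Isos RedG)
open Cfsg.Agent.H884.El (PP)
open Cfsg.Agent.LieClassical.OrthCore (O)
open scoped commutatorElement MatrixGroups

theorem aut_l2 {K : Type} [Field K] [Fintype K] {p f : ℕ} (hp : p.Prime) (hf : 1 ≤ f) (hK : Fintype.card K = p ^ f)
    (h4 : 4 ≤ p ^ f) : Nat.card (MulAut (Matrix.ProjectiveSpecialLinearGroup (Fin 2) K)) = f * (p ^ f * ((p ^ f) ^ 2 - 1)) := by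
  have := Fact.mk hp
  rw [S0813.result p f hf hK 2 le_rfl (fun _ => h4), if_pos rfl, one_mul, ClassicalGeometry.PSL2Basic.card_PGL2, hK]

theorem aut_u33 {K : Type} [Field K] [Fintype K] (hK : Fintype.card K = 9) : Nat.card (MulAut (PSU 3 K 3)) = 12096 := by
  have h3 : Fact (Nat.Prime 3) := ⟨Nat.prime_three⟩
  have hK' : Fintype.card K = 3 ^ 2 := by rw [hK]; norm_num
  have h1 := S0280.result hK' 3 (by norm_num)
  simp [Finset.prod_range_succ, Nat.even_iff] at h1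
  rw [S0815.result 3 1 le_rfl (by norm_num) hK' 3 (by norm_num) (by norm_num), show Nat.card (PSU 3 K 3) = 6048 by omega]
  norm_num

variable {m : ℕ} {F : Type} [Field F] [Fintype F] {Y : Subgroup (GG m F)}

theorem maxIn (hY : Y ⋖ Sp m F) : IsMaximalIn (spGL m F) (Y.map (mx (m := m) (F := F)).toMonoidHom) := by
  have h := covBy_map (φ := (mx (m := m) (F := F)).toMonoidHom) mx.injective hY
  rw [map_mx] at h
  exact ⟨h.lt, fun _ h1 h2 => h.eq_or_eq h1 h2⟩

theorem inj_aut (hq : Fintype.card F = 2) {P : Subgroup (GL (Fin m ⊕ Fin m) F)}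
    (h : IsResidualCore (Y.map (mx (m := m) (F := F)).toMonoidHom) P) {G : Type} [Group G]
    (e : (P ⧸ (scalars (Fin m ⊕ Fin m) F).subgroupOf P) ≃* G) : ∃ φ : Y →* MulAut G, Function.Injective φ := by
  classical
  obtain ⟨φ, hφ⟩ := H900.SU4.exists_core_inj h
  let ε := equivMapOfInjective Y (mx (m := m) (F := F)).toMonoidHom mx.injective
  refine ⟨(MulAut.congr e).toMonoidHom.comp (φ.comp ((QuotientGroup.mk' _).comp ε.toMonoidHom)),
    (MulAut.congr e).injective.comp (hφ.comp (Function.Injective.comp (g := QuotientGroup.mk' _) ?_ ε.injective))⟩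
  rw [injective_iff_map_eq_one]
  intro b hb
  obtain ⟨c, hc⟩ := (QuotientGroup.eq_one_iff b).1 hb
  haveI : Subsingleton Fˣ := Fintype.card_le_one_iff_subsingleton.1 (by rw [Fintype.card_units, hq])
  exact Subtype.ext (hc.symm.trans (by rw [Subsingleton.elim c 1, map_one]; rfl))

theorem dvd_aut (hq : Fintype.card F = 2) {P : Subgroup (GL (Fin m ⊕ Fin m) F)}
    (h : IsResidualCore (Y.map (mx (m := m) (F := F)).toMonoidHom) P) {G : Type} [Group G]
    (e : (P ⧸ (scalars (Fin m ⊕ Fin m) F).subgroupOf P) ≃* G) : Nat.card Y ∣ Nat.card (MulAut G) :=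
  let ⟨φ, hφ⟩ := inj_aut hq h e
  card_dvd_of_injective φ hφ

theorem inj_perm (hq : Fintype.card F = 2) {P : Subgroup (GL (Fin m ⊕ Fin m) F)}
    (h : IsResidualCore (Y.map (mx (m := m) (F := F)).toMonoidHom) P) {n : ℕ} (h4 : 4 ≤ n) (h6 : n ≠ 6)
    (e : (P ⧸ (scalars (Fin m ⊕ Fin m) F).subgroupOf P) ≃* alternatingGroup (Fin n)) :
    ∃ φ : Y →* Perm (Fin n), Function.Injective φ :=
  let ⟨φ, hφ⟩ := inj_aut hq h e
  ⟨(MulEquiv.ofBijective _ (S2119.result n h4 h6)).symm.toMonoidHom.comp φ,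
    (MulEquiv.ofBijective _ (S2119.result n h4 h6)).symm.injective.comp hφ⟩

theorem p_eq (hq : Fintype.card F = 2) {p : ℕ} (h : CharP F p) : p = 2 := CharP.eq F h (charP_two (two hq))

theorem res3 {Y : Subgroup (GG 3 F)} (hq : Fintype.card F = 2) (hY : Y ⋖ Sp 3 F) (h : Res Y) : Nat.card Y ∣ 12096 := by
  obtain ⟨P, p, hP, -, hc, h⟩ := S5806.result _ (maxIn hY) h
  obtain rfl := p_eq hq hc
  rw [hq] at h
  rcases h with h | h | h | h | ⟨⟨K, _, _, hK, ⟨e⟩⟩, -⟩ | h | h | h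
  iterate 4 omega
  · exact aut_u33 hK ▸ dvd_aut hq hP e
  all_goals omega

theorem res4 {Y : Subgroup (GG 4 F)} (hq : Fintype.card F = 2) (hY : Y ⋖ Sp 4 F) (h : Res Y) :
    Nat.card Y ∣ 4896 ∨ ∃ φ : Y →* Perm (Fin 10), Function.Injective φ := by
  obtain ⟨P, p, hP, -, hc, h⟩ := S5824.result _ (maxIn hY) h
  obtain rfl := p_eq hq hc
  rw [hq] at h
  rcases h with h | h | ⟨⟨e⟩, -⟩ | ⟨⟨e⟩, -⟩ | h | h
  iterate 2 omega
  · haveI : Fact (Nat.Prime 17) := ⟨by decide⟩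
    exact Or.inl ((dvd_aut hq hP e).trans (dvd_of_eq (aut_l2 (p := 17) (f := 1) (by decide) le_rfl (ZMod.card 17) (by decide))))
  · exact Or.inr (inj_perm hq hP (by decide) (by decide) e)
  · omega
  · exact absurd h.2 (by decide)

theorem res5 {Y : Subgroup (GG 5 F)} (hq : Fintype.card F = 2) (hY : Y ⋖ Sp 5 F) (h : Res Y) : False := by
  obtain ⟨P, p, hP, -, hc, h⟩ := S5845.result _ (maxIn hY) h
  obtain rfl := p_eq hq hc
  rw [hq] at h
  rcases h with h | h | h | h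
  iterate 2 omega
  · exact absurd h.2.2 (by decide)
  · omega

theorem res6 {Y : Subgroup (GG 6 F)} (hq : Fintype.card F = 2) (hY : Y ⋖ Sp 6 F) (h : Res Y) :
    Nat.card Y ∣ 31200 ∨ Nat.card Y ∣ 87178291200 := by
  obtain ⟨P, p, hP, -, hc, h⟩ := S5869.result _ (maxIn hY) h
  obtain rfl := p_eq hq hc
  rw [hq] at h
  rcases h with h | h | ⟨⟨K, _, _, hK, ⟨e⟩⟩, -⟩ | h | h | ⟨⟨e⟩, -⟩ | h | h | h
  iterate 2 omega
  · exact Or.inl ((dvd_aut hq hP e).trans (dvd_of_eq (aut_l2 (p := 5) (f := 2) (by decide) (by decide) hK (by decide))))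
  · omega
  · exact absurd h.2.2.1 (by decide)
  · obtain ⟨φ, hφ⟩ := inj_perm hq hP (by decide) (by decide) e
    exact Or.inr ((card_dvd_of_injective φ hφ).trans (dvd_of_eq (by rw [Nat.card_perm, Nat.card_fin]; rfl)))
  all_goals omega

/-- `Y` fixes a form -/
def Fm (Y : Subgroup (GG m F)) : Prop := ∃ Q, Pol Q ∧ Y ≤ O Q

theorem typ (hA : BoxAsch) (hq : Fintype.card F = 2) (hm : 3 ≤ m) (hY : Y ⋖ Sp m F) : RedG Y ∨ Fm Y ∨
    (∀ k r, PP (Nat.card F) k r → 1 ≤ k → m < r → (∀ i, 1 ≤ i → 2 * i ≤ m → ¬ k ∣ 2 * i) → ¬ r ∣ Nat.card Y) ∨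
    (∃ s b, s.Prime ∧ m = s * b ∧ Nat.card Y ∣ s * oSp b (2 ^ s) ∧
      ∃ Z : Subgroup (GG m F), Nat.card Z = oSp b (2 ^ s) ∧ ∀ x ∈ Y, ∀ y ∈ Y, ⁅x, y⁆ ∈ Z) ∨ Res Y := by
  rcases hA m F Y (by omega) (by omega) (two hq) hY.le hY.ne with h | ⟨t, k, U, ht, h⟩ | ⟨s, K, hK, h⟩ | ⟨σ, τ, h, -⟩ | h | h
  · exact Or.inl h
  · exact Or.inr (Or.inr (Or.inl fun k r hr hk h1 h2 => not_dec (by omega) hY.le ht h hr hk h1 h2))
  · obtain ⟨b, K', _, _, _, e, h1, h2, h3⟩ := boxKS m F s K (by omega) hK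
    have hb : 1 ≤ b := Nat.pos_of_ne_zero fun e => by
      rw [e] at h1
      omega
    exact Or.inr (Or.inr (Or.inr (Or.inl ⟨s, b, hK.prime, h1, hq ▸ h3.card_NE h2 hb ▸ card_dvd_of_le h, CE K, hq ▸ h3.card_CE h2,
      fun x hx y hy => h3.comm_le hb (commutator_mem_commutator (h hx) (h hy))⟩)))
  · exact (h (K4C.aut_two hq τ)).elim
  · exact Or.inr (Or.inl h)
  · exact Or.inr (Or.inr (Or.inr (Or.inr h)))

theorem typ3 {Y : Subgroup (GG 3 F)} (hA : BoxAsch) (hq : Fintype.card F = 2) (hY : Y ⋖ Sp 3 F) :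
    RedG Y ∨ Fm Y ∨ ¬ 5 ∣ Nat.card Y := by
  refine (typ hA hq le_rfl hY).imp_right (Or.imp_right ?_)
  rintro (h | ⟨s, b, hs, e, h, -⟩ | h) h5
  · exact h _ _ (p5 hq) (by decide) (by decide) (by omega) h5
  · obtain rfl := (Nat.prime_dvd_prime_iff_eq hs (by decide)).1 ⟨b, e⟩
    obtain rfl : b = 1 := by omega
    exact absurd (h5.trans h) (by decide)
  · exact absurd (h5.trans (res3 hq hY h)) (by decide)

theorem typ5 {Y : Subgroup (GG 5 F)} (hA : BoxAsch) (hq : Fintype.card F = 2) (hY : Y ⋖ Sp 5 F) :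
    RedG Y ∨ Fm Y ∨ ¬ 17 ∣ Nat.card Y := by
  refine (typ hA hq (by decide) hY).imp_right (Or.imp_right ?_)
  rintro (h | ⟨s, b, hs, e, h, -⟩ | h) h5
  · exact h _ _ (p17 hq) (by decide) (by decide) (by omega) h5
  · obtain rfl := (Nat.prime_dvd_prime_iff_eq hs (by decide)).1 ⟨b, e⟩
    obtain rfl : b = 1 := by omega
    exact absurd (h5.trans h) (by decide)
  · exact res5 hq hY h

theorem typ6 {Y : Subgroup (GG 6 F)} (hA : BoxAsch) (hq : Fintype.card F = 2) (hY : Y ⋖ Sp 6 F) :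
    RedG Y ∨ Fm Y ∨ (¬ 31 ∣ Nat.card Y ∧ (¬ 11 ∣ Nat.card Y ∨ ¬ 17 ∣ Nat.card Y)) := by
  refine (typ hA hq (by decide) hY).imp_right (Or.imp_right ?_)
  rintro (h | ⟨s, b, hs, e, h, -⟩ | h)
  · exact ⟨h _ _ (p31 hq) (by decide) (by decide) (by omega), Or.inl (h _ _ (p11 hq) (by decide) (by decide) (by omega))⟩
  · rcases (Nat.Prime.dvd_mul hs (m := 2) (n := 3)).1 ⟨b, e⟩ with k | k <;>
      obtain rfl := (Nat.prime_dvd_prime_iff_eq hs (by decide)).1 k
    · obtain rfl : b = 3 := by omega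
      exact ⟨fun k => absurd (k.trans h) (by decide +kernel), Or.inl fun k => absurd (k.trans h) (by decide +kernel)⟩
    · obtain rfl : b = 2 := by omega
      exact ⟨fun k => absurd (k.trans h) (by decide +kernel), Or.inl fun k => absurd (k.trans h) (by decide +kernel)⟩
  · rcases res6 hq hY h with h | h
    all_goals exact ⟨fun k => absurd (k.trans h) (by decide), Or.inr fun k => absurd (k.trans h) (by decide)⟩

theorem typ4 {Y : Subgroup (GG 4 F)} (hA : BoxAsch) (hq : Fintype.card F = 2) (hY : Y ⋖ Sp 4 F) :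
    RedG Y ∨ Fm Y ∨ (¬ 7 ∣ Nat.card Y ∧ ¬ 17 ∣ Nat.card Y) ∨
      (Nat.card Y ∣ 1958400 ∧ ∀ A, AS Y A → Nat.card A ∣ 979200) ∨ ∃ φ : Y →* Perm (Fin 10), Function.Injective φ := by
  refine (typ hA hq (by decide) hY).imp_right (Or.imp_right ?_)
  rintro (h | ⟨s, b, hs, e, h, Z, h1, h2⟩ | h)
  · exact Or.inl ⟨h _ _ (p7 hq) (by decide) (by decide) (by omega), h _ _ (p17 hq) (by decide) (by decide) (by omega)⟩
  · obtain rfl := (Nat.prime_dvd_prime_iff_eq hs (by decide)).1 (hs.dvd_of_dvd_pow (m := 2) (n := 2) ⟨b, e⟩)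
    obtain rfl : b = 2 := by omega
    exact Or.inr (Or.inl ⟨h, fun A a => (card_dvd_of_le (le_of_comm a fun x hx y hy => h2 x (a.le hx) y (a.le hy))).trans
      (dvd_of_eq h1)⟩)
  · exact Or.inr ((res4 hq hY h).imp_left fun h => ⟨h.trans (by decide), fun A a => ((card_dvd_of_le a.le).trans h).trans (by decide)⟩)

theorem card_ten {Γ : Type} [Group Γ] {N A : Subgroup Γ} (φ : N →* Perm (Fin 10)) (hφ : Function.Injective φ) :
    Nat.card N ∣ 3628800 := (card_dvd_of_injective φ hφ).trans (dvd_of_eq (by rw [Nat.card_perm, Nat.card_fin]; rfl))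

theorem card_ten' {Γ : Type} [Group Γ] {N A : Subgroup Γ} (a : AS N A) (φ : N →* Perm (Fin 10)) (hφ : Function.Injective φ) :
    Nat.card A ∣ 1814400 := by
  have h1 := le_of_comm a (Z := ((alternatingGroup (Fin 10)).comap φ).map N.subtype) fun x hx y hy =>
    ⟨⁅(⟨x, a.le hx⟩ : N), ⟨y, a.le hy⟩⁆, by
      rw [SetLike.mem_coe, mem_comap, Perm.mem_alternatingGroup, map_commutatorElement, map_commutatorElement,
        commutatorElement_eq_one_iff_mul_comm, mul_comm], rfl⟩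
  have h2 := card_dvd_of_le h1
  rw [card_map_of_injective N.subtype_injective] at h2
  refine h2.trans ((card_comap_dvd_of_injective _ φ hφ).trans (dvd_of_eq ?_))
  have := two_mul_nat_card_alternatingGroup (α := Fin 10)
  rw [Nat.card_perm, Nat.card_fin] at this
  exact Nat.eq_of_mul_eq_mul_left two_pos this

variable {Ω : Type} [Fintype Ω] [DecidableEq Ω] {X H T M S : Subgroup (Perm Ω)}

theorem notRed (D : Fr m F X H T M S) (hq : Fintype.card F = 2) : ¬ RedG D.N := fun ⟨W, h0, h1, h⟩ =>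
  (redH D W fun g hg w hw => by
    obtain ⟨x, hx, rfl⟩ := D.exists_pm_two hq (D.hat_le hg)
    exact h x ((D.pm_mem_hat hx).1 hg) w hw).elim h0 h1

theorem of_sm (D : Fr m F X H T M S) (a : Ω) (h : Sm (D.C a)) : D.C1 a ∨ D.C2 a ∨ D.C3 a ∨ D.C4 :=
  (h.or D.pre_le).imp_right Or.inl

theorem of_C (D : Fr m F X H T M S) (a : Ω) (hq : Fintype.card F = 2) (h : Fm (D.C a)) : D.C1 a ∨ D.C2 a ∨ D.C3 a ∨ D.C4 :=
  Or.inr (Or.inr (Or.inl ⟨two hq, h⟩))

theorem of_N (D : Fr m F X H T M S) (a : Ω) (hq : Fintype.card F = 2) (h : Fm D.N) : D.C1 a ∨ D.C2 a ∨ D.C3 a ∨ D.C4 :=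
  let ⟨Q, h1, h2⟩ := h
  Or.inr (Or.inr (Or.inr ⟨two hq, Q, h1, D.A_le_N.trans h2⟩))

theorem dvdC (D : Fr m F X H T M S) (a : Ω) (hq : Fintype.card F = 2) {r : ℕ} (hr : r.Prime) (h : r ∣ oSp m 2)
    (hn : ¬ r ∣ Nat.card D.N) : r ∣ Nat.card (D.C a) :=
  ((Nat.Prime.dvd_mul hr).1 (h.trans (hq ▸ card_Sp (m := m) (F := F) ▸ D.card_dvd a))).resolve_left
    fun k => hn (k.trans (card_dvd_of_le D.A_le_N))

theorem no75 (D : Fr m F X H T M S) (a : Ω) {Z : Subgroup (GG m F)} (hZ : D.A ⊓ D.C a ≤ Z) (φ : Z →* Perm (Fin 10))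
    (hφ : Function.Injective φ) (h : Nat.card ↥(D.A ⊓ D.C a) ∣ 75) : False := by
  haveI : Finite (GG m F) := finite_GG
  refine (D.up.fac a).not_comm fun x hx y hy => ?_
  obtain ⟨g, rfl⟩ := D.π_surj (D.up.le hx.1)
  obtain ⟨k, rfl⟩ := D.π_surj (D.up.le hy.1)
  have h1 := comm75 h (φ.comp (inclusion hZ)) (hφ.comp (inclusion_injective hZ))
    ⟨k.1, (D.mem_pre' k).2 hy.1, (D.mem_pre' k).2 hy.2.2⟩ ⟨g.1, (D.mem_pre' g).2 hx.1, (D.mem_pre' g).2 hx.2.2⟩
  have h2 : k.1 * g.1 = g.1 * k.1 := congrArg Subtype.val h1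
  rw [← map_mul, ← map_mul, show k * g = g * k from Subtype.ext h2]

theorem four (hA : BoxAsch) (D : Fr 4 F X H T M S) (a : Ω) (hq : Fintype.card F = 2) : D.C1 a ∨ D.C2 a ∨ D.C3 a ∨ D.C4 := by
  have hf := D.card_fac a
  rw [card_Sp, hq, show oSp 4 2 = 47377612800 by decide +kernel] at hf
  have nr : 17 ∣ Nat.card (D.C a) → ¬ RedG (D.C a) := H925.Rs.not_red (p17 hq) (by decide) finrank_VV
  have d75 : ∀ {x y : ℕ}, Nat.card D.A ∣ x → Nat.card (D.C a) ∣ y → x * y = 47377612800 * 75 → Nat.card ↥(D.A ⊓ D.C a) ∣ 75 :=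
    fun h1 h2 e => Nat.dvd_of_mul_dvd_mul_left (by decide) (e ▸ hf ▸ Nat.mul_dvd_mul h1 h2)
  rcases typ4 hA hq (D.maxN hq) with h | h | ⟨h7, h17⟩ | ⟨h, h'⟩ | ⟨φ, hφ⟩
  · exact (notRed D hq h).elim
  · exact of_N D a hq h
  · have c7 := dvdC D a hq (by decide) (by decide +kernel) h7
    have c17 := dvdC D a hq (by decide) (by decide +kernel) h17
    rcases typ4 hA hq (D.maxC hq a) with k | k | k | k | ⟨ψ, hψ⟩
    · exact (nr c17 k).elim
    · exact of_C D a hq k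
    · exact (k.1 c7).elim
    · exact absurd (c7.trans k.1) (by decide)
    · exact absurd (c17.trans (card_ten (A := ⊥) ψ hψ)) (by decide)
  · have a1 := h' _ (D.asN (two hq))
    have c7 := dvdC D a hq (r := 7) (by decide) (by decide +kernel) fun k => absurd (k.trans h) (by decide)
    rcases typ4 hA hq (D.maxC hq a) with k | k | k | k | ⟨ψ, hψ⟩
    · refine of_sm D a (sm4 hq D.pre_le k c7 ?_)
      have h1 : 47377612800 ∣ 979200 * Nat.card (D.C a) := (Dvd.intro _ hf).trans (Nat.mul_dvd_mul_right a1 _)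
      omega
    · exact of_C D a hq k
    · exact (k.1 c7).elim
    · exact absurd (c7.trans k.1) (by decide)
    · exact (no75 D a inf_le_right ψ hψ (d75 a1 (card_ten (A := ⊥) ψ hψ) rfl)).elim
  · have c17 := dvdC D a hq (r := 17) (by decide) (by decide +kernel) fun k =>
      absurd (k.trans (card_ten (A := ⊥) φ hφ)) (by decide)
    rcases typ4 hA hq (D.maxC hq a) with k | k | k | k | ⟨ψ, hψ⟩
    · exact (nr c17 k).elim
    · exact of_C D a hq k
    · exact (k.2 c17).elim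
    · exact (no75 D a (inf_le_left.trans D.A_le_N) φ hφ (d75 (card_ten' (D.asN (two hq)) φ hφ) k.1 rfl)).elim
    · exact absurd (c17.trans (card_ten (A := ⊥) ψ hψ)) (by decide)

end CLb

open CLb in
theorem boxCLb_of (hA : BoxAsch) : BoxCLb := by
  intro m F _ _ Ω _ _ X H T M S D a h3 h6 hq
  rcases (show m = 3 ∨ m = 4 ∨ m = 5 ∨ m = 6 by omega) with rfl | rfl | rfl | rfl
  · rcases typ3 hA hq (D.maxN hq) with h | h | h
    · exact (notRed D hq h).elim
    · exact of_N D a hq h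
    have c := dvdC D a hq (by decide) (by decide +kernel) h
    rcases typ3 hA hq (D.maxC hq a) with k | k | k
    exacts [of_sm D a (sm_blk D.pre_le k (p5 hq) le_rfl rfl c), of_C D a hq k, (k c).elim]
  · exact four hA D a hq
  · rcases typ5 hA hq (D.maxN hq) with h | h | h
    · exact (notRed D hq h).elim
    · exact of_N D a hq h
    have c := dvdC D a hq (by decide) (by decide +kernel) h
    rcases typ5 hA hq (D.maxC hq a) with k | k | k
    exacts [of_sm D a (sm_blk D.pre_le k (p17 hq) (by decide) rfl c), of_C D a hq k, (k c).elim]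
  · rcases typ6 hA hq (D.maxN hq) with h | h | ⟨h, h'⟩
    · exact (notRed D hq h).elim
    · exact of_N D a hq h
    have c := dvdC D a hq (by decide) (by decide +kernel) h
    rcases typ6 hA hq (D.maxC hq a) with k | k | k
    · rcases h' with h' | h'
      · exact of_sm D a (sm_blk D.pre_le k (p11 hq) (by decide) rfl (dvdC D a hq (by decide) (by decide +kernel) h'))
      · exact of_sm D a (sm6 hq D.pre_le k c (dvdC D a hq (by decide) (by decide +kernel) h'))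
    exacts [of_C D a hq k, (k.1 c).elim]

end Cfsg.Agent.SM.Sy
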