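import Cfsg.Agent.SM.Sy.K4CA
import Cfsg.Agent.SM.Sy.Red
import Cfsg.Agent.Lib.Zsigmondy
import Cfsg.Agent.H950.Elt

/-!
# SM (S3570), symplectic socles, `T = Ω(Q)`: `S_a` is geometric or residual (helper59)
-/

set_option autoImplicit false
set_option linter.unusedSectionVars false
set_option linter.unusedVariables false

namespace Cfsg.Agent.SM.Sy.K4C

open Cfsg Equiv Subgroup Module QuadraticMap MulAction
open Cfsg.Agent.ClassicalGeometry.SympBasic
open Cfsg.Agent.ClassicalGeometry.SympAutSemi (semiSim IsSemi)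
open Cfsg.Agent.LieClassical.OrthCore (O E E_le_O)
open Cfsg.Agent.H955 (IsPlus)

section num

variable {m : ℕ} {F : Type} [Field F] [Fintype F] {Q : QuadraticForm F (VV m F)} {Y : Subgroup (GG m F)}

theorem dvd_card (h2 : (2 : F) = 0) (hQ : Pol Q) (hY : Y ≤ Sp m F) (h : TrF Y Q) :
    Nat.card {u : VV m F // T0 (Q u)} ∣ Nat.card Y := by
  let i : MulAction Y (VV m F → F) := arrowAction
  have h1 : Nat.card (orbit Y (Q : VV m F → F)) ∣ Nat.card Y := by
    rw [Nat.card_congr (orbitEquivQuotientStabilizer Y (Q : VV m F → F))]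
    exact card_quotient_dvd_card _
  have mem : ∀ u : {u : VV m F // T0 (Q u)}, (ad Q u.1 : VV m F → F) ∈ orbit Y (Q : VV m F → F) := fun u => by
    obtain ⟨g, hg, e⟩ := orb_of_t0 h2 hQ u.2
    obtain ⟨y, hy, x, hx, e1⟩ := h g⁻¹ ((Sp m F).inv_mem hg)
    refine ⟨⟨y, hy⟩, funext fun v => ?_⟩
    show Q (y⁻¹ v) = ad Q u.1 v
    rw [← e, show g = x⁻¹ * y⁻¹ by rw [← mul_inv_rev, ← e1, inv_inv]]
    exact ((O Q).inv_mem hx (y⁻¹ v)).symm
  rwa [Nat.card_eq_of_bijective (fun u : {u : VV m F // T0 (Q u)} => (⟨_, mem u⟩ : orbit Y (Q : VV m F → F)))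
    ⟨fun u w e => Subtype.ext (ad_inj h2 (QuadraticMap.ext (congrFun (congrArg Subtype.val e)))), ?_⟩]
  rintro ⟨_, y, rfl⟩
  have hy := (Sp m F).inv_mem (hY y.2)
  obtain ⟨u, hu⟩ := exists_ad h2 hQ (hQ.comp hy (Q' := Q.comp (y.1⁻¹ : GG m F).toLinearMap) fun v => rfl)
  have k : ∀ v, Q (y.1⁻¹ v) = ad Q u v := fun v => by rw [← hu]; rfl
  exact ⟨⟨u, (orb_iff h2 hQ).1 ⟨_, hy, k⟩⟩, Subtype.ext (funext fun v => (k v).symm)⟩

theorem card_t0 (Q : QuadraticForm F (VV m F)) :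
    (2 * Nat.card {u : VV m F // T0 (Q u)} : ℤ) = Fintype.card F ^ (2 * m) + gs Q ⊤ := by
  classical
  have h1 : ∀ v, psi (Q v) = 2 * (if T0 (Q v) then 1 else 0) - 1 := fun v => by
    by_cases h : T0 (Q v)
    · rw [psi_of h, if_pos h]; rfl
    · rw [psi_of_not h, if_neg h]; rfl
  have h2 : Fintype.card (VV m F) = Fintype.card F ^ (2 * m) := by simp [two_mul]
  rw [gs_top, Finset.sum_congr rfl fun v _ => h1 v, Finset.sum_sub_distrib, ← Finset.mul_sum, Finset.sum_boole,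
    Finset.sum_const, Finset.card_univ, h2, Nat.card_eq_fintype_card, Fintype.card_subtype]
  simp

theorem gs_cases (h2 : (2 : F) = 0) (hQ : Pol Q) : gs Q ⊤ = Fintype.card F ^ m ∨ gs Q ⊤ = -Fintype.card F ^ m := by
  have h1 := gs_sq h2 hQ nd_top
  rw [Nat.card_congr (Submodule.topEquiv (R := F) (M := VV m F)).toEquiv, Nat.card_eq_fintype_card,
    show Fintype.card (VV m F) = (Fintype.card F ^ m) ^ 2 by simp [← pow_mul, mul_two]] at h1
  exact sq_eq_sq_iff_eq_or_eq_neg.1 (by exact_mod_cast h1)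

theorem exists_prime (h2 : (2 : F) = 0) (hQ : Pol Q) (hm : 3 ≤ m) (hq : Fintype.card F ≠ 2) (hY : Y ≤ Sp m F) (h : TrF Y Q) :
    ∃ r : ℕ, r.Prime ∧ r ∣ Nat.card Y ∧ m ≤ orderOf (Fintype.card F : ZMod r) ∧ m < r ∧ ¬ r ∣ Fintype.card F ∧
      (r ∣ 2 * m → False) := by
  have h1 := dvd_card h2 hQ hY h
  have h3 := card_t0 Q
  have hq2 : 2 ≤ Fintype.card F := Fintype.one_lt_card
  have key : ∀ n, m ≤ n → (∀ r : ℕ, r.Prime → (∀ k, r ∣ Fintype.card F ^ k - 1 ↔ n ∣ k) →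
      r ∣ 2 * Nat.card {u : VV m F // T0 (Q u)}) → ∃ r : ℕ, r.Prime ∧ r ∣ Nat.card Y ∧
      m ≤ orderOf (Fintype.card F : ZMod r) ∧ m < r ∧ ¬ r ∣ Fintype.card F ∧ (r ∣ 2 * m → False) := fun n hn hd => by
    obtain ⟨r, r1, r2, r3, r4⟩ := Lib.Zsigmondy.exists_primitive (a := Fintype.card F) (n := n) hq2 (by omega) (by omega)
      fun k => hq k.1
    have r5 : n ≤ r - 1 := Nat.le_of_dvd (by have := r1.two_le; omega) r3
    have r6 : n ∣ orderOf (Fintype.card F : ZMod r) :=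
      (r2 _).1 ((Lib.Zsigmondy.dvd_pow_sub_one_iff (by omega) _).2 dvd_rfl)
    have r7 : orderOf (Fintype.card F : ZMod r) ≠ 0 := fun k => by
      have := (Lib.Zsigmondy.dvd_pow_sub_one_iff (a := Fintype.card F) (r := r) (by omega) n).1 ((r2 n).2 dvd_rfl)
      rw [k, zero_dvd_iff] at this
      omega
    have r8 : ¬ r ∣ 2 := fun k => by
      have := Nat.le_of_dvd two_pos k
      omega
    refine ⟨r, r1, ((r1.dvd_mul.1 (hd r r1 r2)).resolve_left r8).trans h1,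
      hn.trans (Nat.le_of_dvd (Nat.pos_of_ne_zero r7) r6), by omega, r4, fun k => ?_⟩
    have := Nat.le_of_dvd (by omega) ((r1.dvd_mul.1 k).resolve_left r8)
    omega
  have p1 : 1 ≤ Fintype.card F ^ m := Nat.one_le_pow _ _ (by omega)
  rcases gs_cases h2 hQ with e | e
  · refine key (2 * m) (by omega) fun r r1 r2 => ?_
    have e1 : 2 * Nat.card {u : VV m F // T0 (Q u)} = Fintype.card F ^ m * (Fintype.card F ^ m + 1) := by
      rw [e] at h3
      zify
      rw [h3]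
      ring
    have e2 : Fintype.card F ^ (2 * m) - 1 = (Fintype.card F ^ m - 1) * (Fintype.card F ^ m + 1) := by
      rw [mul_comm 2 m, pow_mul]
      generalize Fintype.card F ^ m = x at p1
      obtain ⟨y, rfl⟩ : ∃ y, x = y + 1 := ⟨x - 1, by omega⟩
      rw [Nat.add_sub_cancel, show (y + 1) ^ 2 = y * (y + 1 + 1) + 1 by ring, Nat.add_sub_cancel]
    have e3 := (r2 _).2 dvd_rfl
    rw [e2, r1.dvd_mul, r2] at e3
    rw [e1]
    exact (e3.resolve_left fun k => by have := Nat.le_of_dvd (by omega) k; omega).mul_left _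
  · refine key m le_rfl fun r r1 r2 => ?_
    have e1 : 2 * Nat.card {u : VV m F // T0 (Q u)} = Fintype.card F ^ m * (Fintype.card F ^ m - 1) := by
      rw [e] at h3
      zify [p1]
      rw [h3]
      ring
    rw [e1]
    exact ((r2 _).2 dvd_rfl).mul_left _

theorem le_dim {r : ℕ} (hr : r.Prime) (h0 : ¬ r ∣ Fintype.card F) {y : GG m F} (hy : y ^ r = 1) {W : Submodule F (VV m F)}
    (hW : ∀ w ∈ W, y w ∈ W) {w : VV m F} (hw : w ∈ W) (h1 : y w ≠ w) : orderOf (Fintype.card F : ZMod r) ≤ finrank F W := by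
  have := Fact.mk hr
  have h2 : (r : F) ≠ 0 := fun k => h0 ((prime_dvd_char_iff_dvd_card r).1 ((ringChar.spec F r).1 k |> fun k1 => by
    rcases (Nat.dvd_prime hr).1 k1 with k2 | k2
    · exact absurd k2 (CharP.ringChar_ne_one)
    · exact k2 ▸ dvd_rfl))
  have h3 : (y : VV m F →ₗ[F] VV m F) ^ r = 1 := H925.Rs.coe_pow_eq hy
  obtain ⟨b, hb⟩ := H950.exists_finrank_eq h2 h3 (W := W) hW
  rcases Nat.eq_zero_or_pos b with rfl | b0
  · have h4 : W ⊓ H951.fx (y : VV m F →ₗ[F] VV m F) = W := Submodule.eq_of_le_of_finrank_le inf_le_left (by omega)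
    have h5 : w ∈ H951.fx (y : VV m F →ₗ[F] VV m F) := (h4.symm ▸ hw : w ∈ W ⊓ H951.fx (y : VV m F →ₗ[F] VV m F)).2
    exact absurd (sub_eq_zero.1 (LinearMap.mem_ker.1 h5)) h1
  · have := Nat.le_mul_of_pos_right (orderOf (Fintype.card F : ZMod r)) b0
    omega

/-- an element of prime order `r` that normalises a field of degree less than `r` centralises it -/
theorem comm_of_NE {K : Subalgebra F (End F (VV m F))} {s r : ℕ} (hK : FS s K) (hm : 1 ≤ m) (hr : r.Prime) (h1 : m < r)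
    (h2 : r ∣ 2 * m → False) {y : GG m F} (hy : y ∈ NE K) (hyr : y ^ r = 1) {k : End F (VV m F)} (hk : k ∈ K) (v : VV m F) :
    k (y v) = y (k v) := by
  classical
  let _ := IsField.toField (R := K) hK.field
  have d1 : s ∣ 2 * m := by
    rw [← hK.dim, ← finrank_VV (F := F)]
    exact ⟨_, (Module.finrank_mul_finrank F K (VV m F)).symm⟩
  have cj : ∀ z ∈ NE K, ∀ k ∈ K, z.conj k ∈ K := fun z hz k hk =>
    (hz.2 k (z.conj k) fun v => by simp [LinearEquiv.conj_apply]).1 hk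
  let ψ : NE K →* (K ≃ₐ[F] K) :=
    { toFun := fun z =>
        { toFun := fun k => ⟨z.1.conj k.1, cj z.1 z.2 k.1 k.2⟩
          invFun := fun k => ⟨z.1⁻¹.conj k.1, cj _ ((NE K).inv_mem z.2) k.1 k.2⟩
          left_inv := fun k => Subtype.ext (LinearMap.ext fun v => by
            show z.1.symm (z.1 (k.1 (z.1.symm (z.1 v)))) = k.1 v
            simp)
          right_inv := fun k => Subtype.ext (LinearMap.ext fun v => by
            show z.1 (z.1.symm (k.1 (z.1 (z.1.symm v)))) = k.1 v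
            simp)
          map_mul' := fun a b => Subtype.ext (LinearMap.ext fun v => by
            show z.1 (a.1 (b.1 (z.1.symm v))) = z.1 (a.1 (z.1.symm (z.1 (b.1 (z.1.symm v)))))
            simp)
          map_add' := fun a b => Subtype.ext (map_add z.1.conj a.1 b.1)
          commutes' := fun c => Subtype.ext (LinearMap.ext fun v => by
            show z.1 (c • z.1.symm v) = c • v
            simp) }
      map_one' := AlgEquiv.ext fun k => rfl
      map_mul' := fun a b => AlgEquiv.ext fun k => rfl }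
  have : Finite (End F (VV m F)) := Finite.of_injective _ DFunLike.coe_injective
  have d2 : orderOf (ψ ⟨y, hy⟩) ∣ r := orderOf_dvd_of_pow_eq_one (by
    rw [← map_pow, show (⟨y, hy⟩ : NE K) ^ r = 1 from Subtype.ext hyr, map_one])
  have d3 : orderOf (ψ ⟨y, hy⟩) ∣ s := by
    rw [← hK.dim, ← IsGalois.card_aut_eq_finrank F K]
    exact orderOf_dvd_natCard _
  rcases (Nat.dvd_prime hr).1 d2 with e | e
  · have h3 : y.conj k = k := congrArg Subtype.val (DFunLike.congr_fun (orderOf_eq_one_iff.1 e) ⟨k, hk⟩)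
    conv_lhs => rw [← h3]
    simp [LinearEquiv.conj_apply]
  · exact (h2 ((e ▸ d3).trans d1)).elim

theorem map_eq {U W : Submodule F (VV m F)} {g : GG m F} (h : U.map (g : VV m F →ₗ[F] VV m F) = W) (v : VV m F) :
    g v ∈ W ↔ v ∈ U := by
  rw [← h]
  exact ⟨fun ⟨w, hw, e⟩ => g.injective e ▸ hw, fun hv => ⟨v, hv, rfl⟩⟩

/-- a decomposition into two summands -/
theorem dec_two (hm : 1 ≤ m) {k : ℕ} {U : Fin 2 → Submodule F (VV m F)} (h : Dec 2 k Y U) :
    finrank F (U 0) = m ∧ finrank F (perp (U 0)) = m ∧ Nd (U 0) ∧ ∀ g ∈ Y,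
      ((∀ v, g v ∈ U 0 ↔ v ∈ U 0) ∧ ∀ v, g v ∈ perp (U 0) ↔ v ∈ perp (U 0)) ∨
      ((∀ v, g v ∈ perp (U 0) ↔ v ∈ U 0) ∧ ∀ v, g v ∈ U 0 ↔ v ∈ perp (U 0)) := by
  obtain ⟨h1, h2, h3, h4⟩ := h
  have c := (h1 0).1.isCompl
  have e1 : U 0 ⊔ U 1 = ⊤ := by
    rw [eq_top_iff, ← h3]
    refine iSup_le fun i => ?_
    fin_cases i
    · exact le_sup_left
    · exact le_sup_right
  have e2 : U 1 = perp (U 0) := le_antisymm (h2 1 0 (by decide)) fun v hv => by
    obtain ⟨a, ha, b, hb, rfl⟩ := Submodule.mem_sup.1 (e1 ▸ Submodule.mem_top : v ∈ U 0 ⊔ U 1)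
    have h5 : a ∈ U 0 ⊓ perp (U 0) := ⟨ha, (Submodule.add_mem_iff_left _ (h2 1 0 (by decide) hb)).1 hv⟩
    rw [c.inf_eq_bot, Submodule.mem_bot] at h5
    rwa [h5, zero_add]
  have e3 := finrank_perp (U 0)
  have e4 := (h1 1).2
  rw [e2] at e4
  have e5 := (h1 0).2
  have e6 : U 0 ≠ U 1 := fun k => by
    have h5 := c.inf_eq_bot
    rw [← e2, ← k, inf_idem] at h5
    rw [e4, e5] at e3
    rw [h5, finrank_bot] at e5
    omega
  refine ⟨by omega, by omega, (h1 0).1, fun g hg => ?_⟩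
  obtain ⟨i, hi⟩ := h4 g hg 0
  obtain ⟨j, hj⟩ := h4 g hg 1
  have n : i ≠ j := fun k => e6 (Submodule.ext fun v => (map_eq hi v).symm.trans (k ▸ map_eq hj v))
  rw [← e2]
  fin_cases i <;> fin_cases j
  · exact absurd rfl n
  · exact Or.inl ⟨map_eq hi, map_eq hj⟩
  · exact Or.inr ⟨map_eq hi, map_eq hj⟩
  · exact absurd rfl n

theorem aut_two (hq : Fintype.card F = 2) (τ : F ≃+* F) : τ = RingEquiv.refl F := RingEquiv.ext fun x => by
  have h := FiniteField.pow_card x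
  rw [hq] at h
  have h1 : x * (x - 1) = 0 := by linear_combination h
  rcases mul_eq_zero.1 h1 with k | k
  · rw [k, map_zero, map_zero]
  · rw [sub_eq_zero.1 k, map_one, map_one]

theorem semi_two (hq : Fintype.card F = 2) {g : Perm (VV m F)} (hg : g ∈ semiSim m F) : ∃ c ∈ Sp m F, pm c = g := by
  obtain ⟨φ, l, hl, h⟩ := hg
  have h1 : l = 1 := by
    have := FiniteField.pow_card_sub_one_eq_one l hl
    rwa [hq, pow_one] at this
  rw [aut_two hq φ, h1] at h
  exact ⟨{ g with map_add' := h.1, map_smul' := h.2.1 }, fun u v => (semi_ff h u v).trans (one_mul _), rfl⟩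

end num

section fr

variable {m : ℕ} {F : Type} [Field F] [Fintype F] {Ω : Type} [Fintype Ω] [DecidableEq Ω] {X H T M S : Subgroup (Perm Ω)}
  (D : Fr m F X H T M S) (a : Ω)

theorem C_le : D.C a ≤ Sp m F := fun g hg => ((Rd.mem_pre D).1 hg).1

theorem trF {Q : QuadraticForm F (VV m F)} (h : D.Om Q) : TrF (D.C a) Q := fun g hg => by
  obtain ⟨t, ht, e⟩ := D.up.socH.trans D.up.prim a ((D.π ⟨g, hg⟩)⁻¹ a)
  obtain ⟨x, rfl⟩ := (D.soc t).1 (D.up.le ht)
  have hx : x.1 ∈ O Q := E_le_O (h.eqA ▸ (⟨x, ht, rfl⟩ : x.1 ∈ D.A))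
  refine ⟨g * x.1, ⟨⟨g, hg⟩ * x, ?_, rfl⟩, x.1⁻¹, (O Q).inv_mem hx, by group⟩
  show D.π (⟨g, hg⟩ * x) a = a
  rw [map_mul, Perm.mul_apply]
  exact (congrArg (D.π ⟨g, hg⟩) e).trans (Equiv.apply_symm_apply _ a)

theorem C_ne : D.C a ≠ Sp m F := fun e => by
  refine D.up.socH.not_le_stab D.up.prim (by have := D.up.sec.five; omega) a fun t ht => ?_
  obtain ⟨x, rfl⟩ := (D.soc t).1 (D.up.le ht)
  exact ((Rd.mem_hat D).1 ((Rd.mem_pre D).1 (e.symm ▸ x.2 : x.1 ∈ D.C a)).2).2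

theorem conj_C {g : Perm (VV m F)} (hg : g ∈ D.BB a) {c : GG m F} (hc : c ∈ D.C a) :
    ∃ c' ∈ D.C a, pm c' = g * pm c * g⁻¹ := Rd.conj_pre D hg hc

theorem pm_mem {c : GG m F} (hc : c ∈ D.C a) : pm c ∈ D.BB a := ((Rd.mem_pre D).1 hc).2

variable (hA : BoxAsch) (hR : BoxK4Red) (hE : BoxK4Ext) (hS : BoxK4Sub) (hD : BoxK4Dec) (hT : BoxDecT)
include hA hR hE hS hD hT

/-- the field of two elements -/
theorem main_two (hm : 3 ≤ m) {Q : QuadraticForm F (VV m F)} (h : D.Om Q) (hq : Fintype.card F = 2) :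
    D.C3 a ∨ D.R1 a ∨ D.R2 a ∨ Res (D.C a) := by
  have hB : ∀ g ∈ D.BB a, ∃ c ∈ D.C a, pm c = g := fun g hg => by
    obtain ⟨c, hc, rfl⟩ := semi_two hq (Rd.hat_le D hg)
    exact ⟨c, (Rd.mem_pre D).2 ⟨hc, hg⟩, rfl⟩
  rcases hA m F (D.C a) (by omega) (by omega) h.two (C_le D a) (C_ne D a) with ⟨W, w0, w1, hW⟩ | ⟨t, k, U, ht, hU⟩ |
    ⟨s, K, hK, hle⟩ | ⟨σ, τ, hτ, -⟩ | k | k
  · refine absurd (hR m F Ω X H T M S D a hm Q h W fun g hg w hw => ?_) (not_or.2 ⟨w0, w1⟩)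
    obtain ⟨c, hc, rfl⟩ := hB g hg
    exact hW c hc w hw
  · rcases ht.eq_or_lt with rfl | ht
    · obtain ⟨d1, d2, d3, d4⟩ := dec_two (by omega) hU
      refine (hD m F Ω X H T M S D a hm Q h _ _ d1 d2 d3.isCompl (Or.inl ⟨d3, rfl⟩) fun g hg => ?_).imp_right
        fun k => Or.inr (Or.inl k)
      obtain ⟨c, hc, rfl⟩ := hB g hg
      exact (d4 c hc).imp (fun k => ⟨fun u => (k.1 u).2, fun u => (k.2 u).2⟩) fun k => ⟨fun u => (k.1 u).2, fun u => (k.2 u).2⟩
    · exact absurd (trF D a h) (hT m F _ Q t k U (by omega) h.two h.pol (C_le D a) ht hU)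
  · refine (hE m F Ω X H T M S D a hm Q h K hK.field (fun e => ?_) (fun k hk => ⟨k, hk, hK.adj k hk⟩)
      fun g hg k hk => ?_).imp_right Or.inl
    · have : Nontrivial (VV m F) := Module.nontrivial_of_finrank_pos (R := F) (by rw [finrank_VV]; omega)
      have h1 := hK.dim
      rw [e, Subalgebra.finrank_bot] at h1
      exact hK.prime.one_lt.ne h1
    · obtain ⟨c, hc, rfl⟩ := hB g hg
      have h1 : ∀ v, c.conj k (c v) = c (k v) := fun v => by simp [LinearEquiv.conj_apply]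
      exact ⟨c.conj k, ((hle hc).2 k _ h1).1 hk, h1⟩
  · exact absurd (aut_two hq τ) hτ
  · exact Or.inl ⟨h.two, k⟩
  · exact Or.inr (Or.inr (Or.inr k))

/-- the Clifford argument -/
theorem main_big (hm : 3 ≤ m) {Q : QuadraticForm F (VV m F)} (h : D.Om Q) (hq : Fintype.card F ≠ 2) :
    D.C3 a ∨ D.R1 a ∨ D.R2 a ∨ Res (D.C a) := by
  obtain ⟨r, r1, r2, r3, r4, r5, r6⟩ := exists_prime h.two h.pol hm hq (C_le D a) (trF D a h)
  let N : Subgroup (GG m F) := closure {y | y ∈ D.C a ∧ y ^ r = 1}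
  have NC : N ≤ D.C a := (closure_le _).2 fun y hy => hy.1
  have pinj : Function.Injective (pm : GG m F → Perm (VV m F)) := fun x y e => LinearEquiv.ext fun v => DFunLike.congr_fun e v
  have s : Sit (D.BB a) N := ⟨h.two, by omega, Rd.hat_le D, NC.trans (C_le D a), fun g hg c hc => by
    induction hc using closure_induction with
    | mem y hy =>
      obtain ⟨c', h1, h2⟩ := conj_C D a hg hy.1
      refine ⟨c', subset_closure ⟨h1, pinj ?_⟩, fun v => ?_⟩
      · rw [map_pow, h2, conj_pow, ← map_pow, hy.2, map_one, mul_one, mul_inv_cancel]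
      · exact (DFunLike.congr_fun h2 (g v)).trans (congrArg (fun x => g (y x)) (g.symm_apply_apply v))
    | one => exact ⟨1, N.one_mem, fun v => rfl⟩
    | mul x y _ _ hx hy =>
      obtain ⟨x', x1, x2⟩ := hx
      obtain ⟨y', y1, y2⟩ := hy
      exact ⟨x' * y', N.mul_mem x1 y1, fun v => (congrArg x' (y2 v)).trans (x2 _)⟩
    | inv x _ hx =>
      obtain ⟨x', x1, x2⟩ := hx
      exact ⟨x'⁻¹, N.inv_mem x1, fun v => x'.injective (by rw [inv_app, x2, inv_app])⟩,
    hR m F Ω X H T M S D a hm Q h⟩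
  have := Fact.mk r1
  have : Finite (GG m F) := Finite.of_injective _ pinj
  obtain ⟨y0, hy0⟩ := exists_prime_orderOf_dvd_card' r r2
  have fix : ∀ v : VV m F, (∀ c ∈ N, c v = v) → v = 0 := by
    let Z : Submodule F (VV m F) :=
      { carrier := {v | ∀ c ∈ N, c v = v}
        add_mem' := fun {a b} ha hb c hc => by rw [map_add, ha c hc, hb c hc]
        zero_mem' := fun c hc => map_zero c
        smul_mem' := fun x v hv c hc => by rw [map_smul, hv c hc] }
    rcases s.red Z (fun g hg w hw c hc => by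
      obtain ⟨c', h1, h2⟩ := s.nor' hg hc
      rw [h2, hw c' h1]) with k | k
    · exact fun v hv => (Submodule.mem_bot F).1 (k ▸ (hv : v ∈ Z))
    · have h1 : y0.1 ^ r = 1 := congrArg Subtype.val (hy0 ▸ pow_orderOf_eq_one y0 : y0 ^ r = 1)
      have h2 : y0 = 1 := Subtype.ext (LinearEquiv.ext fun v =>
        (k.symm ▸ Submodule.mem_top : v ∈ Z) y0.1 (subset_closure ⟨y0.2, h1⟩))
      rw [h2, orderOf_one] at hy0
      exact absurd hy0 r1.one_lt.ne
  have hd : ∀ W : Submodule F (VV m F), Iv N W → W ≠ ⊥ → m ≤ finrank F W := fun W hW h0 => by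
    obtain ⟨w, hw, w0⟩ := (Submodule.ne_bot_iff W).1 h0
    by_contra hc
    refine w0 (fix w fun c hc' => (show N ≤ stabilizer (GG m F) w from (closure_le _).2 fun y hy => ?_) hc')
    by_contra h1
    exact hc (r3.trans (le_dim r1 r5 hy.2 (hW y (subset_closure hy)) hw h1))
  rcases core s hd with ⟨Q', q1, q2⟩ | ⟨U, u1, u2, u3, u4⟩ | irr
  · refine Or.inl ⟨h.two, Q', q1, fun c hc v => ?_⟩
    have h1 := form_uniq s hd q1 (q1.comp (C_le D a hc) (Q' := Q'.comp (c : VV m F →ₗ[F] VV m F)) fun v => rfl) q2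
      fun n hn v => by
        obtain ⟨c', c1, c2⟩ := s.nor _ (pm_mem D a hc) n hn
        exact (congrArg Q' (c2 v).symm).trans (q2 c1 _)
    exact DFunLike.congr_fun h1 v
  · exact (hD m F Ω X H T M S D a hm Q h _ _ u1 u2 u3.isCompl (Or.inl ⟨u3, rfl⟩) u4).imp_right fun k => Or.inr (Or.inl k)
  by_cases h0 : cen N = ⊥
  swap
  · exact (hE m F Ω X H T M S D a hm Q h _ (cen_field (by omega) irr) h0 (cen_adj h.two s.le) (cen_nor s)).imp_right Or.inl
  rcases hA m F (D.C a) (by omega) (by omega) h.two (C_le D a) (C_ne D a) with ⟨W, w0, w1, hW⟩ | ⟨t, k, U, ht, hU⟩ |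
    ⟨s', K, hK, hle⟩ | ⟨σ, τ, hτ, h1, h2⟩ | k | k
  · exact absurd ⟨fun c hc => hW c (NC hc), w0, w1⟩ (irr W)
  · rcases ht.eq_or_lt with rfl | ht
    · obtain ⟨d1, d2, d3, d4⟩ := dec_two (by omega) hU
      have h1 : N ≤ NS (U 0) := (closure_le _).2 fun y hy => by
        have h2 : y * y ∈ NS (U 0) := ⟨C_le D a (mul_mem hy.1 hy.1), fun v => by
          rcases d4 y hy.1 with k | k
          · exact (k.1 (y v)).trans (k.1 v)
          · exact (k.2 (y v)).trans (k.1 v)⟩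
        obtain ⟨j, hj⟩ := r1.odd_of_ne_two (by omega)
        have h3 : y = (y * y) ^ (j + 1) := by
          rw [← pow_two, ← pow_mul, show 2 * (j + 1) = r + 1 by omega, pow_succ, hy.2, one_mul]
        exact h3 ▸ pow_mem h2 _
      refine absurd ⟨fun c hc w => ((h1 hc).2 w).2, fun e => ?_, fun e => ?_⟩ (irr (U 0))
      · rw [e, finrank_bot] at d1
        omega
      · rw [e, finrank_top, finrank_VV] at d1
        omega
    · exact absurd (trF D a h) (hT m F _ Q t k U (by omega) h.two h.pol (C_le D a) ht hU)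
  · exfalso
    have h1 : N ≤ CE K := (closure_le _).2 fun y hy =>
      ⟨C_le D a hy.1, fun k hk => comm_of_NE hK (by omega) r1 r4 r6 (hle hy.1) hy.2 hk⟩
    have h2 : K = ⊥ := le_bot_iff.1 (h0 ▸ fun k hk => mem_cen.2 fun c hc => (h1 hc).2 k hk)
    have : Nontrivial (VV m F) := Module.nontrivial_of_finrank_pos (R := F) (by rw [finrank_VV]; omega)
    have h3 := hK.dim
    rw [h2, Subalgebra.finrank_bot] at h3
    exact hK.prime.one_lt.ne h3
  · exact absurd (fun g hg ρ hρ => sub_comm s h0 h1 (fun c hc => h2 c (NC hc)) hg hρ) (hS m F Ω X H T M S D a hm Q h σ τ hτ h1)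
  · exact Or.inl ⟨h.two, k⟩
  · exact Or.inr (Or.inr (Or.inr k))

theorem main (hm : 3 ≤ m) {Q : QuadraticForm F (VV m F)} (h : D.Om Q) : D.C3 a ∨ D.R1 a ∨ D.R2 a ∨ Res (D.C a) := by
  by_cases hq : Fintype.card F = 2
  · exact main_two D a hA hR hE hS hD hT hm h hq
  · exact main_big D a hA hR hE hS hD hT hm h hq

end fr

end Cfsg.Agent.SM.Sy.K4C

namespace Cfsg.Agent.SM.Sy

theorem boxK4m_of (hA : BoxAsch) (hR : BoxK4Red) (hE : BoxK4Ext) (hS : BoxK4Sub) (hD : BoxK4Dec) (hT : BoxDecT) : BoxK4m :=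
  fun _ _ _ _ _ _ _ _ _ _ _ _ D a hm _ h _ => K4C.main D a hA hR hE hS hD hT hm h

theorem boxK4p_of (hA : BoxAsch) (hR : BoxK4Red) (hE : BoxK4Ext) (hS : BoxK4Sub) (hD : BoxK4Dec) (hT : BoxDecT) : BoxK4p :=
  fun _ _ _ _ _ _ _ _ _ _ _ _ D a hm Q h hp => by
    rcases K4C.main D a hA hR hE hS hD hT hm h with k | k | ⟨Q', U, k1, k2, -⟩ | k
    · exact Or.inl k
    · exact Or.inr (Or.inl k)
    · exact absurd (uniq h.two h.pol k1.pol (by omega) ((h.eqA.symm.trans k1.eqA).le.trans LieClassical.OrthCore.E_le_O) ▸ hp) k2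
    · exact Or.inr (Or.inr k)

end Cfsg.Agent.SM.Sy
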