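import Cfsg.Agent.SM.Sy.Api
import Cfsg.Agent.SM.Sy.K4C
import Cfsg.Agent.SM.Mat.Geo
import Cfsg.Agent.H925.Rs.Ded
import Cfsg.Agent.H446.CS.Lin

/-!
# SM (S3570), `S = Sp_2m(2)`, `3 ≤ m ≤ 6`: elements of prime order and invariant subspaces (helper55)
-/

set_option autoImplicit false
set_option linter.unusedSectionVars false
set_option linter.unusedVariables false
set_option linter.style.haveILetI false

namespace Cfsg.Agent.SM.Sy.CLb

open Cfsg Equiv Subgroup Module MulAction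
open Cfsg.Agent.H925.Rs (Isos RedG)
open Cfsg.Agent.H884.El (PP)
open Cfsg.Agent.H951 (fx cm mem_fx)
open Cfsg.Agent.SM.Sy.K4C (Iv)
open scoped Pointwise commutatorElement

section grp

theorem comm15 {K : Type*} [Group K] [Finite K] (h : Nat.card K ∣ 15) (x y : K) : x * y = y * x := by
  haveI : IsZGroup K := IsZGroup.of_squarefree (Squarefree.squarefree_of_dvd h (by decide +kernel))
  haveI : Group.IsNilpotent K := (Group.isNilpotent_of_finite_tfae.out 0 3 rfl rfl).mpr fun p hp P => by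
    by_cases hd : p ∣ Nat.card K
    · have h1 := card_sylow_modEq_one p K
      have h2 : Nat.card (Sylow p K) ∣ 15 := P.card_dvd_index.trans ((index_dvd_card _).trans h)
      have h3 := (Nat.Prime.dvd_mul hp.out (m := 3) (n := 5)).1 (hd.trans h)
      have h4 : Nat.card (Sylow p K) = 1 := by
        have h5 : ∀ n ∈ Nat.divisors 15, (n % 3 = 1 % 3 ∨ n % 5 = 1 % 5) → n = 1 := by decide
        refine h5 _ (Nat.mem_divisors.2 ⟨h2, by decide⟩) (h3.imp (fun e => ?_) fun e => ?_)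
        · obtain rfl := (Nat.prime_dvd_prime_iff_eq hp.out (by decide)).1 e
          exact h1
        · obtain rfl := (Nat.prime_dvd_prime_iff_eq hp.out (by decide)).1 e
          exact h1
      haveI := (Nat.card_eq_one_iff_unique.1 h4).1
      exact Sylow.normal_of_subsingleton P
    · have h1 : (P : Subgroup K) = ⊥ := by
        rw [← card_eq_one, P.card_eq_multiplicity, Nat.factorization_eq_zero_of_not_dvd hd, pow_zero]
      exact h1 ▸ inferInstance
  exact (IsCyclic.isMulCommutative (α := K)).is_comm.comm x y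

/-- a subgroup of `S₁₀` of order dividing 75 is abelian -/
theorem comm75 {K : Type} [Group K] [Finite K] (h : Nat.card K ∣ 75) (φ : K →* Perm (Fin 10)) (hφ : Function.Injective φ)
    (x y : K) : x * y = y * x := by
  letI : MulAction K (Fin 10) := MulAction.compHom _ φ
  refine hφ (Perm.ext fun b => ?_)
  let U := stabilizer K b
  have h1 : U.index ≤ 10 := by
    rw [index_stabilizer]
    exact (Set.ncard_le_card _).trans (by simp)
  have h2 : U.index ∣ 75 := (index_dvd_card _).trans h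
  have h3 : U.normalCore.index ∣ U.index.factorial := by
    rw [normalCore_eq_ker, index_ker, index_eq_card, ← Nat.card_perm]
    exact card_subgroup_dvd_card _
  have h4 : U.normalCore.index ∣ 15 := by
    have h5 : ∀ n ≤ 10, n ∣ 75 → n.factorial ∣ 120 := by decide
    exact Nat.dvd_gcd (h3.trans (h5 _ h1 h2)) ((index_dvd_card _).trans h)
  have h5 := comm15 (K := K ⧸ U.normalCore) h4 (y : K ⧸ U.normalCore) x
  rw [← QuotientGroup.mk_mul, ← QuotientGroup.mk_mul, QuotientGroup.eq] at h5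
  have h6 : ((y * x)⁻¹ * (x * y)) • b = b := U.normalCore_le h5
  rwa [mul_smul, inv_smul_eq_iff] at h6

theorem le_of_comm {Γ : Type} [Group Γ] {N A Z : Subgroup Γ} (h : AS N A) (hZ : ∀ x ∈ A, ∀ y ∈ A, ⁅x, y⁆ ∈ Z) : A ≤ Z := by
  haveI := h.simple
  rcases (inferInstance : (_root_.commutator A).Normal).eq_bot_or_eq_top with e | e
  · refine (h.nab ⟨⟨fun x y => commutatorElement_eq_one_iff_mul_comm.1 ?_⟩⟩).elim
    exact mem_bot.1 (e ▸ commutator_mem_commutator (mem_top x) (mem_top y))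
  · intro x hx
    exact (commutator_le.2 fun a _ b _ => hZ a a.2 b b.2 : _root_.commutator A ≤ Z.subgroupOf A) (e ▸ mem_top (⟨x, hx⟩ : A))

theorem exists_orb {G β : Type} [Group G] [Finite G] [MulAction G β] [Fintype β] [DecidableEq β] {U : Subgroup G} {d : ℕ} :
    ∀ (n : ℕ) (A : Finset β), A.card = n → (∀ u ∈ U, ∀ c ∈ A, u • c ∈ A) → ¬ d ∣ n → ∃ b ∈ A, ¬ d ∣ (Mat.orb U b).card := by
  intro n
  induction n using Nat.strong_induction_on with
  | _ n ih =>
    intro A hn hA hd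
    obtain ⟨b, hb⟩ := Finset.card_pos.1 (show 0 < A.card from hn ▸ Nat.pos_of_ne_zero fun e => hd (e ▸ dvd_zero d))
    by_cases h : d ∣ (Mat.orb U b).card
    · have h1 := Mat.orb_subset hb hA
      have h2 := Finset.card_sdiff_add_card_eq_card h1
      have h3 := Finset.card_pos.2 ⟨_, Mat.self_orb U b⟩
      obtain ⟨c, hc, h4⟩ := ih _ (by omega) (A \ Mat.orb U b) rfl (Mat.inv_sdiff hA fun u hu c hc => Mat.smul_orb hu hc)
        fun e => hd (by rw [← hn, ← h2]; exact dvd_add e h)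
      exact ⟨c, (Finset.mem_sdiff.1 hc).1, h4⟩
    · exact ⟨b, hb, h⟩

end grp

variable {m : ℕ} {F : Type} [Field F] [Fintype F] {Y : Subgroup (GG m F)} {U W : Submodule F (VV m F)} {y : GG m F} {k r : ℕ}

theorem two (hq : Fintype.card F = 2) : (2 : F) = 0 := by
  have := FiniteField.cast_card_eq_zero F
  rwa [hq] at this

theorem hB : ∀ x : VV m F, ff m F x x = 0 := ff_self

theorem hN : ∀ x : VV m F, (∀ y, ff m F x y = 0) → x = 0 := fun _ => ff_nd

theorem nd_of (h : H951.Nd (fun u v => ff m F u v) W) : Nd W := fun u hu k => by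
  by_contra h0
  obtain ⟨v, hv, h1⟩ := h u hu h0
  exact h1 (k v hv)

theorem even_nd (h : Nd W) : Even (finrank F W) := H925.Rs.even_of_nd hB fun u hu h0 => by
  by_contra! h1
  exact h0 (h u hu h1)

/-- restriction to an invariant subspace -/
noncomputable def rs (h : Iv Y W) : Y →* (W ≃ₗ[F] W) where
  toFun g := LinearEquiv.ofLinearMap ((g.1 : VV m F →ₗ[F] VV m F).restrict (h g.1 g.2))
    (((g⁻¹).1 : VV m F →ₗ[F] VV m F).restrict (h (g⁻¹).1 (g⁻¹).2))
    (LinearMap.ext fun v => Subtype.ext (g.1.apply_symm_apply v)) (LinearMap.ext fun v => Subtype.ext (g.1.symm_apply_apply v))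
  map_one' := LinearEquiv.ext fun _ => rfl
  map_mul' _ _ := LinearEquiv.ext fun _ => rfl

theorem rs_apply (h : Iv Y W) (g : Y) (v : W) : (rs h g v : VV m F) = g.1 v := rfl

theorem iv_zpowers (h : ∀ u ∈ U, y u ∈ U) : Iv (zpowers y) U := by
  haveI : Finite (GG m F) := H925.Rs.finite_end
  intro g hg
  obtain ⟨n, rfl⟩ := (mem_powers_iff_mem_zpowers.2 hg : _)
  induction n with
  | zero => exact fun u hu => hu
  | succ n ih =>
    intro u hu
    show (y ^ (n + 1)) u ∈ U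
    rw [pow_succ']
    exact h _ (ih (pow_mem (mem_zpowers y) n) u hu)

theorem fix_nd (hy : y ∈ Sp m F) (hr : PP (Nat.card F) k r) (hk : 1 ≤ k) (hyr : y ^ r = 1) (hU : Nd U) (hi : ∀ u ∈ U, y u ∈ U)
    (h : ∀ i, 1 ≤ i → 2 * i ≤ finrank F U → ¬ k ∣ 2 * i) : U ≤ fx (y : End F (VV m F)) := by
  obtain ⟨n, hn⟩ := even_nd hU
  let z := rs (iv_zpowers hi) ⟨y, mem_zpowers y⟩
  by_cases h1 : z = 1
  · exact fun u hu => mem_fx.2 (congrArg Subtype.val (LinearEquiv.congr_fun h1 ⟨u, hu⟩))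
  exfalso
  have h2 : z ^ r = 1 := by
    rw [← map_pow, show (⟨y, mem_zpowers y⟩ : zpowers y) ^ r = 1 from Subtype.ext hyr, map_one]
  obtain ⟨i, i1, i2, i3⟩ := H925.Rs.exists_of_dvd (B := (ff m F).restrict U) (fun x => ff_self x.1)
    (fun x hx => Subtype.ext (hU x x.2 fun w hw => hx ⟨w, hw⟩)) (n := n) (by omega) hk hr
    (H925.Rs.dvd_card_of hr.prime (x := z) (fun u v => mem_Sp.1 hy u v) h2 h1)
  exact h i i1 (by omega) i3

theorem dec_dim {t j : ℕ} {U : Fin t → Submodule F (VV m F)} (h : Dec t j Y U) (s : Finset (Fin t)) :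
    finrank F ↥(s.sup U) = s.card * j := by
  induction s using Finset.induction_on with
  | empty => simp
  | insert a s ha ih =>
    have h1 : s.sup U ≤ perp (U a) := Finset.sup_le fun i hi => h.2.1 i a fun e => ha (e ▸ hi)
    have h2 := Submodule.finrank_add_eq_of_isCompl (h.1 a).1.isCompl
    have h3 := Submodule.finrank_sup_add_finrank_inf_eq (U a) (s.sup U)
    rw [(((h.1 a).1.isCompl.disjoint).mono_right h1).eq_bot, finrank_bot, (h.1 a).2, ih] at h3
    rw [Finset.sup_insert, Finset.card_insert_of_notMem ha]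
    exact h3.trans (by ring)

theorem not_dec {t j : ℕ} {U : Fin t → Submodule F (VV m F)} (hm : 1 ≤ m) (hY : Y ≤ Sp m F) (ht : 2 ≤ t) (h : Dec t j Y U)
    (hr : PP (Nat.card F) k r) (hk : 1 ≤ k) (hmr : m < r) (hi : ∀ i, 1 ≤ i → 2 * i ≤ m → ¬ k ∣ 2 * i) : ¬ r ∣ Nat.card Y := by
  classical
  intro hd
  haveI : Finite (GG m F) := H925.Rs.finite_end
  have h1 := dec_dim h Finset.univ
  rw [Finset.sup_univ_eq_iSup, h.2.2.1, finrank_top, finrank_VV, Finset.card_univ, Fintype.card_fin] at h1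
  obtain ⟨n, hn⟩ := even_nd (h.1 ⟨0, by omega⟩).1
  rw [(h.1 _).2] at hn
  have n0 : 1 ≤ n := Nat.pos_of_ne_zero fun e => by
    rw [hn, e] at h1
    omega
  have h2 : t ≤ m := by nlinarith
  have h3 : j ≤ m := by nlinarith
  obtain ⟨y, hy, ho⟩ := Mat.exists_ord hr.prime hd
  have h4 : ∀ i, U i ≤ fx (y : End F (VV m F)) := fun i => by
    have h5 : y • U i = U i := Mat.fix_of_lt (A := Finset.univ.image U) hr.prime ho (fun a ha => by
      obtain ⟨l, -, rfl⟩ := Finset.mem_image.1 ha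
      obtain ⟨l', e⟩ := h.2.2.2 y hy l
      exact Finset.mem_image.2 ⟨l', Finset.mem_univ _, e.symm⟩)
      (Finset.card_image_le.trans_lt (by rw [Finset.card_univ, Fintype.card_fin]; omega))
      (Finset.mem_image_of_mem U (Finset.mem_univ i))
    exact fix_nd (hY hy) hr hk (ho ▸ pow_orderOf_eq_one y) (h.1 i).1 (fun u hu => h5 ▸ Submodule.smul_mem_pointwise_smul u y _ hu)
      fun l l1 l2 => hi l l1 (by rw [(h.1 i).2] at l2; omega)
  have h5 : y = 1 := LinearEquiv.ext fun v => mem_fx.1 ((h.2.2.1 ▸ iSup_le h4 : ⊤ ≤ fx (y : End F (VV m F))) Submodule.mem_top)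
  rw [h5, orderOf_one] at ho
  exact hr.prime.one_lt.ne ho

/-- `Y` fixes a non-zero subspace of a non-degenerate plane -/
def Sm (Y : Subgroup (GG m F)) : Prop :=
  ∃ U P : Submodule F (VV m F), U ≠ ⊥ ∧ U ≤ P ∧ finrank F P = 2 ∧ Nd P ∧ Iv Y U

theorem Sm.or (h : Sm Y) (hY : Y ≤ Sp m F) : (∃ x : VV m F, x ≠ 0 ∧ ∀ g ∈ Y, ∃ c : F, g x = c • x) ∨
    ∃ U : Submodule F (VV m F), finrank F U = 2 ∧ Nd U ∧ Y ≤ NS U := by
  obtain ⟨U, P, h0, h1, h2, h3, h4⟩ := h
  by_cases e : U = P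
  · exact Or.inr ⟨U, e ▸ h2, e ▸ h3, fun g hg => mem_NS_of (hY hg) (h4 g hg)⟩
  · have h5 := Submodule.finrank_lt_finrank_of_lt (lt_of_le_of_ne h1 e)
    obtain ⟨x, hx, x0⟩ := U.exists_mem_ne_zero_of_ne_bot h0
    have h6 : Submodule.span F {x} = U := Submodule.eq_of_le_of_finrank_le ((Submodule.span_singleton_le_iff_mem _ _).2 hx)
      (by rw [finrank_span_singleton x0]; omega)
    exact Or.inl ⟨x, x0, fun g hg => (Submodule.mem_span_singleton.1 (h6.ge (h4 g hg x hx))).imp fun c => Eq.symm⟩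

theorem perp_ne (h : W ≠ ⊤) : perp W ≠ ⊥ := fun e => h (Submodule.eq_top_of_finrank_eq (by
  have := finrank_perp W
  rw [e, finrank_bot] at this
  rw [finrank_VV]
  omega))

theorem small (hY : Y ≤ Sp m F) (h : RedG Y) (hr : PP (Nat.card F) k r) (hk : 2 ≤ k) (hn : m < k) (hy : y ∈ Y) (h1 : y ^ r = 1)
    (h2 : y ≠ 1) : finrank F (fx (y : End F (VV m F))) + k = 2 * m ∧
      ∃ U : Submodule F (VV m F), U ≠ ⊥ ∧ Iv Y U ∧ U ≤ fx (y : End F (VV m F)) := by
  obtain ⟨W, w0, w1, hW⟩ := h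
  obtain ⟨b1, b2, b3, -⟩ := H925.Rs.blk hr hk (by rw [finrank_VV]; omega) h1 h2
  have hP := K4C.Iv.perp hY hW
  refine ⟨b1.trans finrank_VV, ?_⟩
  rcases b3 W (hW y hy) with e | e
  · exact ⟨W, w0, hW, e⟩
  rcases b3 _ (hP y hy) with e' | e'
  · exact ⟨_, perp_ne w1, hP, e'⟩
  have := Submodule.finrank_mono e
  have := Submodule.finrank_mono e'
  have := finrank_perp W
  omega

theorem sm_blk (hY : Y ≤ Sp m F) (h : RedG Y) (hr : PP (Nat.card F) k r) (hm : 3 ≤ m) (hk : k + 2 = 2 * m)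
    (hd : r ∣ Nat.card Y) : Sm Y := by
  obtain ⟨y, hy, h1, h2⟩ := H925.Rs.exists_elt hr.prime hd
  obtain ⟨h3, U, u0, u1, u2⟩ := small hY h hr (by omega) (by omega) hy h1 h2
  exact ⟨U, _, u0, u2, by omega, nd_of (H925.Rs.nd_fx hB hN hr (by omega) (hY hy) h1), u1⟩

/-- an element of odd type with a fixed plane -/
theorem exists_odd (hY : Y ≤ Sp m F) (hr : PP (Nat.card F) k r) (hk : 3 ≤ k) (ho : Odd k) (hm : m = k + 1) (hd : r ∣ Nat.card Y) :
    ∃ y ∈ Y, y ^ r = 1 ∧ finrank F (fx (y : End F (VV m F))) = 2 ∧ Nd (fx (y : End F (VV m F))) ∧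
      ∀ U, Iv Y U → finrank F U < k → U ≤ fx (y : End F (VV m F)) := by
  obtain ⟨y, hy, h1, h2⟩ := H925.Rs.exists_elt hr.prime hd
  have h3 := H925.Rs.dim_odd hB hN hr (by omega) ho (by rw [finrank_VV]; omega) (hY hy) h1 h2
  have h4 := H925.Rs.add_fx_cm hr (by omega) h1
  rw [finrank_VV] at h4
  refine ⟨y, hy, h1, by omega, nd_of (H925.Rs.nd_fx hB hN hr (by omega) (hY hy) h1), fun U hU hlt u hu => mem_fx.2 ?_⟩
  by_contra h5
  have h6 := K4C.le_dim hr.prime (Nat.card_eq_fintype_card (α := F) ▸ hr.not_dvd (by omega)) h1 (hU y hy) hu h5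
  rw [← Nat.card_eq_fintype_card, hr.ord] at h6
  omega

theorem ti_le (h : Ti W) : W ≤ perp W := fun w hw => mem_perp.2 fun u hu => h u hu w hw

theorem sq_of_fix (h2 : (2 : F) = 0) (hW : Ti W) (hd : finrank F W = m) (hy : y ∈ Sp m F) (h : ∀ w ∈ W, y w = w) : y * y = 1 := by
  have e : W = perp W := Submodule.eq_of_le_of_finrank_le (ti_le hW) (by have := finrank_perp W; omega)
  refine LinearEquiv.ext fun v => ?_
  have h1 : y v - v ∈ W := e ▸ mem_perp.2 fun u hu => by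
    rw [map_sub, ← mem_Sp.1 hy u v, h u hu, sub_self]
  have h3 := h _ h1
  rw [map_sub, sub_eq_iff_eq_add] at h3
  show y (y v) = v
  rw [h3, sub_add_eq_add_sub, add_self_VV h2, zero_sub, neg_eq_iff_add_eq_zero, add_self_VV h2]

theorem no27 {Y : Subgroup (GG 4 F)} {W : Submodule F (VV 4 F)} (hq : Fintype.card F = 2) (hY : Y ≤ Sp 4 F) (hW : Ti W) (hi : Iv Y W)
    (hd : finrank F W = 3 ∨ finrank F W = 4) : ¬ 27 ∣ Nat.card Y := by
  classical
  intro h27
  haveI : Finite (GG 4 F) := H925.Rs.finite_end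
  haveI : Fact (Nat.Prime 3) := ⟨by decide⟩
  have hq' : Nat.card F = 2 := Nat.card_eq_fintype_card.trans hq
  let K : Subgroup (GG 4 F) := (rs hi).ker.map Y.subtype
  have k1 : K ≤ Y := map_subtype_le _
  have k2 : ∀ g ∈ K, ∀ w ∈ W, g w = w := by
    rintro _ ⟨g, hg, rfl⟩ w hw
    exact congrArg Subtype.val (LinearEquiv.congr_fun (MonoidHom.mem_ker.1 hg) ⟨w, hw⟩)
  have k3 : 27 ∣ Nat.card K * Nat.card (W ≃ₗ[F] W) := by
    rw [card_map_of_injective Y.subtype_injective]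
    refine h27.trans ?_
    rw [← (rs hi).ker.card_mul_index, index_ker]
    exact Nat.mul_dvd_mul_left _ (card_subgroup_dvd_card _)
  have fin : ∀ {W' : Submodule F (VV 4 F)} {g : GG 4 F}, Ti W' → finrank F W' = 4 → g ∈ Y → orderOf g = 3 →
      (∀ w ∈ W', g w = w) → False := fun t d hg ho h => by
    have := orderOf_dvd_of_pow_eq_one ((sq _).trans (sq_of_fix (two hq) t d (hY hg) h))
    rw [ho] at this
    exact absurd this (by decide)
  rw [H446.CS.card_linearEquiv, hq'] at k3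
  rcases hd with hd | hd <;> rw [hd] at k3
  · have k4 : 3 ^ 2 ∣ Nat.card K := by
      rw [show ∏ i ∈ Finset.range 3, (2 ^ 3 - 2 ^ i) = 168 from rfl] at k3
      omega
    obtain ⟨R₀, hR⟩ := Sylow.exists_subgroup_card_pow_prime (G := K) 3 k4
    let R := R₀.map K.subtype
    have r1 : R ≤ K := map_subtype_le _
    have r9 : Nat.card R = 3 ^ 2 := by rw [card_map_of_injective K.subtype_injective, hR]
    have cd : ∀ Z : Submodule F (VV 4 F), (Finset.univ.filter (· ∈ Z)).card = 2 ^ finrank F Z := fun Z => by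
      rw [← Fintype.card_subtype, ← Nat.card_eq_fintype_card, ← hq']
      exact Module.natCard_eq_pow_finrank
    have d5 : finrank F (perp W) = 5 := by have := finrank_perp W; omega
    obtain ⟨u, hu, h9⟩ := exists_orb (U := R) (d := 9) 24 (Finset.univ.filter (· ∈ perp W) \ Finset.univ.filter (· ∈ W))
      (by rw [Finset.card_sdiff_of_subset fun v hv => Finset.mem_filter.2 ⟨Finset.mem_univ _, ti_le hW (Finset.mem_filter.1 hv).2⟩,
        cd, cd, d5, hd]; rfl)
      (Mat.inv_sdiff (fun g hg c hc => Finset.mem_filter.2 ⟨Finset.mem_univ _,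
          K4C.Iv.perp hY hi g (k1 (r1 hg)) c (Finset.mem_filter.1 hc).2⟩)
        fun g hg c hc => Finset.mem_filter.2 ⟨Finset.mem_univ _, hi g (k1 (r1 hg)) c (Finset.mem_filter.1 hc).2⟩) (by decide)
    obtain ⟨u1, u2⟩ := Finset.mem_sdiff.1 hu
    have u3 : u ∈ perp W := (Finset.mem_filter.1 u1).2
    have u4 : u ∉ W := fun e => u2 (Finset.mem_filter.2 ⟨Finset.mem_univ _, e⟩)
    have h3 := Mat.card_orb R u
    obtain ⟨g, hg, ho⟩ := Mat.exists_ord (U := R ⊓ stabilizer (GG 4 F) u) (p := 3) (by decide) (by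
      by_contra h4
      exact h9 ((Nat.Coprime.pow_left 2 ((Nat.Prime.coprime_iff_not_dvd (by decide)).2 h4)).dvd_of_dvd_mul_left
        (dvd_of_eq (h3.trans r9).symm)))
    refine fin (W' := W ⊔ Submodule.span F {u}) (fun a ha b hb => ?_) ?_ (k1 (r1 hg.1)) ho fun a ha => ?_
    · obtain ⟨a, a1, _, ha', rfl⟩ := Submodule.mem_sup.1 ha
      obtain ⟨b, b1, _, hb', rfl⟩ := Submodule.mem_sup.1 hb
      obtain ⟨c, rfl⟩ := Submodule.mem_span_singleton.1 ha'
      obtain ⟨d, rfl⟩ := Submodule.mem_span_singleton.1 hb'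
      simp only [map_add, map_smul, LinearMap.add_apply, LinearMap.smul_apply, hW a a1 b b1, mem_perp.1 u3 a a1,
        ff_eq_zero_comm.1 (mem_perp.1 u3 b b1), ff_self, smul_zero, add_zero]
    · have h4 := Submodule.finrank_sup_add_finrank_inf_eq W (Submodule.span F {u})
      have u0 : u ≠ 0 := fun e => u4 (e ▸ W.zero_mem)
      rw [((Submodule.disjoint_span_singleton' u0).2 u4).eq_bot, finrank_bot, finrank_span_singleton u0] at h4
      omega
    · obtain ⟨a, a1, _, ha', rfl⟩ := Submodule.mem_sup.1 ha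
      obtain ⟨c, rfl⟩ := Submodule.mem_span_singleton.1 ha'
      rw [map_add, map_smul, k2 g (r1 hg.1) a a1, show g u = u from hg.2]
  · obtain ⟨g, hg, ho⟩ := Mat.exists_ord (U := K) (p := 3) (by decide) (by
      rw [show ∏ i ∈ Finset.range 4, (2 ^ 4 - 2 ^ i) = 20160 from rfl] at k3
      omega)
    exact fin hW hd (k1 hg) ho (k2 g hg)

theorem pp (hq : Fintype.card F = 2) (hr : r.Prime) (h : orderOf ((2 : ℕ) : ZMod r) = k) : PP (Nat.card F) k r :=
  ⟨hr, by rw [Nat.card_eq_fintype_card, hq, h]⟩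

theorem ord2 {r k : ℕ} (hk : 0 < k) (h1 : ((2 : ℕ) : ZMod r) ^ k = 1) (h2 : ∀ j < k, 0 < j → ((2 : ℕ) : ZMod r) ^ j ≠ 1) :
    orderOf ((2 : ℕ) : ZMod r) = k := (orderOf_eq_iff hk).2 ⟨h1, h2⟩

theorem p5 (hq : Fintype.card F = 2) : PP (Nat.card F) 4 5 := pp hq (by decide) (ord2 (by decide) (by decide) (by decide))
theorem p7 (hq : Fintype.card F = 2) : PP (Nat.card F) 3 7 := pp hq (by decide) (ord2 (by decide) (by decide) (by decide))
theorem p11 (hq : Fintype.card F = 2) : PP (Nat.card F) 10 11 := pp hq (by decide) (ord2 (by decide) (by decide) (by decide))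
theorem p17 (hq : Fintype.card F = 2) : PP (Nat.card F) 8 17 := pp hq (by decide) (ord2 (by decide) (by decide) (by decide))
theorem p31 (hq : Fintype.card F = 2) : PP (Nat.card F) 5 31 := pp hq (by decide) (ord2 (by decide) (by decide) (by decide))

theorem sm4 {Y : Subgroup (GG 4 F)} (hq : Fintype.card F = 2) (hY : Y ≤ Sp 4 F) (h : RedG Y) (h7 : 7 ∣ Nat.card Y)
    (h27 : 27 ∣ Nat.card Y) : Sm Y := by
  obtain ⟨y, hy, h1, h2, h3, h4⟩ := exists_odd hY (p7 hq) le_rfl (by decide) rfl h7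
  obtain ⟨W, w0, w1, hW⟩ := h
  have hP := K4C.Iv.perp hY hW
  by_cases e : W ⊓ perp W = ⊥
  · have nd : Nd W := fun u hu k => (Submodule.eq_bot_iff _).1 e u ⟨hu, mem_perp.2 fun w hw => ff_eq_zero_comm.1 (k w hw)⟩
    have key : ∀ U : Submodule F (VV 4 F), U ≠ ⊥ → Nd U → Iv Y U → finrank F U ≤ 4 → Sm Y := fun U u0 u1 u2 u3 =>
      ⟨U, _, u0, fix_nd (hY hy) (p7 hq) (by decide) h1 u1 (u2 y hy) fun i i1 i2 => by omega, h2, h3, u2⟩
    have := finrank_perp W
    rcases le_total (finrank F W) 4 with k | k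
    · exact key W w0 nd hW k
    · exact key _ (perp_ne w1) nd.perp hP (by omega)
  · have t : Ti (W ⊓ perp W) := fun u hu w hw => mem_perp.1 hw.2 u hu.1
    have i := K4C.Iv.inf hW hP
    have d1 := Submodule.finrank_mono (ti_le t)
    have d2 := finrank_perp (W ⊓ perp W)
    by_cases k : finrank F ↥(W ⊓ perp W) < 3
    · exact ⟨_, _, e, h4 _ i k, h2, h3, i⟩
    · exact (no27 hq hY t i (by omega) h27).elim

theorem sm6 {Y : Subgroup (GG 6 F)} (hq : Fintype.card F = 2) (hY : Y ≤ Sp 6 F) (h : RedG Y) (h31 : 31 ∣ Nat.card Y)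
    (h17 : 17 ∣ Nat.card Y) : Sm Y := by
  obtain ⟨y, hy, h1, h2, h3, h4⟩ := exists_odd hY (p31 hq) (by decide) (by decide) rfl h31
  obtain ⟨z, hz, z1, z2⟩ := H925.Rs.exists_elt (by decide) h17
  obtain ⟨k, U, u0, u1, u2⟩ := small hY h (p17 hq) (by decide) (by decide) hz z1 z2
  have := Submodule.finrank_mono u2
  exact ⟨U, _, u0, h4 U u1 (by omega), h2, h3, u1⟩

end Cfsg.Agent.SM.Sy.CLb
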