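import Cfsg.Agent.SM.Sy.CLcA
import Cfsg.Agent.H402.Rg.Lst3
import Cfsg.Agent.H559.Rs.Sp8
import Cfsg.Agent.H638.G2Iso
import Cfsg.Agent.S5806
import Cfsg.Agent.S2121
import Cfsg.Agent.S1059

/-!
# SM (S3570), symplectic socles: `boxCLc : BoxCLc` (`Sp₆(q)`, `Sp₈(q)`, `q > 2`) (helper70)
-/

set_option autoImplicit false
set_option linter.unusedSectionVars false
set_option linter.unusedVariables false

namespace Cfsg.Agent.SM.Sy

open Cfsg Cfsg.Geo Module Matrix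
open Cfsg.Agent.ClassicalGeometry.SympBasic
open Cfsg.Agent.H884.El (PP)
open Cfsg.Agent.H248.Cov Cfsg.Agent.H262.El
open Cfsg.Agent.H402.Rg (exists_max exists_elt norm_dvd not_dvd_small card_sp)
open scoped MatrixGroups

namespace CLc

theorem card_aut_dvd (G : Type) [Group G] [Finite G] : Nat.card (MulAut G) ∣ Nat.card (Cfsg.Out G) * Nat.card G := by
  rw [Subgroup.card_eq_card_quotient_mul_card_subgroup (Cfsg.Inn G)]
  exact Nat.mul_dvd_mul_left _ (Subgroup.card_range_dvd _)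

variable {m : ℕ} {F : Type} [Field F] [Fintype F] {p f : ℕ}

theorem res_dvd (hm : 1 ≤ m) {M P : Subgroup (GL (Fin m ⊕ Fin m) F)} (hle : M ≤ spGL m F) (hc : IsResidualCore M P)
    {G : Type} [Group G] (e : (P ⧸ (scalars (Fin m ⊕ Fin m) F).subgroupOf P) ≃* G) : Nat.card M ∣ 2 * Nat.card (MulAut G) := by
  rw [← Nat.card_congr (MulAut.congr e).toEquiv]
  exact H109.Cov.card_dvd hm hle hc

theorem ne_top_of {W : Submodule F (Fin m ⊕ Fin m → F)} (h : finrank F W < m) : W ≠ ⊤ := by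
  rintro rfl
  rw [finrank_top, Module.finrank_fintype_fun_eq_card, Fintype.card_sum, Fintype.card_fin] at h
  omega

theorem two_eq (hp : p.Prime) (hF : Fintype.card F = p ^ f) (he : ¬ Odd (Fintype.card F)) : (2 : F) = 0 := by
  have hfp := Fact.mk hp
  have hchar : CharP F p := charP_of_card_eq_prime_pow hF
  have h4 : p = 2 := by
    by_contra h5
    exact he (by rw [hF]; exact (hp.odd_of_ne_two h5).pow)
  have h5 := CharP.cast_eq_zero F p
  rw [h4] at h5
  exact_mod_cast h5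

/-- the residual subgroups of `Sp₆(q)` with a primitive prime of exponent four -/
theorem res3 (hp : p.Prime) (hf : 1 ≤ f) (hF : Fintype.card F = p ^ f) (h3 : 3 ≤ Fintype.card F) {r : ℕ} (hr : PP p (f * 4) r)
    {M : Subgroup (GL (Fin 3 ⊕ Fin 3) F)} (hM : IsMaximalIn (spGL 3 F) M) (h : InSymplecticResidualClass M)
    (hd : r ∣ Nat.card M) : Nat.card M ∣ 240 := by
  have hfp := Fact.mk hp
  have hchar : CharP F p := charP_of_card_eq_prime_pow hF
  have hFn : Nat.card F = p ^ f := by rw [Nat.card_eq_fintype_card, hF]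
  obtain ⟨P, p', hc, hp', hch, h⟩ := S5806.result M hM h
  obtain rfl : p' = p := CharP.eq F hch hchar
  have hlt := hr.lt (by omega)
  have h4 := hr.dvd_sub_one (by omega)
  have h4' : 4 ∣ r - 1 := (Dvd.intro_left f rfl).trans h4
  have f1 : Fintype.card F = p' → f = 1 := fun k => Nat.pow_right_injective hp.two_le (by
    show p' ^ f = p' ^ 1
    rw [← hF, k, pow_one])
  have f2 : Fintype.card F = p' ^ 2 → f = 2 := fun k => Nat.pow_right_injective hp.two_le (hF.symm.trans k)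
  have hle := hM.1.le
  rcases h with ⟨⟨e⟩, -⟩ | ⟨⟨e⟩, -⟩ | ⟨⟨e⟩, h⟩ | ⟨⟨e⟩, h⟩ | ⟨⟨K, iK, iK', hK, ⟨e⟩⟩, -⟩ | ⟨e, h⟩ | ⟨⟨e⟩, h⟩ | ⟨⟨e⟩, h, -⟩
  · have h1 := res_dvd (by norm_num) hle hc e
    rwa [H109.Cov.aut_a5] at h1
  · have h1 := res_dvd (by norm_num) hle hc e
    rw [H109.Cov.aut_l7] at h1
    have := H109.Cov.pr_672 hr.prime (by omega) (hd.trans h1)
    omega
  · exfalso
    have h1 := res_dvd (by norm_num) hle hc e
    rw [H109.Cov.aut_l13] at h1
    rcases H109.Cov.pr_4368 hr.prime (by omega) (hd.trans h1) with h2 | h2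
    · omega
    subst h2
    rcases h with ⟨h5, h6⟩ | ⟨h5, -⟩
    · have h7 : p' ^ 6 % 13 = 1 := by rcases h6 with h6 | h6 | h6 | h6 | h6 | h6 <;> simp [Nat.pow_mod, h6]
      have h8 := (hr.dvd_iff hp.one_lt.le 6).1 (by omega)
      rw [f1 h5] at h8
      omega
    · rw [f2 h5] at h4
      omega
  · exfalso
    have h1 := res_dvd (by norm_num) hle hc e
    rw [← Nat.card_congr (Equiv.ofBijective _ (S2119.result 7 (by norm_num) (by norm_num))), Nat.card_perm, Nat.card_fin] at h1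
    have h2 : r ∣ 2419200 := (hd.trans h1).trans (by decide)
    have h5 : r = 5 := by
      have := H109.Cov.pr_2419200 hr.prime (by omega) h2
      omega
    have h6 := hr.of_pow hf
    rw [← hF, h, h5] at h6
    exact absurd ((h6.dvd_iff (by norm_num) 2).1 (by norm_num)) (by norm_num)
  · have h1 := res_dvd (by norm_num) hle hc e
    rw [H109.Cov.aut_u3 hK] at h1
    have := H109.Cov.pr_24192 hr.prime (by omega) (hd.trans h1)
    omega
  · exfalso
    have h1 := (H109.Cov.card_dvd (by norm_num) hle hc).trans (Nat.mul_dvd_mul_left 2 (H109.Cov.aut_j2 e))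
    have h5 : r = 5 := by
      have := H109.Cov.pr_2419200 hr.prime (by omega) (hd.trans h1)
      omega
    subst h5
    rcases h with ⟨h5, h6 | h6⟩ | ⟨h5, -⟩
    · exact hr.not_dvd (by omega) (by omega)
    · have h7 : p' ^ 2 % 5 = 1 := by rcases h6 with h6 | h6 <;> simp [Nat.pow_mod, h6]
      have h8 := (hr.dvd_iff hp.one_lt.le 2).1 (by omega)
      rw [f1 h5] at h8
      omega
    · rw [f2 h5] at h4
      omega
  · have h1 := res_dvd (by norm_num) hle hc e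
    rw [H109.Cov.aut_psl hp hf hFn ((by omega : 4 ≤ p').trans (Nat.le_self_pow (by omega) _))] at h1
    exact absurd (hd.trans h1) (not_dvd_small hp hf (by norm_num) hr)
  · exfalso
    subst h
    obtain ⟨e'⟩ := H638.G2Iso.equiv (F := F)
    have hcard := S1059.result hF
    have hfin : Finite (Lie.chevG2.group F) := Finite.of_equiv _ ((e.trans e').toEquiv)
    have h1 := (hd.trans (res_dvd (by norm_num) hle hc (e.trans e'))).trans (Nat.mul_dvd_mul_left 2 (card_aut_dvd _))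
    rw [S2121.result 2 f hF (hF ▸ h3), if_neg (by norm_num), hcard] at h1
    have h6 := hr.of_pow hf
    have h7 : 1 ≤ 2 ^ f := Nat.one_le_two_pow
    simp only [hr.prime.dvd_mul, h6.dvd_iff h7] at h1
    rcases h1 with h1 | h1 | (h1 | h1) | h1
    · have := Nat.le_of_dvd (by norm_num) h1
      omega
    · have := Nat.le_of_dvd hf h1
      omega
    · exact h6.not_dvd (by norm_num) (hr.prime.dvd_of_dvd_pow h1)
    · omega
    · omega

theorem core3 : Core 3 := by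
  intro F _ _ p f r X Y hp hf hF h3 hr hP hrY
  replace hr : PP p (f * 4) r := hr
  obtain ⟨M, hM, hYM⟩ := exists_max hP.leY hP.neY
  have hdvd : r ∣ Nat.card M := hrY.trans (Subgroup.card_dvd_of_le hYM)
  obtain ⟨y, hy, hyr, hy1⟩ := exists_elt hr.prime hdvd
  have hι : Fintype.card (Fin 3 ⊕ Fin 3) = 6 := by simp
  have hFn : Nat.card F = p ^ f := by rw [Nat.card_eq_fintype_card, hF]
  have hod := od_of_pp hF hf (by norm_num) hr
  have hrq : PP (Nat.card F) (2 * 2) r := by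
    rw [hFn]
    exact hr.of_pow hf
  have hrd := hod.lt
  have hyS : y ∈ spGL 3 F := hM.1.le hy
  have hdec : ∀ (t k : ℕ) (D : Fin t → Submodule F (Fin 3 ⊕ Fin 3 → F)), k < 4 → t < 4 → IsMDecomposition k D →
      ¬ M ≤ decompositionStabilizer D := by
    intro t k D hk ht hD hH
    have := H884.El.decomp_le hD hH hrq (by omega) hdvd
    omega
  rcases S5805.result M hM with ⟨W, h1, h2, rfl⟩ | ⟨W, h1, h2, h3, rfl⟩ | ⟨-, D, hD, rfl⟩ | ⟨-, D, hD, -, rfl⟩ |
    ⟨K, h1, h2, h3, rfl⟩ | ⟨-, K, h1, h2, h3, rfl⟩ | ⟨-, -, e, P, f₁, f₂, -, -, -, rfl⟩ | ⟨F₀, s, P, ζ, hs, hcard, -, -, rfl⟩ |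
    ⟨h, Q, h1, h2, rfl⟩ | h
  · exact Or.inl ⟨W, h1, totallySingular_ne_top (by norm_num) h2, hYM.trans inf_le_left⟩
  · exact Or.inl ⟨W, h1, ne_top_of h3, hYM.trans inf_le_left⟩
  · exact absurd inf_le_left (hdec 3 2 D (by norm_num) (by norm_num) hD.decomp)
  · exact absurd inf_le_left (hdec 2 3 D (by norm_num) (by norm_num) hD)
  · exfalso
    have k1 := hdvd.trans (norm_dvd (n := 1) (by norm_num) (by norm_num) (by norm_num) h1 h2 h3 inf_le_right inf_le_left)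
    rw [Finset.prod_range_one] at k1
    rcases hr.prime.dvd_mul.1 k1 with k2 | k2
    · have := Nat.le_of_dvd (by norm_num) k2
      omega
    rcases hr.prime.dvd_mul.1 k2 with k3 | k3
    · exact hod.ndvd (hr.prime.dvd_of_dvd_pow (hr.prime.dvd_of_dvd_pow k3))
    · rw [← pow_mul] at k3
      have k4 := (hod.dvd_iff Fintype.card_pos _).1 k3
      norm_num at k4
  · exact (H118.BS.no_quad_even hyS hrq (by decide) (by norm_num) hyr hy1 h1 h2 h3 hy.1).elim
  · exact (H884.El.kill_tensor e P inf_le_left (by norm_num) (by norm_num) (by rw [hι]) hrq (by rw [hι]; omega) hdvd).elim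
  · exact (H884.El.kill_subfield inf_le_left hs (by rw [Nat.card_eq_fintype_card]; exact hcard) hp hFn hr
      (by rw [hι]; omega) (by omega) hdvd).elim
  · exact Or.inr (Or.inl ⟨two_eq hp hF h, Q, h1, h2, hYM.trans (H559.Rs.quadSim_inf_le (by norm_num) h2)⟩)
  · exact Or.inr (Or.inr (Nat.le_of_dvd (by norm_num)
      ((Subgroup.card_dvd_of_le hYM).trans (res3 hp hf hF h3 hr hM h hdvd))))

/-- `Sp₈(q)`, `q` even -/
theorem even4 (hp : p.Prime) (hf : 1 ≤ f) (hF : Fintype.card F = p ^ f) (hq : 3 ≤ Fintype.card F) (he : ¬ Odd (Fintype.card F))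
    {r : ℕ} (hr : PP p (f * 6) r) {M : Subgroup (GL (Fin 4 ⊕ Fin 4) F)} (hM : IsMaximalIn (spGL 4 F) M)
    (hdvd : r ∣ Nat.card M) : Rdc M ∨ Qd M := by
  have hι : Fintype.card (Fin 4 ⊕ Fin 4) = 8 := by simp
  have hFn : Nat.card F = p ^ f := by rw [Nat.card_eq_fintype_card, hF]
  have hrq : PP (Nat.card F) (2 * 3) r := by
    rw [hFn]
    exact hr.of_pow hf
  have hrd := hrq.lt (by omega)
  have h2 := two_eq hp hF he
  obtain ⟨y, hy, hyr, hy1⟩ := exists_elt hr.prime hdvd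
  have hdec : ∀ (t k : ℕ) (D : Fin t → Submodule F (Fin 4 ⊕ Fin 4 → F)), k < 6 → t < 6 → IsMDecomposition k D →
      ¬ M ≤ decompositionStabilizer D := by
    intro t k D hk ht hD hH
    have := H884.El.decomp_le hD hH hrq (by omega) hdvd
    omega
  rcases S5823.result M hM with ⟨W, h1, h2, rfl⟩ | ⟨W, h1, h2, h3, rfl⟩ | ⟨-, D, hD, rfl⟩ | ⟨D, hD, rfl⟩ |
    ⟨h, -⟩ | ⟨K, h1, h2, -, rfl⟩ | ⟨h, -⟩ | ⟨h, -⟩ |
    ⟨F₀, s, P, ζ, hs, hcard, -, -, rfl⟩ | ⟨p', R, hp', hpo, hpc, -⟩ | ⟨h, -⟩ | ⟨-, Q, h1, h3, rfl⟩ | h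
  · exact Or.inl ⟨W, h1, totallySingular_ne_top (by norm_num) h2, inf_le_left⟩
  · exact Or.inl ⟨W, h1, ne_top_of h3, inf_le_left⟩
  · exact absurd inf_le_left (hdec 4 2 D (by norm_num) (by norm_num) hD.decomp)
  · exact absurd inf_le_left (hdec 2 4 D (by norm_num) (by norm_num) hD.decomp)
  · exact absurd h he
  · exact (H118.BS.no_quad_odd hy.2 hrq (by decide) (by norm_num) hyr hy1 h1 h2 hy.1).elim
  · exact absurd h he
  · exact absurd h he
  · exact (H884.El.kill_subfield inf_le_left hs (by rw [Nat.card_eq_fintype_card]; exact hcard) hp hFn hr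
      (by rw [hι]; omega) (by omega) hdvd).elim
  · exact absurd (by rw [hpc]; exact hpo) he
  · exact absurd h he
  · exact Or.inr ⟨h2, Q, h1, h3, H559.Rs.quadSim_inf_le (by norm_num) h3⟩
  · exfalso
    obtain ⟨P, p', -, hp', hch, h⟩ := S5824.result M hM h
    obtain rfl : p' = 2 := CharP.eq F hch (charP_two h2)
    rcases h with h | ⟨-, h | h⟩ | ⟨-, h | h⟩ | h | h | h
    all_goals first | omega | exact he h.2

/-- no element of order `r₃` normalises a quadratic field -/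
theorem no_ext3 {t : ℕ} (ht : PP (Nat.card F) 3 t) {z : GL (Fin 4 ⊕ Fin 4) F} (hz : z ∈ spGL 4 F) (hzt : z ^ t = 1) (hz1 : z ≠ 1)
    {K : Subalgebra F (Matrix (Fin 4 ⊕ Fin 4) (Fin 4 ⊕ Fin 4) F)} (hK : IsFieldSubalgebra 2 K) : z ∉ subalgebraNormalizer K := by
  intro hzK
  have h1 : (mx.symm z : GG 4 F) ^ t = 1 := by rw [← map_pow, hzt, map_one]
  have h2 : (mx.symm z : GG 4 F) ≠ 1 := fun h => hz1 (mx.symm.injective (h.trans (map_one _).symm))
  have h3 : (mx.symm z : GG 4 F) ∈ Sp 4 F := hz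
  obtain ⟨P, hP⟩ := H925.Rs.exists_ker (B := ff 4 F) ff_self nd0 ht (by norm_num) (by decide) h3 h1
    (H925.Rs.dim_odd (B := ff 4 F) ff_self nd0 ht (by norm_num) (by decide) (by rw [finrank_VV]; norm_num) h3 h1 h2)
  have h4 := H906.Cov.ext_dvd Nat.prime_two hK hzK (Nat.Coprime.coprime_dvd_left (orderOf_dvd_of_pow_eq_one hzt)
    ((Nat.coprime_primes ht.prime Nat.prime_two).2 (by have := ht.lt (by norm_num); omega))) P
  rw [show Matrix.toLin' (z : Matrix (Fin 4 ⊕ Fin 4) (Fin 4 ⊕ Fin 4) F) = ((mx.symm z : GG 4 F) : End F (VV 4 F)) from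
    LinearMap.ext fun v => rfl, hP] at h4
  omega

/-- `Sp₈(q)`, `q` odd, the prime `r₈` -/
theorem odd8 (hp : p.Prime) (hf : 1 ≤ f) (hF : Fintype.card F = p ^ f) (hodd : Odd (Fintype.card F)) {r : ℕ} (hr : PP p (f * 8) r)
    {N : Subgroup (GL (Fin 4 ⊕ Fin 4) F)} (hN : IsMaximalIn (spGL 4 F) N) (hd : r ∣ Nat.card N) :
    (∃ K : Subalgebra F (Matrix (Fin 4 ⊕ Fin 4) (Fin 4 ⊕ Fin 4) F), IsFieldSubalgebra 2 K ∧
      IsSelfAdjointFor (sympForm 4 F) K ∧ N ≤ subalgebraNormalizer K) ∨ Nat.card N ∣ 9792 := by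
  have hfp := Fact.mk hp
  obtain ⟨y, hy, hyr, hy1⟩ := exists_elt hr.prime hd
  rcases classA hp (charP_of_card_eq_prime_pow hF) hf hF hodd hr (fun H h1 h2 => S5824.result H h1 h2) hN hy hyr hy1 with
    h | ⟨P, hc, ⟨e⟩, -⟩
  · exact Or.inl h
  · have h17 : Fact (Nat.Prime 17) := ⟨by norm_num⟩
    have h1 := res_dvd (by norm_num) hN.1.le hc e
    rw [H109.Cov.aut_psl (p := 17) (f := 1) (by norm_num) le_rfl (by rw [Nat.card_zmod, pow_one]) (by norm_num)] at h1
    exact Or.inr h1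

theorem pr_9792 {s : ℕ} (hs : s.Prime) (h6 : 6 ∣ s - 1) : ¬ s ∣ 9792 := fun h => by
  have h2 := hs.two_le
  rw [show 9792 = 2 ^ 6 * (3 ^ 2 * 17) by norm_num] at h
  rcases hs.dvd_mul.1 h with h | h
  · have := Nat.le_of_dvd (by norm_num) (hs.dvd_of_dvd_pow h)
    omega
  rcases hs.dvd_mul.1 h with h | h
  · have := Nat.le_of_dvd (by norm_num) (hs.dvd_of_dvd_pow h)
    omega
  · have := (Nat.prime_dvd_prime_iff_eq hs (by norm_num)).1 h
    omega

theorem num4 {q f a b : ℕ} (hq : 3 ≤ q) (hf : f < q) (ha : a ≤ 2 * (q ^ 8 * ((q ^ 4 - 1) * (q ^ 8 - 1))))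
    (hb : b ≤ 2 * (3 * f * (q ^ 3 * (q ^ 6 - 1)))) : a * b < q ^ 16 * ((q ^ 2 - 1) * (q ^ 4 - 1) * (q ^ 6 - 1) * (q ^ 8 - 1)) := by
  have k : ∀ i, 1 ≤ i → 3 ≤ q ^ i := fun i hi => hq.trans (Nat.le_self_pow (by omega) q)
  have h1 : 0 < q ^ 4 - 1 := by have := k 4 (by norm_num); omega
  have h2 : 0 < q ^ 6 - 1 := by have := k 6 (by norm_num); omega
  have h3 : 0 < q ^ 8 - 1 := by have := k 8 (by norm_num); omega
  have h4 : 1 ≤ q ^ 2 - 1 := by have := k 2 (by norm_num); omega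
  have h5 : 12 * f < q ^ 5 * (q ^ 2 - 1) := by
    have h6 : 3 ^ 4 ≤ q ^ 4 := Nat.pow_le_pow_left hq 4
    calc 12 * f < 3 ^ 4 * q := by omega
      _ ≤ q ^ 4 * q := Nat.mul_le_mul_right _ h6
      _ = q ^ 5 * 1 := by ring
      _ ≤ _ := Nat.mul_le_mul_left _ h4
  calc a * b ≤ _ := Nat.mul_le_mul ha hb
    _ = (q ^ 11 * ((q ^ 4 - 1) * (q ^ 6 - 1) * (q ^ 8 - 1))) * (12 * f) := by ring
    _ < (q ^ 11 * ((q ^ 4 - 1) * (q ^ 6 - 1) * (q ^ 8 - 1))) * (q ^ 5 * (q ^ 2 - 1)) :=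
      Nat.mul_lt_mul_of_pos_left h5 (by positivity)
    _ = _ := by ring

/-- `Sp₈(q)`, `q` odd -/
theorem odd4 (hp : p.Prime) (hf : 1 ≤ f) (hF : Fintype.card F = p ^ f) (hq : 3 ≤ Fintype.card F) (hodd : Odd (Fintype.card F))
    {r : ℕ} (hr : PP p (f * 6) r) {N M : Subgroup (GL (Fin 4 ⊕ Fin 4) F)} (hN : IsMaximalIn (spGL 4 F) N)
    (hM : IsMaximalIn (spGL 4 F) M) (hP : Pr N M) (hdvd : r ∣ Nat.card M) : Rdc M := by
  have hfp := Fact.mk hp
  have hι : Fintype.card (Fin 4 ⊕ Fin 4) = 8 := by simp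
  have hFn : Nat.card F = p ^ f := by rw [Nat.card_eq_fintype_card, hF]
  have hp2 : p ≠ 2 := by
    rintro rfl
    rw [hF] at hodd
    exact absurd ((Nat.odd_pow_iff (by omega)).1 hodd) (by decide)
  obtain ⟨s, hs, -⟩ := exists_r8 hp hf
  obtain ⟨t, ht⟩ : ∃ t, PP p (f * 3) t := H884.El.exists_pp hp.two_le (by omega) fun h => hp2 h.1
  have hrq : PP (Nat.card F) (2 * 3) r := by
    rw [hFn]
    exact hr.of_pow hf
  have hsq : PP (Fintype.card F) 8 s := by
    rw [hF]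
    exact hs.of_pow hf
  have htq : PP (Nat.card F) 3 t := by
    rw [hFn]
    exact ht.of_pow hf
  have htq' : PP (Fintype.card F) 3 t := Nat.card_eq_fintype_card (α := F) ▸ htq
  have r6 : 6 ∣ r - 1 := hrq.dvd_sub_one (by norm_num)
  have t6 : 6 ∣ t - 1 := htq.two_mul_dvd le_rfl (by decide)
  have rt : r ≠ t := hrq.ne_of_ne htq (by norm_num)
  have r2 := hr.prime.two_le
  have t2 := ht.prime.two_le
  obtain ⟨y, hy, hyr, hy1⟩ := exists_elt hr.prime hdvd
  have hS : Nat.card (spGL 4 F) = Fintype.card F ^ 16 * ((Fintype.card F ^ 2 - 1) * (Fintype.card F ^ 4 - 1) *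
      (Fintype.card F ^ 6 - 1) * (Fintype.card F ^ 8 - 1)) := by
    rw [card_sp]
    simp only [Finset.prod_range_succ, Finset.prod_range_zero, one_mul]
    rfl
  have hd := hP.dvd
  rw [hS] at hd
  -- the factor `N`
  have hsN : s ∣ Nat.card N := by
    refine (hs.prime.dvd_mul.1 (Dvd.dvd.trans ?_ hd)).resolve_right fun h => ?_
    · exact (((hsq.dvd_iff Fintype.card_pos 8).2 dvd_rfl).mul_left _).mul_left _
    · rcases odd8 hp hf hF hodd hs hM h with ⟨K, h1, h2, h3⟩ | h1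
      · exact H118.BS.no_quad_odd (hM.1.le hy) hrq (by decide) (by norm_num) hyr hy1 h1 h2 (h3 hy)
      · exact pr_9792 hr.prime r6 (hdvd.trans h1)
  obtain ⟨htN, hcN⟩ : ¬ t ∣ Nat.card N ∧
      Nat.card N ≤ 2 * (Fintype.card F ^ 8 * ((Fintype.card F ^ 4 - 1) * (Fintype.card F ^ 8 - 1))) := by
    have k8 : 3 ^ 8 ≤ Fintype.card F ^ 8 := Nat.pow_le_pow_left hq 8
    have k4 : 3 ^ 4 ≤ Fintype.card F ^ 4 := Nat.pow_le_pow_left hq 4
    have k0 : 1 ≤ (Fintype.card F ^ 4 - 1) * (Fintype.card F ^ 8 - 1) := Nat.mul_pos (by omega) (by omega)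
    rcases odd8 hp hf hF hodd hs hN hsN with ⟨K, h1, h2, h3⟩ | h1
    · refine ⟨fun h => ?_, Nat.le_of_dvd (by positivity) ?_⟩
      · obtain ⟨z, hz, hzt, hz1⟩ := exists_elt ht.prime h
        exact no_ext3 htq (hN.1.le hz) hzt hz1 h1 (h3 hz)
      · have h4 := norm_dvd (n := 2) (by norm_num) (by norm_num) (by norm_num) h1 h2 (fun k hk v => by
          have h5 := h2 k hk v v
          rw [sympForm_swap v] at h5
          exact (mul_eq_zero.1 (by linear_combination h5)).resolve_left (H402.Rg.two_ne hodd)) hN.1.le h3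
        simp only [Finset.prod_range_succ, Finset.prod_range_zero, one_mul, ← pow_mul] at h4
        exact h4
    · refine ⟨fun h => pr_9792 ht.prime t6 (h.trans h1), (Nat.le_of_dvd (by norm_num) h1).trans ?_⟩
      have := Nat.mul_le_mul k8 k0
      omega
  have htM : t ∣ Nat.card M := by
    refine (ht.prime.dvd_mul.1 (Dvd.dvd.trans ?_ hd)).resolve_left htN
    exact ((((htq'.dvd_iff Fintype.card_pos 6).2 (by norm_num)).mul_left _).mul_right _).mul_left _
  obtain ⟨z, hz, hzt, hz1⟩ := exists_elt ht.prime htM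
  rcases geo hp hf hF hodd le_rfl hr hM hdvd with ⟨W, h1, h2, h3⟩ | ⟨W, h1, h2, h3, h4⟩ | ⟨K, h1, -, h3⟩ | ⟨K, h1, -, -, h3⟩ |
    ⟨R, h1, h2, h3, h4⟩ | h
  · exact ⟨W, h1, totallySingular_ne_top (by norm_num) h2, h3⟩
  · exact ⟨W, h1, ne_top_of h3, h4⟩
  · exact absurd (h3 hz) (no_ext3 htq (hM.1.le hz) hzt hz1 h1)
  · exact absurd (h3 hz) (no_ext3 htq (hM.1.le hz) hzt hz1 h1)
  · exfalso
    have k : ∀ {e u : ℕ}, PP (Nat.card F) e u → 2 ≤ e → u ∣ Nat.card M → u ≤ 9 := fun {e u} hu he hd => by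
      rcases symp_prime (k := 3) (by norm_num) h4 h2 h1 (by norm_num) (by rw [hι]; norm_num) h3 hu.prime hd with h | h | h
      · omega
      · have := Nat.le_of_dvd one_pos ((hu.dvd_iff Nat.card_pos 1).1 (by rwa [pow_one]))
        omega
      · exact h
    have := k hrq (by norm_num) hdvd
    have := k htq (by norm_num) htM
    omega
  · exfalso
    rcases res_rows hp (charP_of_card_eq_prime_pow hF) hf hF hodd le_rfl hr (S5824.result M hM h) hy hyr hy1 with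
      ⟨P, hc, ⟨e⟩, -, -, h7⟩ | ⟨-, -, -, h7⟩ | ⟨-, P, hc, K, iK, iK', hK, ⟨e⟩⟩
    · have h1 := res_dvd (by norm_num) hM.1.le hc e
      rw [H109.Cov.aut_l7] at h1
      have := H109.Cov.pr_672 ht.prime (by omega) (htM.trans h1)
      omega
    · omega
    · have hKp : Nat.card K = p ^ (3 * f) := by rw [Nat.card_eq_fintype_card, hK, hF, ← pow_mul, mul_comm]
      have hKq : p ^ (3 * f) = Fintype.card F ^ 3 := by rw [hF, ← pow_mul, mul_comm]
      have k3 : 3 ^ 3 ≤ Fintype.card F ^ 3 := Nat.pow_le_pow_left hq 3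
      have k6 : 3 ^ 6 ≤ Fintype.card F ^ 6 := Nat.pow_le_pow_left hq 6
      have h1 := res_dvd (by norm_num) hM.1.le hc e
      rw [H109.Cov.aut_psl hp (by omega) hKp (by omega), hKq, ← pow_mul] at h1
      have k0 : 0 < Fintype.card F ^ 6 - 1 := by omega
      have h2 := num4 hq (hF ▸ Nat.lt_pow_self hp.one_lt) hcN (Nat.le_of_dvd (by positivity) h1)
      exact absurd (Nat.le_of_dvd (Nat.mul_pos Nat.card_pos Nat.card_pos) hd) (Nat.not_le.2 h2)

theorem Rdc.mono {Y M : Subgroup (GL (Fin m ⊕ Fin m) F)} (h : Rdc M) (hY : Y ≤ M) : Rdc Y :=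
  let ⟨W, h1, h2, h3⟩ := h
  ⟨W, h1, h2, hY.trans h3⟩

theorem core4 : Core 4 := by
  intro F _ _ p f r X Y hp hf hF h3 hr hP hrY
  replace hr : PP p (f * 6) r := hr
  obtain ⟨M, hM, hYM⟩ := exists_max hP.leY hP.neY
  obtain ⟨N, hN, hXN⟩ := exists_max hP.leX hP.neX
  have hdvd : r ∣ Nat.card M := hrY.trans (Subgroup.card_dvd_of_le hYM)
  by_cases hodd : Odd (Fintype.card F)
  · exact Or.inl ((odd4 hp hf hF h3 hodd hr hN hM (hP.mono hN hM hXN hYM) hdvd).mono hYM)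
  · rcases even4 hp hf hF h3 hodd hr hM hdvd with h | ⟨h2, Q, h4, h5, h6⟩
    · exact Or.inl (h.mono hYM)
    · exact Or.inr (Or.inl ⟨h2, Q, h4, h5, hYM.trans h6⟩)

end CLc

/-- **[SY-CLc]** the four cases, `m = 3, 4`, `q > 2` -/
theorem boxCLc : BoxCLc := by
  intro m F _ _ Ω _ _ X H T M S D a h3 h4 hq
  obtain rfl | rfl : m = 3 ∨ m = 4 := by omega
  · exact CLc.cases_of D CLc.core3 h3 h4 hq a
  · exact CLc.cases_of D CLc.core4 h3 h4 hq a

end Cfsg.Agent.SM.Sy
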