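import Cfsg.Agent.SM.Sy.CLcA
import Cfsg.Agent.H402.Rg.Odd2
import Cfsg.Agent.H909.Sp4GeomB
import Cfsg.Agent.S5788
import Cfsg.Agent.S0775
import Cfsg.Agent.S0749

/-!
# SM (S3570), symplectic socles: factorisations of `Sp₄(q)`, `q` odd, geometric part (helper70)
-/

set_option autoImplicit false
set_option linter.unusedSectionVars false
set_option linter.unusedVariables false

namespace Cfsg.Agent.SM.Sy

open Cfsg Cfsg.Geo Module Matrix
open Cfsg.Agent.ClassicalGeometry.SympBasic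
open Cfsg.Agent.H876 (tGL tGL_mulVec tGL_mem spToGL)
open Cfsg.Agent.H402.Rg (Two TA Cd exists_cd conj_two two_of_TA two_ne_pm)
open Cfsg.Agent.H909.Sp4List (I4 T1 T2 T4)
open scoped MatrixGroups

namespace CLc

variable {F : Type} [Field F] [Fintype F]

theorem two_ord {p : ℕ} (hp : p.Prime) [CharP F p] {g : GL I4 F} (h : Two g) : orderOf g = p := by
  have := Fact.mk hp
  have k : ∀ (n : ℕ) (x : I4 → F), ((g ^ n : GL I4 F) : Matrix I4 I4 F) *ᵥ x = x + (n : F) • ((g : Matrix I4 I4 F) *ᵥ x - x) := by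
    intro n x
    induction n with
    | zero => simp
    | succ n ih =>
      rw [pow_succ', Units.val_mul, ← mulVec_mulVec, ih, mulVec_add, mulVec_smul, h.1, Nat.cast_succ, add_smul, one_smul]
      abel
  refine orderOf_eq_prime (Units.ext (H402.Rg.eq_of_mulVec fun x => ?_)) fun e => two_ne_pm h (Or.inl e)
  rw [k, CharP.cast_eq_zero, zero_smul, add_zero, Units.val_one, one_mulVec]

theorem mem_TA {Y : Subgroup (GL I4 F)} {u : I4 → F} (h : tGL u (-1) ∈ Y) : (1 : F) ∈ TA Y u :=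
  ⟨_, h, fun x => by rw [tGL_mulVec, sympForm_swap x u, neg_mul_neg]⟩

theorem mem_norm {K : Subalgebra F (Matrix I4 I4 F)} {g : GL I4 F}
    (h : ∀ k ∈ K, (g : Matrix I4 I4 F) * k = k * (g : Matrix I4 I4 F)) : g ∈ subalgebraNormalizer K := fun k => by
  constructor
  · intro hk
    rwa [h k hk, Units.mul_inv_cancel_right]
  · intro hk
    have h1 := h _ hk
    rw [Units.inv_mul_cancel_right, Units.mul_right_inj] at h1
    rwa [h1] at hk

/-- elements of rank two are conjugate into `Sp₂(q²).2` -/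
theorem two_T4 {M : Subgroup (GL I4 F)} (h : T4 M) {g : GL I4 F} (hg : g ∈ spGL 2 F) (h2 : Two g) :
    ∃ y ∈ spGL 2 F, y * g * y⁻¹ ∈ M := by
  obtain ⟨K, h3, h4, h5, rfl⟩ := h
  obtain ⟨E, iE, iE', iA, n, c, h6, rfl, h8⟩ := exists_cd (by norm_num) (by norm_num) h3 h4 h5
  obtain rfl : n = 1 := by omega
  obtain ⟨y, hy, A, hA, e⟩ := conj_two c h6 hg h2
  refine ⟨y, hy, e ▸ ⟨mem_norm ?_, c.Psi_mem.2 hA⟩⟩
  rintro _ ⟨k, rfl⟩
  exact c.Psi_comm A k

theorem exists_two : ∃ g ∈ spGL 2 F, Two g :=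
  two_of_TA (u₁ := Pi.single (Sum.inl 0) 1) (u₂ := Pi.single (Sum.inl 1) 1) (fun h => by simpa using congrFun h (Sum.inl 0))
    (fun c h => by simpa using congrFun h (Sum.inl 1)) (by rw [sympForm_eq_sum]; simp) (mem_TA (tGL_mem _ _)) one_ne_zero
    (mem_TA (tGL_mem _ _)) one_ne_zero

theorem map_eq {W : Submodule F (I4 → F)} {g : GL I4 F} (h : ∀ w ∈ W, (g : Matrix I4 I4 F) *ᵥ w ∈ W) :
    W.map (Matrix.toLin' (g : Matrix I4 I4 F)) = W := by
  refine Submodule.eq_of_le_of_finrank_eq (Submodule.map_le_iff_le_comap.2 h) ?_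
  rw [show Matrix.toLin' (g : Matrix I4 I4 F) = ((mx.symm g : GG 2 F) : End F (VV 2 F)) from LinearMap.ext fun v => rfl]
  exact LinearEquiv.finrank_map_eq _ _

theorem two_T2 {M : Subgroup (GL I4 F)} (h : T2 M) : ∃ g ∈ M, Two g := by
  obtain ⟨D, hD, rfl⟩ := h
  have k : ∀ i, ∃ u ∈ D i, u ≠ 0 := fun i => (D i).exists_mem_ne_zero_of_ne_bot fun h => by
    have := hD.decomp.finrank_eq i
    rw [h, finrank_bot] at this
    omega
  have t : ∀ i, ∀ u ∈ D i, tGL u (-1) ∈ decompositionStabilizer D ⊓ spGL 2 F := fun i u hu =>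
    ⟨⟨1, fun j => map_eq fun w hw => by
      rw [tGL_mulVec]
      by_cases e : j = i
      · exact (D j).add_mem hw ((D j).smul_mem _ (e ▸ hu))
      · rwa [hD.orthogonal j i e w hw u hu, mul_zero, zero_smul, add_zero]⟩, tGL_mem _ _⟩
  obtain ⟨u, hu, hu0⟩ := k 0
  obtain ⟨v, hv, hv0⟩ := k 1
  refine two_of_TA hu0 (fun c e => ?_) (hD.orthogonal 0 1 (by decide) u hu v hv) (mem_TA (t 0 u hu)) one_ne_zero
    (mem_TA (t 1 v hv)) one_ne_zero
  obtain ⟨-, x, hx, h1⟩ := hD.nondegenerate 1 v hv hv0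
  exact h1 (hD.orthogonal 0 1 (by decide) v (e ▸ (D 0).smul_mem c hu) x hx)

/-- the order of the parabolic subgroups -/
theorem card_T1 {M : Subgroup (GL I4 F)} (h : T1 M) :
    Nat.card M = Nat.card F ^ 4 * ((Nat.card F ^ 2 - 1) * (Nat.card F - 1)) := by
  obtain ⟨W, h0, h1, rfl⟩ := h
  have e : (stabilizing (spToMat 2 F) (W : Set (I4 → F))).map (spToGL 2 F) = subspaceStabilizer W ⊓ spGL 2 F := by
    ext g
    constructor
    · rintro ⟨A, hA, rfl⟩
      exact ⟨hA, mem_symplecticGroup_iff.1 A.2⟩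
    · rintro ⟨h2, h3⟩
      exact ⟨⟨g, mem_symplecticGroup_iff.2 h3⟩, h2, Units.ext rfl⟩
  have hi : Function.Injective (spToGL 2 F) := fun A B h => Subtype.ext (congrArg Units.val h)
  have h2 := H262.El.two_mul_finrank_le (m := 2) h1
  have h3 : finrank F W ≠ 0 := fun h => h0 (Submodule.finrank_eq_zero.1 h)
  have h2' : finrank F W ≤ 2 := Nat.le_of_mul_le_mul_left h2 (by norm_num)
  rw [← e, Subgroup.card_map_of_injective hi, S0775.result (Nat.card_eq_fintype_card (α := F)).symm 2 _ h2' W rfl h1]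
  obtain h4 | h4 : finrank F W = 1 ∨ finrank F W = 2 := by omega
  · rw [h4]
    simp
    ring
  · rw [h4]
    simp
    rw [show Fintype.card F ^ 2 - Fintype.card F = Fintype.card F * (Fintype.card F - 1) by rw [Nat.mul_sub, mul_one, pow_two]]
    ring

/-- `Sp₂(q²).2` is not transitive on the totally isotropic planes -/
theorem not_plane {M N : Subgroup (GL I4 F)} (hP : Pr M N) (h : T4 M) {W : Submodule F (I4 → F)} (hW : finrank F W = 2)
    (ht : IsTotallySingularFor (sympForm 2 F) W) : ¬ N ≤ subspaceStabilizer W := by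
  intro hN
  obtain ⟨K, hK, hsa, halt, rfl⟩ := h
  obtain ⟨u, hu0⟩ : ∃ u : I4 → F, u ≠ 0 := exists_ne 0
  have inj : ∀ k ∈ K, k *ᵥ u = 0 → k = 0 := fun k hk e => by
    by_contra h0
    obtain ⟨y, hy, h1⟩ := hK.inv k hk h0
    apply hu0
    rw [← one_mulVec u, ← h1, hK.comm k hk y hy, ← mulVec_mulVec, e, mulVec_zero]
  let L : K →ₗ[F] (I4 → F) :=
    { toFun := fun k => k.1 *ᵥ u
      map_add' := fun a b => add_mulVec _ _ _
      map_smul' := fun c a => smul_mulVec _ _ _ }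
  have hL : Function.Injective L := (injective_iff_map_eq_zero L).2 fun k e => Subtype.ext (inj k.1 k.2 e)
  have h0 : finrank F (LinearMap.range L) = 2 := by rw [LinearMap.finrank_range_of_inj hL, hK.finrank_eq]
  have ht0 : ∀ a ∈ LinearMap.range L, ∀ b ∈ LinearMap.range L, sympForm 2 F a b = 0 := by
    rintro _ ⟨a, rfl⟩ _ ⟨b, rfl⟩
    show sympForm 2 F (a.1 *ᵥ u) (b.1 *ᵥ u) = 0
    rw [← hsa b.1 b.2, mulVec_mulVec]
    exact halt _ (K.mul_mem b.2 a.2) u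
  obtain ⟨φ⟩ : Nonempty (W ≃ₗ[F] LinearMap.range L) := FiniteDimensional.nonempty_linearEquiv_of_finrank_eq (hW.trans h0.symm)
  obtain ⟨T, hT, hTφ⟩ := S0749.result (sympBilin 2 F) sympBilin_nondegenerate sympBilin_isAlt W _ φ fun x x' =>
    (ht0 _ (φ x).2 _ (φ x').2).trans (ht _ x.2 _ x'.2).symm
  have hT0 : ∀ v, v ∈ W ↔ T v ∈ LinearMap.range L := fun v =>
    ⟨fun hv => hTφ ⟨v, hv⟩ ▸ (φ ⟨v, hv⟩).2, fun hv => by
      have h1 := hTφ (φ.symm ⟨_, hv⟩)
      rw [φ.apply_symm_apply] at h1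
      exact T.injective h1 ▸ (φ.symm ⟨_, hv⟩).2⟩
  -- every image of `W` is mapped to `K u` by an element which normalises `K`
  have key : ∀ g ∈ spGL 2 F, ∃ x ∈ subalgebraNormalizer K, ∀ v, v ∈ W ↔ (x⁻¹ * g : GL I4 F).1 *ᵥ v ∈ W := fun g hg => by
    obtain ⟨x, hx, y, hy, rfl⟩ := hP.fac g hg
    exact ⟨x, hx.1, by rw [inv_mul_cancel_left]; exact hN hy⟩
  obtain ⟨k, hk, hk0⟩ : ∃ k ∈ K, ∀ c : F, k ≠ c • 1 := by
    by_contra hc
    push Not at hc
    have h1 : K = ⊥ := eq_bot_iff.2 fun k hk => by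
      obtain ⟨c, rfl⟩ := hc k hk
      exact Subalgebra.smul_mem _ (Subalgebra.one_mem _) c
    have h2 := hK.finrank_eq
    rw [h1, Subalgebra.finrank_bot] at h2
    omega
  obtain ⟨z, hz1, hz2⟩ : ∃ z, sympForm 2 F u z = 0 ∧ sympForm 2 F (k *ᵥ u) z ≠ 0 := by
    by_contra hc
    push Not at hc
    obtain ⟨v, hv⟩ := Rd.exists_ne (m := 2) hu0
    replace hv : sympForm 2 F u v = 1 := hv
    refine hk0 (sympForm 2 F (k *ᵥ u) v) (sub_eq_zero.1 (inj _ (K.sub_mem hk (K.smul_mem K.one_mem _))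
      (eq_zero_of_forall_sympForm_right fun x => ?_)))
    have h1 := hc (x - sympForm 2 F u x • v) (by rw [sympForm_sub_right, sympForm_smul_right, hv, mul_one, sub_self])
    rw [sympForm_sub_right, sympForm_smul_right] at h1
    rw [sub_mulVec, smul_mulVec, one_mulVec, sympForm_sub_left, sympForm_smul_left]
    linear_combination h1
  have hTs : mx T ∈ spGL 2 F := mm_sp.le (mx_mem.2 hT)
  obtain ⟨x, hx, h1⟩ := key _ hTs
  obtain ⟨x', hx', h2⟩ := key _ (mul_mem (tGL_mem z 1) hTs)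
  -- `a = x' x⁻¹` normalises `K` and maps `K u` onto `t (K u)`
  have e1 : ∀ v, v ∈ LinearMap.range L ↔ (x⁻¹ : GL I4 F).1 *ᵥ v ∈ W := fun v => by
    obtain ⟨w, rfl⟩ := T.surjective v
    rw [← hT0, h1, Units.val_mul, ← mulVec_mulVec, mx_apply]
  have e2 : ∀ v, v ∈ LinearMap.range L ↔ (x'⁻¹ : GL I4 F).1 *ᵥ ((tGL z 1).1 *ᵥ v) ∈ W := fun v => by
    obtain ⟨w, rfl⟩ := T.surjective v
    rw [← hT0, h2, Units.val_mul, Units.val_mul, ← mulVec_mulVec, ← mulVec_mulVec, mx_apply]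
  have e3 : ∀ v, v ∈ LinearMap.range L ↔ (x * x'⁻¹ : GL I4 F).1 *ᵥ ((tGL z 1).1 *ᵥ v) ∈ LinearMap.range L := fun v => by
    rw [e2, e1, mulVec_mulVec _ (x⁻¹ : GL I4 F).1, ← Units.val_mul, inv_mul_cancel_left]
  have ha := (subalgebraNormalizer K).mul_mem hx ((subalgebraNormalizer K).inv_mem hx')
  generalize x * x'⁻¹ = a at e3 ha
  have hu : u ∈ LinearMap.range L := ⟨1, one_mulVec u⟩
  have h3 := (e3 u).1 hu
  rw [tGL_mulVec, hz1, mul_zero, zero_smul, add_zero] at h3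
  obtain ⟨b, hb⟩ := h3
  replace hb : b.1 *ᵥ u = a.1 *ᵥ u := hb
  have h4 : a.1 *ᵥ (k *ᵥ u) ∈ LinearMap.range L := ⟨⟨_, K.mul_mem ((ha k).1 hk) b.2⟩, by
    show (a.1 * k * (a⁻¹ : GL I4 F).1 * b.1) *ᵥ u = _
    rw [← mulVec_mulVec, hb, mulVec_mulVec, Units.inv_mul_cancel_right, mulVec_mulVec]⟩
  have h5 := (e3 (k *ᵥ u - sympForm 2 F (k *ᵥ u) z • z)).2 (by
    rwa [tGL_mulVec, sympForm_sub_left, sympForm_smul_left, sympForm_self, mul_zero, sub_zero, one_mul, sub_add_cancel])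
  have h6 := ht0 _ (⟨⟨k, hk⟩, rfl⟩ : k *ᵥ u ∈ LinearMap.range L) _ h5
  rw [sympForm_sub_right, sympForm_self, sympForm_smul_right, zero_sub, neg_eq_zero, mul_self_eq_zero] at h6
  exact hz2 h6

end CLc

end Cfsg.Agent.SM.Sy
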