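import Cfsg.Agent.SM.Sy.CO1
import Cfsg.Agent.SM.Sy.Api
import Cfsg.Agent.H75.Sg

/-!
# SM (S3570), symplectic socles, box SY-CO: `T = Ω^ε_2m(q)` without triality (helper9)

`cntO_of (KS : BoxKS) : CntO`, `sigO_of`.
-/

set_option autoImplicit false
set_option linter.unusedSectionVars false
set_option linter.unusedVariables false

namespace Cfsg.Agent.SM.Sy

open Cfsg Equiv Subgroup MulAction Module QuadraticMap
open Cfsg.Agent.LieClassical.OrthCore Cfsg.Agent.LieClassical.OrthTrans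
open Cfsg.Agent.H955 (IsPlus res)
open Cfsg.Agent.H75.OrthIdx (sg sg_eq sg_mem_E sg_mul sg_conj sg_inv sg_smul_left sg_add_smul wl wl_left wl_right wl_perp)

open scoped commutatorElement

namespace CO

section perf

variable {F V : Type} [Field F] [AddCommGroup V] [Module F V] {Q : QuadraticForm F V}

/-- `E Q` is perfect if some `μ ≠ 0` has `μ² ≠ 1` -/
theorem perf [FiniteDimensional F V] (hQ : Nondeg Q) (h3 : 3 ≤ finrank F V) {μ : F} (h0 : μ ≠ 0) (h1 : μ * μ - 1 ≠ 0) :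
    E Q ≤ ⁅E Q, E Q⁆ := by
  nth_rewrite 1 [E]
  rw [closure_le]
  rintro _ ⟨u, w, hu, hw, rfl⟩
  by_cases hu0 : u = 0
  · have : siegel Q u w hu hw = 1 := LinearEquiv.ext fun v => by
      rw [siegel_apply, hu0]
      simp
    rw [this]
    exact one_mem _
  obtain ⟨y, h⟩ := exists_hyp hQ hu hu0
  obtain ⟨a, ha, a1, a2⟩ : ∃ a, Q a ≠ 0 ∧ polar Q u a = 0 ∧ polar Q y a = 0 := by
    obtain ⟨a, c, a1, a2, c1, c2, ac⟩ := exists_perp2 hQ h3 h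
    rcases exists_nonsing ac with k | k | k
    · exact ⟨a, k, a1, a2⟩
    · exact ⟨c, k, c1, c2⟩
    · exact ⟨a + c, k, by rw [polar_add_right, a1, c1, add_zero], by rw [polar_add_right, a2, c2, add_zero]⟩
  have hb : Q (μ • a) ≠ 0 := by
    rw [QuadraticMap.map_smul, smul_eq_mul]
    exact mul_ne_zero (mul_ne_zero h0 h0) ha
  have b1 : polar Q u (μ • a) = 0 := by rw [polar_smul_right, a1, smul_zero]
  have b2 : polar Q y (μ • a) = 0 := by rw [polar_smul_right, a2, smul_zero]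
  have hm : ∀ z, wl Q u y z ∈ E Q := fun z => mul_mem (mul_mem (sg_mem_E _ _) (sg_mem_E _ _)) (sg_mem_E _ _)
  have t1 : (wl Q u y (μ • a) * wl Q u y a) u = (μ * μ) • u := by
    rw [LinearEquiv.mul_apply, wl_left h ha a1 a2, map_smul, wl_right h hb b1 b2, QuadraticMap.map_smul, smul_smul]
    congr 1
    rw [smul_eq_mul]
    field_simp
  have t2 : ∀ x, polar Q u x = 0 → polar Q y x = 0 → (wl Q u y (μ • a) * wl Q u y a) x = x := fun x x1 x2 => by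
    rw [LinearEquiv.mul_apply, wl_perp h ha a1 a2 x1 x2, wl_perp h hb b1 b2
      (by rw [polar_sub_right, polar_smul_right, x1, a1, smul_zero, sub_zero])
      (by rw [polar_sub_right, polar_smul_right, x2, a2, smul_zero, sub_zero]),
      polar_smul_left, polar_sub_right, polar_smul_right, polar_self', QuadraticMap.map_smul]
    simp only [smul_eq_mul]
    match_scalars
    · ring
    · field_simp
      ring
  have ht := mul_mem (hm (μ • a)) (hm a)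
  generalize wl Q u y (μ • a) * wl Q u y a = t at t1 t2 ht
  obtain ⟨x, x1, x2, e⟩ : ∃ x, polar Q u x = 0 ∧ polar Q y x = 0 ∧ w = ((μ * μ) • x + -x) + polar Q y w • u :=
    ⟨(μ * μ - 1)⁻¹ • LieClassical.OrthTrans.proj Q u y w, by rw [polar_smul_right, polar_proj_left h, smul_zero],
      by rw [polar_smul_right, polar_proj_right h, smul_zero], by
        rw [show ∀ z : V, (μ * μ) • z + -z = (μ * μ - 1) • z from fun z => by module, smul_smul, mul_inv_cancel₀ h1, one_smul,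
          LieClassical.OrthTrans.proj, hw]
        module⟩
  have h4 : siegel Q u w hu hw = ⁅t, sg Q u x⁆ := by
    rw [← sg_eq hu hw, commutatorElement_def, sg_conj (E_le_O ht), t1, t2 x x1 x2, sg_smul_left (mul_ne_zero h0 h0), sg_inv x1,
      sg_mul (by rw [polar_smul_right, x1, smul_zero]) (by rw [polar_neg_right, x1, neg_zero])]
    conv_lhs => rw [e, sg_add_smul hu]
  rw [h4]
  exact commutator_mem_commutator ht (sg_mem_E _ _)

end perf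

section lin

variable {m : ℕ} {F : Type} [Field F] [Fintype F] {Q : QuadraticForm F (VV m F)} {K : Subalgebra F (End F (VV m F))} {s : ℕ}

theorem comm_le_CE (hK : FS s K) : ⁅NE K, NE K⁆ ≤ CE K := by
  classical
  let _ := IsField.toField (R := K) hK.field
  have cj : ∀ z ∈ NE K, ∀ k ∈ K, z.conj k ∈ K := fun z hz k hk =>
    (hz.2 k (z.conj k) fun v => by simp [LinearEquiv.conj_apply]).1 hk
  let ψ : NE K →* (K ≃ₐ[F] K) :=
    { toFun := fun z =>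
        { toFun := fun k => ⟨z.1.conj k.1, cj z.1 z.2 k.1 k.2⟩
          invFun := fun k => ⟨z.1⁻¹.conj k.1, cj _ ((NE K).inv_mem z.2) k.1 k.2⟩
          left_inv := fun k => Subtype.ext (LinearMap.ext fun v => by
            show z.1.symm (z.1 (k.1 (z.1.symm (z.1 v)))) = k.1 v
            simp)
          right_inv := fun k => Subtype.ext (LinearMap.ext fun v => by
            show z.1 (z.1.symm (k.1 (z.1 (z.1.symm v)))) = k.1 v
            simp)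
          map_mul' := fun a b => Subtype.ext (LinearMap.ext fun v => by
            show z.1 (a.1 (b.1 (z.1.symm v))) = z.1 (a.1 (z.1.symm (z.1 (b.1 (z.1.symm v)))))
            simp)
          map_add' := fun a b => Subtype.ext (map_add z.1.conj a.1 b.1)
          commutes' := fun c => Subtype.ext (LinearMap.ext fun v => by
            show z.1 (c • z.1.symm v) = c • v
            simp) }
      map_one' := AlgEquiv.ext fun k => rfl
      map_mul' := fun a b => AlgEquiv.ext fun k => rfl }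
  have : Finite (End F (VV m F)) := Finite.of_injective _ DFunLike.coe_injective
  rw [commutator_le]
  intro x hx y hy
  have h1 : ψ ⁅(⟨x, hx⟩ : NE K), (⟨y, hy⟩ : NE K)⁆ = 1 := by
    rw [map_commutatorElement, commutatorElement_eq_one_iff_mul_comm]
    exact IsCyclic.isMulCommutative.is_comm.comm _ _
  refine ⟨(⁅(⟨x, hx⟩ : NE K), (⟨y, hy⟩ : NE K)⁆).2.1, fun k hk v => ?_⟩
  have h3 : (⁅x, y⁆ : GG m F).conj k = k := congrArg Subtype.val (DFunLike.congr_fun h1 ⟨k, hk⟩)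
  conv_lhs => rw [← h3]
  simp [LinearEquiv.conj_apply]

theorem CE_le_NE : CE K ≤ NE K := fun g hg => ⟨hg.1, fun k k' h => ⟨fun hk => by
  rwa [show k' = k from LinearMap.ext fun v => by
    obtain ⟨v, rfl⟩ := g.surjective v
    rw [h, hg.2 k hk]], fun hk => by
  rwa [show k = k' from LinearMap.ext fun v => g.injective (by rw [← h, hg.2 k' hk])]⟩⟩

/-- a perfect subgroup of `E Q ⊓ NE K` whose centraliser is `K` -/
def HasZ (Q : QuadraticForm F (VV m F)) (K : Subalgebra F (End F (VV m F))) : Prop :=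
  ∃ Z : Subgroup (GG m F), Z ≤ E Q ∧ Z ≤ NE K ∧ Z ≤ ⁅Z, Z⁆ ∧ ∀ k : End F (VV m F), (∀ z ∈ Z, ∀ v, k (z v) = z (k v)) → k ∈ K

theorem trace_sq {K' : Type} [Field K'] [Fintype K'] [Algebra F K'] (h2 : (2 : K') = 0) (x : K') :
    Algebra.trace F K' (x * x) = Algebra.trace F K' x * Algebra.trace F K' x := by
  have := charP_two h2
  apply (algebraMap F K').injective
  rw [map_mul (algebraMap F K'), trace_eq_sum_automorphisms, trace_eq_sum_automorphisms, CharTwo.sum_mul_self]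
  simp only [map_mul]

theorem hasZ (KS : BoxKS) (h2 : (2 : F) = 0) (hQ : Pol Q) (hm : 3 ≤ m) (hK : FS s K) (hs : s < m) : HasZ Q K := by
  obtain ⟨b, K', _, _, _, e, e1, e2, hM⟩ := KS m F s K (by omega) hK
  have hb : 2 ≤ b := by
    rcases b with _ | _ | b
    · omega
    · omega
    · omega
  have h2' : (2 : K') = 0 := by rw [← map_ofNat (algebraMap F K') 2, h2, map_zero]
  have hP := pol_plus (m := b) h2'
  generalize LieClassical.QuadForms.plusForm b K' = P at hP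
  have hadd : ∀ u v, Algebra.trace F K' (P (e (u + v))) =
      Algebra.trace F K' (P (e u)) + Algebra.trace F K' (P (e v)) + ff m F u v := fun u v => by
    rw [map_add, hP.add, map_add, map_add, hM.form]
  let Q₀ : QuadraticForm F (VV m F) :=
    { toFun := fun v => Algebra.trace F K' (P (e v))
      toFun_smul := fun c v => by
        rw [hM.smul, QuadraticMap.map_smul, ← map_mul, smul_eq_mul, ← Algebra.smul_def, map_smul]
      exists_companion' := ⟨ff m F, hadd⟩ }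
  have hQ₀ : Pol Q₀ := fun u v => by
    change Algebra.trace F K' _ - Algebra.trace F K' _ - Algebra.trace F K' _ = _
    rw [hadd]
    ring
  obtain ⟨u, rfl⟩ := exists_ad h2 hQ₀ hQ
  have hQ' := pol_ad h2' hP (e u)
  have key : ∀ v, ad Q₀ u v = Algebra.trace F K' (ad P (e u) (e v)) := fun v => by
    rw [ad_apply, ad_apply, map_add, trace_sq h2', ← hM.form]
    rfl
  generalize ad P (e u) = Q' at hQ' key
  have hs' : ∀ (c : F) w, e.symm (algebraMap F K' c • w) = c • e.symm w := fun c w => e.injective (by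
    rw [hM.smul, e.apply_symm_apply, e.apply_symm_apply])
  let dn : GG b K' →* GG m F :=
    { toFun := fun x =>
        { toFun := fun v => e.symm (x (e v))
          invFun := fun v => e.symm (x.symm (e v))
          map_add' := fun u v => by rw [map_add, map_add, map_add]
          map_smul' := fun c v => by rw [hM.smul, map_smul, hs', RingHom.id_apply]
          left_inv := fun v => by simp
          right_inv := fun v => by simp }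
      map_one' := LinearEquiv.ext fun v => e.symm_apply_apply v
      map_mul' := fun x y => LinearEquiv.ext fun v => by
        change e.symm (x (y (e v))) = e.symm (x (e (e.symm (y (e v)))))
        rw [e.apply_symm_apply] }
  have hdn : ∀ x v, e (dn x v) = x (e v) := fun x v => e.apply_symm_apply _
  have hO : (E Q').map dn ≤ O (ad Q₀ u) := by
    rintro _ ⟨x, hx, rfl⟩ v
    rw [key, key, hdn, E_le_O hx]
  obtain ⟨μ, μ0, μ1⟩ : ∃ μ : K', μ ≠ 0 ∧ μ * μ - 1 ≠ 0 := by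
    have h4 : 4 ≤ Fintype.card K' := by
      rw [e2]
      exact (Nat.pow_le_pow_left (Fintype.one_lt_card (α := F)) 2).trans (Nat.pow_le_pow_right Fintype.card_pos hK.prime.two_le)
    classical
    obtain ⟨μ, hμ⟩ : ∃ μ : K', μ ∉ ({0, 1} : Finset K') := by
      by_contra hc
      push Not at hc
      have := (Finset.card_le_card (fun x _ => hc x : Finset.univ ⊆ ({0, 1} : Finset K'))).trans Finset.card_le_two
      rw [Finset.card_univ] at this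
      omega
    rw [Finset.mem_insert, Finset.mem_singleton, not_or] at hμ
    refine ⟨μ, hμ.1, fun h => hμ.2 (sub_eq_zero.1 (mul_self_eq_zero.1 ?_))⟩
    linear_combination h + (1 - μ) * h2'
  have hp : (E Q').map dn ≤ ⁅(E Q').map dn, (E Q').map dn⁆ := by
    rw [← map_commutator]
    exact map_mono (perf hQ'.nondeg (by rw [finrank_VV]; omega) μ0 μ1)
  refine ⟨(E Q').map dn, ?_, le_trans ?_ CE_le_NE, hp, fun k hk => ?_⟩
  · rw [← (good hQ hm).commutator_eq_E]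
    exact hp.trans (commutator_mono hO hO)
  · intro z hz
    refine ⟨O_le_Sp hQ (hO hz), fun k hk v => e.injective ?_⟩
    obtain ⟨x, hx, rfl⟩ := hz
    obtain ⟨c, hc⟩ := (hM.mem k).1 hk
    rw [hc, hdn, hdn, hc, map_smul]
  · obtain ⟨x, y, hxy⟩ := exists_hyp_VV hQ' hb
    obtain ⟨c, hc⟩ := comm_scalar hQ'.nondeg (by rw [finrank_VV]; omega) hxy
      (e.toAddMonoidHom.comp (k.toAddMonoidHom.comp e.symm.toAddMonoidHom)) fun g hg v => by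
        obtain ⟨v, rfl⟩ := e.surjective v
        change e (k (e.symm (g (e v)))) = g (e (k (e.symm (e v))))
        rw [e.symm_apply_apply, ← hdn, ← hdn, e.symm_apply_apply, hk _ ⟨g, hg, rfl⟩]
    refine (hM.mem k).2 ⟨c, fun v => ?_⟩
    rw [← hc]
    change _ = e (k (e.symm (e v)))
    rw [e.symm_apply_apply]

theorem HasZ.nofix (h : HasZ Q K) (hK : FS s K) {u : VV m F} (hu : ∀ g ∈ E Q ⊓ NE K, g u = u) : u = 0 := by
  obtain ⟨Z, h1, h2, -, h4⟩ := h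
  have h5 := h4 (((ff m F).flip u).smulRight u) fun z hz v => by
    have e := hu z ⟨h1 hz, h2 hz⟩
    change ff m F (z v) u • u = z (ff m F v u • u)
    rw [map_smul, e]
    nth_rewrite 1 [← e]
    rw [(h2 hz).1 v u]
  by_contra h0
  obtain ⟨x, hx⟩ := exists_ff_ne h0
  obtain ⟨k, hk⟩ := hK.field.mul_inv_cancel (a := ⟨_, h5⟩) fun e => h0 (by
    have h6 : ff m F x u • u = 0 := LinearMap.congr_fun (congrArg Subtype.val e) x
    rwa [hx, one_smul] at h6)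
  rw [hK.field.mul_comm] at hk
  have h7 : k.1 (ff m F u u • u) = u := LinearMap.congr_fun (congrArg Subtype.val hk) u
  rw [ff_self, zero_smul, map_zero] at h7
  exact h0 h7.symm

/-- in minus type the two summands are not exchanged -/
theorem mem_of_NW (h2 : (2 : F) = 0) (hQ : Pol Q) (hp : ¬ IsPlus Q) {U : Submodule F (VV m F)} (hU : Nd U) {g : GG m F}
    (hg : g ∈ O Q) (h : g ∈ NW U (perp U)) {v : VV m F} (hv : v ∈ U) : g v ∈ U := by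
  rcases h.2 with k | k
  · exact (k v).1.2 hv
  · refine absurd ((plus_iff h2 hQ).2 ?_) hp
    have h1 : U.map (g : VV m F →ₗ[F] VV m F) = perp U := by
      ext w
      obtain ⟨w, rfl⟩ := g.surjective w
      rw [(k w).2, Submodule.mem_map_equiv, g.symm_apply_apply]
    have h3 := gs_map g hg U
    rw [h1] at h3
    rw [gs_perp h2 hQ hU, h3]
    exact mul_self_pos.2 (gs_ne_zero h2 hQ hU)

theorem siegel_NS (hQ : Pol Q) {U : Submodule F (VV m F)} {u w : VV m F} (h : (u ∈ U ∧ w ∈ U) ∨ (u ∈ perp U ∧ w ∈ perp U))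
    (hu : Q u = 0) (hw : polar Q u w = 0) : siegel Q u w hu hw ∈ NS U :=
  mem_NS_of (O_le_Sp hQ (siegel_mem_O hu hw)) fun v hv => by
    rw [siegel_apply]
    rcases h with ⟨h1, h3⟩ | ⟨h1, h3⟩
    · exact U.sub_mem (U.sub_mem (U.add_mem hv (U.smul_mem _ h3)) (U.smul_mem _ h1)) (U.smul_mem _ h1)
    · rw [hQ, hQ, ff_eq_zero_comm.1 (h1 v hv), ff_eq_zero_comm.1 (h3 v hv)]
      simpa using hv

theorem siegel_NW (hQ : Pol Q) {U : Submodule F (VV m F)} {u w : VV m F} (h : (u ∈ U ∧ w ∈ U) ∨ (u ∈ perp U ∧ w ∈ perp U))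
    (hu : Q u = 0) (hw : polar Q u w = 0) : siegel Q u w hu hw ∈ NW U (perp U) :=
  ⟨(siegel_NS hQ h hu hw).1, Or.inl fun v => ⟨(siegel_NS hQ h hu hw).2 v,
    (siegel_NS hQ (U := perp U) (by rw [perp_perp]; exact h.symm) hu hw).2 v⟩⟩

/-- the subspaces invariant under `E Q ⊓ NW U (perp U)` -/
theorem eq_or_eq (hQ : Pol Q) (hm : 3 ≤ m) {U W : Submodule F (VV m F)} (hU : Nd U) (hd : finrank F U = m) (h0 : W ≠ ⊥)
    (h1 : W ≠ ⊤) (h : ∀ g ∈ E Q ⊓ NW U (perp U), ∀ w ∈ W, g w ∈ W) : W = U ∨ W = perp U := by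
  have k1 : U ≤ W ∨ W ≤ perp U := by
    refine or_iff_not_imp_right.2 fun hn => ?_
    obtain ⟨x, hx, hx'⟩ := SetLike.not_le_iff_exists.1 hn
    obtain ⟨u, hu, hux⟩ : ∃ u ∈ U, ff m F u x ≠ 0 := by
      by_contra hc
      push Not at hc
      exact hx' hc
    exact le_of_inv (hQ.nondeg_res.2 hU) (by omega) (fun u hu w hw a b => h _ ⟨siegel_mem_E a b, siegel_NW hQ (Or.inl ⟨hu, hw⟩) a b⟩)
      hx hu (by rwa [hQ])
  have k2 : perp U ≤ W ∨ W ≤ U := by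
    refine or_iff_not_imp_right.2 fun hn => ?_
    obtain ⟨x, hx, hx'⟩ := SetLike.not_le_iff_exists.1 hn
    obtain ⟨u, hu, hux⟩ : ∃ u ∈ perp U, ff m F u x ≠ 0 := by
      by_contra hc
      push Not at hc
      exact hx' (perp_perp U ▸ hc)
    have := finrank_perp U
    exact le_of_inv (hQ.nondeg_res.2 hU.perp) (by omega)
      (fun u hu w hw a b => h _ ⟨siegel_mem_E a b, siegel_NW hQ (Or.inr ⟨hu, hw⟩) a b⟩) hx hu (by rwa [hQ])
  rcases k1 with k1 | k1 <;> rcases k2 with k2 | k2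
  · exact absurd (eq_top_iff.2 (hU.isCompl.sup_eq_top.ge.trans (sup_le k1 k2))) h1
  · exact Or.inl (le_antisymm k2 k1)
  · exact Or.inr (le_antisymm k1 k2)
  · exact absurd (eq_bot_iff.2 ((le_inf k2 k1).trans hU.isCompl.inf_eq_bot.le)) h0

end lin

section two

variable {Ω : Type} [Fintype Ω] [DecidableEq Ω] {X H T M₁ S₁ M₂ S₂ : Subgroup (Perm Ω)} {m₁ m₂ : ℕ} {F₁ F₂ : Type}
  [Field F₁] [Fintype F₁] [Field F₂] [Fintype F₂] {D₁ : Fr m₁ F₁ X H T M₁ S₁} {D₂ : Fr m₂ F₂ X H T M₂ S₂}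
  {Q₁ : QuadraticForm F₁ (VV m₁ F₁)} {Q₂ : QuadraticForm F₂ (VV m₂ F₂)} {g : VV m₁ F₁ ≃+ VV m₂ F₂} {σ : F₁ ≃+* F₂}

/-- two frames are linked by a semilinear isometry which intertwines `T` -/
structure Lk (D₁ : Fr m₁ F₁ X H T M₁ S₁) (D₂ : Fr m₂ F₂ X H T M₂ S₂) (Q₁ : QuadraticForm F₁ (VV m₁ F₁))
    (Q₂ : QuadraticForm F₂ (VV m₂ F₂)) (g : VV m₁ F₁ ≃+ VV m₂ F₂) (σ : F₁ ≃+* F₂) : Prop where
  o₁ : D₁.Om Q₁
  o₂ : D₂.Om Q₂
  si : Si Q₁ Q₂ g σ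
  pi : ∀ (x : Sp m₁ F₁) (y : Sp m₂ F₂), x.1 ∈ E Q₁ → y.1 = si.sl.cj x.1 → D₂.π y = D₁.π x

theorem Lk.bil (h : Lk D₁ D₂ Q₁ Q₂ g σ) (u v : VV m₁ F₁) : ff m₂ F₂ (g u) (g v) = σ (ff m₁ F₁ u v) := by
  rw [← h.o₂.pol, ← h.o₁.pol, h.si.polar]

theorem Lk.symm (h : Lk D₁ D₂ Q₁ Q₂ g σ) : Lk D₂ D₁ Q₂ Q₁ g.symm σ.symm :=
  ⟨h.o₂, h.o₁, h.si.symm, fun y x hy e => (h.pi x y (e ▸ h.si.symm.mem_E hy) (by rw [e]; exact (h.si.sl.cj_symm _).symm)).symm⟩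

theorem Lk.sp (h : Lk D₁ D₂ Q₁ Q₂ g σ) {x : GG m₁ F₁} (hx : x ∈ Sp m₁ F₁) : h.si.sl.cj x ∈ Sp m₂ F₂ := fun u v => by
  obtain ⟨u, rfl⟩ := g.surjective u
  obtain ⟨v, rfl⟩ := g.surjective v
  rw [h.si.sl.cj_apply, h.si.sl.cj_apply, h.bil, h.bil, hx u v]

theorem Lk.stab (h : Lk D₁ D₂ Q₁ Q₂ g σ) (a : Ω) {x : GG m₁ F₁} (hx : x ∈ E Q₁ ⊓ D₁.C a) : h.si.sl.cj x ∈ E Q₂ ⊓ D₂.C a := by
  have h1 := E_le_Sp h.o₁.pol hx.1
  refine ⟨h.si.mem_E hx.1, (D₂.mem_C ⟨_, h.sp h1⟩).2 ?_⟩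
  rw [h.pi ⟨x, h1⟩ _ hx.1 rfl]
  exact (D₁.mem_C ⟨x, h1⟩).1 hx.2

theorem exists_lk (o₁ : D₁.Om Q₁) (o₂ : D₂.Om Q₂) (b₁ : 4 ≤ m₁) (b₂ : 4 ≤ m₂) (h4 : m₂ = 4 → ¬ IsPlus Q₂) :
    ∃ g σ, Lk D₁ D₂ Q₁ Q₂ g σ := by
  let ψ : E Q₁ ≃* E Q₂ := (((MulEquiv.subgroupCongr o₁.eqA.symm).trans (D₁.isoA o₁.two)).trans (D₂.isoA o₂.two).symm).trans
    (MulEquiv.subgroupCongr o₂.eqA)
  obtain ⟨g, σ, h, e⟩ := exists_si o₁.two o₂.two o₁.pol o₂.pol b₁ b₂ h4 ψ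
  refine ⟨g, σ, o₁, o₂, h, fun x y hx hy => ?_⟩
  have h1 : y.1 = ψ ⟨x.1, hx⟩ := hy.trans (h.sl.eq_cj (e ⟨x.1, hx⟩)).symm
  have h2 := congrArg Subtype.val ((D₂.isoA o₂.two).apply_symm_apply (D₁.isoA o₁.two ⟨x.1, o₁.eqA.ge hx⟩))
  refine Eq.trans (congrArg D₂.π (Subtype.ext h1)) h2

theorem Lk.eq (h : Lk D₁ D₂ Q₁ Q₂ g σ) (a : Ω) (hC : ∀ x ∈ D₁.C a, h.si.sl.cj x ∈ D₂.C a) : M₁ = M₂ := by
  let τ : D₁.pre S₁ ≃* D₂.pre S₂ :=
    { toFun := fun x => ⟨h.si.sl.cj x, D₂.pre_S.ge (h.sp (D₁.pre_le x.2))⟩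
      invFun := fun y => ⟨h.symm.si.sl.cj y, D₁.pre_S.ge (h.symm.sp (D₂.pre_le y.2))⟩
      left_inv := fun x => Subtype.ext (h.si.sl.symm_cj x)
      right_inv := fun y => Subtype.ext (h.si.sl.cj_symm y)
      map_mul' := fun x y => Subtype.ext (map_mul h.si.sl.cj _ _) }
  refine D₁.up.rig D₂.up (((D₁.isoPre h.o₁.two le_rfl).symm.trans τ).trans (D₂.isoPre h.o₂.two le_rfl)) (fun t ht => ?_)
    (a := a) (b := a) fun s hs => ?_
  · obtain ⟨x, hx⟩ := (D₁.isoPre h.o₁.two le_rfl).surjective ⟨t, D₁.up.le ht⟩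
    have h1 : D₁.π ⟨x.1, D₁.pre_le x.2⟩ = t := congrArg Subtype.val hx
    rw [← hx, MulEquiv.trans_apply, MulEquiv.trans_apply, MulEquiv.symm_apply_apply, ← h1]
    exact h.pi _ _ (h.o₁.eqA.le ((D₁.mem_pre' _).2 (h1 ▸ ht))) rfl
  · obtain ⟨x, rfl⟩ := (D₁.isoPre h.o₁.two le_rfl).surjective s
    rw [MulEquiv.trans_apply, MulEquiv.trans_apply, MulEquiv.symm_apply_apply]
    exact (D₂.mem_C ⟨_, D₂.pre_le (τ x).2⟩).1 (hC _ ((D₁.mem_C ⟨x.1, D₁.pre_le x.2⟩).2 hs))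

theorem Lk.mem_K (h : Lk D₁ D₂ Q₁ Q₂ g σ) {a : Ω} {K₁ : Subalgebra F₁ (End F₁ (VV m₁ F₁))}
    {K₂ : Subalgebra F₂ (End F₂ (VV m₂ F₂))} {s : ℕ} (z : HasZ Q₁ K₁) (f : FS s K₂) (c₁ : D₁.C a = NE K₁) (c₂ : D₂.C a = NE K₂)
    {k₁ : End F₁ (VV m₁ F₁)} {k₂ : End F₂ (VV m₂ F₂)} (e : ∀ v, k₂ (g v) = g (k₁ v)) (hk : k₂ ∈ K₂) : k₁ ∈ K₁ := by
  obtain ⟨Z, h1, h2, h3, h4⟩ := z
  have h5 : Z.map h.si.sl.cj.toMonoidHom ≤ NE K₂ := by
    rintro _ ⟨x, hx, rfl⟩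
    exact c₂.le (h.stab a ⟨h1 hx, c₁.ge (h2 hx)⟩).2
  have h6 : Z.map h.si.sl.cj.toMonoidHom ≤ CE K₂ :=
    (map_mono h3).trans ((map_commutator _ _ _).le.trans ((commutator_mono h5 h5).trans (comm_le_CE f)))
  refine h4 k₁ fun z hz v => g.injective ?_
  have h7 := (h6 ⟨z, hz, rfl⟩).2 k₂ hk (g v)
  change k₂ (h.si.sl.cj z (g v)) = h.si.sl.cj z (k₂ (g v)) at h7
  rwa [h.si.sl.cj_apply, e, e, h.si.sl.cj_apply] at h7

theorem Lk.r11 (h : Lk D₁ D₂ Q₁ Q₂ g σ) {a : Ω} {K₁ : Subalgebra F₁ (End F₁ (VV m₁ F₁))}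
    {K₂ : Subalgebra F₂ (End F₂ (VV m₂ F₂))} {s₁ s₂ : ℕ} (z₁ : HasZ Q₁ K₁) (z₂ : HasZ Q₂ K₂) (f₁ : FS s₁ K₁) (f₂ : FS s₂ K₂)
    (c₁ : D₁.C a = NE K₁) (c₂ : D₂.C a = NE K₂) : M₁ = M₂ := by
  have key : ∀ {k₁ : End F₁ (VV m₁ F₁)} {k₂ : End F₂ (VV m₂ F₂)}, (∀ v, k₂ (g v) = g (k₁ v)) → (k₂ ∈ K₂ ↔ k₁ ∈ K₁) :=
    fun {k₁ k₂} e => ⟨h.mem_K z₁ f₂ c₁ c₂ e, h.symm.mem_K z₂ f₁ c₂ c₁ fun v => g.injective (by
      rw [← e, g.apply_symm_apply, g.apply_symm_apply])⟩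
  refine h.eq a fun x hx => c₂.ge ⟨h.sp (D₁.pre_le hx), fun k k' e => ?_⟩
  obtain ⟨k₁, e₁⟩ := h.si.sl.exists_en k
  obtain ⟨k₁', e₁'⟩ := h.si.sl.exists_en k'
  rw [key e₁, key e₁']
  refine (c₁.le hx).2 k₁ k₁' fun v => g.injective ?_
  rw [← e₁', ← h.si.sl.cj_apply, e, e₁, h.si.sl.cj_apply]

theorem exists_u {a : Ω} {Q' : QuadraticForm F₁ (VV m₁ F₁)} (o : D₁.Om Q₁) (f : D₁.Fo a Q') :
    ∃ u, u ≠ 0 ∧ D₁.C a = O (ad Q₁ u) := by
  obtain ⟨u, rfl⟩ := exists_ad o.two o.pol f.2.1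
  refine ⟨u, fun h0 => D₁.not_A_le_C a ?_, f.2.2⟩
  rw [f.2.2, h0, ad_zero, o.eqA]
  exact E_le_O

theorem Lk.fix (h : Lk D₁ D₂ Q₁ Q₂ g σ) {a : Ω} {u : VV m₁ F₁} (c₂ : D₂.C a = O (ad Q₂ (g u))) {x : GG m₁ F₁}
    (hx : x ∈ E Q₁ ⊓ D₁.C a) : x u = u := by
  have h1 := h.stab a hx
  have h2 := (mem_O_ad h.o₂.two h.o₂.pol (E_le_O h1.1)).1 (c₂.le h1.2)
  rw [h.si.sl.cj_apply] at h2
  exact g.injective h2

theorem Lk.r15 (h : Lk D₁ D₂ Q₁ Q₂ g σ) {a : Ω} {K₁ : Subalgebra F₁ (End F₁ (VV m₁ F₁))} {s₁ : ℕ} (z₁ : HasZ Q₁ K₁)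
    (f₁ : FS s₁ K₁) (c₁ : D₁.C a = NE K₁) {Q' : QuadraticForm F₂ (VV m₂ F₂)} (f₂ : D₂.Fo a Q') : False := by
  obtain ⟨u, h0, c₂⟩ := exists_u h.o₂ f₂
  obtain ⟨u, rfl⟩ := g.surjective u
  exact h0 (by rw [z₁.nofix f₁ fun x hx => h.fix c₂ ⟨hx.1, c₁.ge hx.2⟩, map_zero])

theorem Lk.r55 (h : Lk D₁ D₂ Q₁ Q₂ g σ) (b₁ : 4 ≤ m₁) {a : Ω} {Q₁' : QuadraticForm F₁ (VV m₁ F₁)} (f₁ : D₁.Fo a Q₁')
    {Q₂' : QuadraticForm F₂ (VV m₂ F₂)} (f₂ : D₂.Fo a Q₂') : M₁ = M₂ := by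
  obtain ⟨u₁, n₁, c₁⟩ := exists_u h.o₁ f₁
  obtain ⟨u, n₂, c₂⟩ := exists_u h.o₂ f₂
  obtain ⟨u, rfl⟩ := g.surjective u
  obtain ⟨c, rfl⟩ := fix_line h.o₁.pol.nondeg (by rw [finrank_VV]; omega) (u := u₁) (u' := u) fun x hx e =>
    h.fix c₂ ⟨hx, c₁.ge ((mem_O_ad h.o₁.two h.o₁.pol (E_le_O hx)).2 e)⟩
  have hc : c = 1 := by
    have h1 := FiniteField.pow_card_sub_one_eq_one c (by rintro rfl; exact n₂ (by rw [zero_smul, map_zero]))
    rwa [f₁.1, pow_one] at h1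
  rw [hc, one_smul] at c₂
  have hs : Si (ad Q₁ u₁) (ad Q₂ (g u₁)) g σ := ⟨h.si.sl, fun v => by
    rw [ad_apply, ad_apply, h.si.form, h.bil, map_add, map_mul]⟩
  exact h.eq a fun x hx => c₂.ge (hs.mem_O (c₁.le hx))

theorem Lk.r22 (h : Lk D₁ D₂ Q₁ Q₂ g σ) (b₁ : 3 ≤ m₁) (b₂ : 3 ≤ m₂) {a : Ω} {U₁ : Submodule F₁ (VV m₁ F₁)}
    {U₂ : Submodule F₂ (VV m₂ F₂)} (p₂ : ¬ IsPlus Q₂) (d₁ : finrank F₁ U₁ = m₁) (d₂ : finrank F₂ U₂ = m₂) (n₁ : Nd U₁)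
    (n₂ : Nd U₂) (c₁ : D₁.C a = NW U₁ (perp U₁)) (c₂ : D₂.C a = NW U₂ (perp U₂)) : M₁ = M₂ := by
  let W : Submodule F₁ (VV m₁ F₁) :=
    { carrier := {v | g v ∈ U₂}
      add_mem' := fun {u v} hu hv => by
        change g (u + v) ∈ U₂
        rw [map_add]
        exact U₂.add_mem hu hv
      zero_mem' := by
        change g 0 ∈ U₂
        rw [map_zero]
        exact U₂.zero_mem
      smul_mem' := fun c v hv => by
        change g (c • v) ∈ U₂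
        rw [h.si.sl]
        exact U₂.smul_mem _ hv }
  have w1 : ∀ v, g v ∈ U₂ ↔ v ∈ W := fun v => Iff.rfl
  have w2 : ∀ v, g v ∈ perp U₂ ↔ v ∈ perp W := fun v => ⟨fun hv w hw => by
    have : ff m₂ F₂ (g w) (g v) = 0 := hv (g w) hw
    rwa [h.bil, map_eq_zero] at this, fun hv w hw => by
    obtain ⟨w, rfl⟩ := g.surjective w
    have : ff m₁ F₁ w v = 0 := hv w hw
    change ff m₂ F₂ (g w) (g v) = 0
    rw [h.bil, this, map_zero]⟩
  have h0 : W ≠ ⊥ := fun e => by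
    have h1 : U₂ = ⊥ := eq_bot_iff.2 fun v hv => by
      obtain ⟨v, rfl⟩ := g.surjective v
      rw [Submodule.mem_bot, (Submodule.mem_bot F₁).1 (e.le ((w1 v).1 hv)), map_zero]
    rw [h1, finrank_bot] at d₂
    omega
  have h1 : W ≠ ⊤ := fun e => by
    have h1 : U₂ = ⊤ := eq_top_iff.2 fun v _ => by
      obtain ⟨v, rfl⟩ := g.surjective v
      exact (w1 v).2 (e.ge trivial)
    rw [h1, finrank_top, finrank_VV] at d₂
    omega
  have key := eq_or_eq h.o₁.pol b₁ n₁ d₁ h0 h1 fun x hx w hw => by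
    have h3 := h.stab a ⟨hx.1, c₁.ge hx.2⟩
    have h4 := mem_of_NW h.o₂.two h.o₂.pol p₂ n₂ (E_le_O h3.1) (c₂.le h3.2) ((w1 w).2 hw)
    rwa [h.si.sl.cj_apply] at h4
  refine h.eq a fun x hx => c₂.ge ⟨h.sp (D₁.pre_le hx), ?_⟩
  have hx' := (c₁.le hx).2
  simp only [g.surjective.forall, h.si.sl.cj_apply, w1, w2]
  rcases key with k | k
  · rwa [k]
  · rw [k, perp_perp]
    exact hx'.imp (fun t v => (t v).symm) fun t v => (t v).symm

end two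

end CO

open CO in
/-- **[SY-CO]** -/
theorem cntO_of (KS : BoxKS) : CntO := by
  intro Ω _ _ X H T a
  refine (ncard_le_of_col (C := (Set.univ : Set Bool)) (Set.toFinite _) (fun M c => ∃ (S : Subgroup (Perm Ω)) (m : ℕ) (F : Type)
    (_ : Field F) (_ : Fintype F) (D : Fr m F X H T M S), 4 ≤ m ∧ (m = 4 → ∀ Q, D.Om Q → ¬ IsPlus Q) ∧
      ((c = true ∧ (D.R1 a ∨ D.R5 a)) ∨ (c = false ∧ D.R2 a))) ?_ ?_).trans (by simp)
  · rintro M ⟨S, m, F, _, _, D, -, h1, h2, h3 | h3 | h3⟩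
    · exact ⟨true, trivial, S, m, F, _, _, D, h1, h2, Or.inl ⟨rfl, Or.inl h3⟩⟩
    · exact ⟨false, trivial, S, m, F, _, _, D, h1, h2, Or.inr ⟨rfl, h3⟩⟩
    · exact ⟨true, trivial, S, m, F, _, _, D, h1, h2, Or.inl ⟨rfl, Or.inr h3⟩⟩
  · rintro M₁ - M₂ - c - ⟨S₁, m₁, F₁, _, _, D₁, b₁, p₁, ⟨rfl, r₁⟩ | ⟨rfl, r₁⟩⟩
      ⟨S₂, m₂, F₂, _, _, D₂, b₂, p₂, ⟨e, r₂⟩ | ⟨e, r₂⟩⟩
    · rcases r₁ with ⟨Q₁, s₁, K₁, o₁, f₁, l₁, -, c₁⟩ | ⟨Q₁, Q₁', f₁, o₁⟩ <;>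
        rcases r₂ with ⟨Q₂, s₂, K₂, o₂, f₂, l₂, -, c₂⟩ | ⟨Q₂, Q₂', f₂, o₂⟩ <;>
        obtain ⟨g, σ, h⟩ := exists_lk o₁ o₂ b₁ b₂ fun h4 => p₂ h4 Q₂ o₂
      · exact h.r11 (hasZ KS o₁.two o₁.pol (by omega) f₁ l₁) (hasZ KS o₂.two o₂.pol (by omega) f₂ l₂) f₁ f₂ c₁ c₂
      · exact (h.r15 (hasZ KS o₁.two o₁.pol (by omega) f₁ l₁) f₁ c₁ f₂).elim
      · exact (h.symm.r15 (hasZ KS o₂.two o₂.pol (by omega) f₂ l₂) f₂ c₂ f₁).elim
      · exact h.r55 b₁ f₁ f₂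
    · exact absurd e (by decide)
    · exact absurd e (by decide)
    · obtain ⟨Q₁, U₁, o₁, -, d₁, n₁, c₁⟩ := r₁
      obtain ⟨Q₂, U₂, o₂, q₂, d₂, n₂, c₂⟩ := r₂
      obtain ⟨g, σ, h⟩ := exists_lk o₁ o₂ b₁ b₂ fun _ => q₂
      exact h.r22 (by omega) (by omega) q₂ d₁ d₂ n₁ n₂ c₁ c₂

/-- the rows `R1`, `R2` have `m ≥ 4` and no triality -/
theorem sigO_of (KS : BoxKS) : All fun m _ _ _ _ _ _ _ _ _ _ _ D a => 3 ≤ m → D.R1 a ∨ D.R2 a →
    (∃ Q, D.Om Q) ∧ 4 ≤ m ∧ (m = 4 → ∀ Q, D.Om Q → ¬ IsPlus Q) := by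
  intro m F _ _ Ω _ _ X H T M S D a hm h
  have u : ∀ {Q Q'}, D.Om Q → D.Om Q' → Q' = Q := fun o o' =>
    uniq o.two o.pol o'.pol (by omega) ((o.eqA.symm.trans o'.eqA).le.trans E_le_O)
  rcases h with ⟨Q, s, K, o, f, l, p, -⟩ | ⟨Q, U, o, p, d, n, -⟩
  · obtain ⟨b, K', _, _, _, e, e1, -⟩ := KS m F s K (by omega) f
    have h2 := f.prime.two_le
    have hb : 2 ≤ b := by
      rcases b with _ | _ | b
      · omega
      · omega
      · omega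
    refine ⟨⟨Q, o⟩, e1 ▸ Nat.mul_le_mul h2 hb, fun h4 Q' o' p' => ?_⟩
    rw [u o o'] at p'
    obtain ⟨k, hk⟩ := p p'
    have h3 : s * 2 ≤ s * b := Nat.mul_le_mul_left s hb
    omega
  · obtain ⟨k, hk⟩ := n.even o.two
    exact ⟨⟨Q, o⟩, by omega, fun _ Q' o' => by rwa [u o o']⟩

end Cfsg.Agent.SM.Sy
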