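import Cfsg.Agent.SM.Sy.Form
import Cfsg.Agent.SM.CS.Defs
import Cfsg.Agent.SM.Fac
import Cfsg.Agent.H925.OrthBasic

/-!
# SM (S3570), symplectic socles: residual groups and forms of minus type, from `CS.CS1`, `CS.CS2` (helper23)
-/

set_option autoImplicit false
set_option linter.unusedSectionVars false
set_option linter.unusedVariables false

namespace Cfsg.Agent.SM.Sy

open Cfsg Cfsg.Geo Equiv Subgroup MulAction Module QuadraticMap Matrix
open Cfsg.Agent.LieClassical.OrthCore (O E)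
open Cfsg.Agent.H955 (IsPlus)

namespace CSb

variable {m : ℕ} {F : Type} [Field F] [Fintype F] {Ω : Type} [Fintype Ω] [DecidableEq Ω] {X H T M S : Subgroup (Perm Ω)}
  {Q : QuadraticForm F (VV m F)}

theorem symm_apply (g : GL (Fin m ⊕ Fin m) F) (v : VV m F) :
    (mx (m := m) (F := F)).symm g v = (g : Matrix (Fin m ⊕ Fin m) (Fin m ⊕ Fin m) F) *ᵥ v := rfl

theorem mem_iso (hQ : Pol Q) {g : GL (Fin m ⊕ Fin m) F} : g ∈ CS.Iso (polar ⇑Q) ↔ mx.symm g ∈ Sp m F :=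
  ⟨fun h u v => by rw [← hQ, ← hQ]; exact h u v, fun h u v => by rw [hQ, hQ]; exact h u v⟩

/-- the map onto `S`, on matrices -/
noncomputable def pr (D : Fr m F X H T M S) (hQ : Pol Q) : CS.Iso (polar ⇑Q) →* Perm Ω :=
  D.π.comp (((mx (m := m) (F := F)).symm.toMonoidHom.comp (CS.Iso (polar ⇑Q)).subtype).codRestrict (Sp m F)
    fun g => (mem_iso hQ).1 g.2)

theorem cov (D : Fr m F X H T M S) (hQ : Pol Q) : CS.Cov (CS.Iso (polar ⇑Q)) (pr D hQ) S := by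
  refine ⟨Subgroup.ext fun s => ?_, fun g => ?_⟩
  · rw [D.soc]
    constructor
    · rintro ⟨g, rfl⟩
      exact ⟨⟨mx.symm g.1, (mem_iso hQ).1 g.2⟩, rfl⟩
    · rintro ⟨g, rfl⟩
      refine ⟨⟨mx g.1, (mem_iso hQ).2 (by rw [MulEquiv.symm_apply_apply]; exact g.2)⟩, ?_⟩
      exact congrArg D.π (Subtype.ext (MulEquiv.symm_apply_apply mx g.1))
  · refine (D.ker ⟨pm (mx.symm g.1), D.sp _ ((mem_iso hQ).1 g.2)⟩).trans ?_
    rw [mem_scalars_iff]
    constructor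
    · rintro ⟨c, hc⟩
      have h1 : (g.1 : Matrix (Fin m ⊕ Fin m) (Fin m ⊕ Fin m) F) = c • (1 : Matrix _ _ F) :=
        toLin'.injective (LinearMap.ext fun v => by
          rw [toLin'_apply, toLin'_apply, smul_mulVec, one_mulVec]
          exact hc v)
      have h0 : c ≠ 0 := by
        rintro rfl
        have : Nonempty (Fin m ⊕ Fin m) := ⟨Sum.inl ⟨0, by have := D.two; omega⟩⟩
        exact g.1.ne_zero (by rw [h1, zero_smul])
      exact ⟨Units.mk0 c h0, h1⟩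
    · rintro ⟨c, hc⟩
      refine ⟨c, fun v => ?_⟩
      show (g.1 : Matrix (Fin m ⊕ Fin m) (Fin m ⊕ Fin m) F) *ᵥ v = _
      rw [hc, smul_mulVec, one_mulVec]

theorem pre_eq (D : Fr m F X H T M S) (hQ : Pol Q) (Y : Subgroup (Perm Ω)) :
    CS.pre (pr D hQ) Y = (D.pre Y).map (mx (m := m) (F := F)).toMonoidHom := by
  ext g
  constructor
  · rintro ⟨x, hx, rfl⟩
    exact ⟨mx.symm x.1, ⟨⟨mx.symm x.1, (mem_iso hQ).1 x.2⟩, hx, rfl⟩, MulEquiv.apply_symm_apply mx x.1⟩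
  · rintro ⟨_, ⟨x, hx, rfl⟩, rfl⟩
    refine ⟨⟨mx x.1, (mem_iso hQ).2 (by rw [MulEquiv.symm_apply_apply]; exact x.2)⟩, ?_, rfl⟩
    have h1 : pr D hQ ⟨mx x.1, (mem_iso hQ).2 (by rw [MulEquiv.symm_apply_apply]; exact x.2)⟩ = D.π x :=
      congrArg D.π (Subtype.ext (MulEquiv.symm_apply_apply mx x.1))
    show pr D hQ _ ∈ Y
    rw [h1]
    exact hx

theorem pre_inf (D : Fr m F X H T M S) (a : Ω) : D.pre (M ⊓ stabilizer (Perm Ω) a) = D.C a := by
  ext g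
  constructor
  · rintro ⟨x, hx, rfl⟩
    exact ⟨x, hx.2, rfl⟩
  · rintro ⟨x, hx, rfl⟩
    exact ⟨x, ⟨D.ran.le ⟨_, rfl⟩, hx⟩, rfl⟩

theorem map_O (hQ : Pol Q) :
    (O Q).map (mx (m := m) (F := F)).toMonoidHom = CS.Iso (polar ⇑Q) ⊓ isometryGroup F ⇑Q := by
  ext g
  rw [Subgroup.mem_map_equiv, Subgroup.mem_inf, mem_iso hQ, H925.mem_iso_iff]
  exact ⟨fun h => ⟨O_le_Sp hQ h, h⟩, fun h => h.2⟩

theorem sph (hQ : Pol Q) (hp : ¬ IsPlus Q) (he : Even (Fintype.card F)) :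
    CS.Sph (Fintype.card F) m .s (polar ⇑Q) (fun _ => True) (CS.Iso (polar ⇑Q)) (isometryGroup F ⇑Q) := by
  refine CS.Sph.s _ (H925.isND_of_nondeg hQ.nondeg) ?_ rfl he (by rw [Fintype.card_sum, Fintype.card_fin, two_mul])
  rintro ⟨U, -, h1, h2⟩
  exact hp ⟨U, h1, by rw [h2, finrank_top]⟩

end CSb

/-- **[SY-CS]** -/
theorem boxResM_of (h1 : CS.CS1) (h2 : CS.CS2) : BoxResM := by
  intro m F _ _ Ω _ _ X H T M S D a hm Q hp
  have hd : 13 ≤ Fintype.card (Fin m ⊕ Fin m) := by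
    rw [Fintype.card_sum, Fintype.card_fin]
    omega
  have hf := D.up.fac a
  refine ⟨fun hF ⟨P, hP, hq, _⟩ => ?_, fun hO ⟨P, hP, hq, _⟩ => ?_⟩
  · obtain ⟨h3, hQ, h4⟩ := hF
    have h5 := h1 _ F _ M S H T _ _ _ _ _ _ _ _ P (CSb.pr D hQ) H hf (CSb.sph hQ hp (by rw [h3]; exact even_two))
      (CSb.cov D hQ) hd (by rw [CSb.pre_eq, CSb.pre_inf, h4, CSb.map_O hQ]) hf.asH.le le_rfl
      (by rw [CSb.pre_eq]; exact hP) fun _ => hq
    exact absurd h5.1 (by decide)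
  · have hQ := hO.pol
    have he : Even (Fintype.card F) := by
      have := charP_two hO.two
      exact Nat.even_iff.2 (FiniteField.even_card_iff_char_two.1 (ringChar.eq F 2))
    have h5 := h2 _ F _ M S H T _ _ _ _ _ _ _ _ P (CSb.pr D hQ) hf (CSb.sph hQ hp he) (CSb.cov D hQ) hd
      (by rw [CSb.pre_eq, ← CSb.map_O hQ, ← hO.eqN]) (by rw [CSb.pre_eq, CSb.pre_inf]; exact hP) fun _ => hq
    exact absurd h5.1 (by decide)

end Cfsg.Agent.SM.Sy
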