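import Cfsg.Agent.H561.HT.G2
import Cfsg.Agent.H248.TitsRGD
import Cfsg.Agent.H65.Disp.Rgd
import Cfsg.Agent.KFacts.RgdDiag

/-!
# SM (S3570), `G₂(q) < Sp₆(q)`: the two maximal parabolic subgroups and their big cells (helper60)
-/

set_option autoImplicit false
set_option linter.unusedSectionVars false
set_option linter.unusedVariables false

namespace Cfsg.Agent.SM.Sy.G2

open CoxeterSystem Cfsg.Agent.ChevalleyStructure.CoxeterGeom Cfsg.Agent.Tits.Roots Cfsg.Agent.Tits.Core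
  Cfsg.Agent.Tits.Exchange Cfsg.Agent.Nodes.Reps Cfsg.Agent.Nodes.BNOf Cfsg.Agent.Nodes.StabComb
  Cfsg.Agent.Nodes.Bruhat Cfsg.Agent.Nodes.OppDec Cfsg.Agent.Nodes.LeviDec Cfsg.Agent.KFacts.RgdOpp
open Cfsg.Lie Cfsg.Agent.Nodes.RGDChev Cfsg.Agent.H35.ExcIdx Cfsg.Agent.H115.HC.GTwo

section gen

variable {I W Y : Type*} [Fintype I] [DecidableEq I] [Group W] [Group Y] {M : CoxeterMatrix I}
  {cs : CoxeterSystem M W} {A : I → I → ℤ} {h : IsCartan M A} {p : ℕ} {T : Subgroup Y} {n : I → Y}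
  {X : (I → ℤ) → Subgroup Y}

theorem card_cj (g : Y) (B : Subgroup Y) : Nat.card (cj g B) = Nat.card B :=
  Subgroup.card_map_of_injective (MulAut.conj g).injective

/-- the big cells of the parabolic subgroups with one node -/
theorem cell [Finite W] [Finite Y] (R : RGD cs h p T n X) : ∃ k : Y, ∀ j : I, ∃ V : Subgroup Y,
    V ≤ RGD.Sup X (RGD.Pos cs h) ∧ Nat.card (RGD.Sup X (RGD.Pos cs h)) ≤ Nat.card (X (-sr j)) * Nat.card V ∧
      ∀ v ∈ V, k⁻¹ * v * k ∈ PJ cs h T X {j} → v = 1 := by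
  obtain ⟨k, hk⟩ := exists_rp cs R.nsys (w0 cs)
  refine ⟨k⁻¹, fun j => ⟨cj k⁻¹ (VNJ cs h X {j}), fun v hv => ?_, ?_, fun v hv h1 => ?_⟩⟩
  · rw [mem_cj] at hv
    have h1 := VNJ_le_UN _ hv
    rw [← cj_U R hk, mem_cj] at h1
    simpa [mul_assoc] using h1
  · rw [card_cj, ← card_cj k, cj_U R hk, ← U_opp, ← KFacts.RgdDiag.VJ_opp]
    have e : X (-sr j) = UJ cs h (fun x => X (-x)) {j} := (KFacts.RgdDiag.UJ_singleton (X := fun x => X (-x)) j).symm
    rw [e, ← Nat.card_prod]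
    refine Nat.card_le_card_of_surjective (fun z : UJ cs h (fun x => X (-x)) {j} × VJ cs h (fun x => X (-x)) {j} =>
      (⟨z.1 * z.2, (mem_U_iff (opp R)).2 ⟨z.1, z.1.2, z.2, z.2.2, rfl⟩⟩ : RGD.Sup (fun x => X (-x)) (RGD.Pos cs h))) ?_
    rintro ⟨g, hg⟩
    obtain ⟨u, hu, v, hv, rfl⟩ := (mem_U_iff (J := {j}) (opp R)).1 hg
    exact ⟨(⟨u, hu⟩, ⟨v, hv⟩), rfl⟩
  · rw [mem_cj] at hv
    have h2 := eq_one_of_mem_VNJ_of_mem_PJ R hv h1
    have h3 : v = k⁻¹ * (k⁻¹⁻¹ * v * k⁻¹) * k := by group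
    rw [h3, h2]
    group

theorem pj_mono [Finite W] (R : RGD cs h p T n X) {J K : Set I} (hJK : J ⊆ K) : PJ cs h T X J ≤ PJ cs h T X K := by
  intro g hg
  obtain ⟨w, hw, hc⟩ := (mem_PJ_iff_cell R).1 hg
  exact (mem_PJ_iff_cell R).2 ⟨w, WJ_mono cs hJK hw, hc⟩

end gen

/-- the data of the two maximal parabolic subgroups -/
structure Par {G : Type} [Group G] (q : ℕ) (U : Subgroup G) (P V : Fin 2 → Subgroup G) (k : G) : Prop where
  pg : IsPGroup 2 U
  eq : ∀ H : Subgroup G, U ≤ H → H.index = (q + 1) * (q ^ 4 + q ^ 2 + 1) → ∃ j, H = P j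
  le : ∀ j, V j ≤ U
  card : ∀ j, q ^ 5 ≤ Nat.card (V j)
  free : ∀ j, ∀ v ∈ V j, k⁻¹ * v * k ∈ P j → v = 1

theorem exists_par (K : Type) [Field K] [Fintype K] (h2 : (2 : K) = 0) :
    ∃ (U : Subgroup (chevG2.group K)) (P V : Fin 2 → Subgroup (chevG2.group K)) (k : chevG2.group K),
      Par (Fintype.card K) U P V k := by
  have : CharP K 2 := CharTwo.of_one_ne_zero_of_two_eq_zero one_ne_zero h2
  obtain ⟨⟨f, hf⟩, -, hcard⟩ := FiniteField.card K 2
  have hcard' : Fintype.card K = 2 ^ f := hcard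
  have hfin := finite_W hpG2 CoxeterMatrix.G₂.toCoxeterSystem
  have R := rgd (K := K) hpG2 CoxeterMatrix.G₂.toCoxeterSystem 2
  have hG := GG_eq_top hpG2 K CoxeterMatrix.G₂.toCoxeterSystem
  have hq : 1 < Fintype.card K := Fintype.one_lt_card
  obtain ⟨k, hk⟩ := cell R
  choose V h1 h3 h4 using hk
  refine ⟨_, fun j => PJ CoxeterMatrix.G₂.toCoxeterSystem hpG2.isCartan (TT chevG2 K) (XX chevG2 2 K) {j}, V, k,
    R.isPGroup_Upos, fun H hH hi => ?_, h1, fun j => ?_, h4⟩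
  · have h5 := H248.TitsRGD.le_PJ R hH (by rw [hG]; exact le_top)
    have h6 : ∃ s, s ∉ H248.TitsRGD.JU (TT chevG2 K)
        (fun i => (⟨nn hpG2 K i, nn_mem_group hpG2 i⟩ : ↥(chevG2.group K))) H := by
      by_contra hc
      have h7 := H248.TitsRGD.Sup_le_of_univ R hH (Set.eq_univ_of_forall fun s => by_contra fun h8 => hc ⟨s, h8⟩)
      have h8 : H = ⊤ := top_le_iff.1 ((G1_eq_top hpG2 CoxeterMatrix.G₂.toCoxeterSystem (K := K)).ge.trans h7)
      rw [h8, Subgroup.index_top] at hi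
      have h9 : 2 * 1 ≤ (Fintype.card K + 1) * (Fintype.card K ^ 4 + Fintype.card K ^ 2 + 1) :=
        Nat.mul_le_mul (by omega) (by omega)
      omega
    obtain ⟨s, hs⟩ := h6
    have key : ∀ j : Fin 2, j ≠ s → (PJ CoxeterMatrix.G₂.toCoxeterSystem hpG2.isCartan (TT chevG2 K) (XX chevG2 2 K)
        {j}).index = H.index → H = PJ CoxeterMatrix.G₂.toCoxeterSystem hpG2.isCartan (TT chevG2 K) (XX chevG2 2 K) {j} := by
      intro j hj e
      have h7 : H ≤ PJ CoxeterMatrix.G₂.toCoxeterSystem hpG2.isCartan (TT chevG2 K) (XX chevG2 2 K) {j} := by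
        refine h5.trans (pj_mono R fun i hi => ?_)
        have h8 : i ≠ s := fun e => hs (e ▸ hi)
        rw [Set.mem_singleton_iff]
        omega
      have h8 := Subgroup.relIndex_mul_index h7
      rw [e] at h8
      exact le_antisymm h7 (Subgroup.relIndex_eq_one.1
        (Nat.eq_of_mul_eq_mul_right (Nat.pos_of_ne_zero Subgroup.index_ne_zero_of_finite) (h8.trans (one_mul _).symm)))
    by_cases h0 : s = 0
    · exact ⟨1, key 1 (by omega) (H561.HT.GT.index_eq1.trans hi.symm)⟩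
    · exact ⟨0, key 0 (Ne.symm h0) (index_eq'.trans hi.symm)⟩
  · obtain ⟨S, hS⟩ := H65.Disp.Rgd.exists_sylow_eq R hG
    have h5 : 2 ^ (f * 6) ∣ Nat.card (chevG2.group K) := by
      rw [Cfsg.Agent.S1059.result rfl, hcard', ← pow_mul, mul_assoc]
      exact Dvd.intro _ rfl
    have h6 := Nat.le_of_dvd Nat.card_pos (S.pow_dvd_card_of_pow_dvd_card h5)
    rw [hS, pow_mul, ← hcard'] at h6
    have h7 := h6.trans (h3 j)
    rw [card_XX hpG2 K CoxeterMatrix.G₂.toCoxeterSystem (isRoot_sr _ hpG2.isCartan j).neg, Nat.card_eq_fintype_card,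
      pow_succ'] at h7
    exact Nat.le_of_mul_le_mul_left h7 (by omega)

/-- transport along an isomorphism -/
theorem Par.comap {G G' : Type} [Group G] [Group G'] {q : ℕ} {U : Subgroup G} {P V : Fin 2 → Subgroup G} {k : G}
    (h : Par q U P V k) (e : G' ≃* G) : Par q (U.comap e.toMonoidHom) (fun j => (P j).comap e.toMonoidHom)
      (fun j => (V j).comap e.toMonoidHom) (e.symm k) where
  pg := h.pg.comap_of_injective _ e.injective
  eq H h1 hi := by
    obtain ⟨j, hj⟩ := h.eq (H.comap e.symm.toMonoidHom) (fun u hu => h1 (by simpa using hu))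
      ((Subgroup.index_comap_of_surjective _ e.symm.surjective).trans hi)
    refine ⟨j, ?_⟩
    rw [← hj]
    ext x
    simp
  le j := Subgroup.comap_mono (h.le j)
  card j := by
    rw [Subgroup.comap_equiv_eq_map_symm', Subgroup.card_map_of_injective e.symm.injective]
    exact h.card j
  free j v hv h1 := e.injective (by
    rw [map_one]
    exact h.free j _ hv (by simpa using h1))

end Cfsg.Agent.SM.Sy.G2
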