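import Cfsg.Agent.SM.Sy.K2
import Cfsg.Agent.SM.Sy.FormB
import Cfsg.Agent.H925.Rs.Elt
import Cfsg.Agent.H884.ElRows
import Cfsg.Agent.H951.SBridge

/-!
# SM (S3570), `G₂(q) < Sp₆(q)`: the points of `Ω` are the non-degenerate planes; the box `K2b` (helper60)
-/

set_option autoImplicit false
set_option linter.unusedSectionVars false
set_option linter.unusedVariables false

namespace Cfsg.Agent.SM.Sy

open Cfsg Equiv Subgroup MulAction Module
open Cfsg.Agent.H884.El (PP)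
open Cfsg.Agent.H951 (fx cm)

namespace G2

section lin

variable {m : ℕ} {F : Type} [Field F]

theorem pl_dim {p q : VV m F} (h : ff m F p q ≠ 0) : finrank F (Submodule.span F {p, q}) = 2 := by
  have h1 : LinearIndependent F ![p, q] := by
    rw [LinearIndependent.pair_iff]
    intro s t e
    have h2 := congrArg (fun v => ff m F v q) e
    have h3 := congrArg (fun v => ff m F p v) e
    simp only [map_add, map_smul, LinearMap.add_apply, LinearMap.smul_apply, ff_self, smul_eq_mul, mul_zero, add_zero,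
      zero_add, map_zero, LinearMap.zero_apply] at h2 h3
    exact ⟨(mul_eq_zero.1 h2).resolve_right h, (mul_eq_zero.1 h3).resolve_right h⟩
  have h2 := finrank_span_eq_card h1
  rwa [Matrix.range_cons, Matrix.range_cons, Matrix.range_empty, Set.union_empty, Set.singleton_union,
    Fintype.card_fin] at h2

theorem pl_nd {p q : VV m F} (h : ff m F p q ≠ 0) : Nd (Submodule.span F {p, q}) := by
  intro u hu h1
  obtain ⟨s, t, rfl⟩ := Submodule.mem_span_pair.1 hu
  have h2 := h1 q (Submodule.subset_span (by simp))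
  have h3 := h1 p (Submodule.subset_span (by simp))
  simp only [map_add, map_smul, LinearMap.add_apply, LinearMap.smul_apply, ff_self, smul_eq_mul, mul_zero, add_zero,
    zero_add] at h2 h3
  rw [(mul_eq_zero.1 h2).resolve_right h, (mul_eq_zero.1 h3).resolve_right fun e => h (ff_eq_zero_comm.1 e)]
  simp

theorem pl_eq {W : Submodule F (VV m F)} (hW : finrank F W = 2) {p q : VV m F} (hp : p ∈ W) (hq : q ∈ W)
    (h : ff m F p q ≠ 0) : Submodule.span F {p, q} = W :=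
  Submodule.eq_of_le_of_finrank_eq (Submodule.span_le.2 (by
    rintro x (rfl | rfl)
    exacts [hp, hq])) ((pl_dim h).trans hW.symm)

end lin

variable {Ω : Type} [Fintype Ω] [DecidableEq Ω] {m : ℕ} {F : Type} [Field F] [Fintype F]
  {X H T M S : Subgroup (Perm Ω)} (D : Fr m F X H T M S)

/-- `Ω` is the set of the non-degenerate planes -/
structure Pl (ι : Ω → Submodule F (VV m F)) : Prop where
  inj : Function.Injective ι
  dim : ∀ b, finrank F (ι b) = 2
  nd : ∀ b, Nd (ι b)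
  surj : ∀ W : Submodule F (VV m F), finrank F W = 2 → Nd W → ∃ b, ι b = W
  eqv : ∀ (g : D.L) b v, g.1 v ∈ ι (D.φ g b) ↔ v ∈ ι b

theorem exists_pl (a : Ω) {U : Submodule F (VV m F)} (hU : finrank F U = 2) (hN : Nd U)
    (h : ∀ g ∈ D.BB a, ∀ u ∈ U, g u ∈ U) : ∃ ι, Pl D ι ∧ ι a = U := by
  have h0 : U ≠ ⊥ := fun e => by rw [e, finrank_bot] at hU; omega
  have h1 : U ≠ ⊤ := fun e => by
    rw [e, finrank_top, finrank_VV] at hU
    have := D.two
    omega
  obtain ⟨ι, i1, i2, i3, i4⟩ := D.iota_set a (U : Set (VV m F)) (fun g hg => by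
    refine Set.Subset.antisymm ?_ fun u hu => ⟨g⁻¹ u, h _ (inv_mem hg) u hu, by simp⟩
    rintro _ ⟨u, hu, rfl⟩
    exact h g hg u hu) (by
    obtain ⟨g, hg, w, hw, h2⟩ := irr_Sp h0 h1
    exact ⟨g, hg, fun e => h2 (e.subset ⟨w, hw, rfl⟩)⟩)
  obtain ⟨u, hu, w, hw, huw⟩ := K2.exists_hyp hU hN
  have key : ∀ g : Sp m F, ι (D.π g a) = (Submodule.span F {g.1 u, g.1 w} : Submodule F (VV m F)) := fun g => by
    have e := Submodule.map_span (g.1 : VV m F →ₗ[F] VV m F) {u, w}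
    rw [Set.image_pair, pl_eq hU hu hw (huw ▸ one_ne_zero)] at e
    rw [i4, i2]
    exact congrArg (fun W : Submodule F (VV m F) => (W : Set (VV m F))) e
  have k1 : ∀ g : Sp m F, ff m F (g.1 u) (g.1 w) ≠ 0 := fun g => by
    rw [mem_Sp.1 g.2, huw]
    exact one_ne_zero
  have k2 : ∀ b, ∃ W : Submodule F (VV m F), finrank F W = 2 ∧ Nd W ∧ ι b = W := fun b => by
    obtain ⟨g, -, rfl⟩ := D.trans a b
    exact ⟨_, pl_dim (k1 g), pl_nd (k1 g), key g⟩
  choose κ k3 k4 k5 using k2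
  refine ⟨κ, ⟨fun b c e => i1 (by rw [k5, k5, e]), k3, k4, fun W hW hW' => ?_, fun g b v => ?_⟩,
    SetLike.coe_injective ((k5 a).symm.trans i2)⟩
  · obtain ⟨u', hu', w', hw', h2⟩ := K2.exists_hyp hW hW'
    obtain ⟨g, hg, e1, e2⟩ := H925.Rs.trans_hyp (u := u) (v := w) (u' := u') (v' := w') huw h2
    refine ⟨D.π ⟨g, hg⟩ a, SetLike.coe_injective ?_⟩
    rw [← k5, key, ← pl_eq hW hu' hw' (h2 ▸ one_ne_zero), ← e1, ← e2]
  · rw [← SetLike.mem_coe, ← SetLike.mem_coe, ← k5, ← k5, i3]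
    exact g.1.injective.mem_set_image

theorem Pl.eqv' {ι : Ω → Submodule F (VV m F)} (h : Pl D ι) (g : Sp m F) (b : Ω) (v : VV m F) :
    g.1 v ∈ ι (D.π g b) ↔ v ∈ ι b := h.eqv ⟨pm g.1, D.sp g.1 g.2⟩ b v

theorem card_sp (m : ℕ) (F : Type) [Field F] [Fintype F] :
    Nat.card (Matrix.symplecticGroup (Fin m) F) = oSp m (Fintype.card F) := by
  rw [← card_Sp]
  exact Nat.card_congr H925.Rs.spE.toEquiv

theorem six_eq {q : ℕ} (hq : 1 ≤ q) : q ^ 6 - 1 = (q ^ 2 - 1) * (q ^ 4 + q ^ 2 + 1) := by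
  have h1 : 1 ≤ q ^ 2 := Nat.one_le_pow _ _ hq
  have h2 : 1 ≤ q ^ 6 := Nat.one_le_pow _ _ hq
  zify [h1, h2]
  ring

theorem oSp_three (q : ℕ) : oSp 3 q = q ^ 9 * ((q ^ 2 - 1) * (q ^ 4 - 1) * (q ^ 6 - 1)) := by
  simp [oSp, Finset.prod_range_succ]

end G2

namespace G2

variable {Ω : Type} [Fintype Ω] [DecidableEq Ω] {F : Type} [Field F] [Fintype F]
  {X H T M S : Subgroup (Perm Ω)} (D : Fr 3 F X H T M S)

/-- the degree -/
theorem Pl.card {ι : Ω → Submodule F (VV 3 F)} (h : Pl D ι) :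
    Fintype.card Ω = Fintype.card F ^ 4 * (Fintype.card F ^ 4 + Fintype.card F ^ 2 + 1) := by
  have h1 := H951.card_nd_symp (F := F) (d := 3) (k := 1) (by omega)
  have h2 : Nat.card {W : Submodule F (VV 3 F) // finrank F ↥W = 2 * 1 ∧ H951.Nd (sympForm 3 F) W} = Fintype.card Ω := by
    rw [← Nat.card_eq_fintype_card]
    refine (Nat.card_congr (Equiv.ofBijective (fun b => ⟨ι b, h.dim b, fun u hu h0 => by_contra fun hc =>
      h0 (h.nd b u hu fun w hw => by_contra fun h3 => hc ⟨w, hw, h3⟩)⟩) ⟨fun b c e => ?_, ?_⟩)).symm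
    · exact h.inj (congrArg Subtype.val e)
    · rintro ⟨W, hW, hW'⟩
      obtain ⟨b, hb⟩ := h.surj W hW fun u hu h3 => by_contra fun h0 => by
        obtain ⟨w, hw, h4⟩ := hW' u hu h0
        exact h4 (h3 w hw)
      exact ⟨b, Subtype.ext hb⟩
  rw [h2, card_sp, card_sp, card_sp, oSp_three] at h1
  have hq : 1 < Fintype.card F := Fintype.one_lt_card
  generalize Fintype.card F = q at h1 hq ⊢
  have h3 : 0 < q ^ 2 - 1 := Nat.sub_pos_of_lt (Nat.one_lt_pow (by omega) hq)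
  have h4 : 0 < q ^ 4 - 1 := Nat.sub_pos_of_lt (Nat.one_lt_pow (by omega) hq)
  have h5 : oSp 1 q * oSp (3 - 1) q = q ^ 5 * ((q ^ 2 - 1) * (q ^ 2 - 1) * (q ^ 4 - 1)) := by
    simp only [oSp, Finset.prod_range_succ, Finset.range_zero, Finset.prod_empty]
    norm_num
    ring
  rw [h5, six_eq hq.le] at h1
  refine Nat.eq_of_mul_eq_mul_right (m := q ^ 5 * ((q ^ 2 - 1) * (q ^ 2 - 1) * (q ^ 4 - 1))) (by positivity) ?_
  rw [h1]
  ring

/-- `M_a` fixes the plane -/
theorem bb_fix (a : Ω) {U : Submodule F (VV 3 F)} (hU : finrank F U = 2) (hC : D.C a ≤ NS U) {r : ℕ}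
    (hr : PP (Fintype.card F) 4 r) (hA : ¬ r ∣ Nat.card D.A) : ∀ g ∈ D.BB a, ∀ u ∈ U, g u ∈ U := by
  have hfin : Finite (GG 3 F) := finite_GG
  have hq : 1 < Fintype.card F := Fintype.one_lt_card
  have h1 : r ∣ Nat.card (D.C a) := by
    refine (hr.prime.dvd_mul.1 (Dvd.dvd.trans ?_ (D.card_dvd a))).resolve_left hA
    rw [card_Sp, oSp_three]
    exact ((((hr.dvd_iff hq.le 4).2 dvd_rfl).mul_left _).mul_right _).mul_left _
  have key : ∀ c ∈ D.C a, c ^ r = 1 → c ≠ 1 → U = fx (c : End F (VV 3 F)) := by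
    intro c hc h2 h3
    obtain ⟨b1, b2, b3, -⟩ := H925.Rs.blk (k := 4) (x := c) (by rwa [Nat.card_eq_fintype_card]) (by omega)
      (by rw [finrank_VV]; omega) h2 h3
    rw [finrank_VV] at b1
    rcases b3 U (fun u hu => ((hC hc).2 u).2 hu) with h4 | h4
    · exact Submodule.eq_of_le_of_finrank_eq h4 (by omega)
    · have := Submodule.finrank_mono h4
      omega
  obtain ⟨c, hc, h2, h3⟩ := H925.Rs.exists_elt hr.prime h1
  intro g hg u hu
  obtain ⟨y, hy, e⟩ := D.conj_C hg hc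
  have h4 : y ^ r = 1 := pm_injective (by rw [map_pow, e, conj_pow, ← map_pow, h2, map_one]; group)
  have h5 : y ≠ 1 := fun e1 => h3 (pm_injective (by
    rw [e1, map_one] at e
    rw [map_one]
    calc pm c = g⁻¹ * (g * pm c * g⁻¹) * g := by group
      _ = 1 := by rw [← e]; group))
  rw [key y hy h4 h5]
  rw [key c hc h2 h3] at hu
  have h6 : c u = u := H951.mem_fx.1 hu
  refine H951.mem_fx.2 ?_
  have h7 : pm y (g u) = g u := by
    rw [e, Perm.mul_apply, Perm.mul_apply, Perm.coe_inv, Equiv.symm_apply_apply, pm_apply, h6]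
  exact h7

theorem card_T (e : T ≃* Lie.chevG2.group F) : Nat.card T = oG (Fintype.card F) := by
  rw [Nat.card_congr e.toEquiv, Cfsg.Agent.S1059.result rfl, oG]
  ring

theorem not_dvd_oG {q r : ℕ} (hq : 1 ≤ q) (hr : PP q 4 r) : ¬ r ∣ oG q := by
  intro h
  rcases hr.prime.dvd_mul.1 h with h | h
  · rcases hr.prime.dvd_mul.1 h with h | h
    · exact hr.not_dvd (by omega) (hr.prime.dvd_of_dvd_pow h)
    · exact absurd ((hr.dvd_iff hq 6).1 h) (by omega)
  · exact absurd ((hr.dvd_iff hq 2).1 h) (by omega)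

/-- the planes in the row `R3` -/
theorem pl_of (a : Ω) (h2 : (2 : F) = 0) (e : T ≃* Lie.chevG2.group F) {U : Submodule F (VV 3 F)} (hU : finrank F U = 2)
    (hN : Nd U) (hC : D.C a ≤ NS U) : ∀ g ∈ D.BB a, ∀ u ∈ U, g u ∈ U := by
  have hq : 1 < Fintype.card F := Fintype.one_lt_card
  obtain ⟨r, hr⟩ := H884.El.exists_pp (q := Fintype.card F) (e := 4) hq (by omega) (by omega)
  refine bb_fix D a hU hC hr ?_
  rw [D.card_A_two h2, card_T e]
  exact not_dvd_oG hq.le hr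

end G2

/-- **planes, `m = 3`** -/
theorem boxK2b : BoxK2b := by
  intro m F _ _ Ω _ _ X H T M S D a hm h
  subst hm
  obtain ⟨U, hU, hN, hC⟩ := id h
  have h0 : U ≠ ⊥ := fun e => by rw [e, finrank_bot] at hU; omega
  have h1 : U ≠ ⊤ := fun e => by
    rw [e, finrank_top, finrank_VV] at hU
    omega
  have h5 : Fact (Nat.Prime 5) := ⟨by norm_num⟩
  rcases (K2.her D le_rfl (K2.planes D h)).2 with ⟨h2, h4, ⟨e⟩⟩ | ⟨hq, hA⟩ | ⟨hq, hT⟩
  · exact ⟨rfl, h2, h4, ⟨e⟩, U, hU, hN, D.C_eq_NS a h0 h1 (G2.pl_of D a h2 e hU hN hC)⟩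
  · exfalso
    have hr : PP (Fintype.card F) 4 5 := ⟨by norm_num, by
      rw [hq]
      exact orderOf_eq_prime_pow (p := 2) (n := 1) (by decide) (by decide)⟩
    obtain ⟨ι, hι, -⟩ := G2.exists_pl D a hU hN (G2.bb_fix D a hU hC hr (by rw [hA]; norm_num))
    have h6 := D.card_AC a
    rw [hι.card, hq, hA] at h6
    omega
  · exfalso
    have h2 : (2 : F) = 0 := K2.two_of (by rw [hq])
    have hr : PP (Fintype.card F) 4 5 := ⟨by norm_num, by
      rw [hq]
      exact orderOf_eq_prime_pow (p := 2) (n := 1) (by decide) (by decide)⟩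
    obtain ⟨ι, hι, -⟩ := G2.exists_pl D a hU hN (G2.bb_fix D a hU hC hr (by rw [D.card_A_two h2, hT]; norm_num))
    have h6 := hι.card
    rw [hq] at h6
    have h7 := D.up.relIndex a
    have h8 := Fac.card_mul T (M ⊓ stabilizer (Perm Ω) a)
    have h9 := (D.up.fac a).syl_num 3 1 2 (by norm_num) (by rw [h7, h6, hT] at h8; omega) (by norm_num) (by decide)
    rw [h7, h6] at h9
    omega

/-- the signature of the row `R3` -/
theorem sig3 {m : ℕ} {F : Type} [Field F] [Fintype F] {Ω : Type} [Fintype Ω] [DecidableEq Ω]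
    {X H T M S : Subgroup (Perm Ω)} (D : Fr m F X H T M S) (a : Ω) (h : D.R3 a) :
    ∃ e, 2 ≤ e ∧ Nat.card T = oG (2 ^ e) ∧ Fintype.card Ω = (2 ^ e) ^ 4 * ((2 ^ e) ^ 4 + (2 ^ e) ^ 2 + 1) := by
  obtain ⟨rfl, h2, h4, ⟨e⟩, U, hU, hN, hC⟩ := h
  have := charP_two h2
  obtain ⟨⟨f, hf⟩, -, hcard⟩ := FiniteField.card F 2
  have hcard' : Fintype.card F = 2 ^ f := hcard
  obtain ⟨ι, hι, -⟩ := G2.exists_pl D a hU hN (G2.pl_of D a h2 e hU hN hC.le)
  refine ⟨f, ?_, hcard' ▸ G2.card_T e, hcard' ▸ hι.card⟩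
  by_contra hc
  obtain rfl : f = 1 := by omega
  omega

end Cfsg.Agent.SM.Sy
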