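import Cfsg.Agent.SM.Sy.G2A
import Cfsg.Agent.SM.Sy.G2B
import Mathlib.LinearAlgebra.Projectivization.Action
import Mathlib.LinearAlgebra.Projectivization.Cardinality

/-!
# SM (S3570), `G₂(q) < Sp₆(q)`: the count `Cnt3` (helper60)

The stabiliser of a point is one of the two maximal parabolic subgroups of `T`, two points are not perpendicular iff they
are in the big cell.  So the polar space, its hyperbolic lines and their incidence with `Ω` can be read in `T`.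
-/

set_option autoImplicit false
set_option linter.unusedSectionVars false
set_option linter.unusedVariables false

namespace Cfsg.Agent.SM.Sy

open Cfsg Equiv Subgroup MulAction Module
open scoped LinearAlgebra.Projectivization

namespace G2

section key

variable {F : Type} [Field F] [Fintype F] {G : Type} [Group G] [Finite G] (ρ : G →* GG 3 F)

theorem rho_mul (s t : G) (v : VV 3 F) : ρ (s * t) v = ρ s (ρ t v) := by
  rw [map_mul]
  rfl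

theorem rho_inv (s : G) (v : VV 3 F) : ρ s⁻¹ (ρ s v) = v := by
  rw [← rho_mul, inv_mul_cancel, map_one]
  rfl

theorem exists_fix (h2 : (2 : F) = 0) {U : Subgroup G} (hU : IsPGroup 2 U) : ∃ x : VV 3 F, x ≠ 0 ∧ ∀ u ∈ U, ρ u x = x := by
  let _ : MulAction U (VV 3 F) := MulAction.compHom _ (ρ.comp U.subtype)
  have := charP_two h2
  obtain ⟨⟨f, hf⟩, -, hcard⟩ := FiniteField.card F 2
  have hcard' : Fintype.card F = 2 ^ f := hcard
  obtain ⟨x, hx, h0⟩ := hU.exists_fixed_point_of_prime_dvd_card_of_fixed_point (VV 3 F) (a := 0) (by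
    rw [card_VV, hcard', ← pow_mul]
    exact dvd_pow_self 2 (by omega)) fun u => map_zero (ρ u)
  exact ⟨x, h0.symm, fun u hu => hx ⟨u, hu⟩⟩

/-- the stabiliser of a point -/
theorem exists_stab (tr : ∀ v w : VV 3 F, v ≠ 0 → w ≠ 0 → ∃ t, ∃ c : F, ρ t v = c • w) {x : VV 3 F} (hx : x ≠ 0) :
    ∃ K : Subgroup G, (∀ t, t ∈ K ↔ ∃ c : F, c • x = ρ t x) ∧
      K.index = (Fintype.card F + 1) * (Fintype.card F ^ 4 + Fintype.card F ^ 2 + 1) := by
  refine ⟨(stabilizer (GG 3 F) (Projectivization.mk F x hx)).comap ρ, fun t => ?_, ?_⟩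
  · rw [mem_comap, mem_stabilizer_iff, Projectivization.smul_mk, Projectivization.mk_eq_mk_iff']
    rfl
  · have h1 : ((stabilizer (GG 3 F) (Projectivization.mk F x hx)).comap ρ).index =
        (stabilizer ρ.range (Projectivization.mk F x hx)).index := by
      rw [index_comap]
      rfl
    have h2 : orbit ρ.range (Projectivization.mk F x hx) = Set.univ := by
      refine Set.eq_univ_of_forall fun y => ?_
      induction y using Projectivization.ind with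
      | h w hw =>
        obtain ⟨t, c, e⟩ := tr x w hx hw
        refine ⟨⟨ρ t, t, rfl⟩, ?_⟩
        change ρ t • Projectivization.mk F x hx = _
        rw [Projectivization.smul_mk, Projectivization.mk_eq_mk_iff']
        exact ⟨c, e.symm⟩
    rw [h1, index_stabilizer, h2, Set.ncard_univ, Projectivization.card_of_finrank F (VV 3 F) finrank_VV,
      Nat.card_eq_fintype_card]
    simp only [Finset.sum_range_succ, Finset.range_zero, Finset.sum_empty]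
    ring

theorem ncard_perp {x : VV 3 F} (hx : x ≠ 0) : {y : VV 3 F | ff 3 F y x = 0}.ncard = Fintype.card F ^ 5 := by
  have h1 := finrank_perp (Submodule.span F {x})
  rw [finrank_span_singleton hx] at h1
  have h2 : {y : VV 3 F | ff 3 F y x = 0} = (perp (Submodule.span F {x}) : Set (VV 3 F)) := by
    ext y
    rw [SetLike.mem_coe, mem_perp]
    refine ⟨fun h u hu => ?_, fun h => ff_eq_zero_comm.1 (h x (Submodule.mem_span_singleton_self x))⟩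
    obtain ⟨c, rfl⟩ := Submodule.mem_span_singleton.1 hu
    rw [map_smul, LinearMap.smul_apply, ff_eq_zero_comm.1 h, smul_zero]
  rw [h2, ← Nat.card_coe_set_eq, SetLike.coe_sort_coe, Module.natCard_eq_pow_finrank (K := F), Nat.card_eq_fintype_card]
  congr 1
  omega

/-- **the big cell** -/
theorem key (hρ : ∀ t, ρ t ∈ Sp 3 F) (h2 : (2 : F) = 0)
    (tr : ∀ v w : VV 3 F, v ≠ 0 → w ≠ 0 → ∃ t, ∃ c : F, ρ t v = c • w) {U : Subgroup G} {P V : Fin 2 → Subgroup G} {k : G}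
    (h : Par (Fintype.card F) U P V k) :
    ∃ x : VV 3 F, x ≠ 0 ∧ ∃ j, ∀ t, ff 3 F (ρ t x) x ≠ 0 ↔ ∃ v ∈ V j, ∃ p ∈ P j, t = v * k * p := by
  obtain ⟨x, hx, hU⟩ := exists_fix ρ h2 h.pg
  obtain ⟨K, hK, hi⟩ := exists_stab ρ tr hx
  obtain ⟨j, rfl⟩ := h.eq K (fun u hu => (hK u).2 ⟨1, by rw [one_smul, hU u hu]⟩) hi
  have hne : ∀ t, ρ t x ≠ 0 := fun t e => hx ((ρ t).map_eq_zero_iff.1 e)
  let φ : Fˣ × V j → VV 3 F := fun z => (z.1 : F) • ρ (z.2 * k) x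
  have hφ : Function.Injective φ := by
    rintro ⟨c, v⟩ ⟨c', v'⟩ e
    have e1 : (c : F) • ρ (v * k) x = (c' : F) • ρ (v' * k) x := e
    have h1 : k⁻¹ * (v'⁻¹ * v : V j) * k ∈ P j := by
      refine (hK _).2 ⟨(c : F)⁻¹ * c', ?_⟩
      have e2 : k⁻¹ * ((v'⁻¹ * v : V j) : G) * k = ((v' : G) * k)⁻¹ * (v * k) := by
        push_cast
        group
      have e3 : ρ (v * k) x = ((c : F)⁻¹ * c') • ρ (v' * k) x := by
        rw [mul_smul, ← e1, inv_smul_smul₀ c.ne_zero]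
      rw [e2, rho_mul, e3, map_smul, rho_inv]
    have h3 : v' = v := inv_mul_eq_one.1 (Subtype.ext (h.free j _ (v'⁻¹ * v).2 h1))
    subst h3
    exact Prod.ext (Units.ext (smul_left_injective F (hne _) e1)) rfl
  have hf : ∀ z, ff 3 F (φ z) x = z.1 * ff 3 F (ρ k x) x := fun z => by
    have e : ff 3 F (ρ (z.2 * k) x) x = ff 3 F (ρ k x) x := by
      conv_lhs => rw [rho_mul]; enter [2]; rw [← hU _ (h.le j z.2.2)]
      exact mem_Sp.1 (hρ _) _ _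
    change ff 3 F ((z.1 : F) • ρ (z.2 * k) x) x = _
    rw [map_smul, LinearMap.smul_apply, e, smul_eq_mul]
  have hq : 1 < Fintype.card F := Fintype.one_lt_card
  have hc : (Fintype.card F - 1) * Fintype.card F ^ 5 ≤ (Set.range φ).ncard := by
    classical
    rw [Set.ncard_range_of_injective hφ, Nat.card_prod, Nat.card_eq_fintype_card (α := Fˣ), Fintype.card_units]
    exact Nat.mul_le_mul_left _ (h.card j)
  have hp := ncard_perp hx
  have h0 : ff 3 F (ρ k x) x ≠ 0 := by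
    intro h0
    have h3 : Set.range φ ⊂ {y : VV 3 F | ff 3 F y x = 0} := by
      refine ⟨?_, fun h4 => ?_⟩
      · rintro _ ⟨z, rfl⟩
        exact (hf z).trans (by rw [h0, mul_zero])
      · obtain ⟨z, hz⟩ := h4 (show (0 : VV 3 F) ∈ {y : VV 3 F | ff 3 F y x = 0} by simp)
        exact smul_ne_zero z.1.ne_zero (hne _) hz
    have h4 := Set.ncard_lt_ncard h3
    have h5 : 1 * Fintype.card F ^ 5 ≤ (Fintype.card F - 1) * Fintype.card F ^ 5 := Nat.mul_le_mul_right _ (by omega)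
    omega
  have h3 : Set.range φ = {y : VV 3 F | ff 3 F y x = 0}ᶜ := by
    refine Set.eq_of_subset_of_ncard_le ?_ ?_
    · rintro _ ⟨z, rfl⟩ h4
      exact mul_ne_zero z.1.ne_zero h0 ((hf z).symm.trans h4)
    · have h4 := Set.ncard_add_ncard_compl {y : VV 3 F | ff 3 F y x = 0}
      rw [hp, card_VV] at h4
      have h5 : (Fintype.card F - 1) * Fintype.card F ^ 5 + Fintype.card F ^ 5 = Fintype.card F ^ (2 * 3) := by
        rw [← Nat.succ_mul, Nat.succ_eq_add_one, Nat.sub_add_cancel hq.le, ← pow_succ']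
      omega
  refine ⟨x, hx, j, fun t => ⟨fun ht => ?_, ?_⟩⟩
  · obtain ⟨⟨c, v⟩, e⟩ := h3.symm.subset (show ρ t x ∈ {y : VV 3 F | ff 3 F y x = 0}ᶜ from ht)
    have e1 : (c : F) • ρ (v * k) x = ρ t x := e
    refine ⟨v, v.2, ((v : G) * k)⁻¹ * t, (hK _).2 ⟨c, ?_⟩, by group⟩
    rw [rho_mul, ← e1, map_smul, rho_inv]
  · rintro ⟨v, hv, p, hp, rfl⟩
    obtain ⟨c, hc⟩ := (hK p).1 hp
    have hc0 : c ≠ 0 := fun e => hne p (by rw [← hc, e, zero_smul])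
    have e := hf (Units.mk0 c hc0, ⟨v, hv⟩)
    rw [rho_mul, ← hc, map_smul]
    exact fun h4 => mul_ne_zero hc0 h0 (e.symm.trans h4)

end key

variable {Ω : Type} [Fintype Ω] [DecidableEq Ω] {T : Subgroup (Perm Ω)}

/-- collinear -/
def Ln (O : T → Prop) (s₁ s₂ s : T) : Prop := ∀ r, ¬ O (r⁻¹ * s₁) → ¬ O (r⁻¹ * s₂) → ¬ O (r⁻¹ * s)

/-- incident -/
def Inc (O : T → Prop) (b : Ω) (s : T) : Prop := ∃ s₁ s₂, O (s₁⁻¹ * s₂) ∧ Ln O s₁ s₂ s ∧
  ∀ t : T, (t : Perm Ω) b = b → Ln O s₁ s₂ (t * s₁) ∧ Ln O s₁ s₂ (t * s₂)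

/-- the planes which meet the plane `a` -/
def Del (O : T → Prop) (a : Ω) : Set Ω := {b | ∃ s, Inc O a s ∧ Inc O b s}

variable {F : Type} [Field F] [Fintype F] {X H M S : Subgroup (Perm Ω)} (D : Fr 3 F X H T M S)

/-- the data of a frame -/
structure Dt (ρ : T →* GG 3 F) (x : VV 3 F) (O : T → Prop) (ι : Ω → Submodule F (VV 3 F)) : Prop where
  sp : ∀ t, ρ t ∈ Sp 3 F
  pi : ∀ t, D.π ⟨ρ t, sp t⟩ = t
  ne : x ≠ 0
  tr : ∀ w : VV 3 F, w ≠ 0 → ∃ t, ∃ c : F, ρ t x = c • w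
  np : ∀ t, ff 3 F (ρ t x) x ≠ 0 ↔ O t
  pl : Pl D ι

variable {D} {ρ : T →* GG 3 F} {x : VV 3 F} {O : T → Prop} {ι : Ω → Submodule F (VV 3 F)}

theorem Dt.ne' (h : Dt D ρ x O ι) (t : T) : ρ t x ≠ 0 := fun e => h.ne ((ρ t).map_eq_zero_iff.1 e)

theorem Dt.tr' (h : Dt D ρ x O ι) {w : VV 3 F} (hw : w ≠ 0) : ∃ t, ∃ c : F, c ≠ 0 ∧ ρ t x = c • w := by
  obtain ⟨t, c, e⟩ := h.tr w hw
  exact ⟨t, c, fun e1 => h.ne' t (by rw [e, e1, zero_smul]), e⟩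

theorem Dt.np' (h : Dt D ρ x O ι) (r s : T) : ¬ O (r⁻¹ * s) ↔ ff 3 F (ρ s x) (ρ r x) = 0 := by
  rw [← h.np, not_not, ← mem_Sp.1 (h.sp r), ← rho_mul, mul_inv_cancel_left]

theorem Dt.ln (h : Dt D ρ x O ι) (s₁ s₂ s : T) : Ln O s₁ s₂ s ↔ ρ s x ∈ Submodule.span F {ρ s₁ x, ρ s₂ x} := by
  refine ⟨fun h1 => ?_, fun h1 r h2 h3 => ?_⟩
  · rw [← perp_perp (Submodule.span F {ρ s₁ x, ρ s₂ x}), mem_perp]
    intro y hy
    by_cases h0 : y = 0
    · simp [h0]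
    obtain ⟨r, c, hc, e⟩ := h.tr' h0
    have h2 := h1 r ((h.np' _ _).2 (by
      rw [e, map_smul, mem_perp.1 hy _ (Submodule.subset_span (by simp)), smul_zero])) ((h.np' _ _).2 (by
      rw [e, map_smul, mem_perp.1 hy _ (Submodule.subset_span (by simp)), smul_zero]))
    rw [h.np', e, map_smul, smul_eq_mul] at h2
    exact ff_eq_zero_comm.1 ((mul_eq_zero.1 h2).resolve_left hc)
  · rw [h.np'] at h2 h3 ⊢
    obtain ⟨c, d, e⟩ := Submodule.mem_span_pair.1 h1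
    rw [← e, map_add, map_smul, map_smul, LinearMap.add_apply, LinearMap.smul_apply, LinearMap.smul_apply, h2, h3]
    simp

theorem Dt.eqv (h : Dt D ρ x O ι) (t : T) (b : Ω) (v : VV 3 F) : ρ t v ∈ ι ((t : Perm Ω) b) ↔ v ∈ ι b := by
  have e := h.pl.eqv' D ⟨ρ t, h.sp t⟩ b v
  rwa [h.pi] at e

theorem Dt.inc (h : Dt D ρ x O ι) (b : Ω) (s : T) : Inc O b s ↔ ρ s x ∈ ι b := by
  constructor
  · rintro ⟨s₁, s₂, h1, h2, h3⟩
    have h4 : ff 3 F (ρ s₁ x) (ρ s₂ x) ≠ 0 := fun e => (h.np' _ _).2 (ff_eq_zero_comm.1 e) h1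
    obtain ⟨b', hb'⟩ := h.pl.surj _ (pl_dim h4) (pl_nd h4)
    have h5 : b' = b := by
      refine D.up.socH.eq_of_fix D.up.prim D.up.two fun t ht htb => h.pl.inj ?_
      obtain ⟨h6, h7⟩ := h3 ⟨t, ht⟩ htb
      rw [h.ln, rho_mul, ← hb'] at h6 h7
      have h8 : ff 3 F (ρ ⟨t, ht⟩ (ρ s₁ x)) (ρ ⟨t, ht⟩ (ρ s₂ x)) ≠ 0 := by rwa [mem_Sp.1 (h.sp _)]
      rw [← pl_eq (h.pl.dim b') h6 h7 h8]
      refine (pl_eq (h.pl.dim _) ((h.eqv ⟨t, ht⟩ b' _).2 ?_) ((h.eqv ⟨t, ht⟩ b' _).2 ?_) h8).symm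
      · exact hb' ▸ Submodule.subset_span (by simp)
      · exact hb' ▸ Submodule.subset_span (by simp)
    rw [← h5, hb']
    exact (h.ln _ _ _).1 h2
  · intro h1
    obtain ⟨u, hu, w, hw, huw⟩ := K2.exists_hyp (h.pl.dim b) (h.pl.nd b)
    obtain ⟨s₁, c, hc, e₁⟩ := h.tr' (w := u) (by rintro rfl; simp at huw)
    obtain ⟨s₂, d, hd, e₂⟩ := h.tr' (w := w) (by rintro rfl; simp at huw)
    have h2 : ρ s₁ x ∈ ι b := e₁ ▸ Submodule.smul_mem _ c hu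
    have h3 : ρ s₂ x ∈ ι b := e₂ ▸ Submodule.smul_mem _ d hw
    have h4 : ff 3 F (ρ s₁ x) (ρ s₂ x) ≠ 0 := by
      rw [e₁, e₂, map_smul, map_smul, LinearMap.smul_apply, huw, smul_eq_mul, smul_eq_mul, mul_one]
      exact mul_ne_zero hd hc
    have h5 := pl_eq (h.pl.dim b) h2 h3 h4
    refine ⟨s₁, s₂, by_contra fun h6 => h4 (ff_eq_zero_comm.1 ((h.np' _ _).1 h6)), (h.ln _ _ _).2 (h5.symm ▸ h1),
      fun t ht => ?_⟩
    rw [h.ln, h.ln, h5, rho_mul, rho_mul]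
    exact ⟨ht ▸ (h.eqv t b _).2 h2, ht ▸ (h.eqv t b _).2 h3⟩

theorem Dt.del (h : Dt D ρ x O ι) (a b : Ω) : b ∈ Del O a ↔ ∃ y, y ≠ 0 ∧ y ∈ ι a ∧ y ∈ ι b := by
  constructor
  · rintro ⟨s, h1, h2⟩
    exact ⟨_, h.ne' s, (h.inc _ _).1 h1, (h.inc _ _).1 h2⟩
  · rintro ⟨y, h0, h1, h2⟩
    obtain ⟨s, c, -, e⟩ := h.tr' h0
    exact ⟨s, (h.inc _ _).2 (e ▸ Submodule.smul_mem _ c h1), (h.inc _ _).2 (e ▸ Submodule.smul_mem _ c h2)⟩

theorem Dt.fin (h : Dt D ρ x O ι) (a : Ω) : (∀ g ∈ M, g a = a → ∀ b ∈ Del O a, g b ∈ Del O a) ∧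
    (∃ b ∈ Del O a, b ≠ a) ∧ ∃ c ∉ Del O a, c ≠ a := by
  obtain ⟨u, hu, w, hw, huw⟩ := K2.exists_hyp (h.pl.dim a) (h.pl.nd a)
  have hu0 : u ≠ 0 := by rintro rfl; simp at huw
  have hb : perp (ι a) ≠ ⊥ := fun e => by
    have h1 := finrank_perp (ι a)
    rw [e, finrank_bot, h.pl.dim] at h1
    omega
  obtain ⟨z, hz, hz0⟩ := (Submodule.ne_bot_iff _).1 hb
  have hd : ∀ y ∈ ι a, y ∈ perp (ι a) → y = 0 := fun y h1 h2 =>
    h.pl.nd a y h1 fun v hv => ff_eq_zero_comm.1 (mem_perp.1 h2 v hv)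
  refine ⟨fun g hg hga b hb => ?_, ?_, ?_⟩
  · obtain ⟨g, rfl⟩ := D.φ_surj hg
    obtain ⟨y, h0, h1, h2⟩ := (h.del a b).1 hb
    obtain ⟨σ, l, -, hs⟩ := D.semi g.2
    exact (h.del a _).2 ⟨g.1 y, fun e => h0 (g.1.injective (e.trans (IsSemi.zero hs).symm)),
      hga ▸ (h.pl.eqv g a y).2 h1, (h.pl.eqv g b y).2 h2⟩
  · have h1 : ff 3 F u (w + z) ≠ 0 := by
      rw [map_add, huw, mem_perp.1 hz u hu, add_zero]
      exact one_ne_zero
    obtain ⟨b, hb'⟩ := h.pl.surj _ (pl_dim h1) (pl_nd h1)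
    have h2 : w + z ∈ ι b := hb' ▸ Submodule.subset_span (by simp)
    exact ⟨b, (h.del a b).2 ⟨u, hu0, hu, hb' ▸ Submodule.subset_span (by simp)⟩,
      fun e => hz0 (hd z ((Submodule.add_mem_iff_right _ hw).1 (e ▸ h2)) hz)⟩
  · obtain ⟨z', hz', h1⟩ := (h.pl.nd a).perp.exists_ff hz hz0 1
    have h2 : ff 3 F z z' ≠ 0 := h1 ▸ one_ne_zero
    obtain ⟨c, hc⟩ := h.pl.surj _ (pl_dim h2) (pl_nd h2)
    have h3 : c ∉ Del O a := fun h3 => by
      obtain ⟨y, h0, h4, h5⟩ := (h.del a c).1 h3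
      refine h0 (hd y h4 ((Submodule.span_le.2 ?_ : Submodule.span F {z, z'} ≤ perp (ι a)) (hc ▸ h5)))
      rintro v (rfl | rfl)
      exacts [hz, hz']
    exact ⟨c, h3, fun e => h3 (e ▸ (h.del a a).2 ⟨u, hu0, hu, hu⟩)⟩

theorem oG_inj {q q' : ℕ} (hq : 1 < q) (hq' : 1 < q') (h : oG q = oG q') : q = q' := by
  have key : ∀ a b : ℕ, 1 < a → a < b → oG a < oG b := fun a b h1 h2 => by
    have h3 : 0 < a ^ 2 - 1 := Nat.sub_pos_of_lt (Nat.one_lt_pow (by omega) h1)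
    have h4 : 0 < b ^ 6 - 1 := Nat.sub_pos_of_lt (Nat.one_lt_pow (by omega) (by omega))
    refine Nat.mul_lt_mul_of_lt_of_le (Nat.mul_lt_mul_of_lt_of_le (Nat.pow_lt_pow_left h2 (by omega))
      (Nat.sub_le_sub_right (Nat.pow_le_pow_left h2.le _) _) h4) (Nat.sub_le_sub_right (Nat.pow_le_pow_left h2.le _) _) ?_
    exact h3.trans_le (Nat.sub_le_sub_right (Nat.pow_le_pow_left h2.le _) _)
  rcases lt_trichotomy q q' with h1 | h1 | h1
  · exact absurd h (key _ _ hq h1).ne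
  · exact h1
  · exact absurd h (key _ _ hq' h1).ne'

theorem exists_dt (D : Fr 3 F X H T M S) {a : Ω} (h : D.R3 a) {U : Subgroup T} {P V : Fin 2 → Subgroup T} {k : T}
    (hP : Par (Fintype.card F) U P V k) :
    ∃ ρ x j ι, Dt D ρ x (fun t => ∃ v ∈ V j, ∃ p ∈ P j, t = v * k * p) ι := by
  obtain ⟨-, h2, h4, ⟨e⟩, W, hW, hN, hC⟩ := h
  obtain ⟨ι, hι, -⟩ := exists_pl D a hW hN (pl_of D a h2 e hW hN hC.le)
  let ε := D.isoPre h2 D.up.le
  let ρ : T →* GG 3 F := D.A.subtype.comp ε.symm.toMonoidHom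
  have hρ : ∀ t, ρ t ∈ Sp 3 F := fun t => D.pre_le (ε.symm t).2
  have tr : ∀ v w : VV 3 F, v ≠ 0 → w ≠ 0 → ∃ t, ∃ c : F, ρ t v = c • w := fun v w hv hw => by
    obtain ⟨g, hg, c, e⟩ := K2.points D.two D.pre_le (K2.planes D ⟨W, hW, hN, hC.le⟩) hv hw
    refine ⟨ε ⟨g, hg⟩, c, ?_⟩
    change (ε.symm (ε ⟨g, hg⟩)).1 v = _
    rw [ε.symm_apply_apply]
    exact e
  obtain ⟨x, hx, j, hj⟩ := key ρ hρ h2 tr hP
  refine ⟨ρ, x, j, ι, hρ, fun t => ?_, hx, fun w hw => tr x w hx hw, hj, hι⟩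
  exact (D.isoPre_apply h2 D.up.le (ε.symm t)).symm.trans (congrArg Subtype.val (ε.apply_symm_apply t))

end G2

/-- **`T = G₂(q)`: at most two overgroups** -/
theorem cnt3 : Cnt3 := by
  intro Ω _ _ X H T a
  rcases (OvR (fun _ _ _ _ _ _ _ _ _ _ _ _ D a => D.R3 a) X H T a).eq_empty_or_nonempty with h | ⟨M₀, h⟩
  · rw [h]
    simp
  obtain ⟨S₀, m₀, F₀, _, _, D₀, -, rfl, h2, -, ⟨e₀⟩, -⟩ := h
  obtain ⟨U, P, V, k, hP⟩ := G2.exists_par F₀ h2
  obtain ⟨U, P, V, k, hP⟩ : ∃ (U : Subgroup T) (P V : Fin 2 → Subgroup T) (k : T), G2.Par (Fintype.card F₀) U P V k :=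
    ⟨_, _, _, _, hP.comap e₀⟩
  refine (D₀.up.sec.ncard_le_of_nbhd (fun b c => ?_) a
    (𝒟 := Set.range fun j => G2.Del (fun t => ∃ v ∈ V j, ∃ p ∈ P j, t = v * k * p) a) ?_).trans ?_
  · obtain ⟨t, ht, e⟩ := D₀.up.trans b c
    exact ⟨t, D₀.up.socH.le ht, e⟩
  · rintro M ⟨S, m, F, _, _, D, -, h⟩
    obtain rfl := h.1
    obtain ⟨e⟩ := h.2.2.2.1
    have hq : Fintype.card F₀ = Fintype.card F :=
      G2.oG_inj Fintype.one_lt_card Fintype.one_lt_card ((G2.card_T e₀).symm.trans (G2.card_T e))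
    obtain ⟨ρ, x, j, ι, hD⟩ := G2.exists_dt D h (hq ▸ hP)
    exact ⟨D.up.ov, _, ⟨j, rfl⟩, hD.fin a⟩
  · rw [← Set.image_univ]
    refine (Set.ncard_image_le Set.finite_univ).trans ?_
    simp

end Cfsg.Agent.SM.Sy
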