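import Cfsg.Agent.SM.L.Gen
import Cfsg.Agent.SM.L.KIrr
import Cfsg.Agent.SM.Mat.Tool

/-!
# SM (S3570), `T = PSL₄(q)`, `q = 2 ^ a ≥ 4` : the point stabiliser does not lie in a group of order `d |SL₃(q)|` (helper74)
-/

set_option autoImplicit false
set_option linter.unusedSectionVars false

namespace Cfsg.Agent.SM.Sy.G6

open Cfsg Cfsg.Geo Matrix Cfsg.Agent.SM.L Cfsg.Agent.H728.DghpNum
open Cfsg.Agent.H851.Rl (pg)
open Cfsg.Agent.H199.PslAut (mapGL itGL itGL_itGL)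
open Cfsg.Agent.H873 (tv tv_mulVec tv_mem_specialLinear gl_ext)
open scoped MatrixGroups

section geo

variable {n : ℕ} {F : Type} [Field F]

/-- the span of the fixed points -/
def Wp (R : Subgroup (GL (Fin n) F)) : Submodule F (Fin n → F) := Submodule.span F {v | ∀ y ∈ R, FixP y v}

/-- the stabiliser of a subspace -/
def SW (W : Submodule F (Fin n → F)) : Subgroup (GL (Fin n) F) where
  carrier := {x | ∀ w, (x : Matrix (Fin n) (Fin n) F) *ᵥ w ∈ W ↔ w ∈ W}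
  one_mem' := fun w => by rw [Units.val_one, one_mulVec]
  mul_mem' := fun {x y} hx hy w => by rw [mul_mv, hx, hy]
  inv_mem' := fun {x} hx w => by rw [← hx, mv_inv]

theorem le_SW {R : Subgroup (GL (Fin n) F)} {W : Submodule F (Fin n → F)}
    (h : ∀ x ∈ R, ∀ w ∈ W, (x : Matrix (Fin n) (Fin n) F) *ᵥ w ∈ W) : R ≤ SW W := fun x hx w =>
  ⟨fun hw => inv_mv x w ▸ h _ (R.inv_mem hx) _ hw, h x hx w⟩

theorem le_SW_Wp (R : Subgroup (GL (Fin n) F)) : R ≤ SW (Wp R) := le_SW fun x hx w hw => by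
  induction hw using Submodule.span_induction with
  | mem v hv =>
    obtain ⟨c, hc⟩ := hv x hx
    rw [hc]
    exact Submodule.smul_mem _ _ (Submodule.subset_span hv)
  | zero => rw [mulVec_zero]; exact Submodule.zero_mem _
  | add u v _ _ hu hv => rw [mulVec_add]; exact Submodule.add_mem _ hu hv
  | smul c u _ hu => rw [mulVec_smul]; exact Submodule.smul_mem _ _ hu

theorem stP_le {W : Submodule F (Fin n → F)} {v : Fin n → F} (h : W ≤ F ∙ v) : stP v ≤ SW W := le_SW fun x hx w hw => by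
  obtain ⟨d, rfl⟩ := Submodule.mem_span_singleton.1 (h hw)
  obtain ⟨c, hc⟩ := hx
  rw [mulVec_smul, hc, smul_comm]
  exact W.smul_mem _ hw

theorem wp_map (a : GL (Fin n) F) (σ : F ≃+* F) {R₁ R₂ : Subgroup (GL (Fin n) F)} (h : ∀ y ∈ R₁, a * mapGL σ y * a⁻¹ ∈ R₂)
    {v : Fin n → F} (hv : v ∈ Wp R₂) :
    (fun i => σ.symm ((((a⁻¹ : GL (Fin n) F) : Matrix (Fin n) (Fin n) F) *ᵥ v) i)) ∈ Wp R₁ := by
  induction hv using Submodule.span_induction with
  | mem v hv => exact Submodule.subset_span fun y hy => (fixP_map σ y _).1 ((fixP_conj a _ v).1 (hv _ (h y hy)))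
  | zero =>
    convert Submodule.zero_mem _ using 1
    funext i
    simp
  | add u v _ _ hu hv =>
    convert Submodule.add_mem _ hu hv using 1
    funext i
    simp [mulVec_add]
  | smul c u _ hu =>
    convert Submodule.smul_mem _ (σ.symm c) hu using 1
    funext i
    simp [mulVec_smul]

theorem mapGL_symm (σ : F ≃+* F) (y : GL (Fin n) F) : mapGL σ (mapGL σ.symm y) = y :=
  Units.ext (Matrix.ext fun _ _ => σ.apply_symm_apply _)

theorem sw_map (a : GL (Fin n) F) (σ : F ≃+* F) {R₁ R₂ : Subgroup (GL (Fin n) F)}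
    (h : ∀ y, y ∈ R₁ ↔ a * mapGL σ y * a⁻¹ ∈ R₂) {x : GL (Fin n) F} (hx : x ∈ SW (Wp R₁)) :
    a * mapGL σ x * a⁻¹ ∈ SW (Wp R₂) := by
  have key : ∀ x ∈ SW (Wp R₁), ∀ v ∈ Wp R₂,
      ((a * mapGL σ x * a⁻¹ : GL (Fin n) F) : Matrix (Fin n) (Fin n) F) *ᵥ v ∈ Wp R₂ := by
    intro x hx v hv
    have h1 := (hx _).2 (wp_map a σ (fun y hy => (h y).1 hy) hv)
    have h2 := wp_map (mapGL σ.symm a⁻¹) σ.symm (R₁ := R₂) (fun y hy => (h _).2 (by
      rw [map_mul, map_mul, map_inv (mapGL σ), mapGL_symm, mapGL_symm]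
      simpa [mul_assoc] using hy)) h1
    convert h2 using 1
    have h3 := mapGL_symm σ a
    rw [RingEquiv.symm_symm, ← map_mv, ← map_mv, ← map_inv, inv_inv, h3, mul_mv, mul_mv]
    simp
  intro w
  refine ⟨fun hw => ?_, key x hx w⟩
  have h1 := key _ ((SW _).inv_mem hx) _ hw
  rwa [← mul_mv, show a * mapGL σ x⁻¹ * a⁻¹ * (a * mapGL σ x * a⁻¹) = 1 by rw [map_inv]; group, Units.val_one,
    one_mulVec] at h1

/-- the stabiliser of the two spans -/
def Hu (R : Subgroup (GL (Fin n) F)) : Subgroup (GL (Fin n) F) :=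
  specialLinear (Fin n) F ⊓ (SW (Wp R) ⊓ (SW (Wp (R.comap itGL))).comap itGL)

theorem le_Hu {R : Subgroup (GL (Fin n) F)} (h : R ≤ specialLinear (Fin n) F) : R ≤ Hu R := fun x hx =>
  ⟨h hx, le_SW_Wp R hx, le_SW_Wp (R.comap itGL) (show itGL (itGL x) ∈ R by rwa [itGL_itGL])⟩

theorem tw_Hu {τ : GL (Fin n) F →* GL (Fin n) F} (h : Tw τ) {R : Subgroup (GL (Fin n) F)} (hR : Inv τ R) :
    ∀ x ∈ Hu R, τ x ∈ Hu R := by
  intro x hx
  refine ⟨(h.sl x).2 hx.1, ?_⟩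
  have h1 : ∀ (a : GL (Fin n) F) (σ : F ≃+* F) (y : GL (Fin n) F),
      itGL (a * mapGL σ y * a⁻¹) = itGL a * mapGL σ (itGL y) * (itGL a)⁻¹ := fun a σ y => by
    rw [map_mul, map_mul, map_inv, itGL_mapGL]
  obtain ⟨a, σ, h | h⟩ := h
  · refine ⟨h x ▸ sw_map a σ (fun y => h y ▸ hR y) hx.2.1, ?_⟩
    show itGL (τ x) ∈ SW _
    rw [h, h1]
    refine sw_map _ σ (fun y => ?_) hx.2.2
    rw [Subgroup.mem_comap, Subgroup.mem_comap, h1, itGL_itGL, ← h]
    exact hR _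
  · refine ⟨h x ▸ sw_map a σ (fun y => ?_) hx.2.2, ?_⟩
    · rw [Subgroup.mem_comap, hR, h, itGL_itGL]
    show itGL (τ x) ∈ SW _
    rw [h, h1, itGL_itGL]
    refine sw_map _ σ (fun y => ?_) hx.2.1
    rw [Subgroup.mem_comap, h1, itGL_itGL, ← h]
    exact hR _

theorem comm_of_Wp {R : Subgroup (GL (Fin n) F)} (h : Wp R = ⊤) : ∀ x ∈ R, ∀ y ∈ R, x * y = y * x := by
  intro x hx y hy
  refine gl_ext fun v => ?_
  have hv : v ∈ Wp R := h ▸ Submodule.mem_top
  induction hv using Submodule.span_induction with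
  | mem v hv =>
    obtain ⟨c, hc⟩ := hv x hx
    obtain ⟨d, hd⟩ := hv y hy
    rw [mul_mv, mul_mv, hc, hd, mulVec_smul, mulVec_smul, hc, hd, smul_comm]
  | zero => rw [mulVec_zero, mulVec_zero]
  | add u v _ _ hu hv => rw [mulVec_add, mulVec_add, hu, hv]
  | smul c u _ hu => rw [mulVec_smul, mulVec_smul, hu]

theorem exists_ann {W : Submodule F (Fin n → F)} {w : Fin n → F} (hw : w ∉ W) :
    ∃ ψ : Fin n → F, (∀ u ∈ W, ψ ⬝ᵥ u = 0) ∧ ψ ⬝ᵥ w ≠ 0 := by
  obtain ⟨f, h1, h2⟩ := Submodule.exists_dual_map_eq_bot_of_notMem hw inferInstance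
  have h3 : ∀ u, (fun i => f (Pi.single i 1)) ⬝ᵥ u = f u := fun u => by
    rw [LinearMap.pi_apply_eq_sum_univ f u, dotProduct]
    refine Finset.sum_congr rfl fun i _ => ?_
    rw [smul_eq_mul, mul_comm]
    congr 2
    funext j
    rw [Pi.single_apply]
    exact if_congr eq_comm rfl rfl
  refine ⟨_, fun u hu => ?_, (h3 w).symm ▸ h1⟩
  rw [h3]
  have h4 : f u ∈ W.map f := ⟨u, hu, rfl⟩
  rwa [h2] at h4

theorem tv_SW {W : Submodule F (Fin n → F)} {a ψ : Fin n → F} (h : ψ ⬝ᵥ a = 0) (ha : a ∈ W) : tv a ψ h ∈ SW W := fun w => by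
  rw [tv_mulVec]
  exact W.add_mem_iff_left (W.smul_mem _ ha)

theorem tv_SW' {W : Submodule F (Fin n → F)} {a ψ : Fin n → F} (h : ψ ⬝ᵥ a = 0) (ha : (∀ φ ∈ W, φ ⬝ᵥ a = 0) ∨ ψ ∈ W) :
    itGL (tv a ψ h) ∈ SW W := by
  rw [← inv_mem_iff, ← map_inv]
  intro φ
  rw [H199.PslAut.coe_itGL, inv_inv, mulVec_transpose, tv_vm]
  rcases ha with ha | ha
  · refine ⟨fun h1 => ?_, fun h1 => by rwa [ha φ h1, zero_smul, add_zero]⟩
    have h2 := ha _ h1
    rw [add_dotProduct, smul_dotProduct, h, smul_zero, add_zero] at h2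
    rwa [h2, zero_smul, add_zero] at h1
  · exact W.add_mem_iff_left (W.smul_mem _ ha)

theorem top_of_SW {W : Submodule F (Fin n → F)} (h : specialLinear (Fin n) F ≤ SW W) {v : Fin n → F} (hv : v ≠ 0)
    (hW : v ∈ W) : W = ⊤ := by
  refine eq_top_iff.2 fun a _ => ?_
  by_cases h1 : v ∈ F ∙ a
  · obtain ⟨c, rfl⟩ := Submodule.mem_span_singleton.1 h1
    exact (W.smul_mem_iff (left_ne_zero_of_smul hv)).1 hW
  obtain ⟨ψ, h2, h3⟩ := exists_ann h1
  have h4 := (h (tv_mem_specialLinear a ψ (h2 a (Submodule.mem_span_singleton_self a))) v).2 hW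
  rw [tv_mulVec, W.add_mem_iff_right hW] at h4
  exact (W.smul_mem_iff h3).1 h4

/-- at most one point is fixed -/
theorem le_point {R : Subgroup (GL (Fin n) F)} (h : Hu R ≤ R) : ∃ v, Wp R ≤ F ∙ v := by
  by_contra hn
  push Not at hn
  have h0 : ∀ v, ∃ w, (∀ y ∈ R, FixP y w) ∧ w ∉ F ∙ v := fun v => by
    by_contra h1
    push Not at h1
    exact hn v (Submodule.span_le.2 fun w hw => h1 w hw)
  have mv : ∀ a ψ w : Fin n → F, ψ ⬝ᵥ a = 0 → a ∈ Wp R → ((∀ φ ∈ Wp (R.comap itGL), φ ⬝ᵥ a = 0) ∨ ψ ∈ Wp (R.comap itGL)) →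
      (∀ y ∈ R, FixP y w) → ψ ⬝ᵥ w ≠ 0 → a ∈ F ∙ w := by
    intro a ψ w h1 h2 h3 h4 h5
    obtain ⟨c, hc⟩ := h4 _ (h ⟨tv_mem_specialLinear a ψ h1, tv_SW h1 h2, tv_SW' h1 h3⟩)
    rw [tv_mulVec] at hc
    refine ((F ∙ w).smul_mem_iff h5).1 (((F ∙ w).add_mem_iff_right (Submodule.mem_span_singleton_self w)).1 ?_)
    rw [hc]
    exact Submodule.smul_mem _ _ (Submodule.mem_span_singleton_self w)
  obtain ⟨v, hv, hv0⟩ := h0 0
  obtain ⟨v', hv', hvv⟩ := h0 v
  have hv1 : v ≠ 0 := fun e => hv0 (by rw [e]; exact Submodule.zero_mem _)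
  let U : Submodule F (Fin n → F) :=
    { carrier := {u | ∀ φ ∈ Wp (R.comap itGL), φ ⬝ᵥ u = 0}
      zero_mem' := fun φ _ => dotProduct_zero φ
      add_mem' := fun ha hb φ hφ => by rw [dotProduct_add, ha φ hφ, hb φ hφ, add_zero]
      smul_mem' := fun c _ ha φ hφ => by rw [dotProduct_smul, ha φ hφ, smul_zero] }
  by_cases h1 : v ∈ U ⊔ F ∙ v'
  · obtain ⟨a, ha, _, hb, e⟩ := Submodule.mem_sup.1 h1
    obtain ⟨c, rfl⟩ := Submodule.mem_span_singleton.1 hb
    have h2 : a ∈ Wp R := by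
      rw [eq_sub_of_add_eq e]
      exact Submodule.sub_mem _ (Submodule.subset_span hv) (Submodule.smul_mem _ _ (Submodule.subset_span hv'))
    have h3 : v ∉ F ∙ v' := fun h3 => by
      obtain ⟨d, rfl⟩ := Submodule.mem_span_singleton.1 h3
      exact hvv (((F ∙ d • v').smul_mem_iff (left_ne_zero_of_smul hv1)).1 (Submodule.mem_span_singleton_self _))
    have h4 : a ∉ F ∙ v' := fun h4 => h3 (e ▸ Submodule.add_mem _ h4 hb)
    have h5 : v' ∉ F ∙ a := fun h5 => by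
      obtain ⟨d, rfl⟩ := Submodule.mem_span_singleton.1 h5
      have h6 : d ≠ 0 := by
        rintro rfl
        exact hvv (by rw [zero_smul]; exact Submodule.zero_mem _)
      exact h4 (((F ∙ d • a).smul_mem_iff h6).1 (Submodule.mem_span_singleton_self _))
    obtain ⟨ψ, h6, h7⟩ := exists_ann h5
    exact h4 (mv a ψ v' (h6 a (Submodule.mem_span_singleton_self a)) h2 (Or.inl ha) hv' h7)
  · obtain ⟨ψ, h2, h3⟩ := exists_ann h1
    refine hvv (mv v' ψ v (h2 _ (Submodule.mem_sup_right (Submodule.mem_span_singleton_self _))) (Submodule.subset_span hv')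
      (Or.inr ?_) hv h3)
    by_contra h4
    obtain ⟨u, h5, h6⟩ := exists_ann h4
    exact h6 (by rw [dotProduct_comm]; exact h2 u (Submodule.mem_sup_left fun φ hφ => by rw [dotProduct_comm]; exact h5 φ hφ))

theorem index_stP [Fintype F] (hn : 1 ≤ n) (v : Fin n → F) :
    (stP v).index * (Fintype.card F - 1) ≤ Fintype.card F ^ n - 1 := by
  classical
  by_cases hv : v = 0
  · have h1 : stP v = ⊤ := eq_top_iff.2 fun x _ => ⟨0, by rw [hv, mulVec_zero, smul_zero]⟩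
    rw [h1, Subgroup.index_top, one_mul]
    exact Nat.sub_le_sub_right (Nat.le_self_pow (by omega) _) 1
  have h1 := Nat.card_le_card_of_injective (fun p : (GL (Fin n) F ⧸ stP v) × Fˣ =>
    (⟨(p.2 : F) • (p.1.out : Matrix (Fin n) (Fin n) F) *ᵥ v, smul_ne_zero p.2.ne_zero (mv_ne _ hv)⟩ :
      {w : Fin n → F // ¬ w = 0})) (by
    rintro ⟨g, c⟩ ⟨k, d⟩ e
    have e1 : (c : F) • (g.out : Matrix (Fin n) (Fin n) F) *ᵥ v = (d : F) • (k.out : Matrix (Fin n) (Fin n) F) *ᵥ v :=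
      congrArg Subtype.val e
    have h2 : g = k := by
      rw [← g.out_eq', ← k.out_eq', QuotientGroup.eq]
      refine ⟨(d⁻¹ * c : Fˣ), mv_inj g.out ?_⟩
      rw [mul_mv, mv_inv, mulVec_smul, Units.val_mul, mul_smul, e1, smul_smul, Units.inv_mul, one_smul]
    subst h2
    rw [Units.ext (smul_left_injective F (mv_ne _ hv) e1)])
  rwa [Nat.card_prod, Nat.card_units, Nat.card_eq_fintype_card (α := F), Nat.card_eq_fintype_card (α := {w // _}),
    Fintype.card_subtype_compl, Fintype.card_subtype_eq, Fintype.card_fun, Fintype.card_fin] at h1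

theorem index_Hu [Fintype F] (hn : 1 ≤ n) {R : Subgroup (GL (Fin n) F)} (h : Hu R ≤ R) :
    R.relIndex (specialLinear (Fin n) F) * (Fintype.card F - 1) ^ 2 ≤ (Fintype.card F ^ n - 1) ^ 2 := by
  obtain ⟨v, hv⟩ := le_point h
  have h1 : (R.comap itGL).comap itGL = R := by
    ext x
    rw [Subgroup.mem_comap, Subgroup.mem_comap, itGL_itGL]
  obtain ⟨φ, hφ⟩ := le_point (R := R.comap itGL) fun x hx =>
    h ⟨(it_sl x).2 hx.1, h1 ▸ hx.2.2, show itGL (itGL x) ∈ SW _ by rw [itGL_itGL]; exact hx.2.1⟩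
  have h2 : (stP v ⊓ (stP φ).comap itGL) ⊓ specialLinear (Fin n) F ≤ R := fun x hx =>
    h ⟨hx.2, stP_le hv hx.1.1, stP_le hφ hx.1.2⟩
  have h3 := Subgroup.relIndex_le_of_le_left (L := specialLinear (Fin n) F) h2 Subgroup.index_ne_zero_of_finite
  rw [Subgroup.inf_relIndex_right] at h3
  have h4 := Subgroup.relIndex_le_of_le_right (H := stP v ⊓ (stP φ).comap itGL) (le_top (a := specialLinear (Fin n) F))
    Subgroup.index_ne_zero_of_finite
  rw [Subgroup.relIndex_top_right] at h4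
  have h5 := (h3.trans h4).trans Subgroup.index_inf_le
  rw [Subgroup.index_comap_of_surjective _ (Function.RightInverse.surjective itGL_itGL)] at h5
  calc _ ≤ (stP v).index * (stP φ).index * (Fintype.card F - 1) ^ 2 := Nat.mul_le_mul_right _ h5
    _ = (stP v).index * (Fintype.card F - 1) * ((stP φ).index * (Fintype.card F - 1)) := by ring
    _ ≤ _ := by rw [sq]; exact Nat.mul_le_mul (index_stP hn v) (index_stP hn φ)

end geo

variable {Γ : Type} [Group Γ] [Finite Γ] {M S H T B : Subgroup Γ} {F : Type} [Field F] [Fintype F] {n : ℕ}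

theorem range_pj (e : T ≃* Matrix.ProjectiveSpecialLinearGroup (Fin n) F) : (pj e).range = T := by
  ext g
  exact ⟨by rintro ⟨x, rfl⟩; exact pj_mem e x, fun hg => pj_surj e hg⟩

theorem pg_sub (e : T ≃* Matrix.ProjectiveSpecialLinearGroup (Fin n) F) (X : Subgroup Γ) :
    (pg e X).subgroupOf (specialLinear (Fin n) F) = X.comap (pj e) := by
  ext x
  exact mem_pg e

theorem relIndex_pg (e : T ≃* Matrix.ProjectiveSpecialLinearGroup (Fin n) F) (X : Subgroup Γ) :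
    (pg e X).relIndex (specialLinear (Fin n) F) = X.relIndex T := by
  rw [Subgroup.relIndex, pg_sub, Subgroup.index_comap, range_pj]

theorem card_dvd_pg (e : T ≃* Matrix.ProjectiveSpecialLinearGroup (Fin n) F) {X : Subgroup Γ} (h : X ≤ T) :
    Nat.card X ∣ Nat.card (pg e X) := by
  rw [← Nat.card_congr (Subgroup.subgroupOfEquivOfLe (pg_le e X)).toEquiv, pg_sub]
  have h1 := Subgroup.card_map_dvd (X.comap (pj e)) (pj e)
  rwa [Subgroup.map_comap_eq_self (by rwa [range_pj])] at h1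

/-- a point stabiliser which fixes a point or a hyperplane has small index -/
theorem index_le (f : Fac M S H T B) (hn : 2 ≤ n) (e : T ≃* Matrix.ProjectiveSpecialLinearGroup (Fin n) F) {v : Fin n → F}
    (hv : v ≠ 0) (h : (∀ x ∈ pg e B, FixP x v) ∨ ∀ x ∈ pg e B, FixH x v) :
    B.relIndex T * (Fintype.card F - 1) ^ 2 ≤ (Fintype.card F ^ n - 1) ^ 2 := by
  have hc : ¬ ∀ x ∈ pg e B, ∀ y ∈ pg e B, x * y = y * x := fun hc => f.not_comm fun x hx y hy => by
    obtain ⟨x, rfl⟩ := pj_surj e hx.1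
    obtain ⟨y, rfl⟩ := pj_surj e hy.1
    rw [← map_mul, ← map_mul]
    exact congrArg _ (Subtype.ext (hc _ ((mem_pg e).2 hy.2) _ ((mem_pg e).2 hx.2)))
  have h1 : im e (Hu (pg e B)) ≤ H ⊓ B := by
    refine im_le e hn f.asH f.pr f.asH.le_normalizer inf_le_left ?_ (fun k => ?_)
      ((z_le_pg e B).trans (le_Hu (pg_le e B))) (fun k => hc fun x hx y _ => scal_comm (k (le_Hu (pg_le e B) hx)) y)
      fun m hm τ t1 t2 => tw_Hu t1 (t2 B (conj_iff hm.2))
    · rintro _ ⟨x, -, rfl⟩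
      exact f.asH.le (pj_mem e x)
    have k1 : specialLinear (Fin n) F ≤ Hu (pg e B) := fun x hx => k ((mem_pg' e hx).2 (pj_mem e _))
    rcases h with h | h
    · exact hc (comm_of_Wp (top_of_SW (fun x hx => (k1 hx).2.1) hv (Submodule.subset_span h)))
    · have h2 : Wp ((pg e B).comap itGL) = ⊤ := top_of_SW (fun x hx => itGL_itGL x ▸ (k1 ((it_sl x).2 hx)).2.2) hv
        (Submodule.subset_span fun y hy => fixP_iff.2 (h _ hy))
      refine hc fun x hx y hy => itGL_inj ?_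
      rw [map_mul, map_mul]
      exact comm_of_Wp h2 _ (show itGL (itGL x) ∈ pg e B by rwa [itGL_itGL]) _
        (show itGL (itGL y) ∈ pg e B by rwa [itGL_itGL])
  rw [← relIndex_pg e]
  exact index_Hu (by omega) fun x hx => (mem_pg' e hx.1).2 (h1 ⟨⟨x, hx.1⟩, hx, rfl⟩).2

theorem num_L {a : ℕ} (ha : 2 ≤ a) : a * ((2 ^ a) ^ 4 - 1) < (2 ^ a) ^ 3 * (2 ^ a - 1) ^ 2 := by
  have h1 : 2 * a ≤ 2 ^ a := by
    obtain ⟨b, rfl⟩ : ∃ b, a = b + 1 := ⟨a - 1, by omega⟩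
    rw [pow_succ, mul_comm]
    exact Nat.mul_le_mul_right 2 Nat.lt_two_pow_self
  obtain ⟨r, hr⟩ : ∃ r, 2 ^ a = r + 1 := ⟨2 ^ a - 1, by omega⟩
  rw [hr] at h1 ⊢
  have h2 : 3 ≤ r := by omega
  have h3 : (r + 1) ^ 2 ≤ 2 * r ^ 2 := by nlinarith
  have h4 : 0 < (r + 1) ^ 4 := by positivity
  have h5 : 2 * (a * ((r + 1) ^ 4 - 1)) < (r + 1) * (r + 1) ^ 4 := by
    rw [← mul_assoc]
    exact Nat.mul_lt_mul_of_le_of_lt h1 (by omega) (by omega)
  have h6 : (r + 1) * (r + 1) ^ 4 ≤ (r + 1) ^ 3 * (2 * r ^ 2) :=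
    le_of_eq_of_le (by ring) (Nat.mul_le_mul_left _ h3)
  rw [Nat.add_sub_cancel]
  nlinarith

/-- **the linear case** -/
theorem killL (f : Fac M S H T B) {a d : ℕ} (ha : 2 ≤ a) (hF : Fintype.card F = 2 ^ a)
    (e : T ≃* Matrix.ProjectiveSpecialLinearGroup (Fin 4) F) {D : Subgroup Γ} (h1 : T ⊓ B ≤ D) (h2 : D ≤ T) (hd : d ≤ a)
    (hc : (2 ^ a) ^ 3 * ((2 ^ a) ^ 3 - 1) * ((2 ^ a) ^ 2 - 1) ∣ Nat.card D)
    (hi : d * D.relIndex T = (2 ^ a) ^ 3 * ((2 ^ a) ^ 4 - 1)) : False := by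
  have h4 : 2 ^ 2 ≤ 2 ^ a := Nat.pow_le_pow_right (by norm_num) ha
  have h5 : a < 2 ^ a := Nat.lt_two_pow_self
  have h6 : 0 < (2 ^ a) ^ 4 - 1 := Nat.sub_pos_of_lt (Nat.one_lt_pow (by norm_num) (by omega))
  have hne : ¬ specialLinear (Fin 4) F ≤ pg e D := fun h => by
    rw [Subgroup.relIndex_eq_one.2 (le_of_sl_le e h), mul_one] at hi
    have h7 : 2 ^ a ≤ (2 ^ a) ^ 3 := Nat.le_self_pow (by norm_num) _
    have h8 : (2 ^ a) ^ 3 ≤ (2 ^ a) ^ 3 * ((2 ^ a) ^ 4 - 1) := Nat.le_mul_of_pos_right _ h6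
    omega
  have hc' := hc.trans (card_dvd_pg e h2)
  have h3 : (2 ^ a) ^ 3 - 1 ∣ Nat.card (pg e D) := ((Dvd.intro_left _ rfl).mul_right _).trans hc'
  obtain ⟨u, hu⟩ := exists_ppd (q := Fintype.card F) (e := 3) Fintype.one_lt_card le_rfl (by norm_num)
  have hud : u ∣ Nat.card (pg e D) := ((hu.dvd_iff 3).2 dvd_rfl).trans (hF ▸ h3)
  by_cases hirr : ActsIrreducibly (matrixSet (pg e D))
  · rcases K.classes4 hu (pg_le e D) hne hud hirr with ⟨σ, g, hg, hle⟩ | h7 | ⟨Y, hY, -, hS⟩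
    · obtain ⟨-, b, rfl, -⟩ := H851.Rl.exists_half Nat.prime_two hF hg.ne_refl hg.involutive
      obtain ⟨r, hr⟩ := exists_ppd (q := 2 ^ b) (e := 3) (Nat.one_lt_pow (by omega) (by norm_num)) le_rfl (by norm_num)
      refine H851.Rl.uni_not hF hr.prime hr.ord (by decide) (by simp) (by simp) ⟨σ, g, hg, hle⟩
        (((hr.dvd_iff 6).2 (by norm_num)).trans ?_)
      rwa [← pow_mul, show b * 6 = 2 * b * 3 by ring, pow_mul]
    · by_cases h8 : a = 2
      · subst h8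
        obtain ⟨F₀, r, P, hr, h8, hX⟩ := h7
        have h9 : Nat.card F₀ = 2 := by
          obtain ⟨g, hg, h10⟩ := (Nat.dvd_prime_pow Nat.prime_two).1 (hF ▸ h8 ▸ dvd_pow_self (Nat.card F₀) hr.ne_zero)
          rw [hF, h10, ← pow_mul] at h8
          have h11 : 2 = g * r := Nat.pow_right_injective le_rfl h8
          have h12 := hr.two_le
          interval_cases g
          · omega
          · exact h10
          · omega
        have h10 := (Nat.le_of_dvd Nat.card_pos hc').trans (K.card_sub44 hF h9 (pg_le e D) hX)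
        norm_num at h10
      · obtain ⟨r, hr⟩ := exists_ppd (q := 2) (e := a * 3) le_rfl (by omega) (by omega)
        refine K.sub_dead Nat.prime_two hF hr (by norm_num) (by norm_num) (((hr.dvd_iff _).2 dvd_rfl).trans ?_) h7
        rwa [pow_mul]
    · obtain ⟨-, p, -, hp, h7, -⟩ := S5782.result Y hY hS
      have h8 := Nat.Prime.eq_one_of_pow (hF ▸ h7 ▸ hp : (2 ^ a).Prime)
      omega
  obtain ⟨v, φ, h7, -, -, h8⟩ := K.red hu (by norm_num) rfl hud hirr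
  have h9 : pg e B ≤ pg e D := fun x hx => (mem_pg' e (pg_le e B hx)).2 (h1 ⟨pj_mem e _, (mem_pg' e _).1 hx⟩)
  have h10 : B.relIndex T * (Fintype.card F - 1) ^ 2 ≤ (Fintype.card F ^ 4 - 1) ^ 2 := by
    rcases h8 with h8 | h8
    · exact index_le f (by norm_num) e (fun k => h7 (by rw [k, dotProduct_zero])) (Or.inl fun x hx => h8 x (h9 hx))
    · exact index_le f (by norm_num) e (fun k => h7 (by rw [k, zero_dotProduct])) (Or.inr fun x hx => h8 x (h9 hx))
  have h11 := Subgroup.relIndex_le_of_le_left (L := T) h1 Subgroup.index_ne_zero_of_finite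
  rw [Subgroup.inf_relIndex_left] at h11
  rw [hF] at h10
  have h12 : (2 ^ a) ^ 3 * (2 ^ a - 1) ^ 2 * ((2 ^ a) ^ 4 - 1) ≤ a * ((2 ^ a) ^ 4 - 1) * ((2 ^ a) ^ 4 - 1) :=
    calc _ = d * (D.relIndex T * (2 ^ a - 1) ^ 2) := by rw [mul_right_comm, ← hi, mul_assoc]
      _ ≤ a * ((2 ^ a) ^ 4 - 1) ^ 2 := Nat.mul_le_mul hd ((Nat.mul_le_mul_right _ h11).trans h10)
      _ = _ := by ring
  exact absurd (Nat.le_of_mul_le_mul_right h12 h6) (num_L ha).not_ge

end Cfsg.Agent.SM.Sy.G6
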