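import Cfsg.Agent.SM.Sy.K2L
import Cfsg.Agent.H50.HerKnown
import Cfsg.Agent.H667.HerAct
import Cfsg.Agent.H615.GW.Semi
import Cfsg.Agent.H91.HerCons
import Cfsg.Agent.H359.FactsA
import Cfsg.Agent.ChevStructure.FieldMap
import Cfsg.Agent.S1059

/-!
# SM (S3570), symplectic socles: `S_a` fixes a non-degenerate plane (helper15)

`T` is transitive on the planes, so on the points; Hering's theorem in the action form; the field of the natural action
commutes with `A` modulo scalars, so is `F`.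
-/

set_option autoImplicit false
set_option linter.unusedSectionVars false
set_option linter.unusedVariables false

namespace Cfsg.Agent.SM.Sy

namespace K2

open Cfsg Equiv Subgroup MulAction Module
open Cfsg.Agent.ClassicalGeometry.SympBasic
open Cfsg.Agent.H667.HerFin
open scoped commutatorElement

variable {Ω : Type} [Fintype Ω] [DecidableEq Ω] {m : ℕ} {F : Type} [Field F] [Fintype F] {X H T M S : Subgroup (Perm Ω)}
  (D : Fr m F X H T M S)

theorem exists_hyp {U : Submodule F (VV m F)} (hU : finrank F U = 2) (hN : Nd U) : ∃ u ∈ U, ∃ w ∈ U, ff m F u w = 1 := by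
  obtain ⟨u, hu, h0⟩ := (Submodule.ne_bot_iff U).1 fun h => by
    rw [h, finrank_bot] at hU
    omega
  obtain ⟨w, hw, e⟩ := hN.exists_ff hu h0 1
  exact ⟨u, hu, w, hw, e⟩

/-- **`A` is transitive on the planes** -/
theorem planes {a : Ω} (h : D.C2 a) : TrP D.A := by
  obtain ⟨U, hU, hN, hC⟩ := h
  obtain ⟨u₀, hu, w₀, hw, h0⟩ := exists_hyp hU hN
  refine trP_of hU D.pre_le fun u w h1 => ?_
  obtain ⟨g, hg, e1, e2⟩ := H925.Rs.trans_hyp h0 h1
  obtain ⟨x, hx, y, hy, rfl⟩ := D.fac a hg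
  refine ⟨x⁻¹, inv_mem hx, ?_, ?_⟩
  · rw [← e1]
    exact (x.symm_apply_apply (y u₀)).symm ▸ ((hC hy).2 u₀).2 hu
  · rw [← e2]
    exact (x.symm_apply_apply (y w₀)).symm ▸ ((hC hy).2 w₀).2 hw

/-- the commutators generate `A` modulo scalars -/
theorem cov {Y : Subgroup (GG m F)} (h : ∀ g ∈ D.A, ∀ g' ∈ D.A, ⁅g, g'⁆ ∈ Y) {g : GG m F} (hg : g ∈ D.A) :
    ∃ y ∈ Y ⊓ D.A, ∃ c : F, c ≠ 0 ∧ ∀ v, g v = c • y v := by
  have a := D.up.socH.as
  let N : Subgroup (Perm Ω) := ((Y ⊓ D.A).subgroupOf (Sp m F)).map D.π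
  have h1 : N ≤ T := by
    rintro _ ⟨x, hx, rfl⟩
    exact (D.mem_pre' x).1 hx.2
  have h2 : ∀ t ∈ T, ∀ t' ∈ T, ⁅t, t'⁆ ∈ N := fun t ht t' ht' => by
    obtain ⟨x, rfl⟩ := D.π_surj (D.up.le ht)
    obtain ⟨x', rfl⟩ := D.π_surj (D.up.le ht')
    have h3 := (D.mem_pre' x).2 ht
    have h4 := (D.mem_pre' x').2 ht'
    exact ⟨⁅x, x'⁆, ⟨h _ h3 _ h4, D.A.mul_mem (D.A.mul_mem (D.A.mul_mem h3 h4) (D.A.inv_mem h3)) (D.A.inv_mem h4)⟩,
      map_commutatorElement _ _ _⟩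
  have h3 : T ≤ N := a.le_of_conj (h1.trans a.le) (fun t ht x hx => by
    have h4 := N.mul_mem (h2 t ht x (h1 hx)) hx
    rwa [commutatorElement_def, inv_mul_cancel_right] at h4) fun h0 => a.nab ⟨⟨fun x y => Subtype.ext
      (commutatorElement_eq_one_iff_mul_comm.1 (mem_bot.1 (h0 ▸ h2 x x.2 y y.2)))⟩⟩
  obtain ⟨y, hy, e⟩ := h3 ((D.mem_pre' ⟨g, D.pre_le hg⟩).1 hg)
  obtain ⟨c, hc⟩ := (D.π_eq_one (y⁻¹ * ⟨g, D.pre_le hg⟩)).1 (by rw [map_mul, map_inv, e, inv_mul_cancel])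
  refine ⟨y.1, hy, c, left_ne_zero_of_mul_eq_one (sq_of_scalar D.one (y⁻¹ * ⟨g, D.pre_le hg⟩).2 hc), fun v => ?_⟩
  rw [← map_smul, ← hc]
  exact (y.1.apply_symm_apply _).symm

theorem not_scal : ¬ ∀ g ∈ D.A, ∀ g' ∈ D.A, ∃ c : F, ∀ v, ⁅g, g'⁆ v = c • v := fun h =>
  D.up.socH.nab ⟨⟨fun t t' => by
    obtain ⟨x, e⟩ := D.π_surj (D.up.le t.2)
    obtain ⟨x', e'⟩ := D.π_surj (D.up.le t'.2)
    have h1 := (D.π_eq_one ⁅x, x'⁆).2 (h _ ((D.mem_pre' x).2 (e ▸ t.2)) _ ((D.mem_pre' x').2 (e' ▸ t'.2)))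
    rw [map_commutatorElement, e, e'] at h1
    exact Subtype.ext (commutatorElement_eq_one_iff_mul_comm.1 h1)⟩⟩

theorem cov_cen {Y : Subgroup (GG m F)} (h : ∀ g ∈ D.A, ∀ g' ∈ D.A, ⁅g, g'⁆ ∈ Y) {z : GG m F} (hz : z ∈ Sp m F)
    (hc : ∀ g ∈ Y ⊓ D.A, ∀ v, z (g v) = g (z v)) : ∃ c : F, ∀ v, z v = c • v :=
  D.cenSp hz fun x hx => LinearEquiv.ext fun v => by
    obtain ⟨y, hy, c, -, e⟩ := cov D h hx
    show z (x v) = x (z v)
    rw [e, e, map_smul, hc y hy]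

theorem cov_trP {Y : Subgroup (GG m F)} (h : ∀ g ∈ D.A, ∀ g' ∈ D.A, ⁅g, g'⁆ ∈ Y) (ht : TrP D.A) : TrP (Y ⊓ D.A) :=
  fun u w u' w' h1 h2 => by
    obtain ⟨g, hg, a, b, c, d, e1, e2⟩ := ht u w u' w' h1 h2
    obtain ⟨y, hy, s, hs, e⟩ := cov D h hg
    refine ⟨y, hy, s⁻¹ * a, s⁻¹ * b, s⁻¹ * c, s⁻¹ * d, ?_, ?_⟩
    · rw [mul_smul, mul_smul, ← smul_add, ← e1, e, inv_smul_smul₀ hs]
    · rw [mul_smul, mul_smul, ← smul_add, ← e2, e, inv_smul_smul₀ hs]

theorem comm_apply (g g' : GG m F) (w : VV m F) : ⁅g, g'⁆ (g' (g w)) = g (g' w) := by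
  show (⁅g, g'⁆ * (g' * g)) w = (g * g') w
  rw [commutatorElement_def, show g * g' * g⁻¹ * g'⁻¹ * (g' * g) = g * g' by group]

/-- semilinear groups of dimension one -/
theorem not_two {q n : ℕ} : ¬ ConclTwo q n (D.A.map pm) := by
  rintro ⟨K, _, _, e, -, hs⟩
  let Z : Set (GG m F) := {g | ∃ d : K, ∀ v, e (g v) = d * e v}
  have h1 : ∀ g ∈ D.A, ∀ g' ∈ D.A, ⁅g, g'⁆ ∈ Z := fun g hg g' hg' => by
    have h0 : ∀ g ∈ D.A, ∃ (c : K) (σ : K ≃+* K), c ≠ 0 ∧ ∀ v, e (g v) = c * σ (e v) := fun g hg => by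
      obtain ⟨c, σ, h2⟩ := hs _ ⟨g, hg, rfl⟩
      refine ⟨c, σ, fun h3 => one_ne_zero (α := K) ?_, h2⟩
      have h4 : e (g (e.symm 1)) = _ := h2 (e.symm 1)
      rwa [h3, zero_mul, EmbeddingLike.map_eq_zero_iff, EmbeddingLike.map_eq_zero_iff,
        EmbeddingLike.map_eq_zero_iff] at h4
    obtain ⟨c, σ, hc, h2⟩ := h0 g hg
    obtain ⟨c', σ', hc', h3⟩ := h0 g' hg'
    refine ⟨c * σ c' * (c' * σ' c)⁻¹, fun v => ?_⟩
    obtain ⟨w, rfl⟩ := (g' * g).surjective v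
    have h4 : σ' c ≠ 0 := EmbeddingLike.map_ne_zero_iff.2 hc
    have h5 : σ (σ' (e w)) = σ' (σ (e w)) := DFunLike.congr_fun (H615.GW.aut_comm σ σ') (e w)
    rw [LinearEquiv.mul_apply, comm_apply, h2, h3, h3, h2, map_mul, map_mul, h5]
    field_simp
  have h2 : ∀ g ∈ Z, g ∈ centralizer Z := by
    rintro g ⟨d, hd⟩ g' ⟨d', hd'⟩
    exact LinearEquiv.ext fun v => e.injective (by
      rw [LinearEquiv.mul_apply, LinearEquiv.mul_apply, hd, hd', hd', hd, mul_left_comm])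
  exact not_scal D fun g hg g' hg' => cov_cen D (fun x hx y hy => h2 _ (h1 x hx y hy))
    (D.pre_le (mul_mem (mul_mem (mul_mem hg hg') (inv_mem hg)) (inv_mem hg')))
    fun y hy v => DFunLike.congr_fun (hy.1 _ (h1 g hg g' hg')) v

/-- the maps which commute with a family of linear maps -/
def Cm {K : Type} (ρ : K → End F (VV m F)) : Subgroup (GG m F) where
  carrier := {g | ∀ d v, ρ d (g v) = g (ρ d v)}
  one_mem' _ _ := rfl
  mul_mem' {a b} ha hb d v := (ha d (b v)).trans (congrArg a (hb d v))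
  inv_mem' {a} ha d v := a.injective (by
    rw [← ha d]
    exact (congrArg (ρ d) (a.apply_symm_apply v)).trans (a.apply_symm_apply _).symm)

section nat

variable {K : Type} [Field K] [Fintype K] [Module K (VV m F)] {φ : F →+* K}

/-- the field of the natural action is `F` -/
theorem surj (ht : TrP D.A) (hφ : ∀ (c : F) (v : VV m F), c • v = φ c • v)
    (hs : ∀ h ∈ D.A.map pm, ∃ σ : K ≃+* K, ∀ (c : K) (v : VV m F), h (c • v) = σ c • h v) : Function.Surjective φ := by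
  let ρ : K →+* End F (VV m F) :=
    { toFun := fun d =>
        { toFun := fun v => d • v
          map_add' := smul_add d
          map_smul' := fun a v => by rw [RingHom.id_apply, hφ a v, hφ a (d • v), smul_comm] }
      map_one' := LinearMap.ext fun v => one_smul K v
      map_mul' := fun a b => LinearMap.ext fun v => mul_smul a b v
      map_zero' := LinearMap.ext fun v => zero_smul K v
      map_add' := fun a b => LinearMap.ext fun v => add_smul a b v }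
  have h1 : ∀ g ∈ D.A, ∀ g' ∈ D.A, ⁅g, g'⁆ ∈ Cm ρ := fun g hg g' hg' d v => by
    obtain ⟨σ, h2⟩ := hs _ ⟨g, hg, rfl⟩
    obtain ⟨σ', h3⟩ := hs _ ⟨g', hg', rfl⟩
    simp only [pm_apply] at h2 h3
    obtain ⟨w, rfl⟩ := (g' * g).surjective v
    obtain ⟨d, rfl⟩ := (σ' * σ).surjective d
    have h5 : σ (σ' d) = σ' (σ d) := DFunLike.congr_fun (H615.GW.aut_comm σ σ') d
    show σ' (σ d) • ⁅g, g'⁆ (g' (g w)) = ⁅g, g'⁆ (σ' (σ d) • g' (g w))
    rw [← h3, ← h2, comm_apply, comm_apply, h3, h2, h5]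
  intro d
  obtain ⟨c, hc⟩ := fld D.one (inf_le_right.trans D.pre_le) (cov_trP D h1 ht) (fun z hz => cov_cen D h1 hz) ρ
    (fun d g hg => hg.1 d) d
  obtain ⟨u, w, h0⟩ := exists_ff (F := F) D.one
  have h2 : u ≠ 0 := by
    rintro rfl
    rw [LinearMap.map_zero₂] at h0
    exact zero_ne_one h0
  exact ⟨c, smul_left_injective K h2 ((hφ c u).symm.trans (hc u).symm)⟩

theorem not_sl (hφ : ∀ (c : F) (v : VV m F), c • v = φ c • v) (h : Function.Surjective φ) :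
    ¬ ∀ g : VV m F ≃ₗ[K] VV m F, LinearEquiv.det g = 1 → ∃ h ∈ D.A.map pm, ∀ v, h v = g v := fun k => by
  have h2 := D.two
  let i : Fin m := ⟨0, by omega⟩
  let j : Fin m := ⟨1, by omega⟩
  have hij : i ≠ j := fun e => zero_ne_one (congrArg Fin.val e)
  let l : Dual K (VV m F) :=
    { toFun := fun v => φ (v (.inr j))
      map_add' := fun u v => map_add φ _ _
      map_smul' := fun d v => by
        obtain ⟨c, rfl⟩ := h d
        rw [← hφ]
        exact map_mul φ _ _ }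
  have h0 : l (Pi.single (.inl i) 1) = 0 := by
    show φ _ = 0
    rw [Pi.single_eq_of_ne Sum.inr_ne_inl, map_zero]
  have : Module.Finite K (VV m F) := Module.Finite.of_finite
  obtain ⟨_, ⟨g, hg, rfl⟩, e⟩ := k (LinearEquiv.transvection h0) (LinearEquiv.transvection.det_eq_one h0)
  have h3 : ∀ v, g v = v + v (.inr j) • Pi.single (.inl i) 1 := fun v => by
    rw [hφ]
    exact e v
  have h4 := D.pre_le hg (Pi.single (.inr i) 1) (Pi.single (.inr j) 1)
  rw [h3, h3, Pi.single_eq_of_ne (Sum.inr_injective.ne hij.symm), zero_smul, add_zero, Pi.single_eq_same, one_smul, map_add,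
    add_eq_left, sympBilin_apply, sympForm_single_inr_left, Pi.single_eq_same] at h4
  exact one_ne_zero h4

theorem not_sp (ht : TrP D.A) (hφ : ∀ (c : F) (v : VV m F), c • v = φ c • v) (h : Function.Surjective φ)
    {f : LinearMap.BilinForm K (VV m F)} (ha : f.IsAlt)
    (h1 : ∀ g : VV m F ≃ₗ[K] VV m F, (∀ u v, f (g u) (g v) = f u v) → ∃ h ∈ D.A.map pm, ∀ v, h v = g v)
    (h2 : ∀ h ∈ D.A.map pm, ∀ σ : K ≃+* K, (∀ (c : K) (v : VV m F), h (c • v) = σ c • h v) →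
      ∃ μ : K, ∀ u v, f (h u) (h v) = μ * σ (f u v)) : False := by
  let ψ : F ≃+* K := RingEquiv.ofBijective φ ⟨φ.injective, h⟩
  have hl : ∀ (g : GG m F) (d : K) (v : VV m F), g (d • v) = d • g v := fun g d v => by
    obtain ⟨c, rfl⟩ := h d
    rw [← hφ, ← hφ, map_smul]
  have sm : ∀ (c : F) (z : K), ψ.symm (φ c * z) = c * ψ.symm z := fun c z => by
    rw [map_mul]
    exact congrArg (· * _) (ψ.symm_apply_apply c)
  let G : LinearMap.BilinForm F (VV m F) := LinearMap.mk₂ F (fun u w => ψ.symm (f u w))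
    (fun x y w => by rw [map_add, LinearMap.add_apply, map_add])
    (fun c x w => by rw [hφ, map_smul, LinearMap.smul_apply, smul_eq_mul, sm, smul_eq_mul])
    (fun w x y => by rw [map_add, map_add]) fun c w x => by rw [hφ, map_smul, smul_eq_mul, sm, smul_eq_mul]
  have h3 : ∀ g ∈ D.A, ∀ g' ∈ D.A, ⁅g, g'⁆ ∈ H925.Rs.Isos G := fun g hg g' hg' u w => by
    obtain ⟨μ, h4⟩ := h2 _ ⟨g, hg, rfl⟩ (RingEquiv.refl K) (hl g)
    obtain ⟨μ', h5⟩ := h2 _ ⟨g', hg', rfl⟩ (RingEquiv.refl K) (hl g')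
    simp only [pm_apply, RingEquiv.refl_apply] at h4 h5
    obtain ⟨u, rfl⟩ := (g' * g).surjective u
    obtain ⟨w, rfl⟩ := (g' * g).surjective w
    show ψ.symm (f (⁅g, g'⁆ (g' (g u))) (⁅g, g'⁆ (g' (g w)))) = ψ.symm (f (g' (g u)) (g' (g w)))
    rw [comm_apply, comm_apply, h4, h5, h5, h4, mul_left_comm]
  obtain ⟨c, hc⟩ := form D.one (inf_le_right.trans D.pre_le) (cov_trP D h3 ht) (G := G)
    (fun u => (congrArg ψ.symm (ha u)).trans (map_zero _)) fun g hg => hg.1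
  refine D.A_ne (le_antisymm D.pre_le fun g hg => ?_)
  obtain ⟨_, ⟨x, hx, rfl⟩, e⟩ := h1 { g.toAddEquiv with map_smul' := hl g } fun u w => ψ.symm.injective
    ((hc (g u) (g w)).trans ((congrArg (c * ·) (hg u w)).trans (hc u w).symm))
  rwa [← LinearEquiv.ext (e := x) (e' := g) e]

end nat

/-- characteristic two: a non-trivial normal subgroup of `A` is isomorphic to `T` -/
theorem iso_of (h2 : (2 : F) = 0) {N : Subgroup (D.A.map pm)} (hN : N.Normal) {G : Type} [Group G] (e : N ≃* G)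
    (h : Nat.card G ≠ 1) : Nonempty (T ≃* G) := by
  have := D.up.socH.simple
  let e1 : D.A.map pm ≃* T := (D.A.equivMapOfInjective pm pm_injective).symm.trans (D.isoA h2)
  have := e1.isSimpleGroup
  rcases hN.eq_bot_or_eq_top with rfl | rfl
  · exact absurd ((Nat.card_congr e.toEquiv).symm.trans card_bot) h
  · exact ⟨e1.symm.trans (topEquiv.symm.trans e)⟩

theorem two_of (h : Fintype.card F % 2 = 0) : (2 : F) = 0 := by
  have h1 := FiniteField.even_card_iff_char_two.2 h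
  have h2 := ringChar.spec F 2
  rw [h1] at h2
  exact_mod_cast h2.2 dvd_rfl

/-- **Hering's theorem for a group which is transitive on the planes** -/
theorem her (hm : 3 ≤ m) (ht : TrP D.A) : m = 3 ∧
    (((2 : F) = 0 ∧ 4 ≤ Fintype.card F ∧ Nonempty (T ≃* Lie.chevG2.group F)) ∨
      (Fintype.card F = 3 ∧ Nat.card D.A = 2184) ∨ (Fintype.card F = 2 ∧ Nat.card T = 6048)) := by
  rcases action_of_main H50.Her.main H50.Her.altSix H50.Her.altSeven H50.Her.thirteen (K := F) _ _ rfl finrank_VV (by omega)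
    (D.A.map pm) (by rintro _ ⟨g, -, rfl⟩; exact map_add g)
    (by rintro _ ⟨g, -, rfl⟩; exact ⟨RingEquiv.refl F, map_smul g⟩) (fun v w hv hw =>
      let ⟨g, hg, e⟩ := points D.two D.pre_le ht hv hw
      ⟨_, ⟨g, hg, rfl⟩, e⟩) with h | ⟨K, _, _, _, φ, b, hφ, -, hK, hb, hs, h⟩ | h
  · exact (not_two D h).elim
  · have h1 := surj D ht hφ hs
    have h2 : Fintype.card F = Fintype.card K := Fintype.card_of_bijective ⟨φ.injective, h1⟩
    have h3 : b = 1 := Nat.pow_right_injective (Fintype.one_lt_card (α := F)) (hK.symm.trans (h2.symm.trans (pow_one _).symm))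
    rcases h with h | ⟨f, ha, -, h4, h5⟩ | ⟨h4, h5, h6, -, -, -, -, N, hN, ⟨e⟩, -⟩
    · exact (not_sl D hφ h1 h).elim
    · exact (not_sp D ht hφ h1 ha h4 h5).elim
    · refine ⟨by rw [h5, h3] at hb; omega, Or.inl ⟨two_of h4, h2 ▸ h6, iso_of D (two_of h4) hN (e.trans
        (ChevStructure.FieldMap.groupEquivOfRingEquiv _ (RingEquiv.ofBijective φ ⟨φ.injective, h1⟩).symm)) fun h7 => ?_⟩⟩
      rw [S1059.result rfl, mul_assoc] at h7
      have h8 := Nat.eq_one_of_mul_eq_one_right h7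
      have h9 : 1 < Fintype.card F ^ 6 := Nat.one_lt_pow (by norm_num) Fintype.one_lt_card
      omega
  · rcases h with ⟨h, -⟩ | ⟨h, -⟩ | ⟨h, -⟩ | ⟨h, -⟩ | ⟨h, h1, ⟨e⟩⟩ | ⟨h, h1, E, _, _, hE, N, hN, ⟨e⟩⟩
    any_goals omega
    · exact ⟨by omega, Or.inr (Or.inl ⟨h1, by
        rw [← card_map_of_injective pm_injective, Nat.card_congr e.toEquiv, H91.HerCons.card_SL_thirteen]⟩)⟩
    · obtain ⟨e1⟩ := iso_of D (two_of (by omega)) hN e (by rw [H359.card_psu33 hE]; norm_num)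
      exact ⟨by omega, Or.inr (Or.inr ⟨h1, by rw [Nat.card_congr e1.toEquiv, H359.card_psu33 hE]⟩)⟩

end K2

/-- **planes, `m ≥ 4`** -/
theorem boxK2a : BoxK2a := fun m F _ _ Ω _ _ X H T M S D a hm h => by
  have h1 := (K2.her D (by omega) (K2.planes D h)).1
  omega

end Cfsg.Agent.SM.Sy
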