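import Cfsg.Agent.SM.Sy.Api

/-!
# SM (S3570), symplectic socles: groups which are transitive on the non-degenerate planes (helper15)

* `TrP Y` : transitivity on the planes;
* `form` : an invariant alternating form is a multiple of the form; `adj`, `scal` : maps which commute with `Y`;
* `points` : `Y` is transitive on the points.
-/

set_option autoImplicit false
set_option linter.unusedSectionVars false
set_option linter.unusedVariables false

namespace Cfsg.Agent.SM.Sy.K2

open Cfsg Equiv Subgroup MulAction Module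
open Cfsg.Agent.ClassicalGeometry.SympBasic

variable {m : ℕ} {F : Type} [Field F] {Y : Subgroup (GG m F)}

/-- `Y` is transitive on the non-degenerate planes -/
def TrP (Y : Subgroup (GG m F)) : Prop := ∀ u w u' w' : VV m F, ff m F u w = 1 → ff m F u' w' = 1 →
  ∃ g ∈ Y, ∃ a b c d : F, g u = a • u' + b • w' ∧ g w = c • u' + d • w'

theorem TrP.mono {Z : Subgroup (GG m F)} (h : TrP Y) (hle : Y ≤ Z) : TrP Z := fun u w u' w' h1 h2 =>
  let ⟨g, hg, e⟩ := h u w u' w' h1 h2
  ⟨g, hle hg, e⟩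

theorem alt_swap {G : LinearMap.BilinForm F (VV m F)} (hG : ∀ u, G u u = 0) (u w : VV m F) : G w u = - G u w := by
  have h := hG (u + w)
  simp only [map_add, LinearMap.add_apply, hG] at h
  linear_combination h

theorem alt_pair {G : LinearMap.BilinForm F (VV m F)} (hG : ∀ u, G u u = 0) (u w : VV m F) (a b c d : F) :
    G (a • u + b • w) (c • u + d • w) = (a * d - b * c) * G u w := by
  simp only [map_add, map_smul, LinearMap.add_apply, LinearMap.smul_apply, smul_eq_mul, hG, alt_swap hG u w]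
  ring

theorem exists_one {u : VV m F} (hu : u ≠ 0) : ∃ w, ff m F u w = 1 := by
  obtain ⟨x, hx⟩ := exists_ff_ne hu
  exact ⟨-x, by rw [map_neg, ff_swap, neg_neg, hx]⟩

/-- a hyperbolic pair spans the plane -/
theorem span_pair {U : Submodule F (VV m F)} (hU : finrank F U = 2) {p q : VV m F} (hp : p ∈ U) (hq : q ∈ U)
    (h : ff m F p q = 1) {x : VV m F} (hx : x ∈ U) : ∃ a b : F, x = a • p + b • q := by
  have h1 : LinearIndependent F ![p, q] := LinearIndependent.pair_iff.2 fun s t e => by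
    have h2 := congrArg (ff m F · q) e
    have h3 := congrArg (ff m F p) e
    simp only [map_add, map_smul, LinearMap.add_apply, LinearMap.smul_apply, smul_eq_mul, ff_self, h, map_zero,
      LinearMap.zero_apply] at h2 h3
    exact ⟨by linear_combination h2, by linear_combination h3⟩
  have h2 : Submodule.span F {p, q} = U := Submodule.eq_of_le_of_finrank_eq
    (Submodule.span_le.2 (by rintro _ (rfl | rfl) <;> assumption)) (by
      have h3 := finrank_span_eq_card h1
      rw [Matrix.range_cons, Matrix.range_cons, Matrix.range_empty, Set.union_empty, Set.singleton_union,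
        Fintype.card_fin] at h3
      exact h3.trans hU.symm)
  obtain ⟨a, b, e⟩ := Submodule.mem_span_pair.1 (h2.ge hx)
  exact ⟨a, b, e.symm⟩

theorem trP_of {U : Submodule F (VV m F)} (hU : finrank F U = 2) (hY : Y ≤ Sp m F)
    (h : ∀ u w, ff m F u w = 1 → ∃ y ∈ Y, y u ∈ U ∧ y w ∈ U) : TrP Y := fun u w u' w' h1 h2 => by
  obtain ⟨y, hy, hu, hw⟩ := h u w h1
  obtain ⟨y', hy', hu', hw'⟩ := h u' w' h2
  have h3 : ff m F (y' u') (y' w') = 1 := (hY hy' u' w').trans h2
  obtain ⟨a, b, e⟩ := span_pair hU hu' hw' h3 hu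
  obtain ⟨c, d, e'⟩ := span_pair hU hu' hw' h3 hw
  refine ⟨y'⁻¹ * y, Y.mul_mem (Y.inv_mem hy') hy, a, b, c, d, y'.injective ?_, y'.injective ?_⟩
  · rw [map_add, map_smul, map_smul, ← e]
    exact y'.apply_symm_apply _
  · rw [map_add, map_smul, map_smul, ← e']
    exact y'.apply_symm_apply _

/-- **invariant alternating forms** -/
theorem form (hm : 1 ≤ m) (hY : Y ≤ Sp m F) (h : TrP Y) {G : LinearMap.BilinForm F (VV m F)} (hG : ∀ u, G u u = 0)
    (hi : ∀ g ∈ Y, ∀ u w, G (g u) (g w) = G u w) : ∃ c : F, ∀ u w, G u w = c * ff m F u w := by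
  obtain ⟨u₀, w₀, h0⟩ := exists_ff (F := F) hm
  have h1 : ∀ u w, ff m F u w = 1 → G u w = G u₀ w₀ := fun u w e => by
    obtain ⟨g, hg, a, b, c, d, e1, e2⟩ := h u w u₀ w₀ e h0
    have h2 := hY hg u w
    rw [e1, e2, alt_pair ff_self, h0, e, mul_one] at h2
    rw [← hi g hg, e1, e2, alt_pair hG, h2, one_mul]
  refine ⟨G u₀ w₀, fun u w => ?_⟩
  rcases eq_or_ne u 0 with rfl | hu
  · rw [LinearMap.map_zero₂, LinearMap.map_zero₂, mul_zero]
  obtain ⟨x, hx⟩ := exists_one hu
  have h2 := h1 u (w + (1 - ff m F u w) • x) (by rw [map_add, map_smul, hx, smul_eq_mul]; ring)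
  rw [map_add, map_smul, h1 u x hx, smul_eq_mul] at h2
  linear_combination h2

/-- `k + k* = c` -/
theorem adj (hm : 1 ≤ m) (hY : Y ≤ Sp m F) (h : TrP Y) {k : End F (VV m F)} (hk : ∀ g ∈ Y, ∀ v, k (g v) = g (k v)) :
    ∃ c : F, ∀ u w, ff m F (k u) w + ff m F u (k w) = c * ff m F u w :=
  form hm hY h (G := (ff m F).compLeft k + (ff m F).compRight k)
    (fun u => by
      show ff m F (k u) u + ff m F u (k u) = 0
      rw [ff_swap, neg_add_cancel])
    fun g hg u w => by
      show ff m F (k (g u)) (g w) + ff m F (g u) (k (g w)) = ff m F (k u) w + ff m F u (k w)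
      rw [hk g hg, hk g hg, hY hg, hY hg]

/-- an alternating `f (k ·, ·)` -/
theorem scal_alt (hm : 1 ≤ m) (hY : Y ≤ Sp m F) (h : TrP Y) {k : End F (VV m F)} (hk : ∀ g ∈ Y, ∀ v, k (g v) = g (k v))
    (ha : ∀ u, ff m F (k u) u = 0) : ∃ c : F, ∀ v, k v = c • v := by
  obtain ⟨c, hc⟩ := form hm hY h (G := (ff m F).compLeft k) ha fun g hg u w => by
    show ff m F (k (g u)) (g w) = ff m F (k u) w
    rw [hk g hg, hY hg]
  refine ⟨c, fun v => sub_eq_zero.1 (ff_nd fun w => ?_)⟩
  rw [map_sub, map_smul, LinearMap.sub_apply, LinearMap.smul_apply, smul_eq_mul, ← hc]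
  exact sub_self _

/-- an invertible map which commutes with `Y` is a scalar or skew -/
theorem scal [Finite F] (hm : 1 ≤ m) (hY : Y ≤ Sp m F) (h : TrP Y)
    (hc : ∀ z ∈ Sp m F, (∀ g ∈ Y, ∀ v, z (g v) = g (z v)) → ∃ c : F, ∀ v, z v = c • v)
    {k : End F (VV m F)} (hk : ∀ g ∈ Y, ∀ v, k (g v) = g (k v)) (hi : Function.Injective k) :
    (∃ c : F, ∀ v, k v = c • v) ∨ ∀ u w, ff m F (k u) w + ff m F u (k w) = 0 := by
  obtain ⟨c, e⟩ := adj hm hY h hk
  let K : GG m F := LinearEquiv.ofBijective k ⟨hi, Finite.surjective_of_injective hi⟩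
  let z : End F (VV m F) := c • (K.symm : End F (VV m F)) - 1
  have hz : ∀ v, z (k v) = c • v - k v := fun v => by
    show c • K.symm (K v) - k v = _
    rw [K.symm_apply_apply]
  have h1 : ∀ u w, ff m F (z u) (z w) = ff m F u w := fun u w => by
    obtain ⟨u, rfl⟩ := K.surjective u
    obtain ⟨w, rfl⟩ := K.surjective w
    show ff m F (z (k u)) (z (k w)) = ff m F (k u) (k w)
    rw [hz, hz]
    simp only [map_sub, map_smul, LinearMap.sub_apply, LinearMap.smul_apply, smul_eq_mul]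
    linear_combination (-c) * e u w
  have h2 : Function.Injective z := (injective_iff_map_eq_zero z).2 fun v hv => ff_nd fun w => by
    rw [← h1, hv, LinearMap.map_zero₂]
  obtain ⟨d, hd⟩ := hc (LinearEquiv.ofBijective z ⟨h2, Finite.surjective_of_injective h2⟩) h1 fun g hg v => by
    obtain ⟨v, rfl⟩ := K.surjective v
    show z (g (k v)) = g (z (k v))
    rw [← hk g hg, hz, hz, map_sub, map_smul, hk g hg]
  have h3 : ∀ v, (1 + d) • k v = c • v := fun v => by
    have h4 : z (k v) = d • k v := hd (k v)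
    rw [hz] at h4
    rw [add_smul, one_smul, ← h4, add_sub_cancel]
  rcases eq_or_ne (1 + d) 0 with h4 | h4
  · obtain ⟨u, w, h5⟩ := exists_ff (F := F) hm
    have h6 := congrArg (ff m F · w) (h3 u)
    simp only [h4, zero_smul, map_smul, LinearMap.smul_apply, smul_eq_mul, h5, map_zero, LinearMap.zero_apply,
      mul_one] at h6
    exact Or.inr fun u w => by rw [e, ← h6, zero_mul]
  · exact Or.inl ⟨(1 + d)⁻¹ * c, fun v => by rw [mul_smul, ← h3, inv_smul_smul₀ h4]⟩

/-- **LEMMA END**: a finite field which commutes with `Y` consists of scalars -/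
theorem fld [Finite F] (hm : 1 ≤ m) (hY : Y ≤ Sp m F) (h : TrP Y)
    (hc : ∀ z ∈ Sp m F, (∀ g ∈ Y, ∀ v, z (g v) = g (z v)) → ∃ c : F, ∀ v, z v = c • v)
    {K : Type} [Field K] [Finite K] (ρ : K →+* End F (VV m F)) (hk : ∀ d, ∀ g ∈ Y, ∀ v, ρ d (g v) = g (ρ d v)) (d : K) :
    ∃ c : F, ∀ v, ρ d v = c • v := by
  obtain ⟨u₀, w₀, h0⟩ := exists_ff (F := F) hm
  have h1 : ∀ d, (∃ c : F, ∀ v, ρ d v = c • v) ∨ ∀ u w, ff m F (ρ d u) w + ff m F u (ρ d w) = 0 := fun d => by
    rcases eq_or_ne d 0 with rfl | hd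
    · exact Or.inl ⟨0, fun v => by rw [map_zero, zero_smul, LinearMap.zero_apply]⟩
    · refine scal hm hY h hc (hk d) (Function.LeftInverse.injective (g := ρ d⁻¹) fun v => ?_)
      rw [← End.mul_apply, ← map_mul, inv_mul_cancel₀ hd, map_one, End.one_apply]
  by_cases h2 : (2 : F) = 0
  · have h3 : (2 : K) = 0 := by
      by_contra h3
      have h4 : u₀ = 0 := by
        calc u₀ = ρ (2⁻¹ * 2) u₀ := by rw [inv_mul_cancel₀ h3, map_one, End.one_apply]
          _ = 0 := by
            rw [map_mul, End.mul_apply, ← one_add_one_eq_two (R := K), map_add, map_one, LinearMap.add_apply,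
              End.one_apply, add_self_VV h2, map_zero]
      rw [h4, LinearMap.map_zero₂] at h0
      exact zero_ne_one h0
    have := Fintype.ofFinite K
    obtain ⟨j, rfl⟩ := exists_sqrt h3 d
    rcases h1 j with ⟨c, e⟩ | e
    · exact ⟨c * c, fun v => by rw [map_mul, End.mul_apply, e, e, mul_smul]⟩
    · refine scal_alt hm hY h (hk _) fun u => ?_
      have h4 := e (ρ j u) u
      rwa [ff_self, add_zero, ← End.mul_apply, ← map_mul] at h4
  · rcases h1 d with e | e
    · exact e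
    rcases h1 (d + 1) with ⟨c, e'⟩ | e'
    · exact ⟨c - 1, fun v => by rw [sub_smul, one_smul, ← e', map_add, map_one, LinearMap.add_apply, End.one_apply,
        add_sub_cancel_right]⟩
    · have h3 := e' u₀ w₀
      simp only [map_add, map_one, LinearMap.add_apply, End.one_apply, h0] at h3
      exact absurd (by linear_combination h3 - e u₀ w₀) h2

/-! ### points -/

theorem sum_pair [Fintype F] (hY : Y ≤ Sp m F) (h : TrP Y) {χ : VV m F → ℕ} (hχ : ∀ g ∈ Y, ∀ v, χ (g v) = χ v)
    {u w u' w' : VV m F} (h1 : ff m F u w = 1) (h2 : ff m F u' w' = 1) :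
    ∑ z : F × F, χ (z.1 • u + z.2 • w) = ∑ z : F × F, χ (z.1 • u' + z.2 • w') := by
  obtain ⟨g, hg, a, b, c, d, e1, e2⟩ := h u w u' w' h1 h2
  have h3 := hY hg u w
  rw [e1, e2, alt_pair ff_self, h2, h1, mul_one] at h3
  refine Fintype.sum_bijective (fun z => (z.1 * a + z.2 * c, z.1 * b + z.2 * d))
    (Finite.injective_iff_bijective.1 fun z z' e => ?_) _ _ fun z => ?_
  · have e3 := congrArg Prod.fst e
    have e4 := congrArg Prod.snd e
    dsimp only at e3 e4
    exact Prod.ext (by linear_combination d * e3 - c * e4 - (z.1 - z'.1) * h3)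
      (by linear_combination a * e4 - b * e3 - (z.2 - z'.2) * h3)
  · rw [← hχ g hg, map_add, map_smul, map_smul, e1, e2]
    congr 1
    module

theorem step [Fintype F] (hY : Y ≤ Sp m F) (h : TrP Y) {χ : VV m F → ℕ} (hχ : ∀ g ∈ Y, ∀ v, χ (g v) = χ v)
    (hs : ∀ c : F, c ≠ 0 → ∀ v, χ (c • v) = χ v) {x y z : VV m F} (h1 : ff m F x y = 1) (h2 : ff m F x z = 0)
    (h3 : ff m F z y = 0) : χ (x + z) = χ x := by
  classical
  have k1 : ∀ s : F, ∑ t : F, ∑ p : F × F, χ (p.1 • (x + s • z) + p.2 • (y + t • z)) =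
      ∑ t : F, ∑ p : F × F, χ (p.1 • x + p.2 • y) := fun s => Finset.sum_congr rfl fun t _ =>
    sum_pair hY h hχ (by simp only [map_add, map_smul, LinearMap.add_apply, LinearMap.smul_apply, h1, h2, h3, ff_self,
      smul_zero, add_zero]) h1
  have k2 : ∀ s : F, ∑ t : F, ∑ p : F × F, χ (p.1 • (x + s • z) + p.2 • (y + t • z)) =
      Fintype.card F * (χ 0 + (Fintype.card F - 1) * χ (x + s • z)) +
        ∑ b ∈ Finset.univ.erase (0 : F), ∑ a : F, ∑ c : F, χ (a • x + b • y + c • z) := fun s => by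
    rw [Finset.sum_comm, Fintype.sum_prod_type_right, ← Finset.add_sum_erase _ _ (Finset.mem_univ (0 : F))]
    congr 1
    · simp only [zero_smul, add_zero, Finset.sum_const, Finset.card_univ, smul_eq_mul]
      rw [← Finset.mul_sum, ← Finset.add_sum_erase _ _ (Finset.mem_univ (0 : F)), zero_smul,
        Finset.sum_congr rfl fun a ha => hs a (Finset.ne_of_mem_erase ha) _, Finset.sum_const,
        Finset.card_erase_of_mem (Finset.mem_univ _), Finset.card_univ, smul_eq_mul]
    · refine Finset.sum_congr rfl fun b hb => Finset.sum_congr rfl fun a _ => ?_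
      refine Fintype.sum_bijective (fun t => a * s + b * t) (Finite.injective_iff_bijective.1 fun t t' e =>
        mul_left_cancel₀ (Finset.ne_of_mem_erase hb) (add_left_cancel e)) _ _ fun t => ?_
      congr 1
      module
  have k3 := ((k2 1).symm.trans (k1 1)).trans ((k1 0).symm.trans (k2 0))
  have k4 : 1 < Fintype.card F := Fintype.one_lt_card
  rw [one_smul, zero_smul, add_zero, add_left_inj, Nat.mul_right_inj (by omega), add_right_inj,
    Nat.mul_right_inj (by omega)] at k3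
  exact k3

theorem perp_eq [Fintype F] (hY : Y ≤ Sp m F) (h : TrP Y) {χ : VV m F → ℕ} (hχ : ∀ g ∈ Y, ∀ v, χ (g v) = χ v)
    (hs : ∀ c : F, c ≠ 0 → ∀ v, χ (c • v) = χ v) {v w : VV m F} (hv : v ≠ 0) (hw : w ≠ 0) (h0 : ff m F v w = 0) :
    χ v = χ w := by
  obtain ⟨y, h1, h2⟩ := exists_both_ne_zero hv hw
  rw [← ff_apply] at h1 h2
  have h3 := step hY h hχ hs (x := (ff m F v y)⁻¹ • v) (y := y) (z := (ff m F w y)⁻¹ • w - (ff m F v y)⁻¹ • v)
    (by rw [map_smul, LinearMap.smul_apply, smul_eq_mul, inv_mul_cancel₀ h1])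
    (by simp only [map_sub, map_smul, LinearMap.smul_apply, h0, ff_self, smul_zero, sub_zero])
    (by simp only [map_sub, map_smul, LinearMap.sub_apply, LinearMap.smul_apply, smul_eq_mul, inv_mul_cancel₀ h1,
      inv_mul_cancel₀ h2, sub_self])
  rwa [add_sub_cancel, hs _ (inv_ne_zero h1), hs _ (inv_ne_zero h2), eq_comm] at h3

theorem exists_perp (hm : 2 ≤ m) (v w : VV m F) : ∃ t, t ≠ 0 ∧ ff m F v t = 0 ∧ ff m F w t = 0 := by
  have h1 := LinearMap.ker_ne_bot_of_finrank_lt (f := (ff m F v).prod (ff m F w)) (by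
    rw [finrank_VV, finrank_prod, finrank_self]; omega)
  obtain ⟨t, ht, h0⟩ := (Submodule.ne_bot_iff _).1 h1
  exact ⟨t, h0, congrArg Prod.fst ht, congrArg Prod.snd ht⟩

/-- **transitive on the planes gives transitive on the points** -/
theorem points [Fintype F] (hm : 2 ≤ m) (hY : Y ≤ Sp m F) (h : TrP Y) {v w : VV m F} (hv : v ≠ 0) (hw : w ≠ 0) :
    ∃ g ∈ Y, ∃ c : F, g v = c • w := by
  classical
  let P : VV m F → Prop := fun x => ∃ g ∈ Y, ∃ c : F, c ≠ 0 ∧ g x = c • w
  have h1 : ∀ g ∈ Y, ∀ x, P (g x) → P x := fun g hg x ⟨g', hg', c, hc, e⟩ => ⟨g' * g, Y.mul_mem hg' hg, c, hc, e⟩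
  have h2 : ∀ c : F, c ≠ 0 → ∀ x, P x → P (c • x) := fun c hc x ⟨g', hg', c', hc', e⟩ =>
    ⟨g', hg', c * c', mul_ne_zero hc hc', by rw [map_smul, e, mul_smul]⟩
  have hχ : ∀ g ∈ Y, ∀ x, (if P (g x) then 1 else 0 : ℕ) = if P x then 1 else 0 := fun g hg x =>
    if_congr ⟨h1 g hg x, fun k => h1 g⁻¹ (Y.inv_mem hg) _ ((g.symm_apply_apply x).symm ▸ k :)⟩ rfl rfl
  have hs : ∀ c : F, c ≠ 0 → ∀ x, (if P (c • x) then 1 else 0 : ℕ) = if P x then 1 else 0 := fun c hc x =>
    if_congr ⟨fun k => inv_smul_smul₀ hc x ▸ h2 _ (inv_ne_zero hc) _ k, h2 c hc x⟩ rfl rfl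
  obtain ⟨t, ht, h3, h4⟩ := exists_perp hm v w
  have h5 : (if P v then 1 else 0 : ℕ) = if P w then 1 else 0 :=
    (perp_eq hY h (χ := fun x => if P x then 1 else 0) hχ hs hv ht h3).trans
      (perp_eq hY h (χ := fun x => if P x then 1 else 0) hχ hs hw ht h4).symm
  have h6 : P w := ⟨1, Y.one_mem, 1, one_ne_zero, (one_smul F w).symm⟩
  rw [if_pos h6] at h5
  obtain ⟨g, hg, c, -, e⟩ : P v := by
    by_contra k
    rw [if_neg k] at h5
    exact zero_ne_one h5
  exact ⟨g, hg, c, e⟩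

end Cfsg.Agent.SM.Sy.K2
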