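import Cfsg.Agent.SM.Sy.Form
import Cfsg.Agent.LieRecognition.FieldSemilinear
import Mathlib.RingTheory.LittleWedderburn

/-!
# SM (S3570), symplectic socles, `T = Ω(Q)`: the Clifford argument, linear part (helper59)

`B` is a group of semisimilitudes without invariant subspace, `N ≤ Sp` is normalised by `B`, and every non-zero `N`-invariant
subspace has dimension at least `m`.
-/

set_option autoImplicit false
set_option linter.unusedSectionVars false
set_option linter.unusedVariables false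

namespace Cfsg.Agent.SM.Sy.K4C

open Cfsg Equiv Subgroup Module QuadraticMap
open Cfsg.Agent.ClassicalGeometry.SympBasic
open Cfsg.Agent.ClassicalGeometry.SympAutSemi (semiSim IsSemi)
open Cfsg.Agent.LieClassical.OrthCore (O E)

variable {m : ℕ} {F : Type} [Field F]

/-- invariant subspace -/
def Iv (N : Subgroup (GG m F)) (W : Submodule F (VV m F)) : Prop := ∀ c ∈ N, ∀ w ∈ W, c w ∈ W

variable {N : Subgroup (GG m F)} {B : Subgroup (Perm (VV m F))} {U W : Submodule F (VV m F)}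

theorem Iv.inf (h1 : Iv N U) (h2 : Iv N W) : Iv N (U ⊓ W) := fun c hc w hw => ⟨h1 c hc w hw.1, h2 c hc w hw.2⟩

theorem inv_app (c : GG m F) (v : VV m F) : c (c⁻¹ v) = v := c.apply_symm_apply v

theorem app_inv (c : GG m F) (v : VV m F) : c⁻¹ (c v) = v := c.symm_apply_apply v

theorem Iv.perp (hN : N ≤ Sp m F) (h : Iv N W) : Iv N (perp W) := fun c hc v hv => mem_perp.2 fun u hu => by
  rw [← inv_app c u, hN hc]
  exact hv _ (h _ (N.inv_mem hc) u hu)

theorem exists_proj (h : IsCompl U W) (h1 : Iv N U) (h2 : Iv N W) : ∃ p : End F (VV m F), (∀ v, p v ∈ U) ∧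
    (∀ v, v - p v ∈ W) ∧ (∀ v, p v = 0 ↔ v ∈ W) ∧ (∀ v ∈ U, p v = v) ∧ ∀ c ∈ N, ∀ v, p (c v) = c (p v) := by
  have k2 : ∀ v, v - U.projection W h v ∈ W := fun v => by
    rw [← Submodule.projection_eq_self_sub_projection h]
    exact Submodule.projection_apply_mem h.symm v
  refine ⟨U.projection W h, Submodule.projection_apply_mem h, k2, fun v => Submodule.projection_apply_eq_zero_iff h,
    fun v hv => Submodule.projection_apply_of_mem_left h hv, fun c hc v => ?_⟩
  have e : c v = c (U.projection W h v) + c (v - U.projection W h v) := by rw [← map_add, add_sub_cancel]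
  rw [e, map_add, Submodule.projection_apply_of_mem_left h (h1 c hc _ (Submodule.projection_apply_mem h v)),
    (Submodule.projection_apply_eq_zero_iff h).2 (h2 c hc _ (k2 v)), add_zero]

theorem semi_zero {g : Perm (VV m F)} {φ : F ≃+* F} {l : F} (h : IsSemi g φ l) : g 0 = 0 := by
  simpa using h.2.1 0 0

theorem semi_ff {g : Perm (VV m F)} {φ : F ≃+* F} {l : F} (h : IsSemi g φ l) (u v : VV m F) :
    ff m F (g u) (g v) = l * φ (ff m F u v) := h.2.2 u v

/-- the preimage of a subspace under a semilinear map -/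
def pull {g : Perm (VV m F)} {φ : F ≃+* F} {l : F} (h : IsSemi g φ l) (W : Submodule F (VV m F)) : Submodule F (VV m F) where
  carrier := {v | g v ∈ W}
  add_mem' := fun {a b} ha hb => by
    show g (a + b) ∈ W
    rw [h.1]
    exact W.add_mem ha hb
  zero_mem' := by
    show g 0 ∈ W
    rw [semi_zero h]
    exact W.zero_mem
  smul_mem' := fun c v hv => by
    show g (c • v) ∈ W
    rw [h.2.1]
    exact W.smul_mem _ hv

theorem mem_pull {g : Perm (VV m F)} {φ : F ≃+* F} {l : F} (h : IsSemi g φ l) {v : VV m F} : v ∈ pull h W ↔ g v ∈ W := Iff.rfl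

theorem pull_inj {g : Perm (VV m F)} {φ : F ≃+* F} {l : F} (h : IsSemi g φ l) (e : pull h U = pull h W) : U = W := by
  ext v
  obtain ⟨w, rfl⟩ := g.surjective v
  rw [← mem_pull h, e, mem_pull]

theorem pull_bot {g : Perm (VV m F)} {φ : F ≃+* F} {l : F} (h : IsSemi g φ l) : pull h ⊥ = ⊥ := by
  ext v
  rw [mem_pull, Submodule.mem_bot, Submodule.mem_bot]
  conv_lhs => rw [← semi_zero h]
  exact g.injective.eq_iff

theorem pull_top {g : Perm (VV m F)} {φ : F ≃+* F} {l : F} (h : IsSemi g φ l) : pull h ⊤ = ⊤ :=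
  eq_top_iff.2 fun _ _ => trivial

theorem pull_ti {g : Perm (VV m F)} {φ : F ≃+* F} {l : F} (h : IsSemi g φ l) (hl : l ≠ 0) (hW : Ti W) : Ti (pull h W) :=
  fun u hu v hv => by
    have h1 := hW _ hu _ hv
    rw [semi_ff h] at h1
    exact (map_eq_zero φ).1 ((mul_eq_zero.1 h1).resolve_left hl)

/-- proper invariant subspace -/
structure Pr (N : Subgroup (GG m F)) (W : Submodule F (VV m F)) : Prop where
  iv : Iv N W
  nb : W ≠ ⊥
  nt : W ≠ ⊤

/-- the situation -/
structure Sit (B : Subgroup (Perm (VV m F))) (N : Subgroup (GG m F)) : Prop where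
  two : (2 : F) = 0
  hm : 2 ≤ m
  semi : B ≤ semiSim m F
  le : N ≤ Sp m F
  nor : ∀ g ∈ B, ∀ c ∈ N, ∃ c' ∈ N, ∀ v, c' (g v) = g (c v)
  red : ∀ W : Submodule F (VV m F), (∀ g ∈ B, ∀ w ∈ W, g w ∈ W) → W = ⊥ ∨ W = ⊤

theorem Sit.pull (s : Sit B N) {g : Perm (VV m F)} (hg : g ∈ B) {φ : F ≃+* F} {l : F} (h : IsSemi g φ l) (hW : Pr N W) :
    Pr N (pull h W) :=
  ⟨fun c hc v hv => by
    obtain ⟨c', h1, h2⟩ := s.nor g hg c hc
    rw [mem_pull, ← h2]
    exact hW.iv c' h1 _ hv,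
  fun e => hW.nb (pull_inj h (e.trans (pull_bot h).symm)), fun e => hW.nt (pull_inj h (e.trans (pull_top h).symm))⟩

variable [Finite F]

theorem Pr.perp (hN : N ≤ Sp m F) (h : Pr N W) : Pr N (perp W) :=
  ⟨h.iv.perp hN, fun e => h.nt (by
    have h1 := finrank_perp W
    rw [e, finrank_bot, add_zero, ← finrank_VV (F := F)] at h1
    exact Submodule.eq_top_of_finrank_eq h1), fun e => h.nb (by
    have h1 := finrank_perp W
    rw [e, finrank_top, finrank_VV] at h1
    exact Submodule.finrank_eq_zero.1 (by omega))⟩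

section big

variable (s : Sit B N) (hd : ∀ W : Submodule F (VV m F), Iv N W → W ≠ ⊥ → m ≤ finrank F W)
include s hd

theorem dim_eq (h : Pr N W) : finrank F W = m := by
  have h1 := finrank_perp W
  have h2 := hd _ h.iv h.nb
  have h3 := hd _ (h.perp s.le).iv (h.perp s.le).nb
  omega

theorem disj (h1 : Pr N U) (h2 : Pr N W) (h : U ≠ W) : U ⊓ W = ⊥ := by
  by_contra hc
  have h3 := hd _ (h1.iv.inf h2.iv) hc
  have h4 : U ⊓ W = U := Submodule.eq_of_le_of_finrank_le inf_le_left (by rw [dim_eq s hd h1]; exact h3)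
  have h5 : U ⊓ W = W := Submodule.eq_of_le_of_finrank_le inf_le_right (by rw [dim_eq s hd h2]; exact h3)
  exact h (h4.symm.trans h5)

theorem compl (h1 : Pr N U) (h2 : Pr N W) (h : U ≠ W) : IsCompl U W :=
  (Submodule.isCompl_iff_disjoint U W (by rw [dim_eq s hd h1, dim_eq s hd h2, finrank_VV]; omega)).2
    (disjoint_iff.2 (disj s hd h1 h2 h))

theorem le_or (h1 : Pr N U) (h2 : Pr N W) (h : U ≤ W) : U = W := by
  by_contra hc
  exact h1.nb ((inf_eq_left.2 h).symm.trans (disj s hd h1 h2 hc))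

theorem ti_of (h : Pr N W) (e : perp W = W) : Ti W := fun u hu w hw => (e.symm ▸ hw : w ∈ perp W) u hu

theorem nd_of (h : Pr N W) (e : ¬ Ti W) : Nd W := fun u hu h1 => by
  have h2 := disj s hd h (h.perp s.le) fun k => e (ti_of s hd h k.symm)
  have h3 : u ∈ W ⊓ perp W := ⟨hu, fun w hw => ff_eq_zero_comm.1 (h1 w hw)⟩
  rwa [h2, Submodule.mem_bot] at h3

/-- at most one invariant form -/
theorem form_uniq {Q Q' : QuadraticForm F (VV m F)} (h1 : Pol Q) (h2 : Pol Q') (k1 : N ≤ O Q) (k2 : N ≤ O Q') : Q' = Q := by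
  obtain ⟨u, rfl⟩ := exists_ad s.two h1 h2
  refine (ad_eq_self s.two).2 (by_contra fun h0 => ?_)
  have h3 := hd (F ∙ u) (fun c hc w hw => by
    obtain ⟨a, rfl⟩ := Submodule.mem_span_singleton.1 hw
    rw [map_smul, (mem_O_ad s.two h1 (k1 hc)).1 (k2 hc)]
    exact hw) (fun e => h0 (Submodule.span_singleton_eq_bot.1 e))
  rw [finrank_span_singleton h0] at h3
  have := s.hm
  omega

/-- two totally isotropic members give an invariant form -/
theorem exists_form (h1 : Pr N U) (h2 : Pr N W) (h : U ≠ W) (t1 : Ti U) (t2 : Ti W) : ∃ Q, Pol Q ∧ N ≤ O Q := by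
  obtain ⟨p, p1, p2, -, -, p5⟩ := exists_proj (compl s hd h1 h2 h) h1.iv h2.iv
  refine ⟨LinearMap.BilinMap.toQuadraticMap (LinearMap.comp (ff m F) p), fun u v => ?_, fun c hc v => ?_⟩
  · rw [LinearMap.BilinMap.polar_toQuadraticMap]
    have e1 := t1 _ (p1 u) _ (p1 v)
    have e2 := t2 _ (p2 u) _ (p2 v)
    have e3 := ff_comm s.two (p v) u
    have e4 := ff_comm s.two (p u) (p v)
    simp only [map_sub, LinearMap.sub_apply] at e2
    show ff m F (p u) v + ff m F (p v) u = ff m F u v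
    linear_combination e3 - e2 + e1
  · show ff m F (p (c v)) (c v) = ff m F (p v) v
    rw [p5 c hc, s.le hc]

/-- three members: one of the members is totally isotropic -/
theorem exists_ti {Z : Submodule F (VV m F)} (h1 : Pr N U) (h2 : Pr N W) (h3 : Pr N Z) (n1 : U ≠ W) (n2 : U ≠ Z)
    (n3 : W ≠ Z) : ∃ Y, Pr N Y ∧ Ti Y := by
  classical
  obtain ⟨p, p1, -, p3, -, p5⟩ := exists_proj (compl s hd h1 h2 n1) h1.iv h2.iv
  obtain ⟨e, e1, -, e3, -, e5⟩ := exists_proj (compl s hd h2 h3 n3) h2.iv h3.iv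
  let u : End F (VV m F) := 1 + e * p
  have ua : ∀ v, u v = v + e (p v) := fun v => rfl
  have uu : ∀ v, u (u v) = v := fun v => by
    rw [ua, ua, map_add, (p3 _).2 (e1 _), add_zero, add_assoc, add_self_VV s.two, add_zero]
  have cc : ∀ Y : Submodule F (VV m F), (Y.comap u).comap u = Y := fun Y => by
    ext v
    rw [Submodule.mem_comap, Submodule.mem_comap, uu]
  have pr : ∀ Y, Pr N Y → Pr N (Y.comap u) := fun Y hY =>
    ⟨fun c hc v hv => by
      rw [Submodule.mem_comap, ua, p5 c hc, e5 c hc, ← map_add]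
      exact hY.iv c hc _ hv,
    fun k => hY.nb (by
      rw [← cc Y, k, eq_bot_iff]
      intro v hv
      have h4 : u v = 0 := hv
      rw [← uu v, h4, map_zero]
      exact Submodule.zero_mem _), fun k => hY.nt (by rw [← cc Y, k, Submodule.comap_top])⟩
  have : Finite (Submodule F (VV m F)) := Finite.of_injective _ SetLike.coe_injective
  have := Fintype.ofFinite {Y : Submodule F (VV m F) // Pr N Y}
  have : Fact (Nat.Prime 2) := ⟨Nat.prime_two⟩
  let f1 : Function.End {Y : Submodule F (VV m F) // Pr N Y} := fun Y => ⟨_, pr Y.1 Y.2⟩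
  let f2 : Function.End {Y : Submodule F (VV m F) // Pr N Y} := fun Y => ⟨_, Y.2.perp s.le⟩
  have c1 := Perm.card_fixedPoints_modEq (f := f1) (p := 2) (n := 1) (funext fun Y => Subtype.ext (cc Y.1))
  have c2 := Perm.card_fixedPoints_modEq (f := f2) (p := 2) (n := 1) (funext fun Y => Subtype.ext (perp_perp Y.1))
  have c3 : Fintype.card f1.fixedPoints = 1 := by
    refine Fintype.card_eq_one_iff.2 ⟨⟨⟨W, h2⟩, Subtype.ext ?_⟩, fun Y => Subtype.ext (Subtype.ext ?_)⟩
    · ext v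
      show u v ∈ W ↔ v ∈ W
      rw [ua]
      exact W.add_mem_iff_left (e1 _)
    · by_contra hc
      refine hc (le_or s hd Y.1.2 h2 fun v hv => (p3 v).1 ?_)
      have h4 : Y.1.1.comap u = Y.1.1 := congrArg Subtype.val Y.2
      have h5 : u v ∈ Y.1.1 := (h4.symm ▸ hv : v ∈ Y.1.1.comap u)
      rw [ua] at h5
      have h6 : e (p v) ∈ Y.1.1 ⊓ W := ⟨(Y.1.1.add_mem_iff_right hv).1 h5, e1 _⟩
      rw [disj s hd Y.1.2 h2 hc, Submodule.mem_bot] at h6
      have h7 : p v ∈ U ⊓ Z := ⟨p1 v, (e3 _).1 h6⟩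
      rwa [disj s hd h1 h3 n2, Submodule.mem_bot] at h7
  have c4 : Fintype.card f2.fixedPoints ≠ 0 := fun k => by
    rw [c3] at c1
    rw [k] at c2
    exact absurd (c1.symm.trans c2) (by decide)
  obtain ⟨Y⟩ := Fintype.card_pos_iff.1 (Nat.pos_of_ne_zero c4)
  exact ⟨Y.1.1, Y.1.2, ti_of s hd Y.1.2 (congrArg Subtype.val Y.2)⟩

/-- **the core** -/
theorem core : (∃ Q, Pol Q ∧ N ≤ O Q) ∨ (∃ U : Submodule F (VV m F), finrank F U = m ∧ finrank F (perp U) = m ∧ Nd U ∧
    ∀ g ∈ B, ((∀ u ∈ U, g u ∈ U) ∧ ∀ w ∈ perp U, g w ∈ perp U) ∨ ((∀ u ∈ U, g u ∈ perp U) ∧ ∀ w ∈ perp U, g w ∈ U)) ∨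
    ∀ W, ¬ Pr N W := by
  by_cases h0 : ∃ Y, Pr N Y ∧ Ti Y
  · obtain ⟨Y, h1, t1⟩ := h0
    by_cases h2 : ∃ Y', Pr N Y' ∧ Ti Y' ∧ Y ≠ Y'
    · obtain ⟨Y', h3, t2, n⟩ := h2
      exact Or.inl (exists_form s hd h1 h3 n t1 t2)
    · refine absurd (s.red Y fun g hg w hw => ?_) (not_or.2 ⟨h1.nb, h1.nt⟩)
      obtain ⟨φ, l, hl, h⟩ := s.semi hg
      have h3 : Y = pull h Y := by_contra fun k => h2 ⟨_, s.pull hg h h1, pull_ti h hl t1, k⟩
      exact (mem_pull h).1 (h3 ▸ hw)
  by_cases h1 : ∃ U, Pr N U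
  swap
  · exact Or.inr (Or.inr fun W hW => h1 ⟨W, hW⟩)
  obtain ⟨U, hU⟩ := h1
  have hP := hU.perp s.le
  have n1 : U ≠ perp U := fun k => h0 ⟨U, hU, ti_of s hd hU k.symm⟩
  have two : ∀ Z, Pr N Z → Z = U ∨ Z = perp U := fun Z hZ => by
    by_contra hc
    rw [not_or] at hc
    exact h0 (exists_ti s hd hU hP hZ n1 (Ne.symm hc.1) (Ne.symm hc.2))
  refine Or.inr (Or.inl ⟨U, dim_eq s hd hU, dim_eq s hd hP, nd_of s hd hU fun t => h0 ⟨U, hU, t⟩, fun g hg => ?_⟩)
  obtain ⟨φ, l, hl, h⟩ := s.semi hg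
  rcases two _ (s.pull hg h hU) with a | a <;> rcases two _ (s.pull hg h hP) with b | b
  · exact absurd (pull_inj h (a.trans b.symm)) n1
  · exact Or.inl ⟨fun u hu => (mem_pull h).1 (a.symm ▸ hu), fun w hw => (mem_pull h).1 (b.symm ▸ hw)⟩
  · exact Or.inr ⟨fun u hu => (mem_pull h).1 (b.symm ▸ hu), fun w hw => (mem_pull h).1 (a.symm ▸ hw)⟩
  · exact absurd (pull_inj h (a.trans b.symm)) n1

end big

/-! ### the irreducible case -/

/-- the centraliser algebra -/
def cen (N : Subgroup (GG m F)) : Subalgebra F (End F (VV m F)) :=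
  Subalgebra.centralizer F {k | ∃ c ∈ N, k = (c : VV m F →ₗ[F] VV m F)}

theorem mem_cen {k : End F (VV m F)} : k ∈ cen N ↔ ∀ c ∈ N, ∀ v, k (c v) = c (k v) :=
  ⟨fun h c hc v => (LinearMap.congr_fun (h _ ⟨c, hc, rfl⟩) v).symm, fun h => by
    rintro _ ⟨c, hc, rfl⟩
    exact LinearMap.ext fun v => (h c hc v).symm⟩

theorem cen_field (hm : 1 ≤ m) (h : ∀ W, ¬ Pr N W) : IsField (cen N) := by
  have inj : ∀ k ∈ cen N, k ≠ 0 → Function.Injective k := fun k hk h0 => by
    rw [← LinearMap.ker_eq_bot]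
    by_contra hc
    refine h (LinearMap.ker k) ⟨fun c hc w hw => ?_, hc, fun e => h0 (LinearMap.ker_eq_top.1 e)⟩
    rw [LinearMap.mem_ker, mem_cen.1 hk c hc, LinearMap.mem_ker.1 hw, map_zero]
  have : Nontrivial (VV m F) := Module.nontrivial_of_finrank_pos (R := F) (by rw [finrank_VV]; omega)
  have : Finite (End F (VV m F)) := Finite.of_injective _ DFunLike.coe_injective
  have : NoZeroDivisors (cen N) := ⟨fun {a b} hab => by
    by_contra hc
    rw [not_or] at hc
    refine hc.2 (Subtype.ext (LinearMap.ext fun v => inj a.1 a.2 (fun e => hc.1 (Subtype.ext e)) ?_))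
    exact (LinearMap.congr_fun (congrArg Subtype.val hab) v).trans (map_zero a.1).symm⟩
  exact @Finite.isDomain_to_isField (cen N) _ _ (NoZeroDivisors.to_isDomain (cen N))

theorem cen_adj (h2 : (2 : F) = 0) (hN : N ≤ Sp m F) (k : End F (VV m F)) (hk : k ∈ cen N) :
    ∃ k' ∈ cen N, ∀ u v, ff m F (k u) v = ff m F u (k' v) := by
  have key : ∀ u v, ff m F (k u) v = ff m F u ((ff m F).leftAdjointOfNondegenerate sympBilin_nondegenerate k v) := fun u v => by
    rw [ff_comm h2 u, (ff m F).isAdjointPairLeftAdjointOfNondegenerate sympBilin_nondegenerate k v u, ff_comm h2]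
  refine ⟨_, mem_cen.2 fun c hc v => sub_eq_zero.1 (eq_zero_of_ff fun u => ?_), key⟩
  rw [map_sub, ← key, ← inv_app c u, mem_cen.1 hk c hc, hN hc, hN hc, key, sub_self]

/-- the conjugate of a linear map by a semilinear map -/
def cjs {g : Perm (VV m F)} {φ : F ≃+* F} {l : F} (h : IsSemi g φ l) (hl : l ≠ 0) (k : End F (VV m F)) : End F (VV m F) where
  toFun v := g (k (g⁻¹ v))
  map_add' u v := by rw [(h.inv hl).1, map_add, h.1]
  map_smul' a v := by rw [(h.inv hl).2.1, map_smul, h.2.1, φ.apply_symm_apply, RingHom.id_apply]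

theorem cjs_apply {g : Perm (VV m F)} {φ : F ≃+* F} {l : F} (h : IsSemi g φ l) (hl : l ≠ 0) (k : End F (VV m F)) (v : VV m F) :
    cjs h hl k (g v) = g (k v) := congrArg (fun x => g (k x)) (g.symm_apply_apply v)

theorem Sit.nor' (s : Sit B N) {g : Perm (VV m F)} (hg : g ∈ B) {c : GG m F} (hc : c ∈ N) :
    ∃ c' ∈ N, ∀ v, c (g v) = g (c' v) := by
  obtain ⟨c', h1, h2⟩ := s.nor g⁻¹ (B.inv_mem hg) c hc
  refine ⟨c', h1, fun v => ?_⟩
  have h3 := h2 (g v)
  rw [show g⁻¹ (g v) = v from g.symm_apply_apply v] at h3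
  rw [h3]
  exact (g.apply_symm_apply _).symm

theorem cen_nor (s : Sit B N) (g : Perm (VV m F)) (hg : g ∈ B) (k : End F (VV m F)) (hk : k ∈ cen N) :
    ∃ k' ∈ cen N, ∀ v, k' (g v) = g (k v) := by
  obtain ⟨φ, l, hl, h⟩ := s.semi hg
  refine ⟨cjs h hl k, mem_cen.2 fun c hc v => ?_, cjs_apply h hl k⟩
  obtain ⟨w, rfl⟩ := g.surjective v
  obtain ⟨c', h1, h2⟩ := s.nor' hg hc
  rw [h2, cjs_apply, cjs_apply, mem_cen.1 hk c' h1, h2]

theorem aut_comm (a b : F ≃+* F) (x : F) : a (b x) = b (a x) := by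
  have : IsCyclic (F ≃+* F) := LieRecognition.FieldSemilinear.isCyclic_ringAut F
  obtain ⟨c, hc⟩ := IsCyclic.exists_generator (α := F ≃+* F)
  obtain ⟨i, rfl⟩ := mem_zpowers_iff.1 (hc a)
  obtain ⟨j, rfl⟩ := mem_zpowers_iff.1 (hc b)
  exact DFunLike.congr_fun (show c ^ i * c ^ j = c ^ j * c ^ i by rw [← zpow_add, ← zpow_add, add_comm]) x

/-- absolutely irreducible: a semisimilitude of multiplier one which centralises `N` is centralised by `B` -/
theorem sub_comm (s : Sit B N) (h0 : cen N = ⊥) {σ : Perm (VV m F)} {τ : F ≃+* F} (hσ : IsSemi σ τ 1)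
    (hc : ∀ c ∈ N, ∀ v, σ (c v) = c (σ v)) {g : Perm (VV m F)} (hg : g ∈ B) {ρ : F ≃+* F} (h : IsSemi g ρ 1) :
    σ * g = g * σ := by
  have h1 := hσ.mul h
  have h2 := h.mul hσ
  have h3 := h2.inv (by simp)
  let k : End F (VV m F) :=
    { toFun := fun v => (g * σ)⁻¹ ((σ * g) v)
      map_add' := fun u v => by rw [h1.1, h3.1]
      map_smul' := fun a v => by
        rw [h1.2.1, h3.2.1, RingHom.id_apply]
        congr 1
        rw [RingEquiv.symm_apply_eq]
        exact aut_comm τ ρ a }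
  have k1 : ∀ v, g (σ (k v)) = σ (g v) := fun v => (g * σ).apply_symm_apply _
  have k2 : k ∈ cen N := mem_cen.2 fun c hcN v => σ.injective (g.injective (by
    obtain ⟨c', c1, c2⟩ := s.nor g hg c hcN
    rw [k1, hc c hcN, ← c2, ← c2, k1, hc c' c1]))
  rw [h0, Algebra.mem_bot] at k2
  obtain ⟨a, ha⟩ := k2
  have k3 : ∀ v, k v = a • v := fun v => by rw [← ha]; rfl
  obtain ⟨u, -, hu⟩ := (Submodule.ne_bot_iff _).1 (top_ne_bot' (F := F) (m := m) (by have := s.hm; omega))
  obtain ⟨w, -, hw⟩ := nd_top.exists_ff (Submodule.mem_top (x := u)) hu 1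
  have k4 : ff m F (g (σ (k u))) (g (σ (k w))) = ff m F (σ (g u)) (σ (g w)) := by rw [k1, k1]
  rw [semi_ff h, semi_ff hσ, semi_ff hσ, semi_ff h, k3, k3, (ff m F).map_smul, LinearMap.smul_apply,
    (ff m F u).map_smul, hw] at k4
  simp only [smul_eq_mul, mul_one, one_mul, map_one, EmbeddingLike.map_eq_one_iff] at k4
  have k5 : a = 1 := by
    have k6 : (a - 1) * (a - 1) = 0 := by linear_combination k4 + (1 - a) * s.two
    exact sub_eq_zero.1 (mul_self_eq_zero.1 k6)
  refine Perm.ext fun v => ?_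
  have k7 := k1 v
  rw [k3, k5, one_smul] at k7
  exact k7.symm

end Cfsg.Agent.SM.Sy.K4C
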