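import Cfsg.Agent.SM.Sy.Api
import Cfsg.Agent.H884.OmegaGL

/-!
# SM (S3570), symplectic socles: `T = Ω(Q)`, extension fields (helper41)

`boxK4Ext_of : BoxKS → BoxK4Ext`. Tools in `K4E`: normalisers `nm` of sets of linear maps, subfields of prime degree,
`lift`, `pull`, `exists_push`, traces in characteristic two.
-/

set_option autoImplicit false
set_option linter.unusedSectionVars false
set_option linter.unusedVariables false

namespace Cfsg.Agent.SM.Sy

open Cfsg Equiv Subgroup Module QuadraticMap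
open Cfsg.Agent.ClassicalGeometry.SympBasic
open Cfsg.Agent.LieClassical.OrthCore Cfsg.Agent.LieClassical.OrthTrans
open Cfsg.Agent.H955 (IsPlus)

namespace K4E

variable {m : ℕ} {F : Type} [Field F]

/-- the normaliser of a set of linear maps -/
def nm (z : Set (End F (VV m F))) : Subgroup (Perm (VV m F)) where
  carrier := {g | (∀ k ∈ z, ∃ k' ∈ z, ∀ v, k' (g v) = g (k v)) ∧ ∀ k ∈ z, ∃ k' ∈ z, ∀ v, k' (g⁻¹ v) = g⁻¹ (k v)}
  one_mem' := ⟨fun k hk => ⟨k, hk, fun _ => rfl⟩, fun k hk => ⟨k, hk, fun _ => rfl⟩⟩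
  mul_mem' := fun {a b} ha hb => ⟨fun k hk => by
    obtain ⟨k1, h1, e1⟩ := hb.1 k hk
    obtain ⟨k2, h2, e2⟩ := ha.1 k1 h1
    exact ⟨k2, h2, fun v => by rw [Perm.mul_apply, Perm.mul_apply, e2, e1]⟩, fun k hk => by
    obtain ⟨k1, h1, e1⟩ := ha.2 k hk
    obtain ⟨k2, h2, e2⟩ := hb.2 k1 h1
    exact ⟨k2, h2, fun v => by rw [_root_.mul_inv_rev, Perm.mul_apply, Perm.mul_apply, e2, e1]⟩⟩
  inv_mem' := fun {a} ha => ⟨ha.2, by simpa only [inv_inv] using ha.1⟩

theorem le_nm {z : Set (End F (VV m F))} {Y : Subgroup (Perm (VV m F))}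
    (h : ∀ g ∈ Y, ∀ k ∈ z, ∃ k' ∈ z, ∀ v, k' (g v) = g (k v)) : Y ≤ nm z := fun g hg => ⟨h g hg, h _ (Y.inv_mem hg)⟩

variable {K : Subalgebra F (End F (VV m F))}

theorem NE_conj {g : GG m F} (hg : g ∈ NE K) : ∀ k ∈ K, ∃ k' ∈ K, ∀ v, k' (g v) = g (k v) := fun k hk =>
  have h : ∀ v, g.conj k (g v) = g (k v) := fun v => by simp [LinearEquiv.conj_apply]
  ⟨_, (hg.2 k _ h).1 hk, h⟩

theorem mem_NE {g : GG m F} (hg : g ∈ Sp m F) : g ∈ NE K ↔ pm g ∈ nm (K : Set (End F (VV m F))) := by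
  refine ⟨fun h => ⟨NE_conj h, ?_⟩, fun h => ⟨hg, fun k k' e => ⟨fun hk => ?_, fun hk => ?_⟩⟩⟩
  · rw [← map_inv]
    exact NE_conj (inv_mem h)
  · obtain ⟨k1, h1, e1⟩ := h.1 k hk
    rwa [show k' = k1 from LinearMap.ext fun v => by
      obtain ⟨w, rfl⟩ := g.surjective v
      exact (e w).trans (e1 w).symm]
  · obtain ⟨k1, h1, e1⟩ := h.2 k' hk
    rwa [show k = k1 from LinearMap.ext fun v => by
      have h2 := e1 (pm g v)
      rw [Perm.eq_inv_iff_eq, (Perm.inv_eq_iff_eq (f := pm g)).2 rfl] at h2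
      exact g.injective ((e v).symm.trans h2.symm)]

theorem comm (hK : IsField K) {a b : End F (VV m F)} (ha : a ∈ K) (hb : b ∈ K) (v : VV m F) : a (b v) = b (a v) :=
  congrArg (fun x : K => x.1 v) (hK.mul_comm ⟨a, ha⟩ ⟨b, hb⟩)

theorem inv (hK : IsField K) {a : End F (VV m F)} (ha : a ∈ K) (h0 : a ≠ 0) :
    ∃ b ∈ K, (∀ v, a (b v) = v) ∧ ∀ v, b (a v) = v := by
  obtain ⟨b, hb⟩ := hK.mul_inv_cancel (a := ⟨a, ha⟩) fun h => h0 (congrArg Subtype.val h)
  have h1 : ∀ v, a (b.1 v) = v := fun v => congrArg (fun x : K => x.1 v) hb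
  exact ⟨b, b.2, h1, fun v => (comm hK b.2 ha v).trans (h1 v)⟩

theorem eq_of (hK : IsField K) {a b : End F (VV m F)} (ha : a ∈ K) (hb : b ∈ K) {v : VV m F} (hv : v ≠ 0)
    (h : a v = b v) : a = b := by
  by_contra h0
  obtain ⟨c, -, -, hc⟩ := inv hK (K.sub_mem ha hb) (sub_ne_zero.2 h0)
  exact hv (by rw [← hc v, LinearMap.sub_apply, h, sub_self, map_zero])

theorem dvd_finrank (hK : IsField K) (W : Submodule F (VV m F)) (hW : ∀ k ∈ K, ∀ v ∈ W, k v ∈ W) :
    finrank F K ∣ finrank F W := by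
  let _ : Field K := hK.toField
  let W' : Submodule K (VV m F) :=
    { carrier := W
      add_mem' := fun ha hb => W.add_mem ha hb
      zero_mem' := W.zero_mem
      smul_mem' := fun x v hv => hW x x.2 v hv }
  have hfree : Module.Free K W' := Module.Free.of_divisionRing K W'
  exact ⟨_, (Module.finrank_mul_finrank F K W').symm⟩

/-- four linear conditions -/
theorem exists_four (hm : 3 ≤ m) (k : End F (VV m F)) (a b : VV m F) : ∃ v, v ≠ 0 ∧ ff m F v a = 0 ∧ ff m F v b = 0 ∧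
    ff m F (k v) a = 0 ∧ ff m F (k v) b = 0 := by
  let l : VV m F →ₗ[F] Fin 4 → F := LinearMap.pi ![(ff m F).flip a, (ff m F).flip b, (ff m F).flip a ∘ₗ k, (ff m F).flip b ∘ₗ k]
  obtain ⟨v, hv, h0⟩ := (Submodule.ne_bot_iff _).1 (LinearMap.ker_ne_bot_of_finrank_lt (f := l) (by
    rw [finrank_VV, Module.finrank_fin_fun]; omega))
  exact ⟨v, h0, congrFun hv 0, congrFun hv 1, congrFun hv 2, congrFun hv 3⟩

/-- a transvection which commutes with `k` -/
theorem eig {k : End F (VV m F)} {z : VV m F} (hz : z ≠ 0) {c : F} (hc : c ≠ 0) (h : ∀ v, k (tv z c v) = tv z c (k v)) :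
    ∃ l : F, k z = l • z := by
  obtain ⟨x, hx⟩ := exists_ff_ne hz
  have h1 := h x
  rw [tv_apply, tv_apply, map_add, map_smul, hx, mul_one, add_right_inj] at h1
  exact ⟨_, smul_right_injective _ hc (h1.trans (mul_smul _ _ _))⟩

theorem not_tv (hm : 3 ≤ m) (hK : IsField K) (h0 : K ≠ ⊥) : ¬ ∀ g ∈ Sp m F, pm g ∈ nm (K : Set (End F (VV m F))) := fun h => by
  obtain ⟨z, -, hz⟩ := (Submodule.ne_bot_iff _).1 (top_ne_bot' (m := m) (F := F) (by omega))
  refine h0 (eq_bot_iff.2 fun k hk => ?_)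
  obtain ⟨k', hk', e⟩ := (h _ (tv_mem z 1)).1 k hk
  obtain ⟨v, hv, h1, -, h2, -⟩ := exists_four hm k z z
  obtain rfl : k' = k := eq_of hK hk' hk hv (by
    have h3 := e v
    rwa [pm_apply, pm_apply, tv_apply, tv_apply, h1, h2, mul_zero, zero_smul, add_zero, add_zero] at h3)
  obtain ⟨l, hl⟩ := eig hz one_ne_zero e
  exact Algebra.mem_bot.2 ⟨l, eq_of hK (K.algebraMap_mem l) hk hz hl.symm⟩

variable [Finite F]

/-- self-adjoint elements of a finite field are alternating -/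
theorem alt (h2 : (2 : F) = 0) (hK : IsField K) {a : End F (VV m F)} (ha : a ∈ K)
    (hs : ∀ u v, ff m F (a u) v = ff m F u (a v)) (v : VV m F) : ff m F (a v) v = 0 := by
  have : Finite (End F (VV m F)) := Finite.of_injective _ DFunLike.coe_injective
  let sq : {x : End F (VV m F) // x ∈ K ∧ ∀ u v, ff m F (x u) v = ff m F u (x v)} →
      {x : End F (VV m F) // x ∈ K ∧ ∀ u v, ff m F (x u) v = ff m F u (x v)} := fun x =>
    ⟨x.1 * x.1, K.mul_mem x.2.1 x.2.1, fun u v => (x.2.2 _ _).trans (x.2.2 _ _)⟩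
  have hi : Function.Injective sq := fun x y h => by
    by_contra h0
    obtain ⟨c, -, -, hc⟩ := inv hK (K.sub_mem x.2.1 y.2.1) (sub_ne_zero.2 fun e => h0 (Subtype.ext e))
    refine h0 (Subtype.ext (LinearMap.ext fun w => sub_eq_zero.1 ?_))
    have h1 : x.1 (x.1 w) = y.1 (y.1 w) := congrArg (fun t => t.1 w) h
    rw [← hc (x.1 w - y.1 w), LinearMap.sub_apply, map_sub x.1, map_sub y.1, h1, comm hK x.2.1 y.2.1,
      show y.1 (y.1 w) - y.1 (x.1 w) - (y.1 (x.1 w) - y.1 (y.1 w)) = (2 : F) • (y.1 (y.1 w) - y.1 (x.1 w)) by module,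
      h2, zero_smul, map_zero]
  obtain ⟨b, hb⟩ := Finite.injective_iff_surjective.1 hi ⟨a, ha, hs⟩
  obtain rfl : b.1 * b.1 = a := congrArg Subtype.val hb
  exact (b.2.2 _ _).trans ((b.2.2 v _).symm ▸ (ff_comm h2 _ _).trans ((b.2.2 _ _).trans (ff_self _)))

theorem exists_mid (F L : Type) [Field F] [Fintype F] [Field L] [Algebra F L] [Finite L] {s : ℕ} (hs : s ∣ finrank F L) :
    ∃ Z : IntermediateField F L, finrank F Z = s ∧ ∀ x, x ∈ Z ↔ x ^ (Fintype.card F ^ s) = x := by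
  obtain ⟨t, ht⟩ := hs
  have h0 : 0 < finrank F L := Module.finrank_pos
  refine ⟨IntermediateField.fixedField (zpowers (FiniteField.frobeniusAlgEquivOfAlgebraic F L ^ s)), ?_, fun x => ?_⟩
  · have h1 := Module.finrank_mul_finrank F
      (IntermediateField.fixedField (zpowers (FiniteField.frobeniusAlgEquivOfAlgebraic F L ^ s))) L
    have hs0 : s ≠ 0 := by rintro rfl; omega
    have ht0 : 0 < t := Nat.pos_of_ne_zero (by rintro rfl; omega)
    rw [IntermediateField.finrank_fixedField_eq_card, Nat.card_zpowers, orderOf_pow' _ hs0,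
      FiniteField.orderOf_frobeniusAlgEquivOfAlgebraic, ht, Nat.gcd_mul_right_left, Nat.mul_div_cancel_left _
        (Nat.pos_of_ne_zero hs0)] at h1
    exact Nat.eq_of_mul_eq_mul_right ht0 h1
  · have h1 : (FiniteField.frobeniusAlgEquivOfAlgebraic F L ^ s) x = x ^ (Fintype.card F ^ s) := by
      rw [AlgEquiv.coe_pow, FiniteField.coe_frobeniusAlgEquivOfAlgebraic_iterate]
    rw [IntermediateField.mem_fixedField_iff, ← h1]
    exact ⟨fun h => h _ (mem_zpowers _), fun h g hg => (zpowers_le.2 (show _ ∈ MulAction.stabilizer _ x from h)) hg⟩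

theorem exists_sub {F : Type} [Field F] [Fintype F] {K : Subalgebra F (End F (VV m F))} (hK : IsField K) (h0 : K ≠ ⊥) :
    ∃ (s : ℕ) (K₀ : Subalgebra F (End F (VV m F))), s.Prime ∧ K₀ ≤ K ∧ IsField K₀ ∧ finrank F K₀ = s ∧
      ∀ k ∈ K, k ∈ K₀ ↔ k ^ (Fintype.card F ^ s) = k := by
  let _ : Field K := hK.toField
  have : Finite (End F (VV m F)) := Finite.of_injective _ DFunLike.coe_injective
  have : Nontrivial (End F (VV m F)) := Subtype.val_injective.nontrivial (α := K)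
  obtain ⟨s, hs, hd⟩ := Nat.exists_prime_and_dvd (n := finrank F K) fun h => h0 (Subalgebra.finrank_eq_one_iff.1 h)
  obtain ⟨Z, h1, h2⟩ := exists_mid F K hd
  let e := Subalgebra.equivMapOfInjective Z.toSubalgebra K.val Subtype.val_injective
  refine ⟨s, Z.toSubalgebra.map K.val, hs, ?_, e.symm.toMulEquiv.isField (Field.toIsField Z),
    e.toLinearEquiv.finrank_eq.symm.trans h1, fun k hk => ⟨?_, fun h => ⟨⟨k, hk⟩, (h2 _).2 (Subtype.ext h), rfl⟩⟩⟩
  · rintro _ ⟨x, -, rfl⟩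
    exact x.2
  · rintro ⟨x, hx, rfl⟩
    exact congrArg Subtype.val ((h2 x).1 hx)

/-- a field with an element which is not self-adjoint gives a quadratic form -/
theorem exists_form (h2 : (2 : F) = 0) (hK : IsField K) {k k' : End F (VV m F)} (hk : k ∈ K) (hk' : k' ∈ K) (hne : k ≠ k')
    (ha : ∀ u v, ff m F (k u) v = ff m F u (k' v)) :
    ∃ Q, Pol Q ∧ ∀ g ∈ Sp m F, (∀ k ∈ K, ∃ k' ∈ K, ∀ v, k' (g v) = g (k v)) → g ∈ O Q := by
  obtain ⟨c, hc, h1, h3⟩ := inv hK (K.sub_mem hk hk') (sub_ne_zero.2 hne)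
  have h4 : ∀ u v, ff m F ((k - k') u) v = ff m F u ((k - k') v) := fun u v => by
    rw [LinearMap.sub_apply, LinearMap.sub_apply, map_sub, map_sub, LinearMap.sub_apply, ha u v, ff_comm h2 (k' u), ← ha v u,
      ff_comm h2 (k v)]
    linear_combination (ff m F u (k' v) - ff m F u (k v)) * h2
  have h5 : ∀ u v, ff m F ((k * c) u) v + ff m F ((k * c) v) u = ff m F u v := fun u v => by
    obtain ⟨u, rfl⟩ : ∃ w, (k - k') w = u := ⟨_, h1 u⟩
    have h6 : ff m F (c v) ((k - k') (k' u)) = ff m F v (k' u) := by rw [← h4, h1]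
    rw [End.mul_apply, End.mul_apply, h3, ha (c v), comm hK hk' (K.sub_mem hk hk'), h6, ff_comm h2 v, LinearMap.sub_apply,
      map_sub, LinearMap.sub_apply]
    linear_combination (ff m F (k' u) v) * h2
  have hQ : ∀ v, LinearMap.BilinMap.toQuadraticMap ((ff m F).compl₁₂ (k * c) LinearMap.id) v = ff m F ((k * c) v) v := fun v => rfl
  refine ⟨LinearMap.BilinMap.toQuadraticMap ((ff m F).compl₁₂ (k * c) LinearMap.id), fun u v => ?_, fun g hg h v => ?_⟩
  · rw [LinearMap.BilinMap.polar_toQuadraticMap]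
    exact h5 u v
  · obtain ⟨j, hj, e⟩ := h _ (K.mul_mem hk hc)
    have h7 := alt h2 hK (K.add_mem (K.mul_mem hk hc) hj) (fun u w => by
      obtain ⟨u, rfl⟩ := g.surjective u
      obtain ⟨w, rfl⟩ := g.surjective w
      have h8 := h5 (g u) (g w)
      have h9 := h5 u w
      rw [ff_comm h2 (g u) (_ : VV m F), LinearMap.add_apply, LinearMap.add_apply, map_add, map_add, LinearMap.add_apply,
        LinearMap.add_apply, e, e, hg, hg]
      rw [hg] at h8
      linear_combination h8 + h9 + (ff m F u w - ff m F ((k * c) (g w)) (g u) - ff m F ((k * c) w) u) * h2) (g v)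
    rw [LinearMap.add_apply, map_add, LinearMap.add_apply, e, hg] at h7
    rw [hQ, hQ]
    linear_combination h7 - ff m F ((k * c) v) v * h2

section model

variable {b : ℕ} {L : Type} [Field L] [Algebra F L] [Finite L] {e : VV m F ≃+ VV b L}

theorem two_ext (L : Type) [Field L] [Algebra F L] (h2 : (2 : F) = 0) : (2 : L) = 0 := by
  rw [← map_ofNat (algebraMap F L) 2, h2, map_zero]

theorem tr_sq (h2 : (2 : F) = 0) (x : L) : Algebra.trace F L (x * x) = Algebra.trace F L x * Algebra.trace F L x := by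
  have := charP_two (two_ext L h2)
  have : FiniteDimensional F L := Module.Finite.of_finite
  apply (algebraMap F L).injective
  rw [map_mul (algebraMap F L), trace_eq_sum_automorphisms, trace_eq_sum_automorphisms, CharTwo.sum_mul_self]
  simp only [map_mul]

theorem t0_tr (h2 : (2 : F) = 0) {x : L} : T0 (Algebra.trace F L x) ↔ T0 x := by
  have : FiniteDimensional F L := Module.Finite.of_finite
  have h1 : ∀ y : L, T0 y → T0 (Algebra.trace F L y) := by
    rintro _ ⟨y, rfl⟩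
    exact ⟨_, by rw [map_add, tr_sq h2]⟩
  refine ⟨fun h => by_contra fun h3 => ?_, h1 x⟩
  obtain ⟨c, hc⟩ := exists_not_t0 h2
  obtain ⟨y, rfl⟩ := Algebra.trace_surjective F L c
  have h4 := h1 _ ((t0_add_iff' (two_ext L h2)).2 (iff_of_false h3 (mt (h1 y) hc)))
  rw [map_add, t0_add_iff' h2] at h4
  exact hc (h4.1 h)

theorem tr_alg (h2 : (2 : F) = 0) (ho : Odd (finrank F L)) (c : F) : Algebra.trace F L (algebraMap F L c) = c := by
  obtain ⟨t, ht⟩ := ho
  rw [Algebra.trace_algebraMap, ht, nsmul_eq_mul]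
  push_cast
  linear_combination (t * c) * h2

theorem exists_shift (h2 : (2 : F) = 0) (ho : Odd (finrank F L)) (x : L) : ∃ (c : L) (d : F), x + (c * c + c) = algebraMap F L d := by
  obtain ⟨c, hc⟩ : T0 (x + algebraMap F L (Algebra.trace F L x)) := (t0_tr h2).1 (by
    rw [map_add, tr_alg h2 ho, ← two_mul, h2, zero_mul]; exact t0_zero)
  exact ⟨c, _, by rw [hc, ← add_assoc, ← two_mul, two_ext L h2, zero_mul, zero_add]⟩

theorem mem_of_shift (h2 : (2 : F) = 0) (ho : Odd (finrank F L)) {c : L} {d : F} (h : c * c + c = algebraMap F L d) :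
    ∃ t : F, c = algebraMap F L t := by
  have h1 := congrArg (fun x => algebraMap F L (Algebra.trace F L x)) h
  simp only [map_add, tr_sq h2, tr_alg h2 ho, map_mul] at h1
  have h3 := two_ext L h2
  have h4 : (c - algebraMap F L (Algebra.trace F L c)) * (c - (algebraMap F L (Algebra.trace F L c) + 1)) = 0 := by
    linear_combination h + h1 + (algebraMap F L d - c - c * algebraMap F L (Algebra.trace F L c)) * h3
  rcases mul_eq_zero.1 h4 with k | k
  · exact ⟨_, sub_eq_zero.1 k⟩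
  · exact ⟨Algebra.trace F L c + 1, by rw [map_add, map_one]; exact sub_eq_zero.1 k⟩

/-- `L`-linear maps as `F`-linear maps -/
def pull (h : Mod K b L e) (φ : End L (VV b L)) : End F (VV m F) where
  toFun v := e.symm (φ (e v))
  map_add' u v := by rw [map_add, map_add, map_add]
  map_smul' c v := e.injective (by rw [h.smul, map_smul, RingHom.id_apply, h.smul, e.apply_symm_apply, e.apply_symm_apply])

theorem e_pull (h : Mod K b L e) (φ : End L (VV b L)) (v : VV m F) : e (pull h φ v) = φ (e v) := e.apply_symm_apply _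

theorem exists_sc (h : Mod K b L e) (c : L) : ∃ k ∈ K, ∀ v, e (k v) = c • e v :=
  ⟨pull h (c • LinearMap.id), (h.mem _).2 ⟨c, e_pull h _⟩, e_pull h _⟩

theorem exists_push (h : Mod K b L e) {k : End F (VV m F)} (hk : ∀ x ∈ K, ∀ v, k (x v) = x (k v)) :
    ∃ φ : End L (VV b L), ∀ v, φ (e v) = e (k v) :=
  ⟨{ toFun := fun v => e (k (e.symm v))
     map_add' := fun u v => by rw [map_add, map_add, map_add]
     map_smul' := fun c v => by
      obtain ⟨x, hx, h1⟩ := exists_sc h c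
      obtain ⟨v, rfl⟩ := e.surjective v
      rw [← h1, e.symm_apply_apply, e.symm_apply_apply, hk x hx, h1, RingHom.id_apply] },
    fun v => congrArg (fun w => e (k w)) (e.symm_apply_apply v)⟩

theorem lift (h2 : (2 : F) = 0) (h : Mod K b L e) {Q : QuadraticForm F (VV m F)} (hQ : Pol Q) :
    ∃ Q' : QuadraticForm L (VV b L), Pol Q' ∧ ∀ v, Q v = Algebra.trace F L (Q' (e v)) := by
  have h0 := pol_plus (m := b) (two_ext L h2)
  have h1 : ∀ u v, Algebra.trace F L (LieClassical.QuadForms.plusForm b L (e (u + v))) =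
      Algebra.trace F L (LieClassical.QuadForms.plusForm b L (e u)) +
        Algebra.trace F L (LieClassical.QuadForms.plusForm b L (e v)) + ff m F u v := fun u v => by
    rw [map_add, h0.add, map_add, map_add, h.form]
  let Q₀ : QuadraticForm F (VV m F) :=
    { toFun := fun v => Algebra.trace F L (LieClassical.QuadForms.plusForm b L (e v))
      toFun_smul := fun a v => by
        rw [h.smul, QuadraticMap.map_smul, ← map_mul, algebraMap_smul, map_smul]
      exists_companion' := ⟨ff m F, h1⟩ }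
  have h3 : Pol Q₀ := fun u v => by
    rw [polar, show Q₀ (u + v) = Q₀ u + Q₀ v + ff m F u v from h1 u v]
    ring
  obtain ⟨u, rfl⟩ := exists_ad h2 h3 hQ
  exact ⟨ad _ (e u), pol_ad (two_ext L h2) h0 _, fun v => by rw [ad_apply, ad_apply, map_add, tr_sq h2, ← h.form]; rfl⟩

/-- plus type: an invariant maximal totally singular subspace -/
theorem exists_ts (h2 : (2 : F) = 0) (h : Mod K b L e) {s : ℕ} (hm : m = s * b) (hc : Nat.card L = Nat.card F ^ s)
    {Q : QuadraticForm F (VV m F)} (hQ : Pol Q) (hp : IsPlus Q) :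
    ∃ W : Submodule F (VV m F), (∀ w ∈ W, Q w = 0) ∧ finrank F W = m ∧ ∀ k ∈ K, ∀ w ∈ W, k w ∈ W := by
  obtain ⟨Q', hQ', h1⟩ := lift h2 h hQ
  have := Fintype.ofFinite (VV m F)
  have := Fintype.ofFinite (VV b L)
  have h3 : gs Q' ⊤ = gs Q ⊤ := by
    rw [gs_top, gs_top, ← Equiv.sum_comp e.toEquiv]
    refine Finset.sum_congr rfl fun v _ => ?_
    rw [h1, psi, psi, t0_tr h2]
    rfl
  obtain ⟨U, hU, hd⟩ := (plus_iff (two_ext L h2) hQ').2 (h3 ▸ (plus_iff h2 hQ).1 hp)
  rw [finrank_VV] at hd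
  let W : Submodule F (VV m F) :=
    { carrier := {v | e v ∈ U}
      add_mem' := fun {u v} hu hv => show e (u + v) ∈ U from map_add e u v ▸ U.add_mem hu hv
      zero_mem' := show e 0 ∈ U from map_zero e ▸ U.zero_mem
      smul_mem' := fun c v hv => show e (c • v) ∈ U from h.smul c v ▸ U.smul_mem _ hv }
  refine ⟨W, fun w hw => by rw [h1, hU _ hw, map_zero], ?_, fun k hk w hw => ?_⟩
  · have h4 : Nat.card W = Nat.card U := Nat.card_congr (e.toEquiv.subtypeEquiv fun _ => Iff.rfl)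
    rw [Module.natCard_eq_pow_finrank (K := F) (V := W), Module.natCard_eq_pow_finrank (K := L) (V := U), hc, ← pow_mul] at h4
    rw [Nat.pow_right_injective Finite.one_lt_card h4, hm, show finrank L U = b by omega]
  · obtain ⟨c, hc⟩ := (h.mem k).1 hk
    exact show e (k w) ∈ U from hc w ▸ U.smul_mem _ hw

theorem exists_basis (L : Type) [Field L] : ∃ u v : VV 1 L, (∀ a b c d : L, ff 1 L (a • u + b • v) (c • u + d • v) = a * d - b * c) ∧
    ∀ w, ∃ a b : L, w = a • u + b • v := by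
  refine ⟨Pi.single (Sum.inr 0) 1, Pi.single (Sum.inl 0) 1, fun a b c d => ?_, fun w => ⟨w (Sum.inr 0), w (Sum.inl 0), ?_⟩⟩
  · have h1 : ff 1 L (Pi.single (Sum.inr 0) 1) (Pi.single (Sum.inl 0) 1) = 1 := by
      rw [ff_apply, sympForm_single_inr_left, Pi.single_eq_same]
    simp only [map_add, map_smul, LinearMap.add_apply, LinearMap.smul_apply, smul_eq_mul, ff_self,
      ff_swap (Pi.single (Sum.inl 0) 1 : VV 1 L) (Pi.single (Sum.inr 0) 1), h1]
    ring
  · ext (i | i) <;> obtain rfl : i = 0 := Subsingleton.elim _ _ <;> simp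

/-- a `K`-linear map which represents `Q` and is quadratic over `F` -/
structure QK (Q : QuadraticForm F (VV m F)) (K : Subalgebra F (End F (VV m F))) (k : End F (VV m F)) (d : F) : Prop where
  com : ∀ x ∈ K, ∀ v, k (x v) = x (k v)
  val : ∀ v, ff m F (k v) v = Q v
  sq : ∀ v, k (k v) + k v = d • v

theorem exists_qk (h2 : (2 : F) = 0) {e : VV m F ≃+ VV 1 L} (h : Mod K 1 L e) (ho : Odd (finrank F L))
    {Q : QuadraticForm F (VV m F)} (hQ : Pol Q) : ∃ k d, QK Q K k d := by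
  obtain ⟨Q', hQ', h1⟩ := lift h2 h hQ
  obtain ⟨u, v, hf, hb⟩ := exists_basis L
  obtain ⟨c, d, hd⟩ := exists_shift h2 ho (Q' u * Q' v)
  have h3 := two_ext L h2
  have h4 : ff 1 L u v = 1 := by simpa using hf 1 0 0 1
  let j : End L (VV 1 L) := ((ff 1 L).flip v).smulRight (u + Q' u • v) + (ff 1 L u).smulRight (Q' v • u) + c • LinearMap.id
  have hj : ∀ a b : L, j (a • u + b • v) = (a + b * Q' v + c * a) • u + (a * Q' u + c * b) • v := fun a b => by
    simp only [j, LinearMap.add_apply, LinearMap.smulRight_apply, LinearMap.smul_apply, LinearMap.id_apply, map_add, map_smul,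
      LinearMap.BilinForm.flip_apply, ff_self, h4]
    module
  refine ⟨pull h j, d, fun x hx w => e.injective ?_, fun w => ?_, fun w => e.injective ?_⟩
  · obtain ⟨t, ht⟩ := (h.mem x).1 hx
    rw [e_pull, ht, ht, e_pull, map_smul]
  · obtain ⟨a, b, hw⟩ := hb (e w)
    rw [h.form, e_pull, h1, hw, hj, hf, hQ'.add, QuadraticMap.map_smul, QuadraticMap.map_smul, map_smul, map_smul,
      LinearMap.smul_apply, h4]
    congr 1
    simp only [smul_eq_mul]
    linear_combination (-(a * a * Q' u)) * h3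
  · obtain ⟨a, b, hw⟩ := hb (e w)
    rw [map_add, e_pull, e_pull, h.smul, hw, hj, hj, ← hd]
    match_scalars
    · linear_combination (a + b * Q' v + c * a + c * b * Q' v) * h3
    · linear_combination (a * Q' u + c * a * Q' u) * h3

theorem qk_uniq (h2 : (2 : F) = 0) {e : VV m F ≃+ VV 1 L} (h : Mod K 1 L e) (ho : Odd (finrank F L))
    {Q : QuadraticForm F (VV m F)} {k k' : End F (VV m F)} {d d' : F} (h1 : QK Q K k d) (h3 : QK Q K k' d') :
    ∃ c : F, ∀ v, k' v = k v + c • v := by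
  have : FiniteDimensional F L := Module.Finite.of_finite
  obtain ⟨φ, hφ⟩ := exists_push h (k := k' - k) fun x hx v => by
    rw [LinearMap.sub_apply, LinearMap.sub_apply, map_sub, h1.com x hx, h3.com x hx]
  have h4 : ∀ w, ff 1 L (φ w) w = 0 := fun w => by
    by_contra h0
    obtain ⟨y, hy⟩ := Algebra.trace_surjective F L 1
    obtain ⟨c, hc⟩ := exists_sqrt (two_ext L h2) (y * (ff 1 L (φ w) w)⁻¹)
    obtain ⟨v, hv⟩ := e.surjective (c • w)
    have h5 := h.form ((k' - k) v) v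
    rw [← hφ, hv, map_smul φ, LinearMap.map_smul₂, map_smul (ff 1 L (φ w)), smul_eq_mul, smul_eq_mul, ← mul_assoc, hc, mul_assoc,
      inv_mul_cancel₀ h0, mul_one, hy, LinearMap.sub_apply, map_sub, LinearMap.sub_apply, h1.val, h3.val, sub_self] at h5
    exact zero_ne_one h5
  obtain ⟨u, v, hf, hb⟩ := exists_basis L
  obtain ⟨a, b, ha⟩ := hb (φ u)
  obtain ⟨a', b', ha'⟩ := hb (φ v)
  have h5 : ∀ s t : L, (s * a + t * a') * t - (s * b + t * b') * s = 0 := fun s t => by
    rw [← hf, ← h4 (s • u + t • v), map_add φ, map_smul φ, map_smul φ, ha, ha']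
    congr 2
    module
  have h6 : ∀ w, φ w = a • w := fun w => by
    obtain ⟨s, t, rfl⟩ := hb w
    rw [map_add, map_smul, map_smul, ha, ha', show b = 0 by linear_combination - h5 1 0, show a' = 0 by linear_combination h5 0 1,
      show b' = a by linear_combination h5 1 0 + h5 0 1 - h5 1 1]
    module
  obtain ⟨x, hx, h7⟩ := exists_sc h a
  have h8 : ∀ w, k' w = k w + x w := fun w => eq_add_of_sub_eq' (e.injective ((hφ w).symm.trans ((h6 _).trans (h7 w).symm)))
  obtain ⟨w, rfl⟩ := e.surjective u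
  have h9 := h3.sq w
  rw [h8, h8, map_add, map_add, h1.com x hx] at h9
  have h10 : x (x w) + x w = (d' - d) • w := by
    rw [sub_smul, ← h9, ← h1.sq]
    exact (show _ = _ + (2 : F) • x (k w) from by rw [h2, zero_smul, add_zero]).trans (by module)
  have h11 := congrArg e h10
  rw [map_add, h7, h7, h.smul, smul_smul, ← add_smul] at h11
  obtain ⟨t, rfl⟩ := mem_of_shift h2 ho (smul_left_injective L (fun h0 => by simpa [h0] using hf 1 0 0 1) h11)
  exact ⟨t, fun w => by rw [h8, e.injective ((h7 w).trans (h.smul t w).symm)]⟩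

end model

variable {Q : QuadraticForm F (VV m F)} {k : End F (VV m F)} {d : F}

theorem QK.adj (h2 : (2 : F) = 0) (hQ : Pol Q) (h : QK Q K k d) (u v : VV m F) :
    ff m F u (k v) = ff m F (k u) v + ff m F u v := by
  have h1 := h.val (u + v)
  simp only [map_add, LinearMap.add_apply, hQ.add, h.val] at h1
  rw [ff_comm h2 u]
  linear_combination h1 - ff m F (k u) v * h2


/-- the class of `k` modulo scalars -/
def cl (k : End F (VV m F)) : Set (End F (VV m F)) := {j | ∃ c : F, ∀ v, j v = k v + c • v}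

theorem QK.not_refl (hm : 3 ≤ m) (h2 : (2 : F) = 0) (hQ : Pol Q) (h : QK Q K k d) : ∃ g ∈ O Q, pm g ∉ nm (cl k) := by
  obtain ⟨z, -, hz⟩ := exists_nonsing_mem hQ nd_top (top_ne_bot' (by omega))
  refine ⟨tv z (Q z)⁻¹, fun v => by
    rw [hQ.tv, mul_assoc, inv_mul_cancel₀ hz, mul_one, ← two_mul, h2, zero_mul, zero_mul, add_zero], fun h1 => hz ?_⟩
  obtain ⟨j, ⟨c, hc⟩, e⟩ := h1.1 k ⟨0, fun v => by rw [zero_smul, add_zero]⟩
  obtain ⟨v, hv, h3, -, h4, -⟩ := exists_four hm k z z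
  have h5 := e v
  rw [pm_apply, pm_apply, tv_apply, tv_apply, h3, h4, mul_zero, zero_smul, add_zero, add_zero, hc, add_eq_left,
    smul_eq_zero, or_iff_left hv] at h5
  obtain rfl : j = k := LinearMap.ext fun w => by rw [hc, h5, zero_smul, add_zero]
  obtain ⟨l, hl⟩ := eig (by rintro rfl; exact hz (map_zero Q)) (inv_ne_zero hz) e
  rw [← h.val, hl, LinearMap.map_smul₂, ff_self, smul_zero]

theorem QK.exists_sing (hm : 3 ≤ m) (h2 : (2 : F) = 0) (hQ : Pol Q) (h : QK Q K k d) :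
    ∃ w, Q w = 0 ∧ ∀ l : F, k w ≠ l • w := by
  by_contra! h0
  have hG : Good Q := LieClassical.OrthFinite.good_of_finite hQ.nondeg (by rw [finrank_VV]; omega)
  obtain ⟨x, y, hh⟩ := hG.exists_hyp
  obtain ⟨w, hw0, hw, h1, h3⟩ := hG.perp x y hh
  obtain ⟨c, hc⟩ := h0 w hw
  have key : ∀ x y, Hyp Q x y → polar Q x w = 0 → polar Q y w = 0 → k x = c • x := fun x y hh h1 h3 => by
    obtain ⟨a, ha⟩ := h0 x hh.left
    obtain ⟨r, hr⟩ := h0 (x + w) (by rw [Q_add, hh.left, hw, h1, add_zero, add_zero])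
    rw [map_add, ha, hc] at hr
    have h4 := congrArg (polar Q y) hr
    rw [polar_add_right, polar_smul_right, polar_smul_right, polar_smul_right, polar_add_right, hh.pair', h3, smul_zero,
      add_zero, add_zero, smul_eq_mul, smul_eq_mul, mul_one, mul_one] at h4
    rw [h4, smul_add, add_right_inj] at hr
    rw [ha, h4, smul_left_injective F hw0 hr]
  have h4 := h.adj h2 hQ x y
  rw [key x y hh h1 h3, key y x hh.symm h3 h1, map_smul, LinearMap.map_smul₂, left_eq_add, ← hQ, hh.pair] at h4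
  exact one_ne_zero h4

theorem QK.sieg (hm : 3 ≤ m) (h2 : (2 : F) = 0) (hQ : Pol Q) (h : QK Q K k d) (hK : IsField K) (hd : 3 ≤ finrank F K) :
    ∃ g ∈ O Q, pm g ∈ nm (cl k) ∧ g ∉ NE K := by
  obtain ⟨w, hw, hl⟩ := h.exists_sing hm h2 hQ
  have h1 : ff m F w (k w) = 0 := by rw [ff_comm h2, h.val, hw]
  have h3 : ∀ v, k (k v) = d • v - k v := fun v => eq_sub_of_add_eq (h.sq v)
  have h4 : Q (k w) = 0 := by rw [← h.val, h3, map_sub, LinearMap.sub_apply, LinearMap.map_smul₂, h1, ff_self, smul_zero, sub_zero]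
  let x := siegel Q w (k w) hw ((hQ _ _).trans h1)
  have hx : ∀ v, x v = v + (ff m F w v • k w - ff m F (k w) v • w) := fun v => by
    rw [siegel_apply, h4, zero_mul, zero_smul, sub_zero, hQ, hQ, add_sub_assoc]
  have hc : ∀ v, k (x v) = x (k v) := fun v => by
    rw [hx, hx, map_add, map_sub, map_smul, map_smul, h.adj h2 hQ, h.adj h2 hQ, h3, map_sub, LinearMap.sub_apply,
      LinearMap.map_smul₂]
    match_scalars
    · rfl
    · linear_combination (d * ff m F w v) * h2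
    · linear_combination (-(ff m F w v) - ff m F (k w) v) * h2
  have hj : ∀ j ∈ cl k, ∀ v, j (x v) = x (j v) := by
    rintro j ⟨c, e⟩ v
    rw [e, e, hc, map_add, map_smul]
  refine ⟨x, siegel_mem_O _ _, ⟨fun j hj' => ⟨j, hj', hj j hj'⟩, fun j hj' => ⟨j, hj', fun v => ?_⟩⟩, fun hn => ?_⟩
  · rw [Perm.eq_inv_iff_eq, pm_apply, ← hj j hj', ← pm_apply, (Perm.eq_inv_iff_eq (f := pm x)).1 rfl]
  have h5 : ∀ a ∈ K, ∀ v, a (x v) = x (a v) := fun a ha => by
    obtain ⟨a', ha', e⟩ := NE_conj hn a ha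
    obtain ⟨v, hv, k1, k2, k3, k4⟩ := exists_four hm a w (k w)
    have h6 := e v
    rw [hx, hx, ff_comm h2 w, ff_comm h2 w, ff_comm h2 (k w), ff_comm h2 (k w), k1, k2, k3, k4] at h6
    simp only [zero_smul, sub_self, add_zero] at h6
    rwa [eq_of hK ha' ha hv h6] at e
  have h6 := dvd_finrank hK (LinearMap.range ((x : VV m F →ₗ[F] VV m F) - LinearMap.id)) (by
    rintro a ha _ ⟨v, rfl⟩
    exact ⟨a v, by simp [h5 a ha]⟩)
  have h7 : LinearMap.range ((x : VV m F →ₗ[F] VV m F) - LinearMap.id) ≤ Submodule.span F (Set.range ![w, k w]) := by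
    rintro _ ⟨v, rfl⟩
    rw [LinearMap.sub_apply, LinearEquiv.coe_coe, hx, LinearMap.id_apply, add_sub_cancel_left]
    exact Submodule.sub_mem _ (Submodule.smul_mem _ _ (Submodule.subset_span ⟨1, rfl⟩))
      (Submodule.smul_mem _ _ (Submodule.subset_span ⟨0, rfl⟩))
  have h8 := (Submodule.finrank_mono h7).trans (finrank_range_le_card ![w, k w])
  rw [Fintype.card_fin] at h8
  have h9 := Submodule.finrank_eq_zero.1 (Nat.eq_zero_of_dvd_of_lt h6 (by omega))
  obtain ⟨v, hv⟩ := exists_ff_ne (v := w) (by rintro rfl; exact hl 0 (by simp))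
  have h10 := (Submodule.eq_bot_iff _).1 h9 _ ⟨v, rfl⟩
  rw [LinearMap.sub_apply, LinearEquiv.coe_coe, hx, LinearMap.id_apply, add_sub_cancel_left, ff_comm h2 w, hv, one_smul,
    sub_eq_zero] at h10
  exact hl _ h10

/-- conjugation by a semilinear map -/
theorem QK.conj (h : QK Q K k d) {g : Perm (VV m F)} {σ : F ≃+* F} {l : F}
    (hs : ClassicalGeometry.SympAutSemi.IsSemi g σ l) (hg : g ∈ nm (K : Set (End F (VV m F))))
    (hq : ∀ v, Q (g v) = l * σ (Q v)) : ∃ k', QK Q K k' (σ d) ∧ ∀ v, k' (g v) = g (k v) := by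
  let k' : End F (VV m F) :=
    { toFun := fun v => g (k (g.symm v))
      map_add' := fun u v => by
        obtain ⟨u, rfl⟩ := g.surjective u
        obtain ⟨v, rfl⟩ := g.surjective v
        rw [← hs.1, g.symm_apply_apply, g.symm_apply_apply, g.symm_apply_apply, map_add, hs.1]
      map_smul' := fun c v => by
        obtain ⟨v, rfl⟩ := g.surjective v
        obtain ⟨c, rfl⟩ := σ.surjective c
        rw [← hs.2.1, g.symm_apply_apply, g.symm_apply_apply, map_smul, hs.2.1, RingHom.id_apply] }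
  have e : ∀ v, k' (g v) = g (k v) := fun v => congrArg (fun w => g (k w)) (g.symm_apply_apply v)
  refine ⟨k', ⟨fun x hx v => ?_, fun v => ?_, fun v => ?_⟩, e⟩ <;> obtain ⟨v, rfl⟩ := g.surjective v
  · obtain ⟨y, hy, h1⟩ := hg.2 x hx
    have h3 : ∀ w, x (g w) = g (y w) := fun w => by
      have h4 := h1 (g w)
      rw [Perm.eq_inv_iff_eq, (Perm.inv_eq_iff_eq (f := g)).2 rfl] at h4
      exact h4.symm
    rw [h3, e, e, h3, h.com y hy]
  · rw [e, hq, ← h.val]
    exact hs.2.2 _ _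
  · rw [e, e, ← hs.1, h.sq, hs.2.1]

/-- plus type, degree two: a reflection is not in `Ω(Q) N(K)` -/
theorem not_fac (hm : 3 ≤ m) (h2 : (2 : F) = 0) (hQ : Pol Q) (hK : IsField K) (hd : finrank F K = 2)
    {W : Submodule F (VV m F)} (h1 : ∀ w ∈ W, Q w = 0) (h3 : finrank F W = m) (h4 : ∀ k ∈ K, ∀ w ∈ W, k w ∈ W) :
    ¬ ∀ g ∈ Sp m F, ∃ y ∈ NE K, ∃ x ∈ E Q, g = y * x := fun h => by
  have hG : Good Q := LieClassical.OrthFinite.good_of_finite hQ.nondeg (by rw [finrank_VV]; omega)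
  obtain ⟨w, hw, h0⟩ := (Submodule.ne_bot_iff W).1 (by rintro rfl; rw [finrank_bot] at h3; omega)
  obtain ⟨z, hz, hwz⟩ : ∃ z, Q z ≠ 0 ∧ ff m F z w = 1 := by
    obtain ⟨z, hz⟩ := exists_ff_ne h0
    by_cases h5 : Q z = 0
    · exact ⟨z + w, by rw [hQ.add, h5, h1 w hw, hz]; simp, by rw [map_add, LinearMap.add_apply, hz, ff_self, add_zero]⟩
    · exact ⟨z, h5, hz⟩
  have hr : tv z (Q z)⁻¹ ∈ O Q := fun v => by
    rw [hQ.tv, mul_assoc, inv_mul_cancel₀ hz, mul_one, ← two_mul, h2, zero_mul, zero_mul, add_zero]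
  obtain ⟨y, hy, x, hx, e⟩ := h _ (tv_mem z (Q z)⁻¹)
  have hyO : y ∈ O Q := by
    rw [eq_mul_inv_of_mul_eq e.symm]
    exact mul_mem hr (inv_mem (E_le_O hx))
  have ts : ∀ g ∈ O Q, ∀ u ∈ W.map (g : VV m F →ₗ[F] VV m F), Q u = 0 := by
    rintro g hg _ ⟨u, hu, rfl⟩
    exact (hg u).trans (h1 u hu)
  have h5 := ClassicalGeometry.TwoFamilies.even_intersections (ff m F) Q hQ.add sympBilin_nondegenerate sympBilin_isAlt.isRefl m
    finrank_VV W (W.map (y : VV m F →ₗ[F] VV m F)) (W.map (tv z (Q z)⁻¹ : VV m F →ₗ[F] VV m F)) h3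
    ((LinearEquiv.finrank_map_eq _ _).trans h3) ((LinearEquiv.finrank_map_eq _ _).trans h3) h1 (ts _ hyO) (ts _ hr)
  have h6 := H884.OmegaGL.even_finrank_inf_map hQ.nondeg h1 (by rw [finrank_VV, h3]) (hG.commutator_eq_E.ge hx)
  have h7 := dvd_finrank hK (W ⊓ W.map (y : VV m F →ₗ[F] VV m F)) (by
    rintro a ha _ ⟨hu, u, hu', rfl⟩
    obtain ⟨a', ha', e'⟩ := NE_conj (inv_mem hy) a ha
    refine ⟨h4 a ha _ hu, a' u, h4 a' ha' u hu', ?_⟩
    have h7 : a' (y.symm (y u)) = y.symm (a (y u)) := e' (y u)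
    rw [y.symm_apply_apply] at h7
    rw [h7]
    exact y.apply_symm_apply _)
  have h8 := dvd_finrank hK W h4
  have h9 : W.map (y : VV m F →ₗ[F] VV m F) ⊓ W.map (tv z (Q z)⁻¹ : VV m F →ₗ[F] VV m F) =
      (W ⊓ W.map (x : VV m F →ₗ[F] VV m F)).map (y : VV m F →ₗ[F] VV m F) := by
    rw [Submodule.map_inf _ y.injective, ← Submodule.map_comp, e]
    rfl
  have h10 : W ⊓ W.map (tv z (Q z)⁻¹ : VV m F →ₗ[F] VV m F) = (LinearMap.ker (ff m F z ∘ₗ W.subtype)).map W.subtype := by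
    ext u
    constructor
    · rintro ⟨hu, v, hv, rfl⟩
      rw [LinearEquiv.coe_coe, tv_apply] at hu ⊢
      have h10 := h1 _ ((W.add_mem_iff_right hv).1 hu)
      rw [QuadraticMap.map_smul, smul_eq_mul, mul_eq_zero, or_iff_left hz, mul_self_eq_zero] at h10
      refine ⟨⟨v, hv⟩, ?_, by rw [h10, zero_smul, add_zero]; rfl⟩
      exact ff_eq_zero_comm.1 ((mul_eq_zero.1 h10).resolve_left (inv_ne_zero hz))
    · rintro ⟨u, hu, rfl⟩
      exact ⟨u.2, u, u.2, by rw [LinearEquiv.coe_coe, tv_apply, show ff m F u z = 0 from ff_eq_zero_comm.1 hu, mul_zero,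
        zero_smul, add_zero]; rfl⟩
  have h11 := LinearMap.finrank_range_add_finrank_ker (ff m F z ∘ₗ W.subtype)
  rw [LinearMap.range_eq_top.2 fun c => ⟨c • ⟨w, hw⟩, by simp [-sympBilin_apply, hwz]⟩, finrank_top, finrank_self, h3] at h11
  rw [h9, h10, LinearEquiv.finrank_map_eq, Submodule.finrank_map_subtype_eq] at h5
  rw [h3] at h6 h8
  rw [hd] at h7 h8
  rw [Nat.even_iff] at h5 h6
  omega

end K4E

open K4E

/-- **`T = Ω(Q)`, extension fields.** -/
theorem boxK4Ext_of (KS : BoxKS) : BoxK4Ext := by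
  intro m F _ _ Ω _ _ X H T M S D a hm Q hO K hK h0 hadj hn
  have h2 := hO.two
  by_cases hs : ∀ k ∈ K, ∀ u v, ff m F (k u) v = ff m F u (k v)
  swap
  · push Not at hs
    obtain ⟨k, hk, u, v, h1⟩ := hs
    obtain ⟨k', hk', h3⟩ := hadj k hk
    obtain ⟨Q', h4, h5⟩ := exists_form h2 hK hk hk' (by rintro rfl; exact h1 (h3 u v)) h3
    exact .inl ⟨h2, Q', h4, fun g hg => h5 g (D.pre_le hg) (hn _ (D.pm_mem hg))⟩
  obtain ⟨s, K₀, hp, hle, hK₀, hd, hmem⟩ := exists_sub hK h0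
  have fs : FS s K₀ := ⟨hp, hK₀, hd, fun k hk => hs k (hle hk)⟩
  have hB : D.BB a ≤ nm (K₀ : Set (End F (VV m F))) := le_nm fun g hg k hk => by
    obtain ⟨k', hk', e⟩ := hn g hg k (hle hk)
    have h1 : ∀ (n : ℕ) v, (k' ^ n) (g v) = g ((k ^ n) v) := fun n => by
      induction n with
      | zero => exact fun _ => rfl
      | succ n ih => exact fun v => by rw [pow_succ, pow_succ, End.mul_apply, End.mul_apply, e, ih]
    refine ⟨k', (hmem k' hk').2 (LinearMap.ext fun v => ?_), e⟩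
    obtain ⟨v, rfl⟩ := g.surjective v
    rw [h1, (hmem k (hle hk)).1 hk, e]
  have hne : K₀ ≠ ⊥ := fun h => by
    have : Nontrivial (End F (VV m F)) := have := hK.nontrivial; Subtype.val_injective.nontrivial (α := K)
    exact hp.one_lt.ne' (hd.symm.trans (h ▸ Subalgebra.finrank_bot))
  have hC : D.C a = NE K₀ := Subgroup.ext fun g =>
    ⟨fun hg => (mem_NE (D.pre_le hg)).2 (hB (D.pm_mem hg)), fun hg =>
      (D.stabC a hB (not_tv hm hK₀ hne) hg.1).1 ((mem_NE hg.1).1 hg)⟩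
  obtain ⟨b, L, _, _, _, e, hb, hc, hmod⟩ := KS m F s K₀ (by omega) fs
  have hc' : Nat.card L = Nat.card F ^ s := by rwa [Nat.card_eq_fintype_card, Nat.card_eq_fintype_card]
  have hplus : IsPlus Q → Odd s := fun h => hp.eq_two_or_odd'.resolve_left fun h1 => by
    obtain ⟨W, k1, k2, k3⟩ := exists_ts h2 hmod hb hc' hO.pol h
    exact not_fac hm h2 hO.pol hK₀ (hd.trans h1) k1 k2 k3 fun g hg => hC ▸ hO.eqA ▸ D.fac' a hg
  refine .inr ⟨Q, s, K₀, hO, fs, ?_, hplus, hC⟩
  by_contra hlt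
  obtain rfl : b = 1 := by
    rcases b with _ | _ | b
    · omega
    · rfl
    · exact absurd (by have := hp.pos; nlinarith) hlt
  have ho : Odd (finrank F L) := by
    rw [Module.natCard_eq_pow_finrank (K := F) (V := L)] at hc'
    rw [Nat.pow_right_injective Finite.one_lt_card hc']
    exact hp.eq_two_or_odd'.resolve_left (by omega)
  obtain ⟨k, d, hk⟩ := exists_qk h2 hmod ho hO.pol
  have hY : D.HH ⊓ D.BB a ≤ nm (cl k) := le_nm fun g hg => by
    rintro j ⟨c, hj⟩
    obtain ⟨σ, l, -, hs⟩ := D.semi (D.hat_le hg.1)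
    obtain ⟨k', h1, h3⟩ := hk.conj hs (hB hg.2) (hO.sem g hg.1 σ l hs)
    obtain ⟨t, ht⟩ := qk_uniq h2 hmod ho hk h1
    exact ⟨k + (t + σ c) • LinearMap.id, ⟨t + σ c, fun _ => rfl⟩, fun v => by
      rw [hj, hs.1, hs.2.1, ← h3, ht, add_assoc, ← add_smul]; rfl⟩
  rcases D.cut (stab_covBy D.up.prim D.up.two a) D.up.ov.2 (K := nm (cl k)) (D.hat_inf.le.trans hY) with h | h
  · obtain ⟨g, hg, h1⟩ := hk.not_refl hm h2 hO.pol
    exact h1 (h (D.pm_mem (hO.eqN.ge hg)))
  · obtain ⟨g, hg, h1, h3⟩ := hk.sieg hm h2 hO.pol hK₀ (by omega)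
    exact h3 (hC.le ((D.pm_mem_hat (O_le_Sp hO.pol hg)).1 (D.hat_inf.le (h ⟨h1, D.pm_mem (hO.eqN.ge hg)⟩)).2))

end Cfsg.Agent.SM.Sy
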