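import Cfsg.Agent.SM.Sy.Api
import Cfsg.Agent.SM.Sy.FormB
import Cfsg.Agent.SM.Sy.Red

/-!
# SM (S3570), symplectic socles: `boxK4a`, `boxK3g_of` (helper2)
-/

set_option autoImplicit false
set_option linter.unusedSectionVars false
set_option linter.unusedVariables false

namespace Cfsg.Agent.SM.Sy

open Cfsg Equiv Subgroup MulAction Module QuadraticMap
open Cfsg.Agent.ClassicalGeometry.SympBasic Cfsg.Agent.ClassicalGeometry.SympAutSemi
open Cfsg.Agent.H925.Rs (Isos tvE spE)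
open Cfsg.Agent.LieClassical.OrthCore (O E E_le_O conj_mem_E)

namespace K4

section abstract

variable {Γ Γ' : Type} [Group Γ] [Group Γ'] {X T Y : Subgroup Γ}

/-- **Schreier**: a perfect subgroup of an almost simple group lies in the socle -/
theorem le_of_perf [Finite Γ] (h : AS X T) (hY : Y ≤ X) (hp : ⁅Y, Y⁆ = Y) : Y ≤ T := by
  have := h.simple
  have := S5758.result (G := T)
  have h1 : ⁅Y.subgroupOf X, Y.subgroupOf X⁆ = Y.subgroupOf X := map_injective X.subtype_injective (by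
    rw [map_commutator, subgroupOf_map_subtype, inf_eq_left.2 hY, hp])
  have h2 : (Y.subgroupOf X).map ((QuotientGroup.mk' (Inn T)).comp h.aut) = ⊥ := by
    by_contra k
    exact (Group.IsSolvable.commutator_lt_of_ne_bot k).ne (by rw [← map_commutator, h1])
  intro y hy
  have h3 : ((QuotientGroup.mk' (Inn T)).comp h.aut) ⟨y, hY hy⟩ = 1 := mem_bot.1 (h2 ▸ ⟨⟨y, hY hy⟩, hy, rfl⟩)
  obtain ⟨s, hs⟩ := (QuotientGroup.eq_one_iff _).1 h3
  have h4 : (s : Γ)⁻¹ * y = 1 := h.cen _ (X.mul_mem (X.inv_mem (h.le s.2)) (hY hy)) fun t ht => by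
    have h5 : (s : Γ) * t * (s : Γ)⁻¹ = y * t * y⁻¹ := congrArg (fun φ : MulAut T => (φ ⟨t, ht⟩ : Γ)) hs
    calc (s : Γ)⁻¹ * y * t = (s : Γ)⁻¹ * (y * t * y⁻¹) * y := by group
      _ = t * ((s : Γ)⁻¹ * y) := by rw [← h5]; group
  rw [← inv_mul_eq_one.1 h4]
  exact s.2

theorem as_comap {φ : Γ' →* Γ} (hφ : Function.Injective φ) (h : AS X T) (hT : T ≤ φ.range) :
    AS (X.comap φ) (T.comap φ) := by
  have e : T.comap φ ≃* T := (equivMapOfInjective _ φ hφ).trans (MulEquiv.subgroupCongr (map_comap_eq_self hT))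
  have := h.simple
  refine ⟨comap_mono h.le, fun g hg x hx => ?_, e.isSimpleGroup, fun hc => h.nab ⟨⟨fun a b => e.symm.injective ?_⟩⟩,
    fun g hg hc => hφ ((h.cen _ hg fun t ht => ?_).trans φ.map_one.symm)⟩
  · rw [mem_comap, map_mul, map_mul, map_inv]
    exact h.conj _ hg _ hx
  · rw [map_mul, map_mul]
    exact hc.is_comm.comm _ _
  · obtain ⟨s, rfl⟩ := hT ht
    rw [← map_mul, ← map_mul, hc s ht]

end abstract

variable {m : ℕ} {F : Type} [Field F]

theorem isSemi_pm {s : GG m F} (hs : s ∈ Sp m F) : IsSemi (pm s) (RingEquiv.refl F) 1 :=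
  ⟨fun u v => map_add s u v, fun a v => map_smul s a v, fun u v => (hs u v).trans (one_mul _).symm⟩

theorem exists_ne_zero (hm : 1 ≤ m) : ∃ x : VV m F, x ≠ 0 := by
  obtain ⟨x, -, h⟩ := Submodule.exists_mem_ne_zero_of_ne_bot (top_ne_bot' (F := F) hm)
  exact ⟨x, h⟩

theorem semi_ne_zero (hm : 1 ≤ m) {g : Perm (VV m F)} {σ : F ≃+* F} {l : F} (h : IsSemi g σ l) : l ≠ 0 := by
  rintro rfl
  obtain ⟨x, hx⟩ := exists_ne_zero (F := F) hm
  obtain ⟨y, hy⟩ := Rd.exists_ne hx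
  obtain ⟨u, rfl⟩ := g.surjective x
  obtain ⟨v, rfl⟩ := g.surjective y
  exact one_ne_zero (hy.symm.trans ((h.2.2 u v).trans (zero_mul _)))

theorem pm_conj {g : Perm (VV m F)} {s s' : GG m F} (e : pm s' = g * pm s * g⁻¹) (v : VV m F) : s' (g v) = g (s v) := by
  have h := congrArg (fun x : Perm (VV m F) => x (g v)) e
  simpa [pm_apply] using h

/-- the form `Q` read through a semisimilitude -/
def tw {Q : QuadraticForm F (VV m F)} (hQ : Pol Q) {g : Perm (VV m F)} {σ : F ≃+* F} {l : F} (hl : l ≠ 0) (h : IsSemi g σ l) :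
    QuadraticForm F (VV m F) where
  toFun v := σ.symm (l⁻¹ * Q (g v))
  toFun_smul a v := by
    rw [h.2.1, QuadraticMap.map_smul, smul_eq_mul, smul_eq_mul, mul_left_comm, map_mul, map_mul, σ.symm_apply_apply]
  exists_companion' := ⟨ff m F, fun u v => by
    rw [h.1, hQ.add, sympBilin_apply, h.2.2, mul_add, mul_add, map_add, map_add, inv_mul_cancel_left₀ hl,
      σ.symm_apply_apply, sympBilin_apply]⟩

theorem tw_apply {Q : QuadraticForm F (VV m F)} (hQ : Pol Q) {g : Perm (VV m F)} {σ : F ≃+* F} {l : F} (hl : l ≠ 0)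
    (h : IsSemi g σ l) (v : VV m F) : tw hQ hl h v = σ.symm (l⁻¹ * Q (g v)) := rfl

theorem pol_tw {Q : QuadraticForm F (VV m F)} (hQ : Pol Q) {g : Perm (VV m F)} {σ : F ≃+* F} {l : F} (hl : l ≠ 0)
    (h : IsSemi g σ l) : Pol (tw hQ hl h) := fun u v => by
  rw [polar, tw_apply, tw_apply, tw_apply, h.1, hQ.add, sympBilin_apply, h.2.2, mul_add, mul_add, map_add, map_add,
    inv_mul_cancel_left₀ hl, σ.symm_apply_apply, sympBilin_apply]
  ring

variable [Fintype F]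

theorem fin_GG : Finite (GG m F) := Finite.of_injective _ (DFunLike.coe_injective (F := GG m F))

theorem perf_Sp (h : 4 ≤ Fintype.card F) : ⁅Sp m F, Sp m F⁆ = Sp m F := by
  have h1 := congrArg (map ((Sp m F).subtype.comp (spE (m := m) (F := F)).toMonoidHom))
    (LieClassical.SympPerfect.commutator_eq_top (m := m) (F := F) (.inr (.inr h)))
  have h2 : map ((Sp m F).subtype.comp (spE (m := m) (F := F)).toMonoidHom) ⊤ = Sp m F := by
    rw [← map_map, map_top_of_surjective (spE (m := m) (F := F)).toMonoidHom spE.surjective, ← MonoidHom.range_eq_map,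
      range_subtype]
  rwa [_root_.commutator_def, map_commutator, h2] at h1

variable {Ω : Type} [Fintype Ω] [DecidableEq Ω] {X H T M S : Subgroup (Perm Ω)} (D : Fr m F X H T M S)

include D in
theorem one_le : 1 ≤ m := le_trans one_le_two D.two

theorem pi_inj (h2 : (2 : F) = 0) : Function.Injective D.π := (injective_iff_map_eq_one _).2 fun g hg => by
  obtain ⟨c, hc⟩ := (D.ker _).1 hg
  obtain ⟨x, hx⟩ := exists_ne_zero (F := F) (one_le D)
  obtain ⟨y, hy⟩ := Rd.exists_ne hx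
  have hc' : ∀ v, g.1 v = c • v := hc
  have h3 := g.2 x y
  rw [hc', hc', map_smul, map_smul, LinearMap.smul_apply, hy, smul_eq_mul, smul_eq_mul, mul_one] at h3
  have h4 : c = 1 := sub_eq_zero.1 (mul_self_eq_zero.1 (by linear_combination h3 + (1 - c) * h2))
  exact Subtype.ext (LinearEquiv.ext fun v => by rw [hc', h4, one_smul]; rfl)

/-- in characteristic two `N` is almost simple with socle `A` -/
theorem asN (h2 : (2 : F) = 0) : AS D.N D.A :=
  (as_comap (pi_inj D h2) D.up.socH.as fun t ht => (D.soc t).1 (D.up.le ht)).map (Sp m F).subtype_injective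

theorem pre_le (Y : Subgroup (Perm Ω)) : D.pre Y ≤ Sp m F := map_subtype_le _

/-- `HH` normalises `A` -/
theorem conjA {g : Perm (VV m F)} (hg : g ∈ D.HH) {s : GG m F} (hs : s ∈ D.A) : ∃ s' ∈ D.A, ∀ v, s' (g v) = g (s v) := by
  obtain ⟨h1, h3⟩ := (Rd.mem_pre D).1 hs
  obtain ⟨s', h4, e⟩ := Rd.exists_conj (Rd.hat_le D hg) h1
  obtain ⟨k1, k2⟩ := (Rd.mem_hat D).1 hg
  obtain ⟨k3, k4⟩ := (Rd.mem_hat D).1 h3
  refine ⟨s', (Rd.mem_pre D).2 ⟨h4, e ▸ (Rd.mem_hat D).2 ⟨mul_mem (mul_mem k1 k3) (inv_mem k1), ?_⟩⟩, pm_conj e⟩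
  have h5 := D.up.socH.conj _ k2 _ k4
  rwa [← map_inv, ← map_mul, ← map_mul] at h5

/-- `A` fixes no vector -/
theorem fixA (h2 : (2 : F) = 0) {u : VV m F} (hu : ∀ s ∈ D.A, s u = u) : u = 0 := by
  let W : Submodule F (VV m F) :=
    { carrier := {v | ∀ s ∈ D.A, s v = v}
      zero_mem' := fun s _ => map_zero s
      add_mem' := fun ha hb s hs => by rw [map_add, ha s hs, hb s hs]
      smul_mem' := fun c v hv s hs => by rw [map_smul, hv s hs] }
  rcases redH D W (fun g hg w hw s hs => by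
    obtain ⟨s', h3, e⟩ := conjA D (inv_mem hg) hs
    have h4 := e (g w)
    rw [show g⁻¹ (g w) = w from g.symm_apply_apply w, hw s' h3] at h4
    exact (Perm.eq_inv_iff_eq.1 h4).symm) with k | k
  · exact (Submodule.eq_bot_iff W).1 k u hu
  · exact absurd (eq_bot_iff.2 fun s hs => mem_bot.2 (LinearEquiv.ext fun v => (k.ge trivial : v ∈ W) s hs)) (asN D h2).ne_bot

variable {Q Q' : QuadraticForm F (VV m F)}

/-- `A` fixes at most one form -/
theorem uniqA (h2 : (2 : F) = 0) (hQ : Pol Q) (hQ' : Pol Q') (h : D.A ≤ O Q) (h' : D.A ≤ O Q') : Q' = Q := by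
  obtain ⟨u, rfl⟩ := exists_ad h2 hQ hQ'
  exact (ad_eq_self h2).2 (fixA D h2 fun s hs => (mem_O_ad h2 hQ (h hs)).1 (h' hs))

theorem sem (h2 : (2 : F) = 0) (hQ : Pol Q) (h : D.A ≤ O Q) {g : Perm (VV m F)} (hg : g ∈ D.HH) {σ : F ≃+* F} {l : F}
    (hs : IsSemi g σ l) (v : VV m F) : Q (g v) = l * σ (Q v) := by
  have hl := semi_ne_zero (one_le D) hs
  have h1 := uniqA D h2 hQ (pol_tw hQ hl hs) h fun s k v => by
    obtain ⟨s', h3, e⟩ := conjA D hg k
    rw [tw_apply, tw_apply, ← e, h h3]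
  conv_rhs => rw [← h1, tw_apply, σ.apply_symm_apply, mul_inv_cancel_left₀ hl]

theorem eqN (h2 : (2 : F) = 0) (hQ : Pol Q) (h : D.A ≤ O Q) : D.N = O Q := by
  refine le_antisymm (fun s hs v => ?_) fun s hs => ?_
  · obtain ⟨h1, h3⟩ := (Rd.mem_pre D).1 hs
    exact (sem D h2 hQ h h3 (isSemi_pm h1) v).trans (one_mul _)
  · refine (Rd.mem_pre D).2 ⟨O_le_Sp hQ hs, Rd.stab D D.up.hm (Y := Rd.sw {v | Q v = 0}) (Rd.le_sw fun g hg w hw => ?_)
      (fun k => ?_) (D.sp _ (O_le_Sp hQ hs)) fun v => (congrArg (· = 0) (hs v)).to_iff⟩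
    · obtain ⟨σ, l, -, k⟩ := Rd.hat_le D hg
      exact (sem D h2 hQ h hg k w).trans (by rw [show Q w = 0 from hw, map_zero, mul_zero])
    · obtain ⟨x, y, hh⟩ := exists_hyp_VV hQ D.two
      obtain ⟨w, -, hw⟩ := exists_nonsing_mem hQ nd_top (top_ne_bot' (one_le D))
      obtain ⟨g, hg, rfl⟩ := Rd.sp_trans hh.left_ne (show w ≠ 0 by rintro rfl; exact hw (map_zero Q))
      exact hw ((k g hg x).2 hh.left)

/-- **`T` fixes a form**: `T = Ω(Q)` -/
theorem om (h2 : (2 : F) = 0) (hQ : Pol Q) (h : D.A ≤ O Q) (hp : ⁅E Q, E Q⁆ = E Q) : D.Om Q := by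
  have := fin_GG (m := m) (F := F)
  have h1 : AS (O Q) D.A := eqN D h2 hQ h ▸ asN D h2
  refine ⟨h2, hQ, le_antisymm (h1.le_of_conj E_le_O (fun g hg x hx => conj_mem_E (h hg) hx) fun k => ?_)
    (le_of_perf h1 E_le_O hp), eqN D h2 hQ h, fun g hg σ l hs => sem D h2 hQ h hg hs⟩
  obtain ⟨x, hx⟩ := exists_ne_zero (F := F) (one_le D)
  exact hx (nofix hQ D.two fun g hg => by rw [mem_bot.1 (k.le hg)]; rfl)

/-! ### `q = 2` -/

theorem eq_zero_or_one (hq : Fintype.card F = 2) (c : F) : c = 0 ∨ c = 1 := by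
  by_contra! h
  have h1 := FiniteField.pow_card_sub_one_eq_one c h.1
  rw [hq, pow_one] at h1
  exact h.2 h1

theorem two_eq (hq : Fintype.card F = 2) : (2 : F) = 0 := by
  have h := FiniteField.cast_card_eq_zero F
  rwa [hq, Nat.cast_ofNat] at h

theorem HH_two (hq : Fintype.card F = 2) {g : Perm (VV m F)} (hg : g ∈ D.HH) : ∃ x ∈ D.N, pm x = g := by
  obtain ⟨x, hx, rfl⟩ := D.exists_pm_two hq (D.hat_le hg)
  exact ⟨x, (D.pm_mem_hat hx).1 hg, rfl⟩

theorem not_red (hq : Fintype.card F = 2) : ¬ H925.Rs.RedG D.N := fun ⟨W, h0, h1, h⟩ =>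
  (redH D W fun g hg w hw => by
    obtain ⟨x, hx, rfl⟩ := HH_two D hq hg
    exact h x hx w hw).elim h0 h1

theorem not_sub (hq : Fintype.card F = 2) {Y : Subgroup (GG m F)} : ¬ Sub Y := fun ⟨_, τ, h, _⟩ =>
  h (RingEquiv.ext fun c => by rcases eq_zero_or_one hq c with rfl | rfl <;> simp)

theorem not_dec (hq : Fintype.card F = 2) {t k : ℕ} {U : Fin t → Submodule F (VV m F)} (ht : 2 ≤ t) : ¬ Dec t k D.N U := by
  rintro ⟨h1, h3, h4, h5⟩
  have h2 := two_eq hq
  have h6 : ∀ i, ∃ u ∈ U i, u ≠ 0 := fun i => Submodule.exists_mem_ne_zero_of_ne_bot fun k0 =>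
    top_ne_bot' (F := F) (one_le D) (h4.symm.trans (iSup_eq_bot.2 fun j => Submodule.finrank_eq_zero.1 (by
      rw [(h1 j).2, ← (h1 i).2, k0, finrank_bot])))
  have h7 : ∀ g ∈ D.N, ∀ i, ∃ j, ∀ v, g v ∈ U j ↔ v ∈ U i := fun g hg i => by
    obtain ⟨j, e⟩ := h5 g hg i
    exact ⟨j, fun v => e ▸ ⟨fun ⟨w, hw, k⟩ => g.injective k ▸ hw, fun hv => ⟨v, hv, rfl⟩⟩⟩
  let i₀ : Fin t := ⟨0, by omega⟩
  let i₁ : Fin t := ⟨1, by omega⟩
  have h01 : i₀ ≠ i₁ := fun k => absurd (congrArg Fin.val k) zero_ne_one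
  obtain ⟨z, hz, hz0⟩ := h6 i₀
  obtain ⟨w, hw, hw0⟩ := h6 i₁
  have h8 : ∀ j, z + w ∉ U j := fun j k => by
    by_cases e : j = i₀
    · subst e
      exact hw0 ((h1 i₁).1 w hw fun x hx => ff_eq_zero_comm.1 (h3 _ _ h01 (((U i₀).add_mem_iff_right hz).1 k) x hx))
    · exact hz0 ((h1 i₀).1 z hz fun x hx => ff_eq_zero_comm.1
        ((((perp (U i₀)).add_mem_iff_left (h3 _ _ h01.symm hw)).1 (h3 _ _ e k)) x hx))
  have h9 : ∀ j, (tvE z 1).1 ∈ NS (U j) := fun j => Rd.tv_mem (by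
    by_cases e : i₀ = j
    · exact .inl (e ▸ hz)
    · exact .inr (h3 _ _ e hz)) 1
  have h10 : (tvE z (1 : F)).1 ∈ D.N := (D.stabH (K := Rd.sw {v | ∃ j, v ∈ U j}) (Rd.le_sw fun g hg v ⟨j, hj⟩ => by
      obtain ⟨x, hx, rfl⟩ := HH_two D hq hg
      obtain ⟨i, e⟩ := h7 x hx j
      exact ⟨i, (e v).2 hj⟩) (fun k => by
      obtain ⟨g, hg, e⟩ := Rd.sp_trans hz0 (show z + w ≠ 0 from fun k0 => h8 i₀ (k0 ▸ zero_mem _))
      obtain ⟨j, hj⟩ := (k g hg z).2 ⟨i₀, hz⟩
      exact h8 j (e ▸ hj)) (tvE z 1).2).1 fun v => exists_congr fun j => (h9 j).2 v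
  have h11 : (tvE z (1 : F)).1 ≠ 1 := fun k => Rd.tv_ne D.two hz0 (c := 1) fun v => by rw [k, one_smul]; rfl
  have h12 := (asN D h2).le_of_conj (N := D.N ⊓ ⨅ j, NS (U j)) inf_le_left (fun g hg x hx => by
      have hg' := D.A_le_N hg
      have k := mul_mem (mul_mem hg' hx.1) (inv_mem hg')
      refine ⟨k, mem_iInf.2 fun j => ⟨D.pre_le k, fun v => ?_⟩⟩
      obtain ⟨i, e⟩ := h7 _ (inv_mem hg') j
      rw [← e, ← e v, ← (mem_iInf.1 hx.2 i).2 (g⁻¹ v)]
      exact (congrArg (· ∈ U i) (g.symm_apply_apply _)).to_iff)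
    fun k => h11 (mem_bot.1 (k.le ⟨h10, mem_iInf.2 h9⟩))
  have h13 := (asN D h2).le_of_conj (N := D.N ⊓ fixingSubgroup (GG m F) (U i₁ : Set (VV m F))) inf_le_left (fun g hg x hx => by
      have hg' := D.A_le_N hg
      refine ⟨D.N.mul_mem (D.N.mul_mem hg' hx.1) (D.N.inv_mem hg'), (mem_fixingSubgroup_iff _).2 fun v hv => ?_⟩
      have k := (mem_fixingSubgroup_iff _).1 hx.2 (g⁻¹ v) (((mem_iInf.1 (h12 (D.A.inv_mem hg)).2 i₁).2 v).2 hv)
      exact (congrArg g k).trans (g.apply_symm_apply v))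
    fun k => h11 (mem_bot.1 (k.le ⟨h10, (mem_fixingSubgroup_iff _).2 fun v hv => by
      show (tvE z 1).1 v = v
      rw [Rd.tv_apply, show ff m F v z = 0 from h3 _ _ h01 hz v hv, mul_zero, zero_smul, add_zero]⟩))
  exact hw0 (fixA D h2 fun s hs => (mem_fixingSubgroup_iff _).1 (h13 hs).2 w hw)

/-- `Sp` normalises no field -/
theorem not_le_NE (hq : Fintype.card F = 2) (hm : 2 ≤ m) {s : ℕ} {K : Subalgebra F (End F (VV m F))} (h : FS s K) :
    ¬ Sp m F ≤ NE K := fun hle => by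
  have h1 : ∀ k ∈ K, ∀ w, w ≠ 0 → k w = 0 → k = 0 := fun k hk w hw e => by
    by_contra k0
    obtain ⟨j, hj⟩ := h.field.mul_inv_cancel (a := ⟨k, hk⟩) fun e => k0 (congrArg Subtype.val e)
    have h2 := congrArg (fun x : K => x.1 w) ((h.field.mul_comm _ _).trans hj)
    exact hw (h2.symm.trans ((congrArg j.1 e).trans (map_zero _)))
  have h2 : ∀ k ∈ K, k ≠ 0 → k = 1 := fun k hk k0 => LinearMap.ext fun z => by
    rcases eq_or_ne z 0 with rfl | hz
    · exact map_zero k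
    have h3 : (tv z (1 : F)).conj k ∈ K := ((hle (tv_mem z 1)).2 k _ fun v => by simp [LinearEquiv.conj_apply]).1 hk
    obtain ⟨w, hw, hw0⟩ := Submodule.exists_mem_ne_zero_of_ne_bot (p := LinearMap.ker (((ff m F).flip z).prod
      ((ff m F).flip z ∘ₗ k))) (LinearMap.ker_ne_bot_of_finrank_lt (by rw [finrank_VV, finrank_prod, finrank_self]; omega))
    have h4 : ff m F w z = 0 := congrArg Prod.fst hw
    have h5 : ff m F (k w) z = 0 := congrArg Prod.snd hw
    have h6 : tv z 1 w = w := by rw [tv_apply, h4, mul_zero, zero_smul, add_zero]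
    have h7 := sub_eq_zero.1 (h1 _ (K.sub_mem h3 hk) w hw0 (by
      rw [LinearMap.sub_apply, LinearEquiv.conj_apply_apply, (LinearEquiv.symm_apply_eq _).2 h6.symm, tv_apply, h5, mul_zero,
        zero_smul, add_zero, sub_self]))
    obtain ⟨v, hv⟩ := exists_ff_ne hz
    have h8 := LinearMap.congr_fun h7 (tv z 1 v)
    rw [LinearEquiv.conj_apply_apply, LinearEquiv.symm_apply_apply, tv_apply, tv_apply, hv, mul_one, one_smul, map_add,
      add_right_inj] at h8
    rcases eq_zero_or_one hq (1 * ff m F (k v) z) with e | e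
    · rw [e, zero_smul] at h8
      exact absurd (h1 k hk z hz h8.symm) k0
    · rw [← h8, e, one_smul]
      rfl
  have h3 : finrank F K ≤ 1 := finrank_le_one 1 fun k => by
    rcases eq_or_ne k.1 0 with e | e
    · exact ⟨0, Subtype.ext (by rw [zero_smul, e]; rfl)⟩
    · exact ⟨1, Subtype.ext (by rw [one_smul, h2 _ k.2 e]; rfl)⟩
  have h4 := h.prime.two_le
  rw [← h.dim] at h4
  omega

section model

variable {K : Subalgebra F (End F (VV m F))} {b : ℕ} {K' : Type} [Field K'] [Fintype K'] [Algebra F K'] {e : VV m F ≃+ VV b K'}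

theorem symm_smul (h : Mod K b K' e) (c : F) (x : VV b K') : e.symm (algebraMap F K' c • x) = c • e.symm x :=
  e.injective (by rw [h.smul, e.apply_symm_apply, e.apply_symm_apply])

/-- `K'`-linear maps as `F`-linear maps -/
def lf (h : Mod K b K' e) : GG b K' →* GG m F where
  toFun g := ((e.trans g.toAddEquiv).trans e.symm).toLinearEquiv fun c v => by
    show e.symm (g (e (c • v))) = c • e.symm (g (e v))
    rw [h.smul, map_smul, symm_smul h]
  map_one' := LinearEquiv.ext fun v => e.symm_apply_apply v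
  map_mul' g g' := LinearEquiv.ext fun v => congrArg (fun x => e.symm (g x)) (e.apply_symm_apply _).symm

theorem e_lf (h : Mod K b K' e) (g : GG b K') (v : VV m F) : e (lf h g v) = g (e v) := e.apply_symm_apply _

theorem exists_k (h : Mod K b K' e) (c : K') : ∃ k ∈ K, ∀ v, e (k v) = c • e v :=
  ⟨{ toFun := fun v => e.symm (c • e v)
     map_add' := fun u v => by rw [map_add, smul_add, map_add]
     map_smul' := fun a v => by rw [h.smul, smul_comm, symm_smul h]; rfl },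
    (h.mem _).2 ⟨c, fun v => e.apply_symm_apply _⟩, fun v => e.apply_symm_apply _⟩

theorem CE_eq (h : Mod K b K' e) : CE K = (Sp b K').map (lf h) := by
  refine le_antisymm (fun g hg => ?_) ?_
  · have h1 : ∀ (c : K') x, e (g (e.symm (c • x))) = c • e (g (e.symm x)) := fun c x => by
      obtain ⟨k, hk, h2⟩ := exists_k h c
      rw [← h2, hg.2 k hk, ← e.symm_apply_apply (k _), h2, e.apply_symm_apply]
    refine ⟨((e.symm.trans g.toAddEquiv).trans e).toLinearEquiv h1, fun x y => ?_, LinearEquiv.ext fun v => e.injective ?_⟩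
    · refine sub_eq_zero.1 ((traceForm_nondegenerate F K').1 _ fun c => ?_)
      have h2 := hg.1 (e.symm (c • x)) (e.symm y)
      rw [h.form, h.form, h1, e.apply_symm_apply, e.apply_symm_apply, map_smul, map_smul] at h2
      rw [Algebra.traceForm_apply, sub_mul, map_sub, mul_comm, mul_comm _ c]
      exact sub_eq_zero.2 h2
    · rw [e_lf]
      exact congrArg (fun x => e (g x)) (e.symm_apply_apply v)
  · rintro _ ⟨g, hg, rfl⟩
    refine ⟨fun u v => by rw [h.form, h.form, e_lf, e_lf, hg], fun k hk v => e.injective ?_⟩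
    obtain ⟨c, hc⟩ := (h.mem k).1 hk
    rw [hc, e_lf, e_lf, hc, map_smul]

theorem perf_CE (h : Mod K b K' e) (h4 : 4 ≤ Fintype.card K') : ⁅CE K, CE K⁆ = CE K := by
  rw [CE_eq h, ← map_commutator, perf_Sp h4]

theorem CE_ne (h : Mod K b K' e) (hb : 1 ≤ b) : CE K ≠ ⊥ := fun k => by
  obtain ⟨z, hz⟩ := exists_ne_zero (F := K') hb
  obtain ⟨v, hv⟩ := exists_ff_ne hz
  have h1 := e_lf h (tv z 1) (e.symm v)
  rw [mem_bot.1 (k.le ((CE_eq h).ge ⟨_, tv_mem z 1, rfl⟩)), e.apply_symm_apply, tv_apply, hv, mul_one, one_smul] at h1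
  exact hz (add_eq_left.1 (h1.symm.trans (e.apply_symm_apply v)))

end model

theorem conj_CE {K : Subalgebra F (End F (VV m F))} {g x : GG m F} (hg : g ∈ NE K) (hx : x ∈ CE K) : g * x * g⁻¹ ∈ CE K :=
  ⟨mul_mem (mul_mem hg.1 hx.1) (inv_mem hg.1), fun k hk v => by
    have h1 : ∀ w, k (g w) = g (g.symm.conj k w) := fun w => by simp [LinearEquiv.conj_apply]
    have h2 := hx.2 _ ((hg.2 _ k h1).2 hk) (g.symm v)
    show k (g (x (g.symm v))) = g (x (g.symm (k v)))
    rw [h1, h2]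
    simp [LinearEquiv.conj_apply]⟩

/-- `N` normalises a field: `A` is its centraliser -/
theorem eq_CE (hK : BoxKS) (hq : Fintype.card F = 2) {s : ℕ} {K : Subalgebra F (End F (VV m F))} (h : FS s K)
    (hN : D.N ≤ NE K) : D.N = NE K ∧ D.A = CE K := by
  have := fin_GG (m := m) (F := F)
  have h1 : NE K = D.N := ((D.maxN hq).eq_or_eq hN fun g hg => hg.1).resolve_right fun k => not_le_NE hq D.two h k.ge
  have h2 : CE K ≤ D.N := h1 ▸ fun g hg => ⟨hg.1, fun k k' e => ⟨fun hk => by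
    rwa [show k' = k from LinearMap.ext fun v => by
      obtain ⟨w, rfl⟩ := g.surjective v
      rw [e, hg.2 k hk]], fun hk => by
    rwa [show k = k' from LinearMap.ext fun v => g.injective (by rw [← e, hg.2 k' hk])]⟩⟩
  obtain ⟨b, K', _, _, _, e, h3, h4, h5⟩ := hK m F s K (one_le D) h
  refine ⟨h1.symm, le_antisymm ((asN D (two_eq hq)).le_of_conj h2 (fun g hg x hx => conj_CE (hN (D.A_le_N hg)) hx)
    (CE_ne h5 (Nat.pos_of_ne_zero fun k => by have := D.two; rw [k, mul_zero] at h3; omega)))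
    (le_of_perf (asN D (two_eq hq)) h2 (perf_CE h5 ?_))⟩
  rw [h4, hq]
  exact Nat.pow_le_pow_right two_pos h.prime.two_le

end K4

/-- `T` fixes a form -/
theorem boxK4a : BoxK4a := fun m F _ _ Ω _ _ X H T M S D a ⟨h2, Q, hQ, h⟩ =>
  ⟨Q, K4.om D h2 hQ h (perf_E h2 hQ D.two (D.two.eq_or_lt.elim (fun k => .inr (D.ex k.symm)) .inl))⟩

/-- forms, `q = 2`: `H` geometric or residual -/
theorem boxK3g_of (hA : BoxAsch) (hK : BoxKS) : BoxK3g := fun m F _ _ Ω _ _ X H T M S D a hm Q hQ => by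
  have h2 := K4.two_eq hQ.1
  rcases hA m F D.N D.two D.ex h2 D.pre_le D.N_ne with h | ⟨t, k, U, ht, h⟩ | ⟨s, K, h, hN⟩ | h | ⟨Q', h, hN⟩ | h
  · exact absurd h (K4.not_red D hQ.1)
  · exact absurd h (K4.not_dec D hQ.1 ht)
  · exact .inl ⟨Q, s, K, hQ, h, (K4.eq_CE D hK hQ.1 h hN).2⟩
  · exact absurd h (K4.not_sub hQ.1)
  · obtain ⟨Q'', k⟩ := boxK4a m F Ω X H T M S D a ⟨h2, Q', h, D.A_le_N.trans hN⟩
    exact .inr (.inl ⟨Q'', Q, hQ, k⟩)
  · exact .inr (.inr h)

end Cfsg.Agent.SM.Sy
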