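import Cfsg.Agent.SM.Sy.Glue
import Cfsg.Agent.SM.Sy.CLa
import Cfsg.Agent.SM.Sy.CLb
import Cfsg.Agent.SM.Sy.CSb
import Cfsg.Agent.SM.Sy.K1
import Cfsg.Agent.SM.Sy.K2
import Cfsg.Agent.SM.Sy.K4a
import Cfsg.Agent.SM.Sy.K4C
import Cfsg.Agent.SM.Sy.K4E
import Cfsg.Agent.SM.Sy.K4R
import Cfsg.Agent.SM.Sy.KS
import Cfsg.Agent.SM.Sy.C4
import Cfsg.Agent.SM.Sy.C5
import Cfsg.Agent.SM.Sy.CO
import Cfsg.Agent.S5948

/-!
# SM (S3570), symplectic socles: the bound from the remaining boxes (helper92)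
-/

set_option autoImplicit false

namespace Cfsg.Agent.SM.Sy

theorem bnd_mid (asch : BoxAsch) (cs1 : CS.CS1) (cs2 : CS.CS2) (twoO : BoxTwoO) (twoE : BoxTwoE) (clc : BoxCLc) (b14 : Box14)
    (k2b : BoxK2b) (k3s : BoxK3s) (k4g : BoxK4g) (k4s : BoxK4s) (rp : BoxResP) (s3 : Sig3) (s7 : Sig7) (c3 : Cnt3)
    (c6a : Cnt6 3 6048 28) (c6b : Cnt6 3 6048 36) (c6c : Cnt6 4 1814400 120) (c6d : Cnt6 4 2448 136) (c7 : Cnt7) : Bnd fS RS :=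
  bnd_of twoO twoE boxK1
    (rows_of (boxCLa_of S5948.result b14) (boxCLb_of asch) clc boxK1 boxK2a k2b boxK3q (boxK3g_of asch boxKS) k3s boxK4a
      (boxK4p_of asch boxK4Red (boxK4Ext_of boxKS) boxK4Sub boxK4Dec boxDecT)
      (boxK4m_of asch boxK4Red (boxK4Ext_of boxKS) boxK4Sub boxK4Dec boxDecT) k4g k4s rp (boxResM_of cs1 cs2))
    s3 (fun m F _ _ Ω _ _ X H T M S D a hm h => by
      obtain ⟨-, b, s, h1, h2, h3, h4⟩ := sig4 m F Ω X H T M S D a h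
      exact ⟨b, s, h1, h2, h3 ▸ hm, h4⟩) sig5 s7 (sigO_of boxKS) (cntO_of boxKS) cnt5 cnt4 c3 c6a c6b c6c c6d c7

end Cfsg.Agent.SM.Sy
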