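import Cfsg.Agent.SM.Sy.TwoEG

/-!
# SM (S3570), `S = Sp₄(q)`, `q` even: a group which fixes a form in both frames has small Sylow `2`-subgroups (helper22)
-/

set_option autoImplicit false
set_option linter.unusedSectionVars false
set_option linter.unusedVariables false
set_option linter.unusedSimpArgs false

namespace Cfsg.Agent.SM.Sy.TE

open Cfsg Subgroup Module Matrix
open Cfsg.Agent.ClassicalGeometry.SympBasic Cfsg.Agent.ClassicalGeometry.Sp4Graph
open Cfsg.Agent.H910 Cfsg.Agent.H876

variable {F : Type} [Field F] [Finite F] [CharP F 2]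

theorem sep (d : F) : ∃ T : F → Prop, ∀ x y, (x + y = 0 ∨ x + y = d) → (T x ↔ T y) → x = y := by
  classical
  let _ : LinearOrder F := linearOrderOfSTO WellOrderingRel
  refine ⟨fun x => x < x + d, fun x y h k => ?_⟩
  rcases h with h | h
  · exact CharTwo.add_eq_zero.1 h
  · subst h
    dsimp only at k
    rw [← add_assoc, CharTwo.add_self_eq_zero, zero_add, add_comm x y, ← add_assoc, CharTwo.add_self_eq_zero, zero_add] at k
    rcases lt_trichotomy x y with h | h | h
    · exact absurd (k.1 h) h.asymm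
    · exact h
    · exact absurd (k.2 h) h.asymm

theorem root1 {x β : F} (h : x * x * β + x = 0) : x = 0 ∨ x = β⁻¹ :=
  (mul_eq_zero.1 (show x * (x * β + 1) = 0 by linear_combination h)).imp_right fun k =>
    eq_inv_of_mul_eq_one_left (CharTwo.add_eq_zero.1 k)

theorem root2 {x β d : F} (hd : d * d = β⁻¹) (h : x * x * (x * x) * β + x * x = 0) : x = 0 ∨ x = d :=
  (root1 h).imp mul_self_eq_zero.1 fun k => CharTwo.sq_injective (by simpa only [pow_two] using k.trans hd.symm)

/-- the equations of a unitriangular element which fixes a form -/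
def Eqs (α β δ a b c e : F) : Prop := a * a * α = 0 ∧ b * b * β + c * c * α + b = 0 ∧
  a * a * δ + (a * b + c) * (a * b + c) * β + e * e * α + e + a * (a * b + c) = 0

theorem eqs {Q : VV 2 F → F} (hQ : QF Q) {g : GL I4 F} {a b c e : F} (h : IsU g a b c e)
    (hg : ∀ v, Q ((g : Matrix I4 I4 F) *ᵥ v) = Q v) : Eqs (Q ea) (Q eb) (Q ed) a b c e := by
  have h1 := hg eb
  have h2 := hg ed
  have h3 := hg ec
  rw [h.b'] at h1
  rw [h.d'] at h2
  rw [h.c'] at h3
  simp only [hQ.2, hQ.1, form4] at h1 h2 h3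
  simp at h1 h2 h3
  exact ⟨by simpa using h1, by linear_combination h2, by linear_combination h3⟩

theorem isU_gr {y : G4 F} {a b c e : F} (h : IsU (spToGL 2 F y) a b c e) :
    IsU (spToGL 2 F (graphHom F y)) b (a * a) (a * a * b + a * c + e) (a * b * c + c * c + b * e) := by
  have t := two (F := F)
  have h1 : y.1 *ᵥ ea = _ := h.a'
  have h2 : y.1 *ᵥ eb = _ := h.b'
  have h3 : y.1 *ᵥ ec = _ := h.c'
  have h4 : y.1 *ᵥ ed = _ := h.d'
  have k1 := gr_wedge y (u := ea) (v := eb) (by simp [form4])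
  have k2 := gr_wedge y (u := ea) (v := ed) (by simp [form4])
  have k3 := gr_wedge y (u := ec) (v := ed) (by simp [form4])
  have k4 := gr_wedge y (u := ec) (v := eb) (by simp [form4])
  have e1 : wedge (ea : VV 2 F) eb = ea := by
    ext i; rcases i with i | i <;> fin_cases i <;> simp [wedge, pa, pb]
  have e2 : wedge (ea : VV 2 F) ed = eb := by
    ext i; rcases i with i | i <;> fin_cases i <;> simp [wedge, pa, pb]
  have e3 : wedge (ec : VV 2 F) ed = ec := by
    ext i; rcases i with i | i <;> fin_cases i <;> simp [wedge, pa, pb]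
  have e4 : wedge (ec : VV 2 F) eb = ed := by
    ext i; rcases i with i | i <;> fin_cases i <;> simp [wedge, pa, pb]
  rw [e1, h1, h2] at k1
  rw [e2, h1, h4] at k2
  rw [e3, h3, h4] at k3
  rw [e4, h3, h2] at k4
  refine ⟨k1.trans ?_, k2.trans ?_, k4.trans ?_, k3.trans ?_⟩
  · ext i; rcases i with i | i <;> fin_cases i <;> simp [wedge, pa, pb]
  · ext i; rcases i with i | i <;> fin_cases i <;> simp [wedge, pa, pb]
  · ext i; rcases i with i | i <;> fin_cases i <;> simp [wedge, pa, pb]
    linear_combination (0 : F) * t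
  · ext i; rcases i with i | i <;> fin_cases i <;> simp [wedge, pa, pb]
    · linear_combination (0 : F) * t
    · linear_combination (-(a * a * b)) * t

theorem cnt1 {ι : Type} {a b c e : ι → F} (hi : ∀ i j, a i = a j → b i = b j → c i = c j → e i = e j → i = j) {α β δ : F}
    (h : ∀ i, Eqs α β δ (a i) (b i) (c i) (e i)) (hα : α ≠ 0) : Nat.card ι ≤ Nat.card F * 2 := by
  obtain ⟨T, hT⟩ := sep α⁻¹
  have t := two (F := F)
  refine (Nat.card_le_card_of_injective (fun i => (b i, T (e i))) fun i j k => ?_).trans_eq (by simp)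
  obtain ⟨k1, k2⟩ := Prod.mk.inj k
  obtain ⟨i1, i2, i3⟩ := h i
  obtain ⟨j1, j2, j3⟩ := h j
  have a1 : a i = 0 := mul_self_eq_zero.1 ((mul_eq_zero.1 i1).resolve_right hα)
  have a2 : a j = 0 := mul_self_eq_zero.1 ((mul_eq_zero.1 j1).resolve_right hα)
  have c1 : c i = c j := CharTwo.sq_injective (mul_right_cancel₀ hα (by
    rw [k1] at i2
    linear_combination i2 - j2))
  rw [a1, c1] at i3
  rw [a2] at j3
  exact hi i j (a1.trans a2.symm) k1 c1 (hT _ _ (root1 (by
    linear_combination i3 + j3 + (e i * e j * α - c j * c j * β) * t)) k2.to_iff)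

theorem cnt2 {ι : Type} {a b c e : ι → F} (hi : ∀ i j, a i = a j → b i = b j → c i = c j → e i = e j → i = j)
    {β δ β' δ' : F} (h : ∀ i, Eqs 0 β δ (a i) (b i) (c i) (e i))
    (h' : ∀ i, Eqs 0 β' δ' (b i) (a i * a i) (a i * a i * b i + a i * c i + e i) (a i * b i * c i + c i * c i + b i * e i)) :
    Nat.card ι ≤ 8 := by
  have t := two (F := F)
  obtain ⟨d, hd⟩ := exists_sqrt t β'⁻¹
  obtain ⟨d', hd'⟩ := exists_sqrt t (β * β * β')⁻¹
  obtain ⟨T1, h1⟩ := sep d
  obtain ⟨T2, h2⟩ := sep β⁻¹
  obtain ⟨T3, h3⟩ := sep d'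
  refine (Nat.card_le_card_of_injective (fun i => (T1 (a i), T2 (b i), T3 (c i))) fun i j k => ?_).trans_eq (by simp)
  obtain ⟨k1, k⟩ := Prod.mk.inj k
  obtain ⟨k2, k3⟩ := Prod.mk.inj k
  obtain ⟨-, i2, i3⟩ := h i
  obtain ⟨-, j2, j3⟩ := h j
  obtain ⟨-, i4, i5⟩ := h' i
  obtain ⟨-, j4, j5⟩ := h' j
  have a1 : a i = a j := h1 _ _ (root2 hd (by
    linear_combination i4 + j4 + ((2 * a i ^ 3 * a j + 3 * a i ^ 2 * a j ^ 2 + 2 * a i * a j ^ 3) * β' + a i * a j) * t))
    k1.to_iff
  have b1 : b i = b j := h2 _ _ (root1 (by linear_combination i2 + j2 + (b i * b j * β) * t)) k2.to_iff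
  refine (fun k : c i = c j ∧ e i = e j => hi i j a1 b1 k.1 k.2) ?_
  rw [a1, b1] at i3 i5
  generalize a j = x at *
  generalize b j = y at *
  have e1 : e i = x * x * δ + (x * y + c i) * (x * y + c i) * β + x * (x * y + c i) := by
    linear_combination i3 - (x * x * δ + (x * y + c i) * (x * y + c i) * β + x * (x * y + c i)) * t
  have e2 : e j = x * x * δ + (x * y + c j) * (x * y + c j) * β + x * (x * y + c j) := by
    linear_combination j3 - (x * x * δ + (x * y + c j) * (x * y + c j) * β + x * (x * y + c j)) * t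
  have c1 : c i = c j := h3 _ _ (root2 hd' (by
    have f1 : x * c i + e i = x * x * δ + x * x * y + x * x * y * y * β + c i * c i * β := by
      linear_combination e1 + (x * c i + x * y * c i * β) * t
    have f2 : x * c j + e j = x * x * δ + x * x * y + x * x * y * y * β + c j * c j * β := by
      linear_combination e2 + (x * c j + x * y * c j * β) * t
    have g1 : y * y * δ' + (x * c i + e i) * (x * c i + e i) * β' + c i * c i = 0 := by
      linear_combination i5 - ((y * x * x * (y * x * x + (x * x * y + x * c i + e i)) + x * x * y * (x * c i + e i)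
        + x * x * y * x * x * y - x * x * y * x * x * y) * β' + x * y * c i + y * e i + y * y * x * x) * t
    have g2 : y * y * δ' + (x * c j + e j) * (x * c j + e j) * β' + c j * c j = 0 := by
      linear_combination j5 - ((y * x * x * (y * x * x + (x * x * y + x * c j + e j)) + x * x * y * (x * c j + e j)
        + x * x * y * x * x * y - x * x * y * x * x * y) * β' + x * y * c j + y * e j + y * y * x * x) * t
    rw [f1] at g1
    rw [f2] at g2
    generalize x * x * δ + x * x * y + x * x * y * y * β = w at g1 g2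
    linear_combination g1 + g2 + ((2 * c i ^ 3 * c j + 3 * c i ^ 2 * c j ^ 2 + 2 * c i * c j ^ 3) * (β * β * β') + c i * c j
      - y * y * δ' - (w * w + w * c i * c i * β + w * c j * c j * β) * β') * t)) k3.to_iff
  exact ⟨c1, by rw [e1, e2, c1]⟩

/-- a group which fixes a form in both frames -/
theorem fm_two (h4 : 4 ≤ Nat.card F) {C : Subgroup (G4 F)} (h1 : Fm C) (h2 : Fm (C.map (graphHom F))) {n : ℕ}
    (hn : 2 ^ n = Nat.card F ^ 2) : ¬ 2 ^ n ∣ Nat.card C := fun hd => by
  obtain ⟨Q, hQ, h1⟩ := h1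
  obtain ⟨Q', hQ', h2⟩ := h2
  have t := two (F := F)
  obtain ⟨P, hP⟩ := Sylow.exists_subgroup_card_pow_prime 2 hd
  obtain ⟨h, hh, hU⟩ := exists_flag (S := (P.map C.subtype).map (spToGL 2 F)) (((IsPGroup.of_card hP).map _).map _) (by
    rintro _ ⟨y, -, rfl⟩
    exact spToGL_mem y)
  obtain ⟨h, rfl⟩ := exists_spToGL hh
  choose a b c e hu using fun s : P => (hU _ ⟨_, ⟨s.1, s.2, rfl⟩, rfl⟩).exists
  simp only [← map_inv, ← map_mul] at hu
  have hi : ∀ i j, a i = a j → b i = b j → c i = c j → e i = e j → i = j := fun i j k1 k2 k3 k4 => by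
    have h3 := hu i
    rw [k1, k2, k3, k4] at h3
    exact Subtype.ext (Subtype.ext (mul_left_cancel (mul_right_cancel (spToGL_injective 2 (h3.ext (hu j))))))
  have hq : ∀ {Q : VV 2 F → F} (h : G4 F), QF Q → QF fun v => Q (h.1 *ᵥ v) := fun h hQ =>
    ⟨fun c v => by simp only [Matrix.mulVec_smul, hQ.1], fun u v => by simp only [Matrix.mulVec_add, hQ.2, sp]⟩
  have k1 := fun s : P => eqs (hq h hQ) (hu s) fun v => by
    rw [coe_spToGL, ← mulv, ← mul_assoc, mul_inv_cancel_left, mulv]
    exact h1 _ s.1.2 _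
  have k2 := fun s : P => eqs (hq (graphHom F h) hQ') (isU_gr (hu s)) fun v => by
    rw [coe_spToGL, ← mulv, ← map_mul, ← mul_assoc, mul_inv_cancel_left, map_mul, mulv]
    exact h2 _ ⟨_, s.1.2, rfl⟩ _
  rw [hn] at hP
  by_cases i1 : Q (h.1 *ᵥ ea) = 0
  · by_cases i2 : Q' ((graphHom F h).1 *ᵥ ea) = 0
    · simp only [i1] at k1
      simp only [i2] at k2
      have := cnt2 hi k1 k2
      nlinarith
    · have := cnt1 (fun i j j1 j2 j3 j4 => by
        have j5 : a i = a j := CharTwo.sq_injective (by simpa only [pow_two] using j2)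
        rw [j5, j1] at j3 j4
        have j6 : c i = c j := CharTwo.sq_injective (by
          linear_combination j4 - b j * j3)
        rw [j6] at j3
        exact hi i j j5 j1 j6 (add_left_cancel j3)) k2 i2
      nlinarith
  · have := cnt1 hi k1 i1
    nlinarith

end Cfsg.Agent.SM.Sy.TE
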