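import Cfsg.Agent.SM.Sy.TwoEL
import Cfsg.Agent.SM.Sy.TwoEU
import Cfsg.Agent.SM.Sy.K1
import Cfsg.Agent.SM.Sy.Api
import Cfsg.Agent.ClassicalGeometry.SympAutTwo

/-!
# SM (S3570), `S = Sp₄(q)`, `q ≥ 4` even: no overgroup (helper22)
-/

set_option autoImplicit false
set_option linter.unusedSectionVars false
set_option linter.unusedVariables false
set_option linter.unusedSimpArgs false

namespace Cfsg.Agent.SM.Sy

open Cfsg Equiv Subgroup MulAction Module Matrix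
open Cfsg.Agent.ClassicalGeometry.SympBasic Cfsg.Agent.ClassicalGeometry.Sp4Graph
open Cfsg.Agent.ClassicalGeometry.SympAutSemi Cfsg.Agent.ClassicalGeometry
open Cfsg.Agent.H925.Rs (spE prS tvE)

namespace TE

variable {Ω : Type} [Fintype Ω] [DecidableEq Ω] {F : Type} [Field F] [Fintype F] [CharP F 2] {X H T M S : Subgroup (Perm Ω)}

/-- `Sp₄(q) → S` -/
noncomputable def io (e : S ≃* PSp 2 F) : G4 F →* Perm Ω :=
  S.subtype.comp (e.symm.toMonoidHom.comp (QuotientGroup.mk' _))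

theorem io_apply (e : S ≃* PSp 2 F) (A : G4 F) : io e A = (e.symm (QuotientGroup.mk A) : S) := rfl

theorem io_inj (e : S ≃* PSp 2 F) : Function.Injective (io e) := fun _ _ h =>
  Sp4GraphAut.mk_injective one_le_two (e.symm.injective (Subtype.ext h))

theorem io_mem (e : S ≃* PSp 2 F) (A : G4 F) : io e A ∈ S := (e.symm (QuotientGroup.mk A)).2

theorem io_surj (e : S ≃* PSp 2 F) {s : Perm Ω} (hs : s ∈ S) : ∃ A, io e A = s := by
  obtain ⟨A, hA⟩ := QuotientGroup.mk_surjective (e ⟨s, hs⟩)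
  exact ⟨A, by rw [io_apply, hA, MulEquiv.symm_apply_apply]⟩

theorem io_range (e : S ≃* PSp 2 F) : (io e).range = S :=
  le_antisymm (by rintro _ ⟨A, rfl⟩; exact io_mem e A) fun _ hs => io_surj e hs

/-- preimages -/
noncomputable def ioE (e : S ≃* PSp 2 F) (Y : Subgroup (Perm Ω)) : Y.comap (io e) ≃* ↥(S ⊓ Y) :=
  ((Y.comap (io e)).equivMapOfInjective _ (io_inj e)).trans (MulEquiv.subgroupCongr (by rw [map_comap_eq, io_range]))

theorem io_gamma (e : S ≃* PSp 2 F) (Y : Subgroup (Perm Ω)) :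
    Y.comap (io (e.trans (Sp4GraphAut.gamma F))) = (Y.comap (io e)).map (graphHom F) := by
  ext z
  obtain ⟨y, rfl⟩ := (graphEquiv F).surjective z
  have h1 : io (e.trans (Sp4GraphAut.gamma F)) (graphHom F y) = io e y := by
    rw [io_apply, io_apply, ← Sp4GraphAut.gamma_mk, MulEquiv.symm_trans_apply, MulEquiv.symm_apply_apply]
  rw [graphEquiv_apply, mem_map_iff_mem (graphHom_injective F), mem_comap, mem_comap, h1]

/-- a frame, or the point stabiliser is conjugate to its dual -/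
theorem fr_or (u : Up X H T M S) (h4 : 4 ≤ Fintype.card F) (e : S ≃* PSp 2 F) (a : Ω) :
    (∃ D : Fr 2 F X H T M S, ∀ g, D.π g = prS e g) ∨ ∃ g : semiSim 2 F, ∀ y ∈ (stabilizer (Perm Ω) a).comap (io e),
      ∃ y' ∈ (stabilizer (Perm Ω) a).comap (io e), ∀ v, (graphHom F y).1 *ᵥ g.1 v = g.1 (y'.1 *ᵥ v) := by
  obtain ⟨θ, hinj, hθ⟩ := exists_theta u.socM.as e
  have th : ∀ (x : M) (A B : G4 F), (x : Perm Ω) * io e A * (x : Perm Ω)⁻¹ = io e B →
      θ x (QuotientGroup.mk A) = QuotientGroup.mk B := fun x A B h => by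
    have h1 := hθ x (e.symm (QuotientGroup.mk A)) (e.symm (QuotientGroup.mk B)) h
    rwa [MulEquiv.apply_symm_apply, MulEquiv.apply_symm_apply] at h1
  by_cases hall : ∀ x : M, θ x ∈ (Psi 2 F).range
  · refine .inl (exists_fr' u le_rfl (fun _ => by omega) e fun x v hv c hc => ?_)
    obtain ⟨v', hv', c', hc', h1⟩ := AutPSpCount.pres_of_mem_range (hall x) v hv c hc
    refine ⟨v', hv', c', hc', ?_⟩
    have h2 := hθ x (prS e (tvE v c)) ⟨_, u.socM.conj x x.2 _ (prS e (tvE v c)).2⟩ rfl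
    rw [tvE, e_prS, h1, ← e_prS e] at h2
    exact (congrArg Subtype.val (e.injective h2)).symm
  right
  push Not at hall
  obtain ⟨x, hx⟩ := hall
  obtain ⟨h, hh, s, hs, e1⟩ := (u.fac a).facH x x.2
  obtain ⟨B, rfl⟩ := io_surj e hs
  have h1 : θ ⟨_, u.socM.le hs⟩ ∈ (Psi 2 F).range := ⟨⟨pm (spE B).1, pm_semi (spE B).2⟩, MulEquiv.ext fun y => by
    obtain ⟨A, rfl⟩ := QuotientGroup.mk_surjective y
    rw [psi_pm, th _ A (B * A * B⁻¹) (by rw [map_mul, map_mul, map_inv])]⟩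
  have h2 : θ ⟨h, hh.2.1⟩ ∉ (Psi 2 F).range := fun k => hx (by
    rw [show x = ⟨h, hh.2.1⟩ * ⟨_, u.socM.le hs⟩ from Subtype.ext e1, map_mul]
    exact mul_mem k h1)
  have h3 : Sp4GraphAut.gamma F ∉ (Psi 2 F).range := fun k => by
    obtain ⟨w, -, d, -, h3⟩ := AutPSpCount.pres_of_mem_range k _ Sp4GraphAut.e1_ne_zero 1 one_ne_zero
    exact Sp4GraphAut.gamma_transv_ne one_ne_zero w d h3
  have ht : ∃ t : F, t ≠ 0 ∧ t ≠ 1 := by
    classical
    obtain ⟨t, -, ht⟩ := Finset.exists_mem_notMem_of_card_lt_card (s := ({0, 1} : Finset F)) (t := Finset.univ)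
      (Finset.card_le_two.trans_lt (by rw [Finset.card_univ]; omega))
    exact ⟨t, fun k => ht (by simp [k]), fun k => ht (by simp [k])⟩
  obtain ⟨g, hg⟩ := (mul_mem_iff_of_index_two (SympAutTwo.index_two ht fun α k =>
    SympAutExists.exists_semi le_rfl α k)).2 (iff_of_false h3 h2)
  refine ⟨g, fun y hy => ?_⟩
  obtain ⟨y', hy'⟩ := io_surj e (u.socM.conj h⁻¹ (inv_mem hh.2.1) _ (io_mem e y))
  refine ⟨y', ?_, fun v => ?_⟩
  · rw [mem_comap, hy']
    exact mul_mem (mul_mem (inv_mem hh.2.2) hy) (inv_mem (inv_mem hh.2.2))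
  have h5 := th ⟨h, hh.2.1⟩ y' y (by rw [hy']; group)
  have h6 : conjHom 2 F g y' = graphHom F y := Sp4GraphAut.mk_injective one_le_two (by
    rw [← Psi_mk, hg, MulAut.mul_apply, h5, Sp4GraphAut.gamma_mk])
  rw [← h6, ← rho_apply, rho_conjHom, Perm.mul_apply, Perm.mul_apply, perm_inv_apply_self, rho_apply]

/-- points and forms -/
theorem kill (u : Up X H T M S) (e : S ≃* PSp 2 F) (a : Ω) {f t : ℕ} {P : Prop} (hf : 2 ≤ f) (hF : Fintype.card F = 2 ^ f)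
    (h : Ty P f t) {C : Subgroup (G4 F)} (hC : (stabilizer (Perm Ω) a).comap (io e) = C) (hd : o4 (2 ^ f) ∣ t * Nat.card C) :
    ¬ (Pt C ∨ Fm C) := fun hc => by
  have h4 : 4 ≤ Fintype.card F := hF ▸ (Nat.pow_le_pow_right two_pos hf : 2 ^ 2 ≤ _)
  have hN : Nat.card F = 2 ^ f := Nat.card_eq_fintype_card.trans hF
  rcases fr_or u h4 e a with ⟨D, hD⟩ | ⟨⟨g, σ, l, hl, hs⟩, hg⟩
  · have h1 : ∀ g ∈ D.C a, ∃ y ∈ C, ∀ v, y.1 *ᵥ v = g v := fun g hg =>
      ⟨spE.symm ⟨g, D.pre_le hg⟩, hC.le ((congrArg (fun z : Perm Ω => z a) (hD ⟨g, D.pre_le hg⟩)).symm.trans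
        ((D.mem_C ⟨g, D.pre_le hg⟩).1 hg)), H925.Rs.spE_symm_apply _⟩
    rcases hc with ⟨x, hx, hc⟩ | ⟨Q, hQ, hc⟩
    · refine boxK1 _ _ _ _ _ _ _ _ D a ⟨x, hx, fun g hg => ?_⟩
      obtain ⟨y, hy, k⟩ := h1 g hg
      exact k x ▸ hc y hy
    · obtain ⟨_, h2, -⟩ := boxK3q _ _ _ _ _ _ _ _ D a ⟨two, ⟨Q, hQ.1, ff 2 F, hQ.2⟩, fun u v => by
        show Q (u + v) - Q u - Q v = sympForm 2 F u v
        rw [hQ.2]
        ring, fun g hg v => by
        obtain ⟨y, hy, k⟩ := h1 g hg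
        exact (congrArg Q (k v)).symm.trans (hc y hy v)⟩
      omega
  rw [hC] at hg
  rcases hc with ⟨x, hx, hc⟩ | ⟨Q, hQ, hc⟩
  · have h1 : Pt (C.map (graphHom F)) := ⟨g x, fun k => hx (g.injective (k.trans (IsSemi.zero hs).symm)), by
      rintro _ ⟨y, hy, rfl⟩
      obtain ⟨y', hy', k⟩ := hg y hy
      obtain ⟨c, hc⟩ := hc y' hy'
      exact ⟨σ c, by rw [k, hc]; exact hs.2.1 c x⟩⟩
    refine n2 hf h hd fun p hp hpd => ?_
    have := Fact.mk hp
    obtain ⟨y, hy⟩ := exists_prime_orderOf_dvd_card' p hpd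
    have h2 := orderOf_dvd_of_pow_eq_one (pt_pow ⟨x, hx, hc⟩ h1 y.2)
    rw [orderOf_coe, hy, hN, show 4 = 2 * 2 from rfl, mul_assoc] at h2
    exact (hp.dvd_mul.1 h2).elim (fun k => k.mul_right _) id
  · have h2 : ∀ w, g⁻¹ (g w) = w := fun w => perm_inv_apply_self g w
    refine fm_two (hN ▸ hF ▸ h4) ⟨Q, hQ, hc⟩ ⟨fun v => l * σ (Q (g⁻¹ v)), ⟨fun c v => ?_, fun v w => ?_⟩, ?_⟩
      (by rw [hN, ← pow_mul, mul_comm]) (n1 hf h hd)
    · obtain ⟨c, rfl⟩ := σ.surjective c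
      obtain ⟨v, rfl⟩ := g.surjective v
      simp only [← hs.2.1, h2, hQ.1, map_mul]
      ring
    · obtain ⟨v, rfl⟩ := g.surjective v
      obtain ⟨w, rfl⟩ := g.surjective w
      simp only [← hs.1, h2, hQ.2, map_add, hs.2.2]
      ring
    · rintro _ ⟨y, hy, rfl⟩ v
      obtain ⟨v, rfl⟩ := g.surjective v
      obtain ⟨y', hy', k⟩ := hg y hy
      have k' : (graphHom F y).1 *ᵥ g v = g (y'.1 *ᵥ v) := k v
      simp only [k', h2, hc y' hy']

end TE

open TE in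
/-- **`S = Sp₄(q)`, `q ≥ 4` even** -/
theorem boxTwoE : BoxTwoE := by
  rintro Ω _ _ X H T M S u ⟨F, _, _, h2, h4, ⟨e⟩⟩
  have : CharP F 2 := CharTwo.of_one_ne_zero_of_two_eq_zero one_ne_zero h2
  obtain ⟨⟨f, h0⟩, -, hF⟩ := FiniteField.card F 2
  change Fintype.card F = 2 ^ f at hF
  have hf : 2 ≤ f := (Nat.pow_le_pow_iff_right one_lt_two).1 (show 2 ^ 2 ≤ _ from hF ▸ h4)
  obtain ⟨a⟩ : Nonempty Ω := Fintype.card_pos_iff.1 (lt_of_lt_of_le two_pos u.two)
  let i : T.comap (io e) ≃* T := (ioE e T).trans (MulEquiv.subgroupCongr (inf_eq_right.2 u.le))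
  have := u.socH.simple
  have := i.isSimpleGroup
  have hT := ty hf hF (A := T.comap (io e)) (fun k => u.ne (le_antisymm (fun s hs => by
    obtain ⟨A, rfl⟩ := io_surj e hs
    exact k.ge (mem_top A)) u.le)) fun k => u.socH.nab ⟨⟨fun x y =>
      i.symm.injective (by rw [map_mul, map_mul, k.is_comm.comm])⟩⟩
  have hC : (stabilizer (Perm Ω) a).comap (io e) ≠ ⊤ := fun k => u.socH.not_le_stab u.prim u.two a fun s hs => by
    obtain ⟨A, rfl⟩ := io_surj e (u.le hs)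
    exact k.ge (mem_top A)
  have hc := (u.fac a).card_eq
  rw [← inf_assoc S, inf_eq_left.2 u.socM.le, ← Nat.card_congr (ioE e _).toEquiv, ← Nat.card_congr i.toEquiv,
    show Nat.card S = o4 (2 ^ f) by
      rw [← hF, ← card_G4, Nat.card_congr (MonoidHom.ofInjective (io_inj e)).toEquiv, io_range]] at hc
  have hd := Dvd.intro _ hc
  rcases list hf hF hC with k | k | ⟨b, s, hs, he, k⟩ | ⟨ho, k⟩
  · exact kill u e a hf hF hT rfl hd k
  · exact kill u _ a hf hF hT (io_gamma e _) (by rwa [card_map_of_injective (graphHom_injective F)]) k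
  · obtain ⟨h1, ⟨K, _, _, ⟨j⟩⟩, h3⟩ := n3 hf hs he hT (hd.trans (mul_dvd_mul_left _ k))
    rw [h3] at hc
    refine (u.fac a).not_comm fun x hx y hy => congrArg Subtype.val (comm_of_odd
      ((i.symm.trans j).toMonoidHom.comp (inclusion inf_le_left))
      ((i.symm.trans j).injective.comp (inclusion_injective _)) (n5 hf h1 hc k) ⟨y, hy⟩ ⟨x, hx⟩)
  · exact n4 hf ho hT (hd.trans (mul_dvd_mul_left _ k))

end Cfsg.Agent.SM.Sy
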