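import Cfsg.Agent.SM.Sy.Form
import Cfsg.Agent.H910.Unip

/-!
# SM (S3570), `S = Sp₄(q)`, `q` even: the graph automorphism, points, lines and forms (helper22)
-/

set_option autoImplicit false
set_option linter.unusedSectionVars false
set_option linter.unusedVariables false
set_option linter.unusedSimpArgs false

namespace Cfsg.Agent.SM.Sy.TE

open Cfsg Subgroup Module Matrix
open Cfsg.Agent.ClassicalGeometry.SympBasic Cfsg.Agent.ClassicalGeometry.Sp4Graph
open Cfsg.Agent.H910 Cfsg.Agent.H876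

/-- the group -/
abbrev G4 (F : Type) [Field F] := Matrix.symplecticGroup (Fin 2) F

variable {F : Type} [Field F] [Finite F] [CharP F 2]

/-- quadratic forms which polarise to the form, as functions -/
def QF (Q : VV 2 F → F) : Prop :=
  (∀ (c : F) v, Q (c • v) = c * c * Q v) ∧ ∀ u v, Q (u + v) = Q u + Q v + sympForm 2 F u v

/-- `C` fixes a point -/
def Pt (C : Subgroup (G4 F)) : Prop := ∃ x : VV 2 F, x ≠ 0 ∧ ∀ y ∈ C, ∃ c : F, y.1 *ᵥ x = c • x

/-- `C` fixes a form -/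
def Fm (C : Subgroup (G4 F)) : Prop := ∃ Q : VV 2 F → F, QF Q ∧ ∀ y ∈ C, ∀ v, Q (y.1 *ᵥ v) = Q v

theorem two : (2 : F) = 0 := CharTwo.two_eq_zero

theorem sp (y : G4 F) (u v : VV 2 F) : sympForm 2 F (y.1 *ᵥ u) (y.1 *ᵥ v) = sympForm 2 F u v := sympForm_mulVec y.2 u v

theorem mulv (y z : G4 F) (v : VV 2 F) : (y * z).1 *ᵥ v = y.1 *ᵥ (z.1 *ᵥ v) := (Matrix.mulVec_mulVec _ _ _).symm

theorem ext1 {y : G4 F} (h : ∀ v, y.1 *ᵥ v = v) : y = 1 :=
  Subtype.ext (Matrix.mulVec_injective (funext fun v => (h v).trans (Matrix.one_mulVec v).symm))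

theorem mulv_ne {y : G4 F} {v : VV 2 F} (h : v ≠ 0) : y.1 *ᵥ v ≠ 0 := fun k =>
  h (eq_zero_of_forall_sympForm_right fun w => by rw [← sp y, k, sympForm_zero_left])

theorem gr_wedge (y : G4 F) {u v : VV 2 F} (h : sympForm 2 F u v = 0) :
    (graphHom F y).1 *ᵥ wedge u v = wedge (y.1 *ᵥ u) (y.1 *ᵥ v) := mn_mulVec_wedge y.2 h

theorem wedge_lin (x y : VV 2 F) (a b c d : F) :
    wedge (a • x + b • y) (c • x + d • y) = (a * d + b * c) • wedge x y := by
  ext i
  simp only [wedge_apply, Pi.add_apply, Pi.smul_apply, smul_eq_mul]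
  linear_combination (a * c * x (pa i) * x (pb i) + b * d * y (pa i) * y (pb i)) * (two (F := F))

theorem wedge_right (x y z : VV 2 F) (a b : F) : wedge x (a • y + b • z) = a • wedge x y + b • wedge x z := by
  ext i
  simp only [wedge_apply, Pi.add_apply, Pi.smul_apply, smul_eq_mul]
  ring

theorem wedge_left (x y : VV 2 F) (a : F) : wedge (a • x) y = a • wedge x y := by
  ext i
  simp only [wedge_apply, Pi.smul_apply, smul_eq_mul]
  ring

theorem dep {x y : VV 2 F} (hx : x ≠ 0) (h : sympForm 2 F x y = 0) (h0 : wedge x y = 0) : ∃ c : F, y = c • x := by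
  have h1 := congrFun h0 (.inl 0)
  have h2 := congrFun h0 (.inl 1)
  have h3 := congrFun h0 (.inr 0)
  have h4 := congrFun h0 (.inr 1)
  simp only [wedge_apply, pa_inl, pa_inr, pb_inl0, pb_inl1, pb_inr0, pb_inr1, Pi.zero_apply] at h1 h2 h3 h4
  rw [sympForm_eq] at h
  have t := two (F := F)
  have h5 : x (.inl 0) * y (.inr 0) + x (.inr 0) * y (.inl 0) = 0 := mul_self_eq_zero.1 (by
    linear_combination (x (.inl 0) * y (.inr 0) + x (.inr 0) * y (.inl 0)) * h
      + (x (.inr 0) * y (.inr 1) + x (.inr 1) * y (.inr 0)) * h1 + (x (.inr 0) * y (.inl 1) + x (.inl 1) * y (.inr 0)) * h2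
      - (x (.inl 0) * x (.inr 0) * y (.inl 1) * y (.inr 1) + x (.inl 0) * x (.inr 1) * y (.inl 1) * y (.inr 0)
        + x (.inl 1) * x (.inr 0) * y (.inl 0) * y (.inr 1) + x (.inl 1) * x (.inr 1) * y (.inl 0) * y (.inr 0)
        + x (.inl 0) * x (.inl 1) * y (.inr 0) * y (.inr 1) + x (.inr 0) * x (.inr 1) * y (.inl 0) * y (.inl 1)) * t)
  have h6 : x (.inl 1) * y (.inr 1) + x (.inr 1) * y (.inl 1) = 0 := by linear_combination h - h5
  have h7 : ∀ i j, x i * y j + x j * y i = 0 := by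
    simp only [Sum.forall, Fin.forall_fin_two]
    refine ⟨⟨⟨⟨?_, h1⟩, h5, h2⟩, ⟨?_, ?_⟩, ?_, h6⟩, ⟨⟨?_, h4⟩, ?_, h3⟩, ⟨?_, ?_⟩, ?_, ?_⟩ <;>
      first
        | linear_combination h1
        | linear_combination h2
        | linear_combination h3
        | linear_combination h4
        | linear_combination h5
        | linear_combination h6
        | exact CharTwo.add_self_eq_zero _
  obtain ⟨i, hi⟩ := Function.ne_iff.1 hx
  refine ⟨y i * (x i)⁻¹, funext fun j => mul_left_cancel₀ hi ?_⟩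
  have hi' : x i ≠ 0 := hi
  rw [Pi.smul_apply, smul_eq_mul]
  field_simp
  linear_combination h7 i j - x j * y i * t

theorem form_wedge {x y z : VV 2 F} (h : sympForm 2 F x y = 0) (h' : sympForm 2 F x z = 0) :
    sympForm 2 F (wedge x y) (wedge x z) = 0 := by
  rw [sympForm_eq] at h h' ⊢
  have h3 := key2 _ _ _ _ _ _ _ _ _ _ _ _ _ _ _ _ h h'
  simp only [wedge_apply, pa_inl, pa_inr, pb_inl0, pb_inl1, pb_inr0, pb_inr1]
  rw [h'] at h3
  linear_combination h3 + (x (.inl 0) * x (.inr 0) + x (.inl 1) * x (.inr 1)) * (y (.inl 0) * z (.inr 0) +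
    y (.inr 0) * z (.inl 0) + y (.inl 1) * z (.inr 1) + y (.inr 1) * z (.inl 1)) * (two (F := F))

theorem ti_le {W : Submodule F (VV 2 F)} (hW : Ti W) : finrank F W ≤ 2 := by
  have h1 := Submodule.finrank_mono (show W ≤ perp W from fun w hw u hu => hW u hu w hw)
  have h2 := finrank_perp W
  omega

theorem span2 {W : Submodule F (VV 2 F)} (hW : finrank F W ≤ 2) {x y : VV 2 F} (hx : x ∈ W) (hy : y ∈ W) (h0 : x ≠ 0)
    (h : ∀ c : F, y ≠ c • x) {v : VV 2 F} (hv : v ∈ W) : ∃ a b : F, a • x + b • y = v := by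
  have h1 : LinearIndependent F ![x, y] := (LinearIndependent.pair_iff' h0).2 fun c e => h c e.symm
  have h2 : Submodule.span F (Set.range ![x, y]) = W := Submodule.eq_of_le_of_finrank_le (Submodule.span_le.2 (by
    rintro _ ⟨i, rfl⟩
    fin_cases i
    exacts [hx, hy])) (by rw [finrank_span_eq_card h1]; exact hW)
  rwa [← h2, Matrix.range_cons, Matrix.range_cons, Matrix.range_empty, Set.union_empty, Set.singleton_union,
    Submodule.mem_span_pair] at hv

/-- the stabiliser of a totally isotropic subspace -/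
theorem pt_of_ti {C : Subgroup (G4 F)} {W : Submodule F (VV 2 F)} (hW : Ti W) (h0 : W ≠ ⊥)
    (h : ∀ y ∈ C, ∀ w ∈ W, y.1 *ᵥ w ∈ W) : Pt C ∨ Pt (C.map (graphHom F)) := by
  obtain ⟨x, hx, hx0⟩ := W.exists_mem_ne_zero_of_ne_bot h0
  by_cases h1 : ∀ y ∈ W, ∃ c : F, y = c • x
  · exact .inl ⟨x, hx0, fun y hy => h1 _ (h y hy x hx)⟩
  push Not at h1
  obtain ⟨z, hz, h1⟩ := h1
  refine .inr ⟨wedge x z, fun k => ?_, ?_⟩
  · obtain ⟨c, hc⟩ := dep hx0 (hW x hx z hz) k
    exact h1 c hc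
  · rintro _ ⟨y, hy, rfl⟩
    obtain ⟨a, b, e1⟩ := span2 (ti_le hW) hx hz hx0 h1 (h y hy x hx)
    obtain ⟨c, d, e2⟩ := span2 (ti_le hW) hx hz hx0 h1 (h y hy z hz)
    exact ⟨_, by rw [gr_wedge y (hW x hx z hz), ← e1, ← e2, wedge_lin]⟩

theorem qf_qk (k : Matrix I4 I4 F) : QF (qk k) :=
  ⟨fun c v => by rw [(qk_nondeg (k := k)).smul, pow_two], fun u v => by
    rw [← polar_qk (k := k), QuadraticMap.polar]; ring⟩

/-- the normaliser of a quadratic algebra -/
theorem fm_of_sa {C : Subgroup (G4 F)} {k : Matrix I4 I4 F} (hk : SA k) (ht : tk k ≠ 0)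
    (h : ∀ y ∈ C, ∃ a : F, ∀ v, k *ᵥ (y.1 *ᵥ v) = y.1 *ᵥ (k *ᵥ v + a • v)) : Fm (C.map (graphHom F)) := by
  refine ⟨qk k, qf_qk k, ?_⟩
  rintro _ ⟨y, hy, rfl⟩ v
  obtain ⟨a, ha⟩ := h y hy
  obtain ⟨u, w, huw, rfl⟩ := exists_wedge v
  rw [gr_wedge y huw, hk.qk_wedge ht ((sp y u w).trans huw), hk.qk_wedge ht huw, ha, sp, sympForm_add_left,
    sympForm_smul_left, huw, mul_zero, add_zero]

/-- an element which fixes a flag -/
theorem flag_pow {W : Submodule F (VV 2 F)} (hW : Ti W) (h2 : 2 ≤ finrank F W) {g : G4 F} (hg : ∀ w ∈ W, g.1 *ᵥ w ∈ W)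
    {z : VV 2 F} (hz : z ≠ 0) {c : F} (h : g.1 *ᵥ z = c • z) : g ^ (4 * (Nat.card F - 1)) = 1 := by
  have e : W = perp W := Submodule.eq_of_le_of_finrank_le (fun w hw u hu => hW u hu w hw) (by
    have := finrank_perp W
    omega)
  have hc : c ≠ 0 := by
    rintro rfl
    exact mulv_ne hz (h.trans (zero_smul _ _))
  obtain ⟨x, hx, hx0, d, hd⟩ : ∃ x ∈ W, x ≠ 0 ∧ ∃ d : F, g.1 *ᵥ x = d • x := by
    by_cases h3 : z ∈ W
    · exact ⟨z, h3, hz, c, h⟩
    obtain ⟨w, hw, h4⟩ : ∃ w ∈ W, sympForm 2 F w z ≠ 0 := by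
      by_contra! k
      exact h3 (e ▸ k)
    have h5 : finrank F (W ⊓ perp (Submodule.span F {z}) : Submodule F _) = 1 := by
      have h6 := Submodule.finrank_sup_add_finrank_inf_eq W (perp (Submodule.span F {z}))
      have h7 := finrank_perp (Submodule.span F {z})
      have h8 := (Submodule.finrank_le (W ⊔ perp (Submodule.span F {z}))).trans_eq finrank_VV
      have h9 := Submodule.finrank_lt_finrank_of_lt (lt_of_le_of_ne
        (inf_le_left : W ⊓ perp (Submodule.span F {z}) ≤ W) fun k =>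
          h4 (ff_eq_zero_comm.1 ((k.ge hw).2 z (Submodule.mem_span_singleton_self z))))
      have := ti_le hW
      rw [finrank_span_singleton hz] at h7
      omega
    obtain ⟨x, hx0, hx⟩ := finrank_eq_one_iff'.1 h5
    obtain ⟨d, hd⟩ := hx ⟨g.1 *ᵥ x.1, hg _ x.2.1, fun u hu => by
      obtain ⟨a, rfl⟩ := Submodule.mem_span_singleton.1 hu
      have h6 : sympForm 2 F z x.1 = 0 := x.2.2 z (Submodule.mem_span_singleton_self z)
      rw [← sp g, h, sympForm_smul_left, mul_eq_zero, or_iff_right hc] at h6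
      exact (sympForm_smul_left _ _ _).trans (by rw [h6, mul_zero])⟩
    exact ⟨x.1, x.2.1, fun k => hx0 (Subtype.ext k), d, (congrArg Subtype.val hd).symm⟩
  obtain ⟨y, hy, hxy⟩ : ∃ y ∈ W, ∀ c : F, y ≠ c • x := by
    by_contra! k
    have h3 : W ≤ Submodule.span F {x} := fun w hw => by
      obtain ⟨a, rfl⟩ := k w hw
      exact Submodule.smul_mem _ _ (Submodule.mem_span_singleton_self x)
    have := (Submodule.finrank_mono h3).trans_eq (finrank_span_singleton hx0)
    omega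
  obtain ⟨a, b, hab⟩ := span2 (ti_le hW) hx hy hx0 hxy (hg y hy)
  have hd0 : d ≠ 0 := by
    rintro rfl
    exact mulv_ne hx0 (hd.trans (zero_smul _ _))
  have hb0 : b ≠ 0 := by
    rintro rfl
    refine hxy (a * d⁻¹) (sub_eq_zero.1 (by_contra fun k => mulv_ne (y := g) k ?_))
    rw [Matrix.mulVec_sub, Matrix.mulVec_smul, hd, ← hab, smul_smul, mul_assoc, inv_mul_cancel₀ hd0, mul_one, zero_smul,
      add_zero, sub_self]
  have h3 : ∀ n : ℕ, (g ^ n).1 *ᵥ x = d ^ n • x ∧ ∃ a' : F, (g ^ n).1 *ᵥ y = a' • x + b ^ n • y := fun n => by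
    induction n with
    | zero => exact ⟨by simp, 0, by simp⟩
    | succ n ih =>
      obtain ⟨i1, a', i2⟩ := ih
      rw [pow_succ', mulv, mulv, i1, i2, Matrix.mulVec_add, Matrix.mulVec_smul, Matrix.mulVec_smul, Matrix.mulVec_smul, hd,
        ← hab]
      exact ⟨by rw [smul_smul, pow_succ], a' * d + b ^ n * a, by rw [pow_succ]; module⟩
  have := Fintype.ofFinite F
  obtain ⟨h4, a', h5⟩ := h3 (Nat.card F - 1)
  rw [Nat.card_eq_fintype_card, FiniteField.pow_card_sub_one_eq_one _ hd0, one_smul] at h4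
  rw [Nat.card_eq_fintype_card, FiniteField.pow_card_sub_one_eq_one _ hb0, one_smul] at h5
  rw [Nat.card_eq_fintype_card, mul_comm, pow_mul]
  generalize g ^ (Fintype.card F - 1) = s at h4 h5
  have h6 : ∀ w ∈ W, (s * s).1 *ᵥ w = w := fun w hw => by
    obtain ⟨i, j, rfl⟩ := span2 (ti_le hW) hx hy hx0 hxy hw
    simp only [mulv, Matrix.mulVec_add, Matrix.mulVec_smul, h4, h5]
    rw [← add_assoc (a' • x), add_self_VV two, zero_add]
  rw [show s ^ 4 = s * s * (s * s) by simp only [pow_succ, pow_zero, one_mul, mul_assoc]]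
  generalize s * s = r at h6
  refine ext1 fun v => ?_
  have h7 : r.1 *ᵥ v - v ∈ W := e ▸ fun w hw => by
    show sympForm 2 F w _ = 0
    rw [sympForm_sub_right]
    nth_rewrite 1 [← h6 w hw]
    rw [sp, sub_self]
  have h8 := h6 _ h7
  rw [Matrix.mulVec_sub, sub_eq_iff_eq_add, sub_add_eq_add_sub, add_self_VV two, zero_sub] at h8
  rw [mulv, h8]
  exact neg_eq_of_add_eq_zero_left (add_self_VV two v)

/-- a group which fixes a point in both frames -/
theorem pt_pow {C : Subgroup (G4 F)} (h1 : Pt C) (h2 : Pt (C.map (graphHom F))) {y : G4 F} (hy : y ∈ C) :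
    y ^ (4 * (Nat.card F - 1)) = 1 := by
  obtain ⟨x, hx, h1⟩ := h1
  obtain ⟨z, hz, h2⟩ := h2
  let l : VV 2 F →ₗ[F] VV 2 F :=
    { toFun := wedge x
      map_add' := fun u v => by simpa using wedge_right x u v 1 1
      map_smul' := fun a u => by simpa using wedge_right x u u a 0 }
  have hm : ∀ {u}, u ∈ perp (Submodule.span F {x}) → sympForm 2 F x u = 0 := fun hu =>
    hu x (Submodule.mem_span_singleton_self x)
  obtain ⟨c, hc⟩ := h1 y hy
  obtain ⟨d, hd⟩ := h2 _ ⟨y, hy, rfl⟩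
  refine graphHom_injective F ?_
  rw [map_pow, map_one]
  refine flag_pow (W := (perp (Submodule.span F {x})).map l) ?_ ?_ ?_ hz hd
  · rintro _ ⟨u, hu, rfl⟩ _ ⟨v, hv, rfl⟩
    exact form_wedge (hm hu) (hm hv)
  · have h3 := (l.domRestrict (perp (Submodule.span F {x}))).finrank_range_add_finrank_ker
    have h4 := finrank_perp (Submodule.span F {x})
    have h5 : finrank F (LinearMap.ker (l.domRestrict (perp (Submodule.span F {x})))) ≤ 1 := by
      rw [← finrank_span_singleton (K := F) hx, ← Submodule.finrank_map_subtype_eq]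
      refine Submodule.finrank_mono ?_
      rintro _ ⟨u, hu, rfl⟩
      obtain ⟨a, ha⟩ := dep hx (hm u.2) hu
      exact Submodule.mem_span_singleton.2 ⟨a, ha.symm⟩
    rw [finrank_span_singleton hx] at h4
    rw [LinearMap.range_domRestrict] at h3
    omega
  · rintro _ ⟨u, hu, rfl⟩
    have hc0 : c ≠ 0 := by
      rintro rfl
      exact mulv_ne hx (hc.trans (zero_smul _ _))
    refine ⟨c • y.1 *ᵥ u, fun w hw => ?_, ?_⟩
    · obtain ⟨a, rfl⟩ := Submodule.mem_span_singleton.1 hw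
      show sympForm 2 F _ _ = 0
      rw [sympForm_smul_left, sympForm_smul_right, ← sympForm_smul_left, ← hc, sp, hm hu, mul_zero]
    · rw [map_smul]
      exact ((gr_wedge y (hm hu)).trans (by rw [hc, wedge_left]; rfl)).symm

end Cfsg.Agent.SM.Sy.TE
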