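import Cfsg.Agent.Lib.Zsigmondy

/-!
# SM (S3570), `S = Sp₄(q)`, `q` even: arithmetic (helper22)
-/

set_option autoImplicit false
set_option linter.unusedVariables false

namespace Cfsg.Agent.SM.Sy.TE

/-- the order of `Sp₄(q)` -/
def o4 (q : ℕ) : ℕ := q ^ 4 * ((q ^ 2 - 1) * (q ^ 4 - 1))

/-- the order of `Sz(q)` -/
def oz (q : ℕ) : ℕ := q ^ 2 * (q - 1) * (q ^ 2 + 1)

/-- the orders of the proper simple subgroups of `Sp₄(2 ^ f)` -/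
def Ty (P : Prop) (f t : ℕ) : Prop :=
  (∃ a, P ∧ a ∣ 2 * f ∧ t = 2 ^ a * ((2 ^ a) ^ 2 - 1)) ∨ t = 360 ∨ (∃ b, Odd b ∧ b ∣ f ∧ t = oz (2 ^ b)) ∨
    ∃ a, 1 ≤ a ∧ 2 * a ≤ f ∧ t = o4 (2 ^ a)

variable {P : Prop}

theorem odd_sub {n : ℕ} (hn : n ≠ 0) : Odd (2 ^ n - 1) :=
  Nat.Even.sub_odd Nat.one_le_two_pow (Nat.even_pow.2 ⟨even_two, hn⟩) odd_one

theorem odd_add {n : ℕ} (hn : n ≠ 0) : Odd (2 ^ n + 1) := (Nat.even_pow.2 ⟨even_two, hn⟩).add_one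

theorem ppd {n : ℕ} (hn : 2 ≤ n) (h6 : n ≠ 6) : ∃ r : ℕ, r.Prime ∧ (∀ m, r ∣ 2 ^ m - 1 ↔ n ∣ m) ∧ n ∣ r - 1 ∧ ¬ r ∣ 2 :=
  Lib.Zsigmondy.exists_primitive le_rfl hn (fun _ ⟨k, hk⟩ => by
    rcases k with _ | k
    · omega
    · rw [pow_succ] at hk
      omega) (by omega)

theorem dvd_of_o4 {r n a : ℕ} (hr : r.Prime) (h : ∀ m, r ∣ 2 ^ m - 1 ↔ n ∣ m) (h2 : ¬ r ∣ 2) (hd : r ∣ o4 (2 ^ a)) :
    n ∣ 4 * a := by
  rw [o4, hr.dvd_mul, hr.dvd_mul, ← pow_mul, ← pow_mul 2 a 2, h, h] at hd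
  rcases hd with k | k | k
  · exact absurd (hr.dvd_of_dvd_pow k) h2
  · exact k.trans ⟨2, by ring⟩
  · rwa [mul_comm]

theorem fac4 (k : ℕ) : k ^ 4 - 1 = (k ^ 2 - 1) * (k ^ 2 + 1) := by
  rw [show k ^ 4 = (k ^ 2) ^ 2 by ring, mul_comm, ← Nat.sq_sub_sq]

theorem fac2 (k : ℕ) : k ^ 2 - 1 = (k - 1) * (k + 1) := by rw [mul_comm, ← Nat.sq_sub_sq]

theorem ty_l {f a : ℕ} (hP : P) (ha : 2 ≤ a) (h : 2 ^ a * ((2 ^ a) ^ 2 - 1) ∣ o4 (2 ^ f)) :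
    Ty P f (2 ^ a * ((2 ^ a) ^ 2 - 1)) := by
  refine .inl ⟨a, hP, ?_, rfl⟩
  rcases eq_or_ne a 3 with rfl | h3
  · obtain ⟨r, hr, h1, -, h2⟩ := ppd (n := 3) (by omega) (by omega)
    have h4 := dvd_of_o4 hr h1 h2 (((h1 (3 * 2)).2 ⟨2, rfl⟩).trans (pow_mul 2 3 2 ▸ (Dvd.intro_left _ rfl).trans h))
    omega
  · obtain ⟨r, hr, h1, -, h2⟩ := ppd (n := a * 2) (by omega) (by omega)
    have h4 := dvd_of_o4 hr h1 h2 (((h1 _).2 dvd_rfl).trans (pow_mul 2 a 2 ▸ (Dvd.intro_left _ rfl).trans h))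
    exact Nat.dvd_of_mul_dvd_mul_right two_pos (h4.trans ⟨1, by ring⟩)

theorem ty_z {f b : ℕ} (hb : Odd b) (h : oz (2 ^ b) ∣ o4 (2 ^ f)) : Ty P f (oz (2 ^ b)) := by
  have hb0 := hb.pos
  obtain ⟨r, hr, h1, -, h2⟩ := ppd (n := b * 4) (by omega) (by omega)
  have h3 := (h1 _).2 dvd_rfl
  rw [pow_mul, fac4, hr.dvd_mul, ← pow_mul, h1] at h3
  rcases h3 with h3 | h3
  · have := Nat.le_of_dvd (by omega) h3
    omega
  · have h4 := dvd_of_o4 hr h1 h2 ((pow_mul 2 b 2 ▸ h3 : r ∣ (2 ^ b) ^ 2 + 1).trans ((Dvd.intro_left _ rfl).trans h))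
    exact .inr (.inr (.inl ⟨b, hb, Nat.dvd_of_mul_dvd_mul_right four_pos (mul_comm 4 f ▸ h4), rfl⟩))

theorem ty_s {f a : ℕ} (hf : 1 ≤ f) (ha : 1 ≤ a) (h : o4 (2 ^ a) ∣ o4 (2 ^ f)) (hne : o4 (2 ^ a) ≠ o4 (2 ^ f)) :
    Ty P f (o4 (2 ^ a)) := by
  obtain ⟨r, hr, h1, -, h2⟩ := ppd (n := a * 4) (by omega) (by omega)
  have h3 : r ∣ o4 (2 ^ a) := (pow_mul 2 a 4 ▸ (h1 _).2 dvd_rfl : r ∣ (2 ^ a) ^ 4 - 1).trans
    ((Dvd.intro_left _ rfl).trans (Dvd.intro_left _ rfl))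
  obtain ⟨c, rfl⟩ := Nat.dvd_of_mul_dvd_mul_right four_pos (mul_comm 4 f ▸ dvd_of_o4 hr h1 h2 (h3.trans h))
  refine .inr (.inr (.inr ⟨a, ha, ?_, rfl⟩))
  rcases c with _ | _ | c
  · omega
  · exact absurd (by rw [zero_add, mul_one]) hne
  · nlinarith

/-- the `2`-part and the odd part -/
theorem Ty.split {f t : ℕ} (hf : 2 ≤ f) (h : Ty P f t) : ∃ j o, t = 2 ^ j * o ∧ Odd o ∧ j ≤ 2 * f ∧
    (o ∣ (2 ^ f) ^ 4 - 1 ∨ (o ≤ (2 ^ f) ^ 3 ∧ (Odd f → j < 2 * f))) := by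
  have h1 : 4 ≤ 2 ^ f := (Nat.pow_le_pow_right two_pos hf : 2 ^ 2 ≤ _)
  rcases h with ⟨a, -, ha, rfl⟩ | rfl | ⟨b, hb, hd, rfl⟩ | ⟨a, ha, hd, rfl⟩
  · have h0 : a ≠ 0 := by rintro rfl; simp at ha; omega
    refine ⟨a, _, rfl, pow_mul 2 a 2 ▸ odd_sub (by omega), Nat.le_of_dvd (by omega) ha, .inl ?_⟩
    obtain ⟨c, hc⟩ := ha
    rw [← pow_mul, ← pow_mul, show f * 4 = a * 2 * c by nlinarith]
    exact Nat.pow_sub_one_dvd_pow_sub_one 2 ⟨c, rfl⟩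
  · exact ⟨3, 45, rfl, by decide, by omega, .inr ⟨le_trans (by norm_num) (Nat.pow_le_pow_left h1 3), fun _ => by omega⟩⟩
  · have h0 := hb.pos
    have h2 := Nat.le_of_dvd (by omega) hd
    refine ⟨b * 2, (2 ^ b - 1) * ((2 ^ b) ^ 2 + 1), by rw [oz, pow_mul, mul_assoc],
      (odd_sub (by omega)).mul (pow_mul 2 b 2 ▸ odd_add (by omega)), by omega, .inl ?_⟩
    refine Dvd.dvd.trans (b := (2 ^ b) ^ 4 - 1) (by rw [fac4, fac2]; exact ⟨2 ^ b + 1, by ring⟩) ?_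
    rw [← pow_mul, ← pow_mul]
    exact Nat.pow_sub_one_dvd_pow_sub_one 2 (mul_dvd_mul_right hd 4)
  · refine ⟨a * 4, _, by rw [o4, pow_mul], (pow_mul 2 a 2 ▸ odd_sub (by omega)).mul (pow_mul 2 a 4 ▸ odd_sub (by omega)),
      by omega, .inr ⟨?_, fun ⟨k, hk⟩ => by omega⟩⟩
    calc _ ≤ (2 ^ a) ^ 2 * (2 ^ a) ^ 4 := Nat.mul_le_mul (Nat.sub_le _ _) (Nat.sub_le _ _)
      _ = 2 ^ (a * 6) := by ring
      _ ≤ 2 ^ (f * 3) := Nat.pow_le_pow_right two_pos (by omega)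
      _ = _ := pow_mul _ _ _

theorem two_part {n j o c : ℕ} (ho : Odd o) (h : 2 ^ (j + n) ∣ 2 ^ j * o * c) : 2 ^ n ∣ c := by
  rw [pow_add, mul_assoc] at h
  exact (Nat.Coprime.pow_left _ (Nat.coprime_two_left.2 ho)).dvd_of_dvd_mul_left
    (Nat.dvd_of_mul_dvd_mul_left (Nat.two_pow_pos j) h)

theorem n1 {f t c : ℕ} (hf : 2 ≤ f) (h : Ty P f t) (hd : o4 (2 ^ f) ∣ t * c) : 2 ^ (2 * f) ∣ c := by
  obtain ⟨j, o, rfl, ho, hj, -⟩ := h.split hf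
  refine two_part ho (j := j) (Dvd.dvd.trans ?_ ((Dvd.intro _ rfl).trans hd))
  rw [← pow_mul]
  exact pow_dvd_pow 2 (by omega)

theorem cop1 {f : ℕ} (hf : 2 ≤ f) : (2 ^ f + 1).Coprime (2 * (2 ^ f - 1)) := by
  have h1 : 4 ≤ 2 ^ f := (Nat.pow_le_pow_right two_pos hf : 2 ^ 2 ≤ _)
  have h2 := Nat.coprime_two_right.2 (odd_add (n := f) (by omega))
  refine h2.mul_right ?_
  rw [show 2 ^ f + 1 = 2 + (2 ^ f - 1) * 1 by omega, Nat.coprime_add_mul_left_left]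
  exact Nat.coprime_two_left.2 (odd_sub (by omega))

theorem cop2 {f : ℕ} (hf : 2 ≤ f) : ((2 ^ f) ^ 2 + 1).Coprime (2 * ((2 ^ f) ^ 2 - 1)) := by
  rw [← pow_mul]
  exact cop1 (by omega)

theorem key {f c : ℕ} (hf : 2 ≤ f) (hc : 0 < c) (hc' : c ≤ 2 ^ f) : ¬ (2 ^ f + 1) ^ 2 ∣ ((2 ^ f) ^ 4 - 1) * c := fun h => by
  have h1 := cop1 hf
  have h2 := cop2 hf
  rw [fac2] at h2
  rw [fac4, fac2, pow_two, show ∀ x y z w : ℕ, x * y * z * w = y * (x * (z * w)) from fun x y z w => by ring] at h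
  have h3 := Nat.dvd_of_mul_dvd_mul_left (Nat.succ_pos _) h
  have h4 := (Nat.Coprime.coprime_mul_left_right h1).dvd_of_dvd_mul_left h3
  have h5 := (Nat.Coprime.coprime_mul_left_right (Nat.Coprime.coprime_mul_left_right h2)).symm.dvd_of_dvd_mul_left h4
  have := Nat.le_of_dvd hc h5
  omega

theorem n2 {f t c : ℕ} (hf : 2 ≤ f) (h : Ty P f t) (hd : o4 (2 ^ f) ∣ t * c)
    (hc : ∀ p, p.Prime → p ∣ c → p ∣ 2 * (2 ^ f - 1)) : False := by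
  obtain ⟨j, o, rfl, ho, hj, h1⟩ := h.split hf
  have h2 : (2 ^ f + 1) ^ 2 * ((2 ^ f) ^ 2 + 1) ∣ o4 (2 ^ f) :=
    ⟨(2 ^ f) ^ 4 * (2 ^ f - 1) ^ 2, by rw [o4, fac4, fac2]; ring⟩
  have h3 : ((2 ^ f + 1) ^ 2 * ((2 ^ f) ^ 2 + 1)).Coprime (2 * (2 ^ f - 1)) := ((cop1 hf).pow_left 2).mul_left (by
    have h4 := cop2 hf
    rw [fac2, ← mul_assoc] at h4
    exact h4.coprime_mul_right_right)
  have h4 : ((2 ^ f + 1) ^ 2 * ((2 ^ f) ^ 2 + 1)).Coprime c := Nat.coprime_of_dvd fun p hp h5 h6 =>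
    hp.one_lt.ne' (Nat.eq_one_of_dvd_coprimes h3 h5 (hc p hp h6))
  have h5 := (h3.coprime_mul_right_right.pow_right j).dvd_of_dvd_mul_left (h4.dvd_of_dvd_mul_right (h2.trans hd))
  rcases h1 with h1 | ⟨h1, -⟩
  · exact key hf one_pos Nat.one_le_two_pow (((Dvd.intro _ rfl).trans (h5.trans h1)).mul_right 1)
  · have h6 := (Nat.le_of_dvd ho.pos h5).trans h1
    generalize 2 ^ f = q at h6
    nlinarith [Nat.zero_le q, Nat.zero_le (q ^ 2), Nat.zero_le (q ^ 3), Nat.zero_le (q ^ 4)]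

theorem n4 {f t : ℕ} (hf : 2 ≤ f) (ho : Odd f) (h : Ty P f t) : ¬ o4 (2 ^ f) ∣ t * (f * oz (2 ^ f)) := fun hd => by
  obtain ⟨j, o, rfl, ho', hj, h1⟩ := h.split hf
  have h0 : 4 ≤ 2 ^ f := (Nat.pow_le_pow_right two_pos hf : 2 ^ 2 ≤ _)
  have h2 : (2 ^ f) ^ 2 * (2 ^ f + 1) ^ 2 ∣ 2 ^ j * o * f := by
    refine Dvd.dvd.trans (Dvd.intro (2 ^ f - 1) rfl) (Nat.dvd_of_mul_dvd_mul_right (k := oz (2 ^ f)) ?_ ?_)
    · exact Nat.mul_pos (Nat.mul_pos (by positivity) (by omega)) (Nat.succ_pos _)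
    · rw [mul_assoc _ f]
      refine Dvd.dvd.trans (dvd_of_eq ?_) hd
      rw [o4, oz, fac4, fac2]
      ring
  rcases h1 with h1 | ⟨-, h1⟩
  · rw [mul_assoc] at h2
    exact key hf ho.pos Nat.lt_two_pow_self.le ((((cop1 hf).coprime_mul_right_right.pow 2 j).dvd_of_dvd_mul_left
      ((Dvd.intro_left _ rfl).trans h2)).trans (mul_dvd_mul_right h1 f))
  · have h3 := two_part ho' (n := 1) (j := j) (Dvd.dvd.trans (by
      rw [← pow_mul]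
      exact pow_dvd_pow 2 (by have := h1 ho; omega)) ((Dvd.intro _ rfl).trans h2))
    exact Nat.not_even_iff_odd.2 ho (even_iff_two_dvd.2 h3)

theorem n3 {f t e s : ℕ} (hf : 2 ≤ f) (hs : 2 ≤ s) (he : f = e * s) (h : Ty P f t) (hd : o4 (2 ^ f) ∣ t * o4 (2 ^ e)) :
    f = e * 2 ∧ P ∧ t = (2 ^ f) ^ 2 * ((2 ^ f) ^ 4 - 1) := by
  have he0 : 0 < e := Nat.pos_of_ne_zero (by rintro rfl; omega)
  have h1 : f = e * 2 := by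
    have h1 := n1 hf h hd
    rw [o4, ← pow_mul] at h1
    have h2 := (Nat.pow_dvd_pow_iff_le_right one_lt_two).1 ((Nat.Coprime.pow_left _ (Nat.coprime_two_left.2
      ((pow_mul 2 e 2 ▸ odd_sub (n := e * 2) (by omega)).mul
        (pow_mul 2 e 4 ▸ odd_sub (n := e * 4) (by omega))))).dvd_of_dvd_mul_right h1)
    nlinarith
  refine ⟨h1, ?_⟩
  obtain ⟨r, hr, h2, h3, h4⟩ := ppd (n := f * 4) (by omega) (by omega)
  have h5 : r ∣ t := by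
    refine (hr.dvd_mul.1 (Dvd.dvd.trans ?_ hd)).resolve_right fun k => ?_
    · exact (pow_mul 2 f 4 ▸ (h2 _).2 dvd_rfl : r ∣ (2 ^ f) ^ 4 - 1).trans
        ((Dvd.intro_left _ rfl).trans (Dvd.intro_left _ rfl))
    · have := Nat.le_of_dvd (by omega) (dvd_of_o4 hr h2 h4 k)
      omega
  rcases h with ⟨a, hP, ha, rfl⟩ | rfl | ⟨b, hb, hb', rfl⟩ | ⟨a, ha, ha', rfl⟩
  · rw [hr.dvd_mul, ← pow_mul, h2] at h5
    rcases h5 with h5 | h5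
    · exact absurd (hr.dvd_of_dvd_pow h5) h4
    obtain rfl : a = 2 * f := Nat.dvd_antisymm ha (Nat.dvd_of_mul_dvd_mul_right two_pos (Dvd.dvd.trans ⟨1, by ring⟩ h5))
    refine ⟨hP, ?_⟩
    simp only [← pow_mul]
    rw [mul_comm f 2, show 2 * f * 2 = f * 4 by ring]
  · have h6 := Nat.le_of_dvd (by have := hr.two_le; omega) h3
    have h7 : r ∣ 2 ^ 3 * 3 ^ 2 * 5 := h5
    rw [hr.dvd_mul, hr.dvd_mul] at h7
    rcases h7 with (k | k) | k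
    · exact absurd (hr.dvd_of_dvd_pow k) h4
    · have := Nat.le_of_dvd (by omega) (hr.dvd_of_dvd_pow k)
      omega
    · have := Nat.le_of_dvd (by omega) k
      omega
  · have h6 : oz (2 ^ b) ∣ o4 (2 ^ b) := ⟨(2 ^ b) ^ 2 * (2 ^ b - 1) * (2 ^ b + 1) ^ 2, by rw [o4, oz, fac4, fac2]; ring⟩
    have h7 := Nat.le_of_dvd (by have := hb.pos; omega) (dvd_of_o4 hr h2 h4 (h5.trans h6))
    have h8 := Nat.le_of_dvd (by omega) hb'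
    obtain ⟨k, hk⟩ := hb
    omega
  · have := Nat.le_of_dvd (by omega) (dvd_of_o4 hr h2 h4 h5)
    omega

theorem n5 {f e c d : ℕ} (hf : 2 ≤ f) (he : f = e * 2) (h : o4 (2 ^ f) * d = (2 ^ f) ^ 2 * ((2 ^ f) ^ 4 - 1) * c)
    (hc : c ∣ o4 (2 ^ e)) : Odd d := by
  have h0 : 4 ≤ 2 ^ f := (Nat.pow_le_pow_right two_pos hf : 2 ^ 2 ≤ _)
  have h1 : 0 < (2 ^ f) ^ 4 - 1 := (pow_mul 2 f 4 ▸ odd_sub (by omega)).pos
  have h2 : 0 < (2 ^ f) ^ 2 - 1 := (pow_mul 2 f 2 ▸ odd_sub (by omega)).pos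
  have h3 : c = (2 ^ f) ^ 2 * ((2 ^ f) ^ 2 - 1) * d :=
    Nat.eq_of_mul_eq_mul_left (Nat.mul_pos (by positivity) h1) (h.symm.trans (by rw [o4]; ring))
  have h4 : o4 (2 ^ e) = (2 ^ f) ^ 2 * ((2 ^ f) ^ 2 - 1) * (2 ^ f - 1) := by
    rw [o4, he, pow_mul, ← pow_mul (2 ^ e) 2 2]
    ring
  rw [h3, h4] at hc
  exact Odd.of_dvd_nat (odd_sub (by omega)) (Nat.dvd_of_mul_dvd_mul_left (Nat.mul_pos (by positivity) h2) hc)

end Cfsg.Agent.SM.Sy.TE
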