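import Cfsg.Agent.SM.Sy.TwoEG
import Cfsg.Agent.SM.Sy.TwoEN
import Cfsg.Agent.SM.Nrm
import Cfsg.Agent.S5790
import Cfsg.Agent.S5791
import Cfsg.Agent.S2126
import Cfsg.Agent.H97.Sp4Sub
import Cfsg.Agent.H55.OutGen
import Cfsg.Agent.PLocal.SLTwoSylow
import Cfsg.Agent.ClassicalGeometry.PSL2Basic

/-!
# SM (S3570), `S = Sp₄(q)`, `q` even: proper subgroups, simple subgroups (helper22)
-/

set_option autoImplicit false
set_option linter.unusedSectionVars false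
set_option linter.unusedVariables false
set_option linter.unusedSimpArgs false

namespace Cfsg.Agent.SM.Sy.TE

open Cfsg Subgroup Module Matrix
open Cfsg.Agent.ClassicalGeometry.SympBasic Cfsg.Agent.ClassicalGeometry.Sp4Graph
open Cfsg.Agent.H910 Cfsg.Agent.H876

/-- subgroups of odd order of `SL₂` in characteristic two are abelian -/
theorem comm_of_odd {K : Type*} [Field K] [CharP K 2] {L : Type*} [Group L] [Finite L]
    (ι : L →* Matrix.SpecialLinearGroup (Fin 2) K) (hι : Function.Injective ι) (h : Odd (Nat.card L)) (x y : L) :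
    x * y = y * x := by
  have h1 : commutator L = ⊥ := by
    by_contra h0
    obtain ⟨r, hr, hd⟩ := Nat.exists_prime_and_dvd (mt card_eq_one.1 h0)
    have := Fact.mk hr
    have h2 : r ≠ 2 := by
      rintro rfl
      exact Nat.not_even_iff_odd.2 h (even_iff_two_dvd.2 (hd.trans (card_subgroup_dvd_card _)))
    obtain ⟨R⟩ : Nonempty (Sylow r L) := inferInstance
    have h3 := PLocal.SLTwoSylow.comm_of_odd (p := 2) ι hι h2 R
    have h4 := PLocal.SLTwoSylow.normalizer_le_centralizer (p := 2) ι hι h2 R h3 (.inr h)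
    refine MonoidHom.not_dvd_card_ker_transferSylow R h4 (hd.trans (card_dvd_of_le ?_))
    rw [commutator_def, commutator_le]
    intro a _ b _
    rw [MonoidHom.mem_ker, map_commutatorElement, commutatorElement_eq_one_iff_mul_comm]
    exact Subtype.ext (h3 _ (Subtype.prop _) _ (Subtype.prop _))
  rw [← commutatorElement_eq_one_iff_mul_comm]
  exact mem_bot.1 (h1 ▸ commutator_mem_commutator (mem_top x) (mem_top y))

variable {F : Type} [Field F] [Fintype F] [CharP F 2]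

theorem mulv_inj (y : G4 F) {u v : VV 2 F} (h : y.1 *ᵥ u = y.1 *ᵥ v) : u = v :=
  sub_eq_zero.1 (by_contra fun k => mulv_ne (y := y) k (by rw [Matrix.mulVec_sub, h, sub_self]))

theorem fm_of_alg {C : Subgroup (G4 F)} {k : Matrix I4 I4 F} (hk : SA k) (ht : tk k ≠ 0) (hs : ∀ c : F, ¬ ∀ v, k *ᵥ v = c • v)
    (h : ∀ y ∈ C, ∃ a b : F, ∀ v, k *ᵥ (y.1 *ᵥ v) = y.1 *ᵥ (b • k *ᵥ v + a • v)) : Fm (C.map (graphHom F)) := by
  refine fm_of_sa hk ht fun y hy => ?_
  obtain ⟨a, b, hab⟩ := h y hy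
  have h1 : ∀ v, k *ᵥ (k *ᵥ v) = tk k • k *ᵥ v + nk k • v := fun v => by
    rw [Matrix.mulVec_mulVec, hk.mul_self, Matrix.add_mulVec, Matrix.smul_mulVec, Matrix.smul_mulVec, Matrix.one_mulVec]
  have h2 : b * b * tk k + b * tk k = 0 := by
    by_contra h0
    refine hs ((b * b * tk k + b * tk k)⁻¹ * (b * b * nk k + a * a + tk k * a + nk k)) fun v => ?_
    have h3 := h1 (y.1 *ᵥ v)
    rw [hab, hab, ← Matrix.mulVec_smul y.1 (tk k), ← Matrix.mulVec_smul y.1 (nk k), ← Matrix.mulVec_add] at h3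
    have h4 := mulv_inj y h3
    rw [Matrix.mulVec_add, Matrix.mulVec_smul, Matrix.mulVec_smul, h1] at h4
    rw [mul_smul, eq_inv_smul_iff₀ h0]
    funext i
    have h5 := congrFun h4 i
    simp only [Pi.add_apply, Pi.smul_apply, smul_eq_mul] at h5 ⊢
    linear_combination h5 + (b * tk k * (k *ᵥ v) i - a * b * (k *ᵥ v) i - b * b * nk k * v i - a * a * v i) * two (F := F)
  rcases mul_eq_zero.1 (show b * ((b + 1) * tk k) = 0 by linear_combination h2) with rfl | h3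
  · refine absurd (fun v => ?_) (hs a)
    have h3 := hab (y⁻¹.1 *ᵥ v)
    rwa [zero_smul, zero_add, Matrix.mulVec_smul, ← mulv, mul_inv_cancel, show (1 : G4 F).1 *ᵥ v = v from
      Matrix.one_mulVec v] at h3
  · obtain rfl : b = 1 := CharTwo.add_eq_zero.1 ((mul_eq_zero.1 h3).resolve_right ht)
    exact ⟨a, fun v => by rw [hab, one_smul]⟩

theorem fm_of_field {C : Subgroup (G4 F)} {K : Subalgebra F (Matrix I4 I4 F)} (hK : Geo.IsFieldSubalgebra 2 K)
    (hsa : Geo.IsSelfAdjointFor (sympForm 2 F) K) (halt : ∀ k ∈ K, ∀ v, sympForm 2 F (k *ᵥ v) v = 0)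
    (h : ∀ y ∈ C, spToGL 2 F y ∈ Geo.subalgebraNormalizer K) : Fm (C.map (graphHom F)) := by
  obtain ⟨k, hkK, hk⟩ : ∃ k ∈ K, ∀ c : F, k ≠ c • (1 : Matrix _ _ F) := by
    by_contra! hcon
    have h1 : K = ⊥ := eq_bot_iff.2 fun x hx => by
      obtain ⟨c, hc⟩ := hcon x hx
      exact Algebra.mem_bot.2 ⟨c, by rw [hc, Algebra.algebraMap_eq_smul_one]⟩
    have h2 := hK.finrank_eq
    rw [h1, Subalgebra.finrank_bot] at h2
    omega
  have hli : LinearIndependent F ![(1 : Matrix I4 I4 F), k] := (LinearIndependent.pair_iff' one_ne_zero).2 fun c e => hk c e.symm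
  have hspan : Submodule.span F (Set.range ![(1 : Matrix I4 I4 F), k]) = Subalgebra.toSubmodule K :=
    Submodule.eq_of_le_of_finrank_eq (Submodule.span_le.2 (by
      rintro _ ⟨i, rfl⟩
      fin_cases i
      exacts [K.one_mem, hkK])) (by rw [finrank_span_eq_card hli]; exact hK.finrank_eq.symm)
  have hS : SA k := ⟨hsa k hkK, halt k hkK⟩
  refine fm_of_alg hS (fun ht => ?_) (fun c hc => hk c (Matrix.mulVec_injective (funext fun v => by
    rw [hc, Matrix.smul_mulVec, Matrix.one_mulVec]))) fun y hy => ?_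
  · obtain ⟨ε, hε⟩ := exists_sqrt (two (F := F)) (nk k)
    have h1 := hS.mul_self
    rw [ht, zero_smul, zero_add, ← hε] at h1
    have h2 : (k - ε • (1 : Matrix I4 I4 F)) * (k - ε • (1 : Matrix I4 I4 F)) = 0 := by
      simp only [sub_mul, mul_sub, h1, Matrix.mul_smul, Matrix.smul_mul, mul_one, one_mul, smul_sub, smul_smul]
      ext i j
      simp only [Matrix.sub_apply, Matrix.smul_apply, smul_eq_mul, Matrix.zero_apply]
      linear_combination (ε * ε * (1 : Matrix I4 I4 F) i j - ε * k i j) * two (F := F)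
    obtain ⟨z, -, hz⟩ := hK.inv _ (K.sub_mem hkK (K.smul_mem K.one_mem ε)) (sub_ne_zero.2 (hk ε))
    refine hk ε (sub_eq_zero.1 ?_)
    have h3 := congrArg ((k - ε • (1 : Matrix I4 I4 F)) * ·) hz
    simp only [← mul_assoc, h2, zero_mul, mul_one] at h3
    exact h3.symm
  · have h1 := (h y⁻¹ (inv_mem hy) k).1 hkK
    rw [← map_inv, inv_inv, ← Subalgebra.mem_toSubmodule, ← hspan, Matrix.range_cons, Matrix.range_cons, Matrix.range_empty,
      Set.union_empty, Set.singleton_union, Submodule.mem_span_pair] at h1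
    obtain ⟨a, b, hab⟩ := h1
    refine ⟨a, b, fun v => ?_⟩
    have h2 := congrArg (fun x => y.1 *ᵥ (x *ᵥ v)) hab
    simp only [coe_spToGL, ← Matrix.mulVec_mulVec, Matrix.add_mulVec, Matrix.smul_mulVec, Matrix.one_mulVec] at h2
    rw [add_comm, h2, ← mulv, mul_inv_cancel]
    exact (Matrix.one_mulVec _).symm

theorem fm_of_dec {C : Subgroup (G4 F)} {D : Fin 2 → Submodule F (VV 2 F)}
    (hD : Geo.IsNondegenerateMDecomposition (sympForm 2 F) 2 D)
    (h : ∀ y ∈ C, spToGL 2 F y ∈ Geo.decompositionStabilizer D) : Fm (C.map (graphHom F)) := by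
  have hc : IsCompl (D 0) (D 1) := ⟨hD.decomp.indep.pairwiseDisjoint (by decide), codisjoint_iff.2 (by
    rw [← hD.decomp.iSup_eq_top]
    exact le_antisymm (sup_le (le_iSup D 0) (le_iSup D 1)) (iSup_le fun i => by
      fin_cases i
      exacts [le_sup_left, le_sup_right]))⟩
  let k : Matrix I4 I4 F := LinearMap.toMatrix' ((D 0).projection (D 1) hc)
  have h1 : ∀ u ∈ D 0, ∀ w ∈ D 1, k *ᵥ (u + w) = u := fun u hu w hw => by
    rw [LinearMap.toMatrix'_mulVec, map_add, Submodule.projection_apply_of_mem_left hc hu,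
      Submodule.projection_apply_of_mem_right hc hw, add_zero]
  have h2 : ∀ v, ∃ u ∈ D 0, ∃ w ∈ D 1, u + w = v := fun v => Submodule.mem_sup.1 (hc.sup_eq_top ▸ Submodule.mem_top)
  have h3 := hD.orthogonal 0 1 (by decide)
  have h4 := hD.orthogonal 1 0 (by decide)
  have hS : SA k := ⟨fun v v' => by
    obtain ⟨u, hu, w, hw, rfl⟩ := h2 v
    obtain ⟨u', hu', w', hw', rfl⟩ := h2 v'
    rw [h1 u hu w hw, h1 u' hu' w' hw', sympForm_add_left, sympForm_add_right, h3 u hu w' hw', h4 w hw u' hu'], fun v => by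
    obtain ⟨u, hu, w, hw, rfl⟩ := h2 v
    rw [h1 u hu w hw, sympForm_add_right, h3 u hu w hw, sympForm_self, add_zero]⟩
  have h5 : ∀ i, ∃ u ∈ D i, u ≠ 0 := fun i => (D i).exists_mem_ne_zero_of_ne_bot fun e => by
    have := hD.decomp.finrank_eq i
    rw [e, finrank_bot] at this
    omega
  have hs : ∀ c : F, ¬ ∀ v, k *ᵥ v = c • v := fun c hc => by
    obtain ⟨u, hu, hu0⟩ := h5 0
    obtain ⟨w, hw, hw0⟩ := h5 1
    have h6 := h1 0 (zero_mem _) w hw
    rw [hc, zero_add, smul_eq_zero, or_iff_left hw0] at h6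
    have h7 := h1 u hu 0 (zero_mem _)
    rw [hc, h6, zero_smul] at h7
    exact hu0 h7.symm
  refine fm_of_alg hS (fun ht => hs (nk k) fun v => ?_) hs fun y hy => ?_
  · have h6 := congrArg (· *ᵥ v) hS.mul_self
    obtain ⟨u, hu, w, hw, rfl⟩ := h2 v
    have h7 := h1 u hu 0 (zero_mem _)
    rw [add_zero] at h7
    simp only [ht, zero_smul, zero_add, ← Matrix.mulVec_mulVec, Matrix.smul_mulVec, Matrix.one_mulVec, h1 u hu w hw,
      h7] at h6
    rw [h1 u hu w hw, ← h6]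
  · obtain ⟨σ, hσ⟩ := h y hy
    have h6 : ∀ i, ∀ u ∈ D i, y.1 *ᵥ u ∈ D (σ i) := fun i u hu => hσ i ▸ ⟨u, hu, rfl⟩
    have h7 : ∀ σ : Equiv.Perm (Fin 2), (σ 0 = 0 ∧ σ 1 = 1) ∨ (σ 0 = 1 ∧ σ 1 = 0) := by decide
    rcases h7 σ with ⟨i1, i2⟩ | ⟨i1, i2⟩
    · refine ⟨0, 1, fun v => ?_⟩
      obtain ⟨u, hu, w, hw, rfl⟩ := h2 v
      rw [h1 u hu w hw, Matrix.mulVec_add, h1 _ (i1 ▸ h6 0 u hu) _ (i2 ▸ h6 1 w hw), one_smul, zero_smul, add_zero]
    · refine ⟨1, 1, fun v => ?_⟩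
      obtain ⟨u, hu, w, hw, rfl⟩ := h2 v
      rw [h1 u hu w hw, Matrix.mulVec_add, add_comm, h1 _ (i2 ▸ h6 1 w hw) _ (i1 ▸ h6 0 u hu), one_smul, one_smul,
        ← add_assoc, add_self_VV two, zero_add]

theorem card_sub {F₀ : Subfield F} {P : GL I4 F} {ζ : F} (hζ : ζ ≠ 0)
    (hP : Geo.IsFormRationalStructure (sympForm 2 F) F₀ ζ P) :
    Nat.card ↥(Geo.subfieldSubgroup F₀ P ⊓ spGL 2 F) ∣ o4 (Nat.card F₀) := by
  have hrat := H97.Sp4Sub.ratStr hζ hP
  have h1 := H97.Sp4Sub.card_RS_dvd (P := P) hrat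
  rw [Finset.prod_range_succ, Finset.prod_range_succ, Finset.prod_range_zero, one_mul] at h1
  refine (card_dvd_of_le (show Geo.subfieldSubgroup F₀ P ⊓ spGL 2 F ≤ H97.Sp4Sub.RS F₀ P from
    fun a ha => H97.Sp4Sub.mem_RS_of ha.2 fun v hv => ?_)).trans h1
  obtain ⟨d, hd, -, h2⟩ := H97.Sp4Sub.exists_scalar ha.1
  obtain ⟨t, ht⟩ := exists_sqrt (F := F₀) (Subtype.ext two) ⟨_, H97.Sp4Sub.sq_mem (by norm_num) hrat ha.2 h2⟩
  obtain rfl : (t : F) = d := CharTwo.sq_injective ((pow_two _).trans (congrArg Subtype.val ht))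
  have h3 := (H97.Sp4Sub.V0 F₀ P).smul_mem t⁻¹ (h2 v hv)
  change (t : F)⁻¹ • ((t : F) • _) ∈ H97.Sp4Sub.V0 F₀ P at h3
  rwa [smul_smul, inv_mul_cancel₀ hd, one_smul] at h3

theorem card_G4 {K : Type*} [Field K] [Fintype K] : Nat.card (Matrix.symplecticGroup (Fin 2) K) = o4 (Fintype.card K) :=
  (Nat.card_congr (spEq K).toEquiv).trans (card_spGL K)

/-- **proper subgroups** -/
theorem list {f : ℕ} (hf : 2 ≤ f) (hF : Fintype.card F = 2 ^ f) {C : Subgroup (G4 F)} (hC : C ≠ ⊤) :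
    (Pt C ∨ Fm C) ∨ (Pt (C.map (graphHom F)) ∨ Fm (C.map (graphHom F))) ∨
      (∃ e s, 2 ≤ s ∧ f = e * s ∧ Nat.card C ∣ o4 (2 ^ e)) ∨ (Odd f ∧ Nat.card C ∣ f * oz (2 ^ f)) := by
  obtain ⟨Y, hY, hCY⟩ := (eq_top_or_exists_le_coatom C).resolve_left hC
  have hM : Geo.IsMaximalIn (spGL 2 F) (Y.map (spToGL 2 F)) := range_spToGL (F := F) 2 ▸
    isMaximalIn_map _ (spToGL_injective 2) ⟨hY.lt_top, fun M h _ => h.eq_or_lt.imp Eq.symm (hY.2 M)⟩
  have hm : ∀ y ∈ C, spToGL 2 F y ∈ Y.map (spToGL 2 F) := fun y hy => ⟨y, hCY hy, rfl⟩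
  have hc : Nat.card C ∣ Nat.card (Y.map (spToGL 2 F)) :=
    (card_dvd_of_le hCY).trans (card_map_of_injective (spToGL_injective 2)).symm.dvd
  have h1 : ¬ Odd (Fintype.card F) := by
    rw [hF, Nat.not_odd_iff_even]
    exact Nat.even_pow.2 ⟨even_two, by omega⟩
  have h4 : 4 ≤ Fintype.card F := hF ▸ (Nat.pow_le_pow_right two_pos hf : 2 ^ 2 ≤ _)
  generalize Y.map (spToGL 2 F) = Z at hM hm hc
  rcases S5790.result h1 h4 Z hM with ⟨W, h0, hW, rfl⟩ | ⟨D, hD, rfl⟩ | ⟨K, hK, hsa, halt, rfl⟩ |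
    ⟨F₀, r, P, ζ, hr, hcard, hζ, hP, rfl⟩ | ⟨Q, hQ, hpol, rfl⟩ | hR
  · exact (pt_of_ti hW h0 fun y hy w hw => ((hm y hy).1 w).1 hw).imp .inl fun k => .inl (.inl k)
  · exact .inr (.inl (.inr (fm_of_dec hD fun y hy => (hm y hy).1)))
  · exact .inr (.inl (.inr (fm_of_field hK hsa halt fun y hy => (hm y hy).1)))
  · obtain ⟨e, -, he⟩ := (Nat.dvd_prime_pow Nat.prime_two).1 (show Nat.card F₀ ∣ 2 ^ f from
      hF ▸ hcard ▸ dvd_pow_self _ hr.ne_zero)
    refine .inr (.inr (.inl ⟨e, r, hr.two_le, Nat.pow_right_injective le_rfl ?_, he ▸ hc.trans (card_sub hζ hP)⟩))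
    simp only [pow_mul, ← he, ← hcard, hF]
  · exact .inl (.inr ⟨Q, ⟨fun c v => by rw [hQ.smul, pow_two], fun u v => by rw [← hpol, QuadraticMap.polar]; ring⟩,
      fun y hy => ((mem_quad_iff (by norm_num) hpol _).1 (hm y hy)).2⟩)
  · obtain ⟨P, m, hP, hm1, hq, ⟨e⟩⟩ := S5791.result h1 h4 Z hM hR
    obtain ⟨⟨e0⟩, hs, hn⟩ := core_simple hP (hP.le.trans hM.1.le)
    obtain rfl : f = 2 * m + 1 := Nat.pow_right_injective le_rfl (hF.symm.trans hq)
    have h2 : AS Z P := ⟨hP.le, hP.normal, hs, hn, fun g hg k => congrArg Subtype.val (mem_bot.1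
      ((scalars_inf_bot hM.1.le).le (show (⟨g, hg⟩ : Z) ∈ _ from hP.centralizer_scalar g hg fun x hx => by
        rw [k x hx, mul_inv_cancel_right, mul_inv_cancel]
        exact one_mem _)))⟩
    have h3 := h2.relIndex_dvd
    rw [H55.OutGen.card_out_congr (e0.symm.trans e), S2126.result hm1 hq] at h3
    refine .inr (.inr (.inr ⟨⟨m, rfl⟩, hc.trans ?_⟩))
    rw [← (P.subgroupOf Z).index_mul_card, Nat.card_congr (subgroupOfEquivOfLe hP.le).toEquiv,
      Nat.card_congr (e0.symm.trans e).toEquiv, H438.SzMax.card_sz hq]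
    exact mul_dvd_mul_right h3 _

/-- **simple subgroups** -/
theorem ty {f : ℕ} (hf : 2 ≤ f) (hF : Fintype.card F = 2 ^ f) {A : Subgroup (G4 F)} (hA : A ≠ ⊤) [IsSimpleGroup A]
    (hn : ¬ IsMulCommutative A) : Ty (∃ (K : Type) (_ : Field K) (_ : CharP K 2),
      Nonempty (A ≃* Matrix.SpecialLinearGroup (Fin 2) K)) f (Nat.card A) := by
  let e := A.equivMapOfInjective _ (spToGL_injective (F := F) 2)
  have := e.symm.isSimpleGroup
  have hd : Nat.card A ∣ o4 (2 ^ f) := hF ▸ card_G4 (K := F) ▸ card_subgroup_dvd_card A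
  rcases simple_list (A.map (spToGL 2 F)) (by rintro _ ⟨y, -, rfl⟩; exact spToGL_mem y) (fun k => hn ⟨⟨fun a b =>
    e.injective (by rw [map_mul, map_mul, k.is_comm.comm])⟩⟩) with
    ⟨K, _, _, _, h4, ⟨i⟩⟩ | ⟨⟨i⟩⟩ | ⟨K, _, _, m, hm, hK, ⟨i⟩⟩ | ⟨K, _, _, _, h4, ⟨i⟩⟩
  · obtain ⟨a, -, ha⟩ := FiniteField.card K 2
    have h1 := (Nat.card_congr (e.trans i).toEquiv).trans (ClassicalGeometry.PSL2Basic.card_SL2 K)
    rw [ha] at h1 h4
    rw [h1] at hd ⊢
    exact ty_l ⟨K, _, inferInstance, ⟨e.trans i⟩⟩ ((Nat.pow_le_pow_iff_right one_lt_two).1 (show 2 ^ 2 ≤ _ from h4)) hd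
  · refine .inr (.inl ((Nat.card_congr (e.trans i).toEquiv).trans ?_))
    rw [nat_card_alternatingGroup, Nat.card_eq_fintype_card, Fintype.card_fin]
    rfl
  · have h1 : Nat.card A = oz (2 ^ (2 * m + 1)) := (Nat.card_congr (e.trans i).toEquiv).trans (H438.SzMax.card_sz hK)
    rw [h1] at hd ⊢
    exact ty_z ⟨m, rfl⟩ hd
  · obtain ⟨a, -, ha⟩ := FiniteField.card K 2
    have h1 := (Nat.card_congr (e.trans i).toEquiv).trans card_G4
    rw [ha] at h1
    have h2 : Nat.card A ≠ o4 (2 ^ f) := fun k => hA (eq_top_of_card_eq A (by rw [k, card_G4, hF]))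
    rw [h1] at hd h2 ⊢
    exact ty_s (by omega) a.2 hd h2

end Cfsg.Agent.SM.Sy.TE
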